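import Cfsg.Agent.Helper87.FusionBasic
set_option autoImplicit false

namespace Cfsg.Agent.Helper87

open Cfsg Cfsg.FusionSystem

variable {Ω : Type*} [Group Ω] {S : Subgroup Ω}

theorem finite_of_le [Finite S] {H : Subgroup Ω} (h : H ≤ S) : Finite H :=
  Finite.of_injective (Subgroup.inclusion h) (Subgroup.inclusion_injective h)

theorem card_lt_card_of_lt {H K : Subgroup Ω} [Finite K] (h : H < K) : Nat.card H < Nat.card K := by
  by_contra hcon
  exact h.ne (Subgroup.eq_of_le_of_card_ge h.le (not_lt.mp hcon))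

theorem le_normalizerIn {P : Subgroup Ω} (hP : P ≤ S) : P ≤ normalizerIn S P :=
  le_inf hP Subgroup.le_normalizer

/-- The normalizer of a proper subgroup of a finite `p`-group grows. -/
theorem lt_normalizerIn [Finite S] {p : ℕ} [Fact p.Prime] (hS : IsPGroup p S) {P : Subgroup Ω} (hP : P < S) :
    P < normalizerIn S P := by
  have : Group.IsNilpotent S := hS.isNilpotent
  have hlt : P.subgroupOf S < ⊤ := by
    rw [lt_top_iff_ne_top, Ne, Subgroup.subgroupOf_eq_top]
    exact not_le_of_gt hP
  have h1 := Group.normalizerCondition_of_isNilpotent (G := S) (P.subgroupOf S) hlt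
  rw [← Subgroup.subgroupOf_normalizer_eq hP.le] at h1
  obtain ⟨s, hs1, hs2⟩ := SetLike.exists_of_lt h1
  refine lt_of_le_of_ne (le_normalizerIn hP.le) ?_
  intro heq
  apply hs2
  rw [Subgroup.mem_subgroupOf] at hs1 ⊢
  rw [heq]
  exact ⟨s.2, hs1⟩

/-- If `R` is fully automized and `Aut_F(R)` is a `p`-group, then every automorphism of the system on `R` is induced by
an element of `S`. -/
theorem exists_conj_of_fullyAutomized_of_isPGroup {p : ℕ} (F : FusionSystem S) {R : Subgroup Ω}
    (hR : F.IsFullyAutomized p R) (hp : IsPGroup p (F.autGroup R)) (α : MulAut R) (hα : α ∈ F.autGroup R) :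
    ∃ h ∈ S, ∀ x : R, ((α x : R) : Ω) = h * x * h⁻¹ := by
  obtain ⟨-, T, hT⟩ := hR
  have htop : (T : Subgroup (F.autGroup R)) = ⊤ :=
    (T.is_maximal' (Q := ⊤) (hp.to_subgroup ⊤) le_top).symm
  have : (⟨α, hα⟩ : F.autGroup R) ∈ (autInducedBy S R).subgroupOf (F.autGroup R) := by
    rw [← hT, htop]; exact Subgroup.mem_top _
  rw [Subgroup.mem_subgroupOf] at this
  exact (mem_autInducedBy_iff S R α).mp this

/-- Frobenius' criterion: a saturated fusion system all of whose automorphism groups are `p`-groups consists of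
conjugations by elements of `S`. -/
theorem frobenius_inner [Finite S] (p : ℕ) [Fact p.Prime] (hS : IsPGroup p S) (F : FusionSystem S)
    (hF : F.IsSaturated p) (h : ∀ P : Subgroup Ω, P ≤ S → IsPGroup p (F.autGroup P)) :
    ∀ (P : Subgroup Ω) (φ : P →* Ω), φ ∈ F.Hom P → ∃ g ∈ S, ∀ x : P, φ x = g * x * g⁻¹ := by
  intro P
  induction' hn : Nat.card S - Nat.card P using Nat.strong_induction_on with n ih generalizing P
  -- the claim for targets that are fully automized and receptive
  have claim : ∀ (P' : Subgroup Ω), Nat.card S - Nat.card P' = n → ∀ (R : Subgroup Ω) (ψ : P' →* Ω),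
      ψ ∈ F.Hom P' → ψ.range = R → F.IsFullyAutomized p R → F.IsReceptive R →
      ∃ g ∈ S, ∀ x : P', ψ x = g * x * g⁻¹ := by
    intro P' hn' R ψ hψ hR hRa hRr
    have hP'S : P' ≤ S := (F.le_of_mem hψ).1
    have he := isIso_isoOfRange F hψ hR
    set e := isoOfRange F hψ hR with he_def
    have hRS : R ≤ S := he.le_right
    -- every element of N_S(P') lies in the extender
    have hext : normalizerIn S P' ≤ extender S P' ψ := by
      intro g hg
      obtain ⟨hgS, hgN⟩ := hg
      rw [mem_extender_iff]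
      refine ⟨hgS, hgN, ?_⟩
      have hβ : IsIso F (e.symm.trans ((conjAut P' g hgN : P' ≃* P').trans e)) :=
        he.symm.trans ((isIso_conjAut F hP'S hgS hgN).trans he)
      have hβ' := (mem_autGroup_iff F hRS _).mpr hβ
      obtain ⟨k, hk, hkx⟩ := exists_conj_of_fullyAutomized_of_isPGroup F hRa (h R hRS) _ hβ'
      refine ⟨k, hk, fun x hx => ?_⟩
      have := hkx (e x)
      rw [isoOfRange_apply] at this
      rw [← this]
      show ψ _ = ((e ((conjAut P' g hgN) (e.symm (e x))) : R) : Ω)
      rw [MulEquiv.symm_apply_apply, isoOfRange_apply]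
      rfl
    by_cases hPS : P' = S
    · -- then `R = S = P'`
      have : Finite P' := finite_of_le hP'S
      have : Finite R := finite_of_le hRS
      have hcard : Nat.card R = Nat.card P' := (Nat.card_congr e.toEquiv).symm
      have hRP : R = P' := by
        rw [hPS]
        apply Subgroup.eq_of_le_of_card_ge hRS
        rw [hcard, hPS]
      subst hRP
      have hα := (mem_autGroup_iff F hRS e).mpr he
      obtain ⟨k, hk, hkx⟩ := exists_conj_of_fullyAutomized_of_isPGroup F hRa (h R hRS) e hα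
      refine ⟨k, hk, fun x => ?_⟩
      rw [← hkx x]
      rfl
    · have hlt : P' < S := lt_of_le_of_ne hP'S hPS
      have hlt' := lt_normalizerIn hS hlt
      obtain ⟨ψ', hψ', hψ'x⟩ := hRr.2 P' ψ hψ hR
      have hNS : extender S P' ψ ≤ S := (F.le_of_mem hψ').1
      have : Finite (extender S P' ψ) := finite_of_le hNS
      have hcard1 : Nat.card P' < Nat.card (extender S P' ψ) :=
        card_lt_card_of_lt (lt_of_lt_of_le hlt' hext)
      have hcard2 : Nat.card (extender S P' ψ) ≤ Nat.card S := Subgroup.card_le_of_le hNS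
      obtain ⟨g, hg, hgx⟩ := ih (Nat.card S - Nat.card (extender S P' ψ)) (by omega) (extender S P' ψ) rfl ψ' hψ'
      refine ⟨g, hg, fun x => ?_⟩
      have hxN : (x : Ω) ∈ extender S P' ψ := hext (le_normalizerIn hP'S x.2)
      have := hψ'x x x.2 hxN
      rw [← this, hgx]
  intro φ hφ
  have hPS : P ≤ S := (F.le_of_mem hφ).1
  have hQS : φ.range ≤ S := by
    rintro _ ⟨x, rfl⟩
    exact (F.le_of_mem hφ).2 x
  obtain ⟨R, ⟨χ, hχ, hχR⟩, hRa, hRr⟩ := hF φ.range hQS
  have he := isIso_ofInjective F hφ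
  set e := MonoidHom.ofInjective (F.injective_of_mem hφ) with he_def
  have : Finite P := finite_of_le hPS
  have hcard : Nat.card φ.range = Nat.card P := (Nat.card_congr e.toEquiv).symm
  have hα : χ.comp e.toMonoidHom ∈ F.Hom P := comp_iso_mem F he hχ
  have hαR : (χ.comp e.toMonoidHom).range = R := by
    rw [← hχR]
    ext y
    constructor
    · rintro ⟨x, rfl⟩
      exact ⟨e x, rfl⟩
    · rintro ⟨x, rfl⟩
      exact ⟨e.symm x, by simp⟩
  obtain ⟨g, hg, hgx⟩ := claim P hn R _ hα hαR hRa hRr
  obtain ⟨k, hk, hkx⟩ := claim φ.range (by rw [hcard]; exact hn) R χ hχ hχR hRa hRr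
  refine ⟨k⁻¹ * g, S.mul_mem (S.inv_mem hk) hg, fun x => ?_⟩
  have h1 := hgx x
  have h2 := hkx (e x)
  have h3 : (χ.comp e.toMonoidHom) x = χ (e x) := rfl
  rw [h3, h2] at h1
  have h4 : ((e x : φ.range) : Ω) = φ x := rfl
  rw [h4] at h1
  have : φ x = k⁻¹ * (k * φ x * k⁻¹) * k := by group
  rw [this, h1]
  group

end Cfsg.Agent.Helper87
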