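import Mathlib.GroupTheory.PGroup
import Mathlib.Algebra.Group.End
set_option autoImplicit false

namespace Cfsg.Agent.Helper87

variable {P : Type*} [Group P]

/-- `[D, α]`: the subgroup generated by the elements `x⁻¹ α(x)`, `x ∈ D`. -/
def autComm (α : MulAut P) (D : Subgroup P) : Subgroup P :=
  Subgroup.closure {y : P | ∃ x ∈ D, y = x⁻¹ * α x}

/-- The iterated commutator chain `D, [D, α], [D, α, α], …`. -/
def autCommChain (α : MulAut P) (D : Subgroup P) : ℕ → Subgroup P
  | 0 => D
  | i + 1 => autComm α (autCommChain α D i)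

theorem autCommChain_succ' (α : MulAut P) (D : Subgroup P) (n : ℕ) :
    autCommChain α D (n + 1) = autCommChain α (autComm α D) n := by
  induction n with
  | zero => rfl
  | succ n ih =>
    show autComm α (autCommChain α D (n + 1)) = autComm α (autCommChain α (autComm α D) n)
    rw [ih]

theorem autComm_le (α : MulAut P) (D : Subgroup P) (hD : ∀ x ∈ D, α x ∈ D) : autComm α D ≤ D := by
  unfold autComm
  rw [Subgroup.closure_le]
  rintro y ⟨x, hx, rfl⟩
  exact D.mul_mem (D.inv_mem hx) (hD x hx)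

theorem autComm_invariant (α : MulAut P) (D : Subgroup P) (hD : ∀ x ∈ D, α x ∈ D) :
    ∀ y ∈ autComm α D, α y ∈ autComm α D := by
  intro y hy
  unfold autComm at hy ⊢
  induction hy using Subgroup.closure_induction with
  | mem y hy =>
    obtain ⟨x, hx, rfl⟩ := hy
    apply Subgroup.subset_closure
    exact ⟨α x, hD x hx, by simp⟩
  | one => simp
  | mul a b _ _ ha hb => rw [map_mul]; exact Subgroup.mul_mem _ ha hb
  | inv a _ ha => rw [map_inv]; exact Subgroup.inv_mem _ ha

theorem inv_mul_pow_apply_mem_autComm (α : MulAut P) (D : Subgroup P) (hD : ∀ x ∈ D, α x ∈ D) (m : ℕ) :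
    ∀ x ∈ D, (α ^ m) x ∈ D ∧ x⁻¹ * (α ^ m) x ∈ autComm α D := by
  induction m with
  | zero => intro x hx; simp [hx]
  | succ m ih =>
    intro x hx
    obtain ⟨h1, h2⟩ := ih x hx
    have e : (α ^ (m + 1)) x = α ((α ^ m) x) := by
      rw [pow_succ', MulAut.mul_apply]
    refine ⟨by rw [e]; exact hD _ h1, ?_⟩
    have : x⁻¹ * (α ^ (m + 1)) x = (x⁻¹ * (α ^ m) x) * (((α ^ m) x)⁻¹ * α ((α ^ m) x)) := by
      rw [e]; group
    rw [this]
    refine Subgroup.mul_mem _ h2 (Subgroup.subset_closure ⟨(α ^ m) x, h1, rfl⟩)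

/-- An automorphism of a finite `p`-group whose iterated commutator chain on an invariant subgroup `D` reaches the trivial
group has a `p`-power that fixes `D` pointwise. -/
theorem exists_pow_fix_of_autCommChain_eq_bot [Finite P] {p : ℕ} [Fact p.Prime] (hP : IsPGroup p P) (α : MulAut P)
    (n : ℕ) : ∀ D : Subgroup P, (∀ x ∈ D, α x ∈ D) → autCommChain α D n = ⊥ →
      ∃ k : ℕ, ∀ x ∈ D, (α ^ (p ^ k)) x = x := by
  induction n with
  | zero =>
    intro D _ h
    refine ⟨0, fun x hx => ?_⟩
    have : D = ⊥ := h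
    rw [this, Subgroup.mem_bot] at hx
    subst hx
    simp
  | succ n ih =>
    intro D hD h
    rw [autCommChain_succ'] at h
    obtain ⟨k, hk⟩ := ih (autComm α D) (autComm_invariant α D hD) h
    obtain ⟨r, hr⟩ := IsPGroup.iff_card.mp hP
    refine ⟨k + r, fun x hx => ?_⟩
    set β := α ^ (p ^ k) with hβ
    have hu : x⁻¹ * β x ∈ autComm α D := (inv_mul_pow_apply_mem_autComm α D hD (p ^ k) x hx).2
    set u := x⁻¹ * β x with hu_def
    have hβu : β u = u := hk u hu
    have hβx : β x = x * u := by rw [hu_def]; group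
    have hpow : ∀ j : ℕ, (β ^ j) x = x * u ^ j := by
      intro j
      induction j with
      | zero => simp
      | succ j ihj =>
        rw [pow_succ', MulAut.mul_apply, ihj, map_mul, map_pow, hβu, hβx, pow_succ']
        group
    have : α ^ (p ^ (k + r)) = β ^ (p ^ r) := by
      rw [hβ, ← pow_mul, pow_add]
    rw [this, hpow, ← hr, pow_card_eq_one', mul_one]

/-- An automorphism of a finite `p`-group whose iterated commutator chain reaches the trivial group has `p`-power order. -/
theorem exists_pow_eq_one_of_autCommChain_eq_bot [Finite P] {p : ℕ} [Fact p.Prime] (hP : IsPGroup p P) (α : MulAut P)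
    (n : ℕ) (h : autCommChain α ⊤ n = ⊥) : ∃ k : ℕ, α ^ (p ^ k) = 1 := by
  obtain ⟨k, hk⟩ := exists_pow_fix_of_autCommChain_eq_bot hP α n ⊤ (fun _ _ => Subgroup.mem_top _) h
  refine ⟨k, ?_⟩
  ext x
  exact hk x (Subgroup.mem_top _)

/-- The stability group of a descending chain of subgroups of a finite group: the automorphisms `β` with
`x⁻¹ β(x) ∈ D (k+1)` for all `x ∈ D k`. -/
def chainStab [Finite P] (D : ℕ → Subgroup P) (hD : Antitone D) : Subgroup (MulAut P) where
  carrier := {β | ∀ k, ∀ x ∈ D k, x⁻¹ * β x ∈ D (k + 1)}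
  one_mem' := by
    intro k x _
    simp
  mul_mem' := by
    intro β γ hβ hγ k x hx
    have h1 : x⁻¹ * γ x ∈ D (k + 1) := hγ k x hx
    have h2 : γ x ∈ D k := by
      have : γ x = x * (x⁻¹ * γ x) := by group
      rw [this]
      exact (D k).mul_mem hx (hD (Nat.le_succ k) h1)
    have h3 := hβ k (γ x) h2
    have : x⁻¹ * (β * γ) x = (x⁻¹ * γ x) * ((γ x)⁻¹ * β (γ x)) := by
      rw [MulAut.mul_apply]; group
    rw [this]
    exact (D (k + 1)).mul_mem h1 h3
  inv_mem' := by
    intro β hβ k x hx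
    -- `β` maps `D k` into itself, hence onto itself
    have hmaps : ∀ y ∈ D k, β y ∈ D k := by
      intro y hy
      have : β y = y * (y⁻¹ * β y) := by group
      rw [this]
      exact (D k).mul_mem hy (hD (Nat.le_succ k) (hβ k y hy))
    have hsurj : ∀ z ∈ D k, ∃ y ∈ D k, β y = z := by
      have hinj : Function.Injective (fun y : D k => (⟨β y, hmaps y y.2⟩ : D k)) := by
        intro a b hab
        exact Subtype.ext (β.injective (congrArg Subtype.val hab))
      have hbij := Finite.injective_iff_surjective.mp hinj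
      intro z hz
      obtain ⟨y, hy⟩ := hbij ⟨z, hz⟩
      exact ⟨y, y.2, congrArg Subtype.val hy⟩
    obtain ⟨y, hy, hyx⟩ := hsurj x hx
    have h1 := hβ k y hy
    have h2 : β⁻¹ x = y := by rw [← hyx]; simp
    rw [h2, ← hyx]
    have : (β y)⁻¹ * y = (y⁻¹ * β y)⁻¹ := by group
    rw [this]
    exact (D (k + 1)).inv_mem h1

theorem mem_chainStab [Finite P] (D : ℕ → Subgroup P) (hD : Antitone D) (β : MulAut P) :
    β ∈ chainStab D hD ↔ ∀ k, ∀ x ∈ D k, x⁻¹ * β x ∈ D (k + 1) := Iff.rfl

/-- The stability group of a chain from `⊤` to `⊥` in a finite `p`-group is a `p`-group. -/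
theorem isPGroup_chainStab [Finite P] {p : ℕ} [Fact p.Prime] (hP : IsPGroup p P) (D : ℕ → Subgroup P)
    (hD : Antitone D) (h0 : D 0 = ⊤) (N : ℕ) (hN : D N = ⊥) : IsPGroup p (chainStab D hD) := by
  rintro ⟨β, hβ⟩
  have hchain : ∀ k, autCommChain β ⊤ k ≤ D k := by
    intro k
    induction k with
    | zero =>
      rw [h0]
      exact le_top
    | succ k ih =>
      show autComm β (autCommChain β ⊤ k) ≤ D (k + 1)
      unfold autComm
      rw [Subgroup.closure_le]
      rintro y ⟨x, hx, rfl⟩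
      exact hβ k x (ih hx)
  have hbot : autCommChain β ⊤ N = ⊥ := by
    have := hchain N
    rwa [hN, le_bot_iff] at this
  obtain ⟨k, hk⟩ := exists_pow_eq_one_of_autCommChain_eq_bot hP β N hbot
  exact ⟨k, Subtype.ext hk⟩

/-- A group of automorphisms leaving every term of the chain invariant normalizes the stability group. -/
theorem conj_mem_chainStab [Finite P] (D : ℕ → Subgroup P) (hD : Antitone D) (α β : MulAut P)
    (hα : ∀ k, ∀ x ∈ D k, α x ∈ D k) (hα' : ∀ k, ∀ x ∈ D k, α⁻¹ x ∈ D k) (hβ : β ∈ chainStab D hD) :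
    α * β * α⁻¹ ∈ chainStab D hD := by
  intro k x hx
  have h1 := hβ k (α⁻¹ x) (hα' k x hx)
  have h2 := hα (k + 1) _ h1
  have : x⁻¹ * (α * β * α⁻¹) x = α ((α⁻¹ x)⁻¹ * β (α⁻¹ x)) := by
    simp [MulAut.mul_apply]
  rw [this]
  exact h2

end Cfsg.Agent.Helper87
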