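import Cfsg.Agent.Helper87.FusionNormal
import Cfsg.Agent.Helper87.StableAut
set_option autoImplicit false

namespace Cfsg.Agent.Helper87

open Cfsg Cfsg.FusionSystem
open scoped Pointwise commutatorElement

variable {Ω : Type*} [Group Ω] {S : Subgroup Ω}

/-- If `P` normalizes `C` and `C` is not contained in `P` (inside a finite `p`-group), some element of `C` normalizes `P`
without lying in it. -/
theorem exists_mem_normalizer_not_mem [Finite S] {p : ℕ} [Fact p.Prime] (hS : IsPGroup p S) {P C : Subgroup Ω}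
    (hPS : P ≤ S) (hCS : C ≤ S) (hPC : P ≤ Subgroup.normalizer (C : Set Ω)) (hnot : ¬ C ≤ P) :
    ∃ c ∈ C, c ∈ Subgroup.normalizer (P : Set Ω) ∧ c ∉ P := by
  have hMS : P ⊔ C ≤ S := sup_le hPS hCS
  have hlt : P < P ⊔ C := lt_of_le_of_ne le_sup_left (fun h => hnot (h ▸ le_sup_right))
  have hfin : Finite ↥(P ⊔ C) := finite_of_le hMS
  have hp' : IsPGroup p ↥(P ⊔ C) := hS.to_le hMS
  obtain ⟨d, hdN, hdP⟩ := SetLike.exists_of_lt (lt_normalizerIn hp' hlt)
  have hd : d ∈ ((P ⊔ C : Subgroup Ω) : Set Ω) := hdN.1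
  rw [Subgroup.coe_mul_of_left_le_normalizer_right P C hPC] at hd
  obtain ⟨x, hx, c, hc, rfl⟩ := hd
  refine ⟨c, hc, ?_, fun hcP => hdP (P.mul_mem hx hcP)⟩
  have : c = x⁻¹ * (x * c) := by group
  rw [this]
  exact Subgroup.mul_mem _ (Subgroup.inv_mem _ (Subgroup.le_normalizer hx)) hdN.2

theorem le_normalizer_of_forall_conj_mem {Q : Subgroup Ω} (h : ∀ s ∈ S, ∀ y ∈ Q, s * y * s⁻¹ ∈ Q) :
    S ≤ Subgroup.normalizer (Q : Set Ω) := by
  intro s hs
  apply mem_normalizer_of_conj_mem_of_inv_conj_mem (h s hs)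
  intro y hy
  have := h s⁻¹ (S.inv_mem hs) y hy
  rwa [inv_inv] at this

theorem le_normalizer_of_stronglyClosed (F : FusionSystem S) {Q : Subgroup Ω} (hQ : F.StronglyClosed Q) :
    S ≤ Subgroup.normalizer (Q : Set Ω) :=
  le_normalizer_of_forall_conj_mem (fun s hs y hy => hQ.2 Q le_rfl _ (F.conj_mem hQ.1 hs) ⟨y, hy⟩)

theorem le_normalizer_of_weaklyClosed (F : FusionSystem S) {Q : Subgroup Ω} (hQ : F.WeaklyClosed Q) :
    S ≤ Subgroup.normalizer (Q : Set Ω) := by
  apply le_normalizer_of_forall_conj_mem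
  intro s hs y hy
  have h1 := hQ.2 _ (F.conj_mem hQ.1 hs)
  have h2 : conjHom Q s ⟨y, hy⟩ ∈ (conjHom Q s).range := ⟨_, rfl⟩
  rw [h1] at h2
  exact h2

/-- A strongly closed subgroup is weakly closed (for finite `S`). -/
theorem weaklyClosed_of_stronglyClosed [Finite S] (F : FusionSystem S) {Q : Subgroup Ω} (hQ : F.StronglyClosed Q) :
    F.WeaklyClosed Q := by
  refine ⟨hQ.1, fun φ hφ => ?_⟩
  have hle : φ.range ≤ Q := by
    rintro _ ⟨x, rfl⟩
    exact hQ.2 Q le_rfl φ hφ x
  have : Finite Q := finite_of_le hQ.1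
  apply Subgroup.eq_of_le_of_card_ge hle
  exact le_of_eq (Nat.card_congr (MonoidHom.ofInjective (F.injective_of_mem hφ)).toEquiv)

/-- A subgroup normal in the system is weakly closed. -/
theorem weaklyClosed_of_isNormal (F : FusionSystem S) {Q : Subgroup Ω} (hQ : F.IsNormal Q) : F.WeaklyClosed Q := by
  refine ⟨hQ.1, fun φ hφ => ?_⟩
  obtain ⟨ψ, hψ, hψx, hψQ⟩ := hQ.2 Q φ hφ
  rw [Helper85.map_subgroupOf_eq_iff] at hψQ
  ext y
  constructor
  · rintro ⟨x, rfl⟩
    rw [← hψx]
    exact hψQ.1 _ x.2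
  · intro hy
    obtain ⟨z, hzQ, hz⟩ := hψQ.2 y hy
    refine ⟨⟨z, hzQ⟩, ?_⟩
    rw [← hz, ← hψx]
    congr 1

/-- Normality from a central series with weakly closed terms (chain indexed by the natural numbers). -/
theorem isNormal_of_weaklyClosed_series_nat [Finite S] {p : ℕ} [Fact p.Prime] (hS : IsPGroup p S)
    (F : FusionSystem S) (hF : F.IsSaturated p) {Q : Subgroup Ω} (hQ : F.StronglyClosed Q) (n : ℕ)
    (Cn : ℕ → Subgroup Ω) (h0 : Cn 0 = ⊥) (hn : Cn n = Q) (hmono : Monotone Cn)
    (hcomm : ∀ j < n, ⁅Cn (j + 1), Q⁆ ≤ Cn j) (hwc : ∀ j < n, F.WeaklyClosed (Cn j)) : F.IsNormal Q := by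
  rw [isNormal_iff_stronglyClosed_centric_radical hS F hF]
  refine ⟨hQ, fun P hPc hPr => ?_⟩
  have hPS : P ≤ S := hPc.1
  have hSQ : S ≤ Subgroup.normalizer (Q : Set Ω) := le_normalizer_of_stronglyClosed F hQ
  have hCQ : ∀ j ≤ n, Cn j ≤ Q := fun j hj => hn ▸ hmono hj
  have key : ∀ i ≤ n, Cn i ≤ P := by
    intro i
    induction i with
    | zero => intro _; rw [h0]; exact bot_le
    | succ i ih =>
      intro hi
      have hi' : i < n := hi
      have ih' := ih hi'.le
      by_contra hnot
      -- `Cn (i+1)` is normalized by `S`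
      have hSC : S ≤ Subgroup.normalizer (Cn (i + 1) : Set Ω) := by
        rcases Nat.lt_or_ge (i + 1) n with h | h
        · exact le_normalizer_of_weaklyClosed F (hwc _ h)
        · have : i + 1 = n := le_antisymm hi h
          rw [this, hn]; exact hSQ
      have hCS : Cn (i + 1) ≤ S := (hCQ _ hi).trans hQ.1
      obtain ⟨c, hcC, hcN, hcP⟩ := exists_mem_normalizer_not_mem hS hPS hCS (hPS.trans hSC) hnot
      have hcQ : c ∈ Q := hCQ _ hi hcC
      have hcS : c ∈ S := hCS hcC
      have hfinP : Finite P := finite_of_le hPS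
      have hPp : IsPGroup p P := hS.to_le hPS
      -- the chain
      let D : ℕ → Subgroup P := fun k =>
        match k with
        | 0 => ⊤
        | 1 => Q.subgroupOf P
        | (k + 2) => (Cn (i - k)).subgroupOf P
      have hDanti : Antitone D := by
        apply antitone_nat_of_succ_le
        intro k
        match k with
        | 0 => exact le_top
        | 1 =>
          show (Cn (i - 0)).subgroupOf P ≤ Q.subgroupOf P
          intro x hx
          exact hCQ _ (by omega) hx
        | (k + 2) =>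
          show (Cn (i - (k + 1))).subgroupOf P ≤ (Cn (i - k)).subgroupOf P
          intro x hx
          exact hmono (by omega) hx
      have hDbot : D (i + 2) = ⊥ := by
        show (Cn (i - i)).subgroupOf P = ⊥
        rw [Nat.sub_self, h0]
        exact Subgroup.bot_subgroupOf P
      have hStabP : IsPGroup p (chainStab D hDanti) := isPGroup_chainStab hPp D hDanti rfl (i + 2) hDbot
      -- conjugation by `c` stabilizes the chain
      have hβ : conjAut P c hcN ∈ chainStab D hDanti := by
        intro k x hx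
        match k with
        | 0 =>
          show ((x⁻¹ * conjAut P c hcN x : P) : Ω) ∈ Q
          have h1 : (x : Ω)⁻¹ * c * (x : Ω)⁻¹⁻¹ ∈ Q :=
            (Subgroup.mem_normalizer_iff.mp (hSQ (S.inv_mem (hPS x.2))) c).mp hcQ
          rw [inv_inv] at h1
          have : ((x⁻¹ * conjAut P c hcN x : P) : Ω) = ((x : Ω)⁻¹ * c * x) * c⁻¹ := by
            show (x : Ω)⁻¹ * (c * x * c⁻¹) = _
            group
          rw [this]
          exact Q.mul_mem h1 (Q.inv_mem hcQ)
        | 1 =>
          have hxQ : (x : Ω) ∈ Q := hx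
          show ((x⁻¹ * conjAut P c hcN x : P) : Ω) ∈ Cn (i - 0)
          have h1 : ⁅c, (x : Ω)⁻¹⁆ ∈ ⁅Cn (i + 1), Q⁆ := Subgroup.commutator_mem_commutator hcC (Q.inv_mem hxQ)
          have h2 := hcomm i hi' h1
          have : ((x⁻¹ * conjAut P c hcN x : P) : Ω) = (⁅c, (x : Ω)⁻¹⁆)⁻¹ := by
            show (x : Ω)⁻¹ * (c * x * c⁻¹) = _
            rw [commutatorElement_def]; group
          rw [this]
          exact Subgroup.inv_mem _ h2
        | (k + 2) =>
          have hxC : (x : Ω) ∈ Cn (i - k) := hx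
          show ((x⁻¹ * conjAut P c hcN x : P) : Ω) ∈ Cn (i - (k + 1))
          have hform : ((x⁻¹ * conjAut P c hcN x : P) : Ω) = ⁅(x : Ω)⁻¹, c⁆ := by
            show (x : Ω)⁻¹ * (c * x * c⁻¹) = _
            rw [commutatorElement_def]; group
          rcases Nat.eq_zero_or_pos (i - k) with hz | hpos
          · rw [hz, h0, Subgroup.mem_bot] at hxC
            rw [hform, hxC]
            simp
          · obtain ⟨j, hj⟩ : ∃ j, i - k = j + 1 := ⟨i - k - 1, by omega⟩
            have hj' : i - (k + 1) = j := by omega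
            rw [hj] at hxC
            rw [hj', hform]
            exact hcomm j (by omega) (Subgroup.commutator_mem_commutator (Subgroup.inv_mem _ hxC) hcQ)
      -- invariance of the chain under the automorphisms of the system
      have hinv : ∀ α : MulAut P, IsIso F (α : P ≃* P) → ∀ k, ∀ x ∈ D k, α x ∈ D k := by
        intro α hα k x hx
        match k with
        | 0 => exact Subgroup.mem_top _
        | 1 =>
          have hxQ : (x : Ω) ∈ Q := hx
          have hle : Q ⊓ P ≤ P := inf_le_right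
          exact hQ.2 (Q ⊓ P) inf_le_left _ (restrict_mem F hα hle) ⟨x, ⟨hxQ, x.2⟩⟩
        | (k + 2) =>
          have hxC : (x : Ω) ∈ Cn (i - k) := hx
          have hlt : i - k < n := by omega
          have hle : Cn (i - k) ≤ P := (hmono (Nat.sub_le i k)).trans ih'
          have h1 := (hwc _ hlt).2 _ (restrict_mem F hα hle)
          have h2 : ((P.subtype.comp (α : P ≃* P).toMonoidHom).comp (Subgroup.inclusion hle)) ⟨x, hxC⟩ ∈
              ((P.subtype.comp (α : P ≃* P).toMonoidHom).comp (Subgroup.inclusion hle)).range := ⟨_, rfl⟩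
          rw [h1] at h2
          exact h2
      -- the stabilizer meets `Aut_F(P)` in a normal `p`-subgroup
      set A := F.autGroup P with hA
      have hKn : ((chainStab D hDanti ⊓ A).subgroupOf A).Normal := by
        constructor
        intro κ hκ α
        rw [Subgroup.mem_subgroupOf] at hκ ⊢
        refine ⟨?_, (α * κ * α⁻¹).2⟩
        have hαiso := (mem_autGroup_iff F hPS _).mp α.2
        have hαiso' : IsIso F (((α : MulAut P)⁻¹ : MulAut P) : P ≃* P) := hαiso.symm
        exact conj_mem_chainStab D hDanti α κ (hinv _ hαiso) (hinv _ hαiso') hκ.1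
      have hKp : IsPGroup p ((chainStab D hDanti ⊓ A).subgroupOf A) :=
        (hStabP.to_le inf_le_left).comap_subtype
      have hβA : conjAut P c hcN ∈ A := (mem_autGroup_iff F hPS _).mpr (isIso_conjAut F hPS hcS hcN)
      have hβcore : (⟨conjAut P c hcN, hβA⟩ : A) ∈ pCore p A :=
        Cfsg.Agent.Lib.le_pCore hKn hKp (Subgroup.mem_subgroupOf.mpr ⟨hβ, hβA⟩)
      have hβinn : conjAut P c hcN ∈ Inn P := by
        rw [← hPr.2]
        exact ⟨_, hβcore, rfl⟩
      obtain ⟨r, hr⟩ := hβinn
      apply hcP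
      refine mem_of_conj_eq_inner (hPc.2 P (isConj_refl F hPS)) hcS hPS r (fun x => ?_)
      exact congrArg (fun β : MulAut P => ((β x : P) : Ω)) hr
  rw [← hn]
  exact key n le_rfl

/-- Normality from a central series with weakly closed terms (chain indexed by `Fin (n + 1)`). -/
theorem isNormal_of_weaklyClosed_series_fin [Finite S] {p : ℕ} [Fact p.Prime] (hS : IsPGroup p S)
    (F : FusionSystem S) (hF : F.IsSaturated p) {Q : Subgroup Ω} (hQ : F.StronglyClosed Q) (n : ℕ)
    (C : Fin (n + 1) → Subgroup Ω) (h0 : C 0 = ⊥) (hn : C (Fin.last n) = Q) (hmono : Monotone C)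
    (hcomm : ∀ i : Fin n, ⁅C i.succ, Q⁆ ≤ C i.castSucc) (hwc : ∀ i : Fin n, F.WeaklyClosed (C i.castSucc)) :
    F.IsNormal Q := by
  let Cn : ℕ → Subgroup Ω := fun j => C ⟨min j n, Nat.lt_succ_of_le (min_le_right j n)⟩
  have hCn : ∀ (j : ℕ) (hj : j < n + 1), Cn j = C ⟨j, hj⟩ := by
    intro j hj
    show C ⟨min j n, _⟩ = C ⟨j, hj⟩
    congr 1
    exact Fin.ext (min_eq_left (Nat.lt_succ_iff.mp hj))
  apply isNormal_of_weaklyClosed_series_nat hS F hF hQ n Cn
  · rw [hCn 0 (Nat.succ_pos n)]; exact h0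
  · rw [hCn n (Nat.lt_succ_self n)]; exact hn
  · intro i j hij
    exact hmono (Fin.mk_le_mk.mpr (min_le_min_right n hij))
  · intro j hj
    rw [hCn (j + 1) (by omega), hCn j (by omega)]
    exact hcomm ⟨j, hj⟩
  · intro j hj
    rw [hCn j (by omega)]
    exact hwc ⟨j, hj⟩

theorem stronglyClosed_bot (F : FusionSystem S) : F.StronglyClosed (⊥ : Subgroup Ω) := by
  refine ⟨bot_le, fun R hR φ _ x => ?_⟩
  have hx : (x : Ω) = 1 := by
    have := hR x.2
    rwa [Subgroup.mem_bot] at this
  have : x = 1 := Subtype.ext hx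
  rw [this, map_one]
  exact Subgroup.one_mem _

/-- Every term of the lower central series of a subgroup normal in the system is normal in the system. -/
theorem isNormal_lowerCentralSeries (F : FusionSystem S) {Q : Subgroup Ω} (hQ : F.IsNormal Q)
    (hchar : ∀ U : Subgroup Ω, U ≤ Q → (U.subgroupOf Q).Characteristic → F.IsNormal U) (j : ℕ) :
    F.IsNormal (Q.lowerCentralSeries j) := by
  apply hchar _ (Subgroup.lowerCentralSeries_le_self Q j)
  have h1 : (Q.lowerCentralSeries j).subgroupOf Q = (⊤ : Subgroup Q).lowerCentralSeries j := by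
    rw [← Subgroup.top_subtype_lowerCentralSeries Q j]
    exact Subgroup.comap_map_eq_self_of_injective Q.subtype_injective _
  rw [h1]
  infer_instance

end Cfsg.Agent.Helper87
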