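import Cfsg.Agent.Helper87.FusionExtend
set_option autoImplicit false

namespace Cfsg.Agent.Helper87

/-- The intersection of a Sylow `p`-subgroup with a normal subgroup `N` is a Sylow `p`-subgroup of `N`. -/
theorem exists_sylow_subgroupOf_normal {A : Type*} [Group A] [Finite A] {p : ℕ} [Fact p.Prime] (P : Sylow p A)
    (N : Subgroup A) [hN : N.Normal] : ∃ P' : Sylow p N, (P' : Subgroup N) = (P : Subgroup A).subgroupOf N := by
  have hp : IsPGroup p ((P : Subgroup A).subgroupOf N) :=
    P.2.comap_of_injective N.subtype N.subtype_injective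
  refine ⟨⟨(P : Subgroup A).subgroupOf N, hp, ?_⟩, rfl⟩
  intro Q hQ hle
  symm
  apply Subgroup.eq_of_le_of_card_ge hle
  obtain ⟨a, ha⟩ := exists_conj_mem_sylow_of_isPGroup P (Q.map N.subtype) (hQ.map N.subtype)
  refine Nat.card_le_card_of_injective
    (fun b : Q => (⟨⟨a * (b : N) * a⁻¹, hN.conj_mem _ (b : N).2 a⟩, ?_⟩ : (P : Subgroup A).subgroupOf N)) ?_
  · rw [Subgroup.mem_subgroupOf]
    exact ha _ ⟨b, b.2, rfl⟩
  · intro b c hbc
    have h1 : a * ((b : N) : A) * a⁻¹ = a * ((c : N) : A) * a⁻¹ := by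
      have := congrArg (fun z : (P : Subgroup A).subgroupOf N => ((z : N) : A)) hbc
      exact this
    have h2 : ((b : N) : A) = ((c : N) : A) := by
      have := mul_left_cancel (mul_right_cancel h1)
      exact this
    exact Subtype.ext (Subtype.ext h2)

/-- Frattini argument, for the intersection of a Sylow `p`-subgroup with a normal subgroup. -/
theorem exists_mul_of_normal {A : Type*} [Group A] [Finite A] {p : ℕ} [Fact p.Prime] (P : Sylow p A)
    (N : Subgroup A) [hN : N.Normal] (a : A) :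
    ∃ g ∈ Subgroup.normalizer (((P : Subgroup A) ⊓ N : Subgroup A) : Set A), ∃ n ∈ N, a = g * n := by
  obtain ⟨P', hP'⟩ := exists_sylow_subgroupOf_normal P N
  have h1 := Sylow.normalizer_sup_eq_top P'
  have h2 : (P' : Subgroup N).map N.subtype = (P : Subgroup A) ⊓ N := by
    rw [hP', Subgroup.subgroupOf_map_subtype]
  rw [h2] at h1
  have h3 : a ∈ ((Subgroup.normalizer (((P : Subgroup A) ⊓ N : Subgroup A) : Set A) ⊔ N : Subgroup A) : Set A) := by
    rw [h1]; trivial
  rw [Subgroup.mul_normal] at h3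
  obtain ⟨g, hg, n, hn, hgn⟩ := h3
  exact ⟨g, hg, n, hn, hgn.symm⟩

end Cfsg.Agent.Helper87
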