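import Cfsg.Agent.Helper87.FusionInduct
import Cfsg.Agent.Helper87.FusionSeries
import Cfsg.Agent.Helper87.SylowNormal
set_option autoImplicit false

namespace Cfsg.Agent.Helper87

open Cfsg Cfsg.FusionSystem

variable {Ω : Type*} [Group Ω] {S : Subgroup Ω}

theorem conj_mem_of_stronglyClosed (F : FusionSystem S) {T : Subgroup Ω} (hT : F.StronglyClosed T) {g : Ω}
    (hg : g ∈ S) {x : Ω} (hx : x ∈ T) : g * x * g⁻¹ ∈ T :=
  hT.2 T le_rfl (conjHom T g) (F.conj_mem hT.1 hg) ⟨x, hx⟩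

/-- Automorphisms of the system on `R` preserve `R ∩ T` when `T` is strongly closed. -/
theorem aut_mem_of_stronglyClosed (F : FusionSystem S) {T : Subgroup Ω} (hT : F.StronglyClosed T) {R : Subgroup Ω}
    (hRS : R ≤ S) {α : MulAut R} (hα : α ∈ F.autGroup R) (x : R) (hx : (x : Ω) ∈ T) : ((α x : R) : Ω) ∈ T := by
  have h1 := (mem_autGroup_iff F hRS α).mp hα
  have h2 := restrict_mem F h1 (inf_le_left : R ⊓ T ≤ R)
  exact hT.2 (R ⊓ T) inf_le_right _ h2 ⟨x, x.2, hx⟩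

/-- Conjugation by `S` preserves `C_S(T)` when `S` normalizes `T`. -/
theorem conj_mem_centralizerIn {T : Subgroup Ω} (hT : ∀ g ∈ S, ∀ x ∈ T, g * x * g⁻¹ ∈ T) {g : Ω} (hg : g ∈ S) {c : Ω}
    (hc : c ∈ centralizerIn S T) : g * c * g⁻¹ ∈ centralizerIn S T := by
  refine ⟨S.mul_mem (S.mul_mem hg hc.1) (S.inv_mem hg), ?_⟩
  show g * c * g⁻¹ ∈ Subgroup.centralizer (T : Set Ω)
  rw [Subgroup.mem_centralizer_iff]
  intro y hy
  have h1 : g⁻¹ * y * g ∈ T := by
    have := hT g⁻¹ (S.inv_mem hg) y hy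
    rwa [inv_inv] at this
  have h2 := Subgroup.mem_centralizer_iff.mp hc.2 _ h1
  calc y * (g * c * g⁻¹) = g * ((g⁻¹ * y * g) * c) * g⁻¹ := by group
    _ = g * (c * (g⁻¹ * y * g)) * g⁻¹ := by rw [h2]
    _ = g * c * g⁻¹ * y := by group

theorem mem_sup_centralizerIn_iff {T : Subgroup Ω} (hTS : T ≤ S) (hT : ∀ g ∈ S, ∀ x ∈ T, g * x * g⁻¹ ∈ T) (x : Ω) :
    x ∈ T ⊔ centralizerIn S T ↔ ∃ t ∈ T, ∃ c ∈ centralizerIn S T, t * c = x := by
  have hle : T ≤ Subgroup.normalizer (centralizerIn S T : Set Ω) := by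
    intro t ht
    apply mem_normalizer_of_conj_mem_of_inv_conj_mem
    · intro c hc; exact conj_mem_centralizerIn hT (hTS ht) hc
    · intro c hc
      have := conj_mem_centralizerIn hT (S.inv_mem (hTS ht)) hc
      rwa [inv_inv] at this
  rw [← SetLike.mem_coe, Subgroup.coe_mul_of_left_le_normalizer_right T _ hle]
  exact Set.mem_mul

theorem conj_mem_sup_centralizerIn_iff {T : Subgroup Ω} (hTS : T ≤ S) (hT : ∀ g ∈ S, ∀ x ∈ T, g * x * g⁻¹ ∈ T)
    {g : Ω} (hg : g ∈ S) (x : Ω) :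
    g * x * g⁻¹ ∈ T ⊔ centralizerIn S T ↔ x ∈ T ⊔ centralizerIn S T := by
  have key : ∀ g ∈ S, ∀ x, x ∈ T ⊔ centralizerIn S T → g * x * g⁻¹ ∈ T ⊔ centralizerIn S T := by
    intro g hg x hx
    obtain ⟨t, ht, c, hc, rfl⟩ := (mem_sup_centralizerIn_iff hTS hT x).mp hx
    have : g * (t * c) * g⁻¹ = (g * t * g⁻¹) * (g * c * g⁻¹) := by group
    rw [this]
    exact Subgroup.mul_mem _ (Subgroup.mem_sup_left (hT g hg t ht))
      (Subgroup.mem_sup_right (conj_mem_centralizerIn hT hg hc))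
  refine ⟨fun h => ?_, key g hg x⟩
  have := key g⁻¹ (S.inv_mem hg) _ h
  have e : g⁻¹ * (g * x * g⁻¹) * g⁻¹⁻¹ = x := by group
  rwa [e] at this

/-- Automorphisms of the system on a subgroup `R` containing the strongly closed subgroup `T` preserve `T C_S(T)`. -/
theorem aut_mem_sup_centralizerIn (F : FusionSystem S) {T : Subgroup Ω} (hT : F.StronglyClosed T)
    {R : Subgroup Ω} (hRS : R ≤ S) (hTR : T ≤ R) {α : MulAut R} (hα : α ∈ F.autGroup R) (x : R)
    (hx : (x : Ω) ∈ T ⊔ centralizerIn S T) : ((α x : R) : Ω) ∈ T ⊔ centralizerIn S T := by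
  have hTn : ∀ g ∈ S, ∀ x ∈ T, g * x * g⁻¹ ∈ T := fun g hg x hx => conj_mem_of_stronglyClosed F hT hg hx
  obtain ⟨t, ht, c, hc, htc⟩ := (mem_sup_centralizerIn_iff hT.1 hTn x).mp hx
  have hcR : c ∈ R := by
    have : c = t⁻¹ * x := by rw [← htc]; group
    rw [this]; exact R.mul_mem (R.inv_mem (hTR ht)) x.2
  have hx' : x = ⟨t, hTR ht⟩ * ⟨c, hcR⟩ := Subtype.ext htc.symm
  rw [hx', map_mul, Subgroup.coe_mul]
  apply Subgroup.mul_mem
  · exact Subgroup.mem_sup_left (aut_mem_of_stronglyClosed F hT hRS hα _ ht)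
  · apply Subgroup.mem_sup_right
    refine ⟨hRS (α _).2, ?_⟩
    show ((α ⟨c, hcR⟩ : R) : Ω) ∈ Subgroup.centralizer (T : Set Ω)
    rw [Subgroup.mem_centralizer_iff]
    intro y hy
    have hα' : α⁻¹ ∈ F.autGroup R := (F.autGroup R).inv_mem hα
    have hy' := aut_mem_of_stronglyClosed F hT hRS hα' ⟨y, hTR hy⟩ hy
    have e1 : α (α⁻¹ ⟨y, hTR hy⟩) = ⟨y, hTR hy⟩ := by simp
    have hcomm : α⁻¹ ⟨y, hTR hy⟩ * ⟨c, hcR⟩ = ⟨c, hcR⟩ * α⁻¹ ⟨y, hTR hy⟩ :=
      Subtype.ext (Subgroup.mem_centralizer_iff.mp hc.2 _ hy')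
    have := congrArg (fun z : R => ((α z : R) : Ω)) hcomm
    simp only [map_mul, Subgroup.coe_mul, e1] at this
    exact this

/-- The automorphisms in `Aut_F(R)` acting trivially on `R` modulo the strongly closed subgroup `T`. -/
def modStab (F : FusionSystem S) {T : Subgroup Ω} (hT : F.StronglyClosed T) {R : Subgroup Ω} (hRS : R ≤ S) :
    Subgroup (F.autGroup R) where
  carrier := {β | ∀ x : R, (x : Ω)⁻¹ * (((β : MulAut R) x : R) : Ω) ∈ T}
  one_mem' := by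
    intro x
    simp
  mul_mem' := by
    intro a b ha hb x
    have h1 := ha x
    have h2 := hb x
    have h3 := aut_mem_of_stronglyClosed F hT hRS a.2 (x⁻¹ * (b : MulAut R) x) h2
    have e : (x : Ω)⁻¹ * ((((a * b : F.autGroup R) : MulAut R) x : R) : Ω) =
        ((x : Ω)⁻¹ * (((a : MulAut R) x : R) : Ω)) * ((((a : MulAut R) (x⁻¹ * (b : MulAut R) x) : R)) : Ω) := by
      simp only [Subgroup.coe_mul, MulAut.mul_apply, map_mul, map_inv, Subgroup.coe_inv]
      group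
    rw [e]
    exact T.mul_mem h1 h3
  inv_mem' := by
    intro a ha x
    have h1 := ha ((a : MulAut R)⁻¹ x)
    have e : (x : Ω)⁻¹ * ((((a⁻¹ : F.autGroup R) : MulAut R) x : R) : Ω) =
        (((((a : MulAut R)⁻¹ x : R) : Ω))⁻¹ * (((a : MulAut R) ((a : MulAut R)⁻¹ x) : R) : Ω))⁻¹ := by
      simp
    rw [e]
    exact T.inv_mem h1

theorem mem_modStab_iff (F : FusionSystem S) {T : Subgroup Ω} (hT : F.StronglyClosed T) {R : Subgroup Ω} (hRS : R ≤ S)
    (β : F.autGroup R) : β ∈ modStab F hT hRS ↔ ∀ x : R, (x : Ω)⁻¹ * (((β : MulAut R) x : R) : Ω) ∈ T := Iff.rfl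

theorem modStab_normal (F : FusionSystem S) {T : Subgroup Ω} (hT : F.StronglyClosed T) {R : Subgroup Ω} (hRS : R ≤ S) :
    (modStab F hT hRS).Normal := by
  refine ⟨fun n hn g => ?_⟩
  rw [mem_modStab_iff] at hn ⊢
  intro x
  have h1 := hn ((g : MulAut R)⁻¹ x)
  have h3 := aut_mem_of_stronglyClosed F hT hRS g.2 (((g : MulAut R)⁻¹ x)⁻¹ * (n : MulAut R) ((g : MulAut R)⁻¹ x)) h1
  have e : (x : Ω)⁻¹ * ((((g * n * g⁻¹ : F.autGroup R) : MulAut R) x : R) : Ω) =
      ((((g : MulAut R) (((g : MulAut R)⁻¹ x)⁻¹ * (n : MulAut R) ((g : MulAut R)⁻¹ x)) : R)) : Ω) := by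
    simp
  rw [e]
  exact h3

/-- Main step for `T C_S(T)` strongly closed: automorphisms of the system on a fully automized receptive subgroup `R`
preserve `T C_S(T)`, if all maps on larger subgroups do. -/
theorem autGroup_le_stabSystem [Finite S] {p : ℕ} [Fact p.Prime] (hS : IsPGroup p S) (F : FusionSystem S)
    {T : Subgroup Ω} (hT : F.StronglyClosed T)
    (hU : ∀ g ∈ S, ∀ x : Ω, g * x * g⁻¹ ∈ T ⊔ centralizerIn S T ↔ x ∈ T ⊔ centralizerIn S T)
    {R : Subgroup Ω} (hRa : F.IsFullyAutomized p R) (hRr : F.IsReceptive R)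
    (ih : ∀ (N : Subgroup Ω) (ψ : N →* Ω), R < N → ψ ∈ F.Hom N →
      ψ ∈ (stabSystem F (T ⊔ centralizerIn S T) hU).Hom N) :
    F.autGroup R ≤ (stabSystem F (T ⊔ centralizerIn S T) hU).autGroup R := by
  have hRS := hRa.1
  by_cases hTR : T ≤ R
  · intro α hα
    rw [mem_autGroup_iff _ hRS]
    refine ⟨(mem_autGroup_iff F hRS α).mp hα,
      fun x => ⟨fun h => ?_, fun h => aut_mem_sup_centralizerIn F hT hRS hTR hα x h⟩⟩
    have := aut_mem_sup_centralizerIn F hT hRS hTR ((F.autGroup R).inv_mem hα) (α x) h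
    simpa using this
  · have hTn : ∀ g ∈ S, ∀ x ∈ T, g * x * g⁻¹ ∈ T := fun g hg x hx => conj_mem_of_stronglyClosed F hT hg hx
    obtain ⟨t, htT, htN, htR⟩ := exists_mem_normalizer_not_mem hS hRS hT.1
      (hRS.trans (le_normalizer_of_stronglyClosed F hT)) hTR
    obtain ⟨Sy, hSy⟩ := hRa.2
    have : Finite (MulAut R) := finite_mulAut_of_le hRS
    have hKn : (modStab F hT hRS).Normal := modStab_normal F hT hRS
    have hct : conjAut R t htN ∈ F.autGroup R :=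
      (mem_autGroup_iff F hRS _).mpr (isIso_conjAut F hRS (hT.1 htT) htN)
    have hctSy : (⟨conjAut R t htN, hct⟩ : F.autGroup R) ∈ (Sy : Subgroup (F.autGroup R)) := by
      rw [hSy, Subgroup.mem_subgroupOf, mem_autInducedBy_iff]
      exact ⟨t, hT.1 htT, fun x => rfl⟩
    have hctK : (⟨conjAut R t htN, hct⟩ : F.autGroup R) ∈ modStab F hT hRS := by
      rw [mem_modStab_iff]
      intro x
      show (x : Ω)⁻¹ * (t * x * t⁻¹) ∈ T
      have h1 : (x : Ω)⁻¹ * t * ((x : Ω)⁻¹)⁻¹ ∈ T := hTn _ (S.inv_mem (hRS x.2)) t htT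
      have : (x : Ω)⁻¹ * (t * x * t⁻¹) = ((x : Ω)⁻¹ * t * ((x : Ω)⁻¹)⁻¹) * t⁻¹ := by group
      rw [this]
      exact T.mul_mem h1 (T.inv_mem htT)
    intro α hα
    obtain ⟨g, hg, n, hn, hgn⟩ := exists_mul_of_normal Sy (modStab F hT hRS) ⟨α, hα⟩
    have hα_eq : α = (g : MulAut R) * (n : MulAut R) := by
      have := congrArg Subtype.val hgn
      simpa using this
    rw [hα_eq]
    apply Subgroup.mul_mem
    · rw [mem_autGroup_iff _ hRS]
      apply isIso_of_extender_gt F _ hRr (g : MulAut R) ((mem_autGroup_iff F hRS _).mp g.2) ih t _ htR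
      rw [mem_extender_iff]
      refine ⟨hT.1 htT, htN, ?_⟩
      have h1 : g * ⟨conjAut R t htN, hct⟩ * g⁻¹ ∈ (Sy : Subgroup (F.autGroup R)) ⊓ modStab F hT hRS :=
        (Subgroup.mem_normalizer_iff.mp hg _).mp ⟨hctSy, hctK⟩
      have h2 : g * ⟨conjAut R t htN, hct⟩ * g⁻¹ ∈ (Sy : Subgroup (F.autGroup R)) := h1.1
      rw [hSy, Subgroup.mem_subgroupOf, mem_autInducedBy_iff] at h2
      obtain ⟨h, hhS, hh⟩ := h2
      refine ⟨h, hhS, fun x hx => ?_⟩
      have := hh ((g : MulAut R) x)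
      simp only [Subgroup.coe_mul, Subgroup.coe_inv, MulAut.mul_apply, MulAut.inv_apply_self] at this
      exact this
    · rw [mem_autGroup_iff _ hRS]
      refine ⟨(mem_autGroup_iff F hRS _).mp n.2, fun x => ?_⟩
      have h1 := (mem_modStab_iff F hT hRS n).mp hn x
      have h2 : (((n : MulAut R) x : R) : Ω) = x * ((x : Ω)⁻¹ * ((n : MulAut R) x : R)) := by group
      show (((n : MulAut R) x : R) : Ω) ∈ _ ↔ _
      rw [h2]
      exact Subgroup.mul_mem_cancel_right _ (Subgroup.mem_sup_left h1)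

/-- `T C_S(T)` is strongly closed when `T` is, in a saturated fusion system. -/
theorem stronglyClosed_sup_centralizerIn [Finite S] {p : ℕ} [Fact p.Prime] (hS : IsPGroup p S) (F : FusionSystem S)
    (hF : F.IsSaturated p) {T : Subgroup Ω} (hT : F.StronglyClosed T) :
    F.StronglyClosed (T ⊔ centralizerIn S T) := by
  have hTn : ∀ g ∈ S, ∀ x ∈ T, g * x * g⁻¹ ∈ T := fun g hg x hx => conj_mem_of_stronglyClosed F hT hg hx
  have hU : ∀ g ∈ S, ∀ x : Ω, g * x * g⁻¹ ∈ T ⊔ centralizerIn S T ↔ x ∈ T ⊔ centralizerIn S T :=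
    fun g hg x => conj_mem_sup_centralizerIn_iff hT.1 hTn hg x
  have key := hom_subset_of_autGroup_le hS F (stabSystem F _ hU) hF (fun R hRa hRr ih =>
    autGroup_le_stabSystem hS F hT hU hRa hRr (fun N ψ hlt hψ => by
      have hNS : N ≤ S := (F.le_of_mem hψ).1
      have : Finite N := finite_of_le hNS
      exact ih N ψ (card_lt_card_of_lt hlt) hψ))
  refine ⟨sup_le hT.1 inf_le_left, fun R hR φ hφ x => ?_⟩
  exact ((key R hφ).2 x).mpr (hR x.2)

end Cfsg.Agent.Helper87
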