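import Cfsg.Agent.Helper87.FusionRS
import Cfsg.Agent.Lib.Cores
import Cfsg.Agent.S5096
import Cfsg.Agent.S5080
set_option autoImplicit false

namespace Cfsg.Agent.Helper87

open Cfsg Cfsg.FusionSystem

variable {Ω : Type*} [Group Ω]

/-- Transport of a fusion system along an equality of the underlying subgroups. -/
def castSystem {S S' : Subgroup Ω} (h : S' = S) (E : FusionSystem S') : FusionSystem S := h ▸ E

theorem castSystem_hom {S S' : Subgroup Ω} (h : S' = S) (E : FusionSystem S') (P : Subgroup Ω) :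
    (castSystem h E).Hom P = E.Hom P := by
  subst h
  rfl

variable {S : Subgroup Ω}

/-- If `C_S(P) ≤ P` and conjugation by `d ∈ S` induces an inner automorphism of `P`, then `d ∈ P`. -/
theorem mem_of_conj_eq_inner {P : Subgroup Ω} (hcen : centralizerIn S P ≤ P) {d : Ω} (hdS : d ∈ S)
    (hPS : P ≤ S) (r : P) (h : ∀ x : P, (r : Ω) * x * (r : Ω)⁻¹ = d * x * d⁻¹) : d ∈ P := by
  have hcent : (r : Ω)⁻¹ * d ∈ centralizerIn S P := by
    refine ⟨S.mul_mem (S.inv_mem (hPS r.2)) hdS, ?_⟩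
    show _ ∈ Subgroup.centralizer (P : Set Ω)
    rw [Subgroup.mem_centralizer_iff]
    intro y hy
    have h3 := h ⟨y, hy⟩
    calc y * ((r : Ω)⁻¹ * d) = (r : Ω)⁻¹ * ((r : Ω) * y * (r : Ω)⁻¹) * d := by group
      _ = (r : Ω)⁻¹ * (d * y * d⁻¹) * d := by rw [h3]
      _ = (r : Ω)⁻¹ * d * y := by group
  have : d = r * ((r : Ω)⁻¹ * d) := by group
  rw [this]
  exact P.mul_mem r.2 (hcen hcent)

/-- A subgroup normal in the system is invariant under the automorphisms of the system of every subgroup containing it. -/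
theorem map_aut_eq_of_isNormal (F : FusionSystem S) {Q P : Subgroup Ω} (hQ : F.IsNormal Q) (hQP : Q ≤ P)
    (α : MulAut P) (hα : IsIso F (α : P ≃* P)) :
    (Q.subgroupOf P).map (α : P ≃* P).toMonoidHom = Q.subgroupOf P := by
  obtain ⟨ψ, hψ, hψx, hψQ⟩ := hQ.2 P _ hα
  rw [Helper85.map_subgroupOf_eq_iff] at hψQ
  ext y
  constructor
  · rintro ⟨x, hx, rfl⟩
    rw [Subgroup.mem_subgroupOf]
    have := hψQ.1 (Subgroup.inclusion le_sup_left x) hx
    rw [hψx] at this
    exact this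
  · intro hy
    obtain ⟨z, hzQ, hz⟩ := hψQ.2 y hy
    refine ⟨⟨z, hQP hzQ⟩, hzQ, Subtype.ext ?_⟩
    have e1 : Subgroup.inclusion (le_sup_left : P ≤ P ⊔ Q) ⟨z, hQP hzQ⟩ = z := Subtype.ext rfl
    have := hψx ⟨z, hQP hzQ⟩
    rw [e1, hz] at this
    exact this.symm

/-- A subgroup normal in the system is strongly closed. -/
theorem stronglyClosed_of_isNormal (F : FusionSystem S) {Q : Subgroup Ω} (hQ : F.IsNormal Q) :
    F.StronglyClosed Q := by
  refine ⟨hQ.1, fun R hRQ φ hφ x => ?_⟩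
  obtain ⟨ψ, hψ, hψx, hψQ⟩ := hQ.2 R φ hφ
  rw [Helper85.map_subgroupOf_eq_iff] at hψQ
  rw [← hψx]
  exact hψQ.1 _ (hRQ x.2)

/-- The elements of `S` normalize a subgroup normal in the system. -/
theorem le_normalizer_of_isNormal (F : FusionSystem S) {Q : Subgroup Ω} (hQ : F.IsNormal Q) :
    S ≤ Subgroup.normalizer (Q : Set Ω) := by
  have hsc := stronglyClosed_of_isNormal F hQ
  have key : ∀ s ∈ S, ∀ y ∈ Q, s * y * s⁻¹ ∈ Q := by
    intro s hs y hy
    exact hsc.2 Q le_rfl _ (F.conj_mem hsc.1 hs) ⟨y, hy⟩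
  intro s hs
  apply mem_normalizer_of_conj_mem_of_inv_conj_mem (key s hs)
  intro y hy
  have := key s⁻¹ (S.inv_mem hs) y hy
  rwa [inv_inv] at this

/-- A subgroup normal in the system is contained in every centric radical subgroup. -/
theorem le_of_isNormal_of_centric_radical [Finite S] {p : ℕ} [Fact p.Prime] (hS : IsPGroup p S)
    (F : FusionSystem S) {Q P : Subgroup Ω} (hQ : F.IsNormal Q) (hPc : F.IsCentric P) (hPr : F.IsRadical p P) :
    Q ≤ P := by
  by_contra hnot
  have hPS : P ≤ S := hPc.1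
  have hQS : Q ≤ S := hQ.1
  have hPQS : P ⊔ Q ≤ S := sup_le hPS hQS
  have hlt : P < P ⊔ Q := lt_of_le_of_ne le_sup_left (fun h => hnot (h ▸ le_sup_right))
  have hfin : Finite ↥(P ⊔ Q) := finite_of_le hPQS
  have hp' : IsPGroup p ↥(P ⊔ Q) := hS.to_le hPQS
  obtain ⟨d, hdN, hdP⟩ := SetLike.exists_of_lt (lt_normalizerIn hp' hlt)
  -- the group of automorphisms of `P` induced by `P ⊔ Q`
  set K := autInducedBy (P ⊔ Q) P with hK
  have hKp : IsPGroup p K := isPGroup_autInducedBy hp' P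
  have hKA : K ≤ F.autGroup P := by
    intro β hβ
    obtain ⟨g, hg, hgx⟩ := (mem_autInducedBy_iff _ P β).mp hβ
    rw [mem_autGroup_iff F hPS, eq_conjAut_of_conj_eq β g hgx]
    exact isIso_conjAut F hPS (hPQS hg) _
  have hKn : (K.subgroupOf (F.autGroup P)).Normal := by
    constructor
    intro β hβ α
    rw [Subgroup.mem_subgroupOf] at hβ ⊢
    obtain ⟨g, hg, hgx⟩ := (mem_autInducedBy_iff _ P _).mp hβ
    have hαiso := (mem_autGroup_iff F hPS _).mp α.2
    obtain ⟨ψ, hψ, hψx, hψQ⟩ := hQ.2 P _ hαiso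
    rw [Helper85.map_subgroupOf_eq_iff] at hψQ
    -- `ψ` maps `P ⊔ Q` into itself
    have hψmem : ∀ x : ↥(P ⊔ Q), ψ x ∈ P ⊔ Q := by
      refine Helper85.forall_mem_of_sup ((P ⊔ Q).comap ψ) (fun x => ?_) (fun x => ?_)
      · show ψ _ ∈ P ⊔ Q
        rw [hψx]
        exact (le_sup_left : P ≤ P ⊔ Q) ((α : MulAut P) x).2
      · show ψ _ ∈ P ⊔ Q
        exact (le_sup_right : Q ≤ P ⊔ Q) (hψQ.1 _ x.2)
    rw [mem_autInducedBy_iff]
    refine ⟨ψ ⟨g, hg⟩, hψmem _, fun y => ?_⟩
    show ((((α : MulAut P) * (β : MulAut P) * (α : MulAut P)⁻¹) y : P) : Ω) = _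
    rw [MulAut.mul_apply, MulAut.mul_apply]
    set x := (α : MulAut P)⁻¹ y with hx
    have hy : y = (α : MulAut P) x := by rw [hx, MulAut.apply_inv_self]
    have h1 : Subgroup.inclusion (le_sup_left : P ≤ P ⊔ Q) ((β : MulAut P) x) =
        ⟨g, hg⟩ * Subgroup.inclusion le_sup_left x * ⟨g, hg⟩⁻¹ := Subtype.ext (hgx x)
    have hψx' : ∀ z : P, ψ (Subgroup.inclusion le_sup_left z) = (((α : MulAut P) z : P) : Ω) := hψx
    rw [hy, ← hψx', h1, map_mul, map_mul, map_inv, hψx']
  have hKle : K ≤ Inn P := by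
    rw [← hPr.2]
    intro β hβ
    have h1 : (⟨β, hKA hβ⟩ : F.autGroup P) ∈ pCore p (F.autGroup P) :=
      Cfsg.Agent.Lib.le_pCore hKn (hKp.comap_subtype) (Subgroup.mem_subgroupOf.mpr hβ)
    exact ⟨⟨β, hKA hβ⟩, h1, rfl⟩
  -- conjugation by `d` is inner, hence `d ∈ P`
  have hdK : conjAut P d hdN.2 ∈ K := (mem_autInducedBy_iff _ P _).mpr ⟨d, hdN.1, fun x => rfl⟩
  obtain ⟨r, hr⟩ := hKle hdK
  apply hdP
  refine mem_of_conj_eq_inner (hPc.2 P (isConj_refl F hPS)) (hPQS hdN.1) hPS r (fun x => ?_)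
  have := congrArg (fun β : MulAut P => ((β x : P) : Ω)) hr
  exact this

/-- Normality criterion (one direction): a subgroup contained in `S` and in every essential subgroup, and invariant under their
automorphisms in the system, is normal in the system. -/
theorem isNormal_of_forall_essential [Finite S] {p : ℕ} [Fact p.Prime] (hS : IsPGroup p S) (F : FusionSystem S)
    (hF : F.IsSaturated p) {Q : Subgroup Ω}
    (h : ∀ P : Subgroup Ω, (P = S ∨ F.IsEssential p P) →
      (Q ≤ P ∧ ∀ α ∈ F.autGroup P, (Q.subgroupOf P).map α.toMonoidHom = Q.subgroupOf P)) :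
    F.IsNormal Q := by
  have hQS : Q ≤ S := (h S (Or.inl rfl)).1
  -- `S` normalizes `Q`
  have hSN : S ≤ Subgroup.normalizer (Q : Set Ω) := by
    have key : ∀ s ∈ S, ∀ y ∈ Q, s * y * s⁻¹ ∈ Q := by
      intro s hs y hy
      have hsN : s ∈ Subgroup.normalizer (S : Set Ω) := Subgroup.le_normalizer hs
      have hα : conjAut S s hsN ∈ F.autGroup S :=
        (mem_autGroup_iff F le_rfl _).mpr (isIso_conjAut F le_rfl hs hsN)
      have h1 := (h S (Or.inl rfl)).2 _ hα
      have h2 : (conjAut S s hsN) ⟨y, hQS hy⟩ ∈ (Q.subgroupOf S).map (conjAut S s hsN).toMonoidHom :=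
        ⟨⟨y, hQS hy⟩, hy, rfl⟩
      rw [h1] at h2
      exact h2
    intro s hs
    apply mem_normalizer_of_conj_mem_of_inv_conj_mem (key s hs)
    intro y hy
    have := key s⁻¹ (S.inv_mem hs) y hy
    rwa [inv_inv] at this
  have hN : normalizerIn S Q = S := inf_eq_left.mpr hSN
  set E := castSystem hN (Cfsg.Agent.S5096.normalizerSystem F Q hQS) with hE_def
  have hEhom : ∀ P, E.Hom P = F.normalizerHom Q P := fun P => castSystem_hom hN _ P
  have hE : ∀ P : Subgroup Ω, (P = S ∨ F.IsEssential p P) → F.autGroup P ≤ E.autGroup P := by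
    intro P hP α hα
    obtain ⟨hQP, hinv⟩ := h P hP
    have hPS : P ≤ S := by
      rcases hP with rfl | hess
      · exact le_rfl
      · exact hess.1.1
    have hαiso := (mem_autGroup_iff F hPS α).mp hα
    rw [mem_autGroup_iff E hPS]
    unfold IsIso
    rw [hEhom]
    have hle : P ⊔ Q ≤ P := sup_le le_rfl hQP
    refine ⟨hαiso, by rw [hN]; exact hPS, fun x => by rw [hN]; exact hPS (α x).2, _, restrict_mem F hαiso hle,
      fun x => rfl, ?_⟩
    rw [Helper85.map_subgroupOf_eq_iff]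
    have hinvα := hinv α hα
    refine ⟨fun x hx => ?_, fun y hy => ?_⟩
    · have h2 : α (Subgroup.inclusion hle x) ∈ (Q.subgroupOf P).map α.toMonoidHom := ⟨_, hx, rfl⟩
      rw [hinvα] at h2
      exact h2
    · have h2 : (⟨y, hQP hy⟩ : P) ∈ (Q.subgroupOf P).map α.toMonoidHom := by rw [hinvα]; exact hy
      obtain ⟨x', hx', hx'y⟩ := h2
      refine ⟨Subgroup.inclusion le_sup_left x', hx', ?_⟩
      exact congrArg Subtype.val hx'y
  have hsub := alperin hS F E hF hE
  refine ⟨hQS, fun P φ hφ => ?_⟩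
  have := hsub P hφ
  rw [hEhom] at this
  obtain ⟨-, -, -, ψ, hψ, hψx, hψQ⟩ := this
  exact ⟨ψ, hψ, hψx, hψQ⟩

/-- Normality criterion in terms of `S` and the essential subgroups. -/
theorem isNormal_iff_forall_essential [Finite S] {p : ℕ} [Fact p.Prime] (hS : IsPGroup p S) (F : FusionSystem S)
    (hF : F.IsSaturated p) (Q : Subgroup Ω) :
    F.IsNormal Q ↔ ∀ P : Subgroup Ω, (P = S ∨ F.IsEssential p P) →
      (Q ≤ P ∧ ∀ α ∈ F.autGroup P, (Q.subgroupOf P).map α.toMonoidHom = Q.subgroupOf P) := by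
  constructor
  · intro hQ P hP
    have hPS : P ≤ S := by
      rcases hP with rfl | hess
      · exact le_rfl
      · exact hess.1.1
    have hQP : Q ≤ P := by
      rcases hP with rfl | hess
      · exact hQ.1
      · exact le_of_isNormal_of_centric_radical hS F hQ hess.1 (Cfsg.Agent.S5080.result p hS F hF P hess)
    exact ⟨hQP, fun α hα => map_aut_eq_of_isNormal F hQ hQP α ((mem_autGroup_iff F hPS α).mp hα)⟩
  · exact isNormal_of_forall_essential hS F hF

/-- Normality criterion: strongly closed and contained in every centric radical subgroup. -/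
theorem isNormal_iff_stronglyClosed_centric_radical [Finite S] {p : ℕ} [Fact p.Prime] (hS : IsPGroup p S)
    (F : FusionSystem S) (hF : F.IsSaturated p) (Q : Subgroup Ω) :
    F.IsNormal Q ↔ (F.StronglyClosed Q ∧ ∀ P : Subgroup Ω, F.IsCentric P → F.IsRadical p P → Q ≤ P) := by
  constructor
  · intro hQ
    exact ⟨stronglyClosed_of_isNormal F hQ, fun P hPc hPr => le_of_isNormal_of_centric_radical hS F hQ hPc hPr⟩
  · rintro ⟨hsc, hcr⟩
    apply isNormal_of_forall_essential hS F hF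
    intro P hP
    have hPS : P ≤ S := by
      rcases hP with rfl | hess
      · exact le_rfl
      · exact hess.1.1
    have hQP : Q ≤ P := by
      rcases hP with rfl | hess
      · exact hsc.1
      · exact hcr P hess.1 (Cfsg.Agent.S5080.result p hS F hF P hess)
    refine ⟨hQP, fun α hα => ?_⟩
    have hαiso := (mem_autGroup_iff F hPS α).mp hα
    have hfwd : ∀ (β : MulAut P), IsIso F (β : P ≃* P) → ∀ x : P, (x : Ω) ∈ Q → ((β x : P) : Ω) ∈ Q := by
      intro β hβ x hx
      have := hsc.2 Q le_rfl _ (restrict_mem F hβ hQP) ⟨x, hx⟩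
      exact this
    ext y
    constructor
    · rintro ⟨x, hx, rfl⟩
      exact hfwd α hαiso x hx
    · intro hy
      refine ⟨α.symm y, hfwd α⁻¹ hαiso.symm y hy, ?_⟩
      simp

end Cfsg.Agent.Helper87
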