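import Cfsg.Agent.Helper87.FusionAlperin
set_option autoImplicit false

namespace Cfsg.Agent.Helper87

open Cfsg Cfsg.FusionSystem

/-- Transport of a Sylow subgroup along an isomorphism of ambient groups. -/
theorem exists_sylow_of_map {G G' : Type*} [Group G] [Group G'] {p : ℕ} (Φ : G ≃* G') (A B : Subgroup G)
    (A' B' : Subgroup G') (hA : A.map (Φ : G →* G') = A') (hB : B.map (Φ : G →* G') = B')
    (T' : Sylow p A') (hT' : (T' : Subgroup A') = B'.subgroupOf A') :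
    ∃ T : Sylow p A, (T : Subgroup A) = B.subgroupOf A := by
  subst hA hB
  let ψ : A ≃* A.map (Φ : G →* G') := Φ.subgroupMap A
  have hrange : (T' : Subgroup _) ≤ ψ.toMonoidHom.range := by
    intro x _
    exact ⟨ψ.symm x, by simp⟩
  refine ⟨T'.comapOfInjective ψ.toMonoidHom ψ.injective hrange, ?_⟩
  have hco : ((T'.comapOfInjective ψ.toMonoidHom ψ.injective hrange : Sylow p A) : Subgroup A) =
      (T' : Subgroup _).comap ψ.toMonoidHom := rfl
  rw [hco, hT']
  ext a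
  rw [Subgroup.mem_comap, Subgroup.mem_subgroupOf, Subgroup.mem_subgroupOf]
  show Φ (a : G) ∈ B.map (Φ : G →* G') ↔ (a : G) ∈ B
  constructor
  · rintro ⟨b, hb, hba⟩
    have : b = a := Φ.injective hba
    rwa [← this]
  · intro ha
    exact ⟨a, ha, rfl⟩

theorem exists_max_nat (s : Set ℕ) (hne : s.Nonempty) (b : ℕ) (hb : ∀ n ∈ s, n ≤ b) :
    ∃ m ∈ s, ∀ n ∈ s, n ≤ m :=
  ⟨sSup s, Nat.sSup_mem hne ⟨b, hb⟩, fun _ hn => le_csSup ⟨b, hb⟩ hn⟩

variable {Ω : Type*} [Group Ω] {S : Subgroup Ω}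

theorem isConj_refl (F : FusionSystem S) {P : Subgroup Ω} (hP : P ≤ S) : F.IsConj P P :=
  (isConj_iff F P P).mpr ⟨MulEquiv.refl P, isIso_refl F hP⟩

theorem isConj_symm (F : FusionSystem S) {P Q : Subgroup Ω} (h : F.IsConj P Q) : F.IsConj Q P := by
  obtain ⟨e, he⟩ := (isConj_iff F P Q).mp h
  exact (isConj_iff F Q P).mpr ⟨e.symm, he.symm⟩

theorem isConj_trans (F : FusionSystem S) {P Q R : Subgroup Ω} (h : F.IsConj P Q) (h' : F.IsConj Q R) :
    F.IsConj P R := by
  obtain ⟨e, he⟩ := (isConj_iff F P Q).mp h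
  obtain ⟨f, hf⟩ := (isConj_iff F Q R).mp h'
  exact (isConj_iff F P R).mpr ⟨e.trans f, he.trans hf⟩

/-- Every subgroup of `S` is conjugate in the system to a fully normalized subgroup. -/
theorem exists_isConj_fullyNormalized [Finite S] (F : FusionSystem S) {P : Subgroup Ω} (hP : P ≤ S) :
    ∃ Q, F.IsConj P Q ∧ F.IsFullyNormalized Q := by
  obtain ⟨m, ⟨Q, hQ, rfl⟩, hmax⟩ := exists_max_nat {n | ∃ Q, F.IsConj P Q ∧ n = Nat.card (normalizerIn S Q)}
    ⟨_, P, isConj_refl F hP, rfl⟩ (Nat.card S) (by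
      rintro n ⟨Q, -, rfl⟩
      exact Subgroup.card_le_of_le inf_le_left)
  obtain ⟨e, he⟩ := (isConj_iff F P Q).mp hQ
  exact ⟨Q, hQ, he.le_right, fun Q' hQ' => hmax _ ⟨Q', isConj_trans F hQ hQ', rfl⟩⟩

/-- The image of `Aut_F(P)` under transport along an isomorphism of the system is `Aut_F(R)`. -/
theorem map_congr_autGroup (F : FusionSystem S) {P R : Subgroup Ω} (e : P ≃* R) (he : IsIso F e) :
    (F.autGroup P).map ((MulAut.congr e : MulAut P ≃* MulAut R) : MulAut P →* MulAut R) = F.autGroup R := by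
  ext γ
  constructor
  · rintro ⟨β, hβ, rfl⟩
    rw [SetLike.mem_coe, mem_autGroup_iff F he.le_left] at hβ
    rw [mem_autGroup_iff F he.le_right]
    exact he.symm.trans (hβ.trans he)
  · intro hγ
    rw [mem_autGroup_iff F he.le_right] at hγ
    refine ⟨(MulAut.congr e).symm γ, ?_, (MulAut.congr e).apply_symm_apply γ⟩
    rw [SetLike.mem_coe, mem_autGroup_iff F he.le_left]
    exact he.trans (hγ.trans he.symm)

/-- The data produced by the extension lemma when the source is fully normalized: the extension is onto `N_S(R)`. -/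
theorem extension_surjective_of_fullyNormalized [Finite S]
    (F : FusionSystem S) {P R : Subgroup Ω} (hPn : F.IsFullyNormalized P) (e : P ≃* R) (he : IsIso F e)
    {φ : normalizerIn S P →* Ω} (hφ : φ ∈ F.Hom (normalizerIn S P)) (hvalN : ∀ x, φ x ∈ normalizerIn S R) :
    ∀ h ∈ normalizerIn S R, ∃ g : normalizerIn S P, φ g = h := by
  have hcard : Nat.card (normalizerIn S R) ≤ Nat.card (normalizerIn S P) :=
    hPn.2 R ((isConj_iff F P R).mpr ⟨e, he⟩)
  have : Finite (normalizerIn S R) := finite_of_le inf_le_left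
  have hinj : Function.Injective (fun x : normalizerIn S P => (⟨φ x, hvalN x⟩ : normalizerIn S R)) := by
    intro a b hab
    exact F.injective_of_mem hφ (congrArg Subtype.val hab)
  have hbij := hinj.bijective_of_nat_card_le hcard
  intro h hh
  obtain ⟨g, hg⟩ := hbij.2 ⟨h, hh⟩
  exact ⟨g, congrArg Subtype.val hg⟩

/-- In a saturated fusion system, a fully normalized subgroup is fully automized and fully centralized. -/
theorem fullyAutomized_fullyCentralized_of_fullyNormalized [Finite S] {p : ℕ} [Fact p.Prime] (hS : IsPGroup p S)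
    (F : FusionSystem S) (hF : F.IsSaturated p) {P : Subgroup Ω} (hPn : F.IsFullyNormalized P) :
    F.IsFullyCentralized P ∧ F.IsFullyAutomized p P := by
  have hPS : P ≤ S := hPn.1
  obtain ⟨R, hPR, hRa, hRr⟩ := hF P hPS
  obtain ⟨e, he⟩ := (isConj_iff F P R).mp hPR
  obtain ⟨φ, hφ, e', he', hφx, hvalN, hvalC, hrefl⟩ := exists_extension_normalizerIn' hS F hRa hRr e he
  have hsurj := extension_surjective_of_fullyNormalized F hPn e he hφ hvalN
  have hPN : P ≤ normalizerIn S P := le_normalizerIn hPS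
  have hincl : ∀ x : P, φ (Subgroup.inclusion hPN x) = e' x := fun x => hφx x
  -- the key conjugation formula
  have hconj : ∀ (g : normalizerIn S P) (y : R),
      ((e' ((conjAut P g g.2.2) (e'.symm y)) : R) : Ω) = φ g * y * (φ g)⁻¹ := by
    intro g y
    have h1 : Subgroup.inclusion hPN ((conjAut P g g.2.2) (e'.symm y)) =
        g * Subgroup.inclusion hPN (e'.symm y) * g⁻¹ := Subtype.ext rfl
    rw [← hincl, h1, map_mul, map_mul, map_inv, hincl]
    simp
  constructor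
  · -- fully centralized
    refine ⟨hPS, fun Q hQ => ?_⟩
    have hRc := isFullyCentralized_of_fullyAutomized_of_receptive hS F hRa hRr
    have h1 : Nat.card (centralizerIn S Q) ≤ Nat.card (centralizerIn S R) :=
      hRc.2 Q (isConj_trans F (isConj_symm F hPR) hQ)
    refine h1.trans ?_
    have : Finite (centralizerIn S P) := finite_of_le inf_le_left
    refine Nat.card_le_card_of_surjective
      (fun x : centralizerIn S P => (⟨φ ⟨x, centralizerIn_le_normalizerIn S P x.2⟩, hvalC _ x.2⟩ : centralizerIn S R)) ?_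
    rintro ⟨d, hd⟩
    obtain ⟨g, hg⟩ := hsurj d (centralizerIn_le_normalizerIn S R hd)
    have hgC : (g : Ω) ∈ centralizerIn S P := by
      refine ⟨g.2.1, ?_⟩
      show (g : Ω) ∈ Subgroup.centralizer (P : Set Ω)
      rw [Subgroup.mem_centralizer_iff]
      intro x hx
      have h2 := hconj g (e' ⟨x, hx⟩)
      rw [MulEquiv.symm_apply_apply, hg] at h2
      have h3 : d * ((e' ⟨x, hx⟩ : R) : Ω) * d⁻¹ = e' ⟨x, hx⟩ := by
        have := Subgroup.mem_centralizer_iff.mp hd.2 _ (e' ⟨x, hx⟩).2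
        rw [← this]; group
      rw [h3] at h2
      have h4 := e'.injective (Subtype.ext h2)
      have h5 : (g : Ω) * x * (g : Ω)⁻¹ = x := congrArg Subtype.val h4
      calc x * (g : Ω) = ((g : Ω) * x * (g : Ω)⁻¹) * g := by rw [h5]
        _ = g * x := by group
    refine ⟨⟨g, hgC⟩, Subtype.ext ?_⟩
    exact hg
  · -- fully automized
    obtain ⟨hRS, T', hT'⟩ := hRa
    refine ⟨hPS, ?_⟩
    refine exists_sylow_of_map (MulAut.congr e') (F.autGroup P) (autInducedBy S P) (F.autGroup R) (autInducedBy S R)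
      (map_congr_autGroup F e' he') ?_ T' hT'
    ext γ
    constructor
    · rintro ⟨β, hβ, rfl⟩
      obtain ⟨g, hgS, hgx⟩ := (mem_autInducedBy_iff S P β).mp hβ
      have hgN : g ∈ normalizerIn S P := ⟨hgS, mem_normalizer_of_conj_eq β g hgx⟩
      rw [mem_autInducedBy_iff]
      refine ⟨φ ⟨g, hgN⟩, (F.le_of_mem hφ).2 _, fun y => ?_⟩
      rw [← hconj ⟨g, hgN⟩ y]
      have : β = conjAut P g hgN.2 := eq_conjAut_of_conj_eq β g hgx
      rw [this]
      rfl
    · intro hγ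
      obtain ⟨h, hhS, hhx⟩ := (mem_autInducedBy_iff S R γ).mp hγ
      have hhN : h ∈ normalizerIn S R := ⟨hhS, mem_normalizer_of_conj_eq γ h hhx⟩
      obtain ⟨g, hg⟩ := hsurj h hhN
      refine ⟨conjAut P g g.2.2, (mem_autInducedBy_iff S P _).mpr ⟨g, g.2.1, fun x => rfl⟩, ?_⟩
      ext y
      rw [hhx y, ← hg, ← hconj g y]
      rfl

/-- The source of a map of the system is contained in its extender. -/
theorem le_extender_of_mem (F : FusionSystem S) {Q : Subgroup Ω} {ψ : Q →* Ω} (hψ : ψ ∈ F.Hom Q) :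
    Q ≤ extender S Q ψ := by
  intro q hq
  rw [mem_extender_iff]
  refine ⟨(F.le_of_mem hψ).1 hq, Subgroup.le_normalizer hq, ψ ⟨q, hq⟩, (F.le_of_mem hψ).2 _, fun x hx => ?_⟩
  have e1 : (⟨q * (x : Ω) * q⁻¹, hx⟩ : Q) = ⟨q, hq⟩ * x * ⟨q, hq⟩⁻¹ := Subtype.ext rfl
  rw [e1]
  simp

/-- In a saturated fusion system, a fully centralized subgroup is receptive. -/
theorem receptive_of_fullyCentralized [Finite S] {p : ℕ} [Fact p.Prime] (hS : IsPGroup p S)
    (F : FusionSystem S) (hF : F.IsSaturated p) {P : Subgroup Ω} (hPc : F.IsFullyCentralized P) :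
    F.IsReceptive P := by
  have hPS : P ≤ S := hPc.1
  obtain ⟨R, hPR, hRa, hRr⟩ := hF P hPS
  obtain ⟨e, he⟩ := (isConj_iff F P R).mp hPR
  obtain ⟨φ, hφ, e', he', hφx, hvalN, hvalC, hrefl⟩ := exists_extension_normalizerIn' hS F hRa hRr e he
  have hPN : P ≤ normalizerIn S P := le_normalizerIn hPS
  have hincl : ∀ x : P, φ (Subgroup.inclusion hPN x) = e' x := fun x => hφx x
  -- `φ` maps `C_S(P)` onto `C_S(R)`
  have hCsurj : ∀ d ∈ centralizerIn S R, ∃ c : normalizerIn S P, (c : Ω) ∈ centralizerIn S P ∧ φ c = d := by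
    have hcard : Nat.card (centralizerIn S R) ≤ Nat.card (centralizerIn S P) := hPc.2 R hPR
    have : Finite (centralizerIn S R) := finite_of_le inf_le_left
    have hinj : Function.Injective (fun x : centralizerIn S P =>
        (⟨φ ⟨x, centralizerIn_le_normalizerIn S P x.2⟩, hvalC _ x.2⟩ : centralizerIn S R)) := by
      intro a b hab
      have := F.injective_of_mem hφ (congrArg Subtype.val hab)
      exact Subtype.ext (congrArg (fun z : normalizerIn S P => (z : Ω)) this)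
    have hbij := hinj.bijective_of_nat_card_le hcard
    intro d hd
    obtain ⟨c, hc⟩ := hbij.2 ⟨d, hd⟩
    exact ⟨⟨c, centralizerIn_le_normalizerIn S P c.2⟩, c.2, congrArg Subtype.val hc⟩
  refine ⟨hPS, fun Q ψ hψ hrange => ?_⟩
  have hf := isIso_isoOfRange F hψ hrange
  set f := isoOfRange F hψ hrange with hf_def
  have hfx : ∀ x : Q, ((f x : P) : Ω) = ψ x := fun x => rfl
  have hQS : Q ≤ S := hf.le_left
  have hψ' : IsIso F (f.trans e') := hf.trans he'
  have hrange' := range_subtype_comp_equiv (f.trans e')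
  -- Step 1: the extender of `ψ` lies in the extender of `ψ'`, with an explicit witness
  have hstep1 : ∀ g ∈ extender S Q ψ, ∃ h : normalizerIn S P,
      ∀ (x : Q) (hx : g * (x : Ω) * g⁻¹ ∈ Q), ψ ⟨g * x * g⁻¹, hx⟩ = h * ψ x * (h : Ω)⁻¹ := by
    intro g hg
    obtain ⟨hgS, hgN, h, hhS, hhx⟩ := (mem_extender_iff S Q ψ g).mp hg
    refine ⟨⟨h, hhS, ?_⟩, hhx⟩
    apply mem_normalizer_of_conj_mem_of_inv_conj_mem
    · intro y hy
      have hgx : g * ((f.symm ⟨y, hy⟩ : Q) : Ω) * g⁻¹ ∈ Q := (Subgroup.mem_normalizer_iff.mp hgN _).mp (f.symm ⟨y, hy⟩).2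
      have := hhx (f.symm ⟨y, hy⟩) hgx
      rw [← hfx, ← hfx, MulEquiv.apply_symm_apply] at this
      rw [← this]
      exact (f _).2
    · intro y hy
      have hgN' : g⁻¹ ∈ Subgroup.normalizer (Q : Set Ω) := Subgroup.inv_mem _ hgN
      have hgx : g⁻¹ * ((f.symm ⟨y, hy⟩ : Q) : Ω) * g⁻¹⁻¹ ∈ Q :=
        (Subgroup.mem_normalizer_iff.mp hgN' _).mp (f.symm ⟨y, hy⟩).2
      have hgx' : g * ((⟨_, hgx⟩ : Q) : Ω) * g⁻¹ ∈ Q := by
        have : g * (g⁻¹ * ((f.symm ⟨y, hy⟩ : Q) : Ω) * g⁻¹⁻¹) * g⁻¹ = (f.symm ⟨y, hy⟩ : Q) := by group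
        show g * (g⁻¹ * ((f.symm ⟨y, hy⟩ : Q) : Ω) * g⁻¹⁻¹) * g⁻¹ ∈ Q
        rw [this]; exact (f.symm ⟨y, hy⟩).2
      have := hhx ⟨_, hgx⟩ hgx'
      have e1 : (⟨g * ((⟨_, hgx⟩ : Q) : Ω) * g⁻¹, hgx'⟩ : Q) = f.symm ⟨y, hy⟩ := by
        apply Subtype.ext
        show g * (g⁻¹ * ((f.symm ⟨y, hy⟩ : Q) : Ω) * g⁻¹⁻¹) * g⁻¹ = _
        group
      rw [e1, ← hfx, MulEquiv.apply_symm_apply] at this
      have h2 : h⁻¹ * y * h = ψ ⟨_, hgx⟩ := by
        have h3 : y = h * ψ ⟨_, hgx⟩ * h⁻¹ := this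
        calc h⁻¹ * y * h = h⁻¹ * (h * ψ ⟨_, hgx⟩ * h⁻¹) * h := by rw [← h3]
          _ = _ := by group
      rw [h2, ← hfx]
      exact (f _).2
  have hψ'formula : ∀ x : Q, (R.subtype.comp (f.trans e').toMonoidHom) x = φ ⟨ψ x, hPN (hfx x ▸ (f x).2)⟩ := by
    intro x
    show ((e' (f x) : R) : Ω) = _
    rw [← hincl]
    rfl
  have hle : extender S Q ψ ≤ extender S Q (R.subtype.comp (f.trans e').toMonoidHom) := by
    intro g hg
    obtain ⟨h, hh⟩ := hstep1 g hg
    obtain ⟨hgS, hgN, -⟩ := (mem_extender_iff S Q ψ g).mp hg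
    rw [mem_extender_iff]
    refine ⟨hgS, hgN, φ h, (F.le_of_mem hφ).2 h, fun x hx => ?_⟩
    rw [hψ'formula, hψ'formula, ← map_inv, ← map_mul, ← map_mul]
    congr 1
    apply Subtype.ext
    exact hh x hx
  -- Step 2: extend `ψ'`
  obtain ⟨χ', hχ', hχ'x⟩ := hRr.2 Q _ hψ' hrange'
  have hχ'' := restrict_mem F hχ' hle
  have hQext : Q ≤ extender S Q ψ := le_extender_of_mem F hψ
  have hχ''x : ∀ x : Q, (χ'.comp (Subgroup.inclusion hle)) (Subgroup.inclusion hQext x) =
      (R.subtype.comp (f.trans e').toMonoidHom) x := by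
    intro x
    exact hχ'x x x.2 (hle (hQext x.2))
  -- Step 3: the values of the extension lie in the image of `φ`
  have hstep3 : ∀ g : extender S Q ψ, (χ'.comp (Subgroup.inclusion hle)) g ∈ φ.range := by
    intro g
    obtain ⟨h, hh⟩ := hstep1 g g.2
    obtain ⟨hgS, hgN, -⟩ := (mem_extender_iff S Q ψ g).mp g.2
    set χ'' := χ'.comp (Subgroup.inclusion hle) with hχ''_def
    have hd : (φ h)⁻¹ * χ'' g ∈ centralizerIn S R := by
      refine ⟨S.mul_mem (S.inv_mem ((F.le_of_mem hφ).2 h)) ((F.le_of_mem hχ'').2 g), ?_⟩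
      show _ ∈ Subgroup.centralizer (R : Set Ω)
      rw [Subgroup.mem_centralizer_iff]
      intro y hy
      set x := (f.trans e').symm ⟨y, hy⟩ with hx_def
      have hyx : y = (R.subtype.comp (f.trans e').toMonoidHom) x := by
        show y = (((f.trans e') ((f.trans e').symm ⟨y, hy⟩) : R) : Ω)
        rw [MulEquiv.apply_symm_apply]
      have hgx : (g : Ω) * (x : Ω) * (g : Ω)⁻¹ ∈ Q := (Subgroup.mem_normalizer_iff.mp hgN _).mp x.2
      have h1 : χ'' g * y * (χ'' g)⁻¹ = χ'' (Subgroup.inclusion hQext ⟨_, hgx⟩) := by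
        rw [hyx, ← hχ''x x, ← map_inv, ← map_mul, ← map_mul]
        congr 1
      rw [hχ''x, hψ'formula] at h1
      have h2 : φ ⟨ψ ⟨_, hgx⟩, hPN (hfx ⟨_, hgx⟩ ▸ (f ⟨_, hgx⟩).2)⟩ = φ h * y * (φ h)⁻¹ := by
        rw [hyx, hψ'formula, ← map_inv, ← map_mul, ← map_mul]
        congr 1
        apply Subtype.ext
        exact hh x hgx
      rw [h2] at h1
      calc y * ((φ h)⁻¹ * χ'' g) = (φ h)⁻¹ * (φ h * y * (φ h)⁻¹) * χ'' g := by group
        _ = (φ h)⁻¹ * (χ'' g * y * (χ'' g)⁻¹) * χ'' g := by rw [h1]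
        _ = (φ h)⁻¹ * χ'' g * y := by group
    obtain ⟨c, -, hc⟩ := hCsurj _ hd
    refine ⟨h * c, ?_⟩
    rw [map_mul, hc]
    group
  -- Step 4: compose with the inverse of `φ`
  have hφiso := isIso_ofInjective F hφ
  set φiso := MonoidHom.ofInjective (F.injective_of_mem hφ) with hφiso_def
  have hχ := F.comp_mem hχ'' hφiso.symm hstep3
  refine ⟨_, hχ, fun x hxQ hxN => ?_⟩
  show (((φiso.symm ⟨(χ'.comp (Subgroup.inclusion hle)) ⟨x, hxN⟩, hstep3 ⟨x, hxN⟩⟩ : normalizerIn S P)) : Ω) = ψ ⟨x, hxQ⟩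
  have h1 := hχ''x ⟨x, hxQ⟩
  rw [hψ'formula] at h1
  have h2 : (⟨(χ'.comp (Subgroup.inclusion hle)) ⟨x, hxN⟩, hstep3 ⟨x, hxN⟩⟩ : φ.range) =
      φiso ⟨ψ ⟨x, hxQ⟩, hPN (hfx ⟨x, hxQ⟩ ▸ (f ⟨x, hxQ⟩).2)⟩ := by
    apply Subtype.ext
    exact h1
  rw [h2, MulEquiv.symm_apply_apply]

/-- The Roberts–Shpectorov characterization of saturation. -/
theorem saturated_iff [Finite S] {p : ℕ} [Fact p.Prime] (hS : IsPGroup p S) (F : FusionSystem S) :
    F.IsSaturated p ↔ ((∀ P : Subgroup Ω, F.IsFullyNormalized P → F.IsFullyCentralized P ∧ F.IsFullyAutomized p P) ∧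
      (∀ P : Subgroup Ω, F.IsFullyCentralized P → F.IsReceptive P)) := by
  constructor
  · intro hF
    exact ⟨fun P hP => fullyAutomized_fullyCentralized_of_fullyNormalized hS F hF hP,
      fun P hP => receptive_of_fullyCentralized hS F hF hP⟩
  · rintro ⟨h1, h2⟩ P hP
    obtain ⟨Q, hPQ, hQn⟩ := exists_isConj_fullyNormalized F hP
    obtain ⟨hQc, hQa⟩ := h1 Q hQn
    exact ⟨Q, hPQ, hQa, h2 Q hQc⟩

end Cfsg.Agent.Helper87
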