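import Cfsg.Agent.Helper87.FusionClosed
import Cfsg.Agent.Helper87.FusionNormal
import Cfsg.Agent.Helper87.StableAut
set_option autoImplicit false

namespace Cfsg.Agent.Helper87

open Cfsg Cfsg.FusionSystem

variable {Ω : Type*} [Group Ω] {S : Subgroup Ω}

/-- If `P` is centric and radical, and conjugation by `c ∈ N_S(P)` lies in a normal `p`-subgroup of `Aut_F(P)`,
then `c ∈ P`. -/
theorem mem_of_conjAut_mem_normal_pGroup {p : ℕ} [Fact p.Prime] (F : FusionSystem S) {P : Subgroup Ω}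
    (hPc : F.IsCentric P) (hPr : F.IsRadical p P) (K : Subgroup (F.autGroup P)) (hKn : K.Normal)
    (hKp : IsPGroup p K) {c : Ω} (hcS : c ∈ S) (hcN : c ∈ Subgroup.normalizer (P : Set Ω))
    (hβA : conjAut P c hcN ∈ F.autGroup P) (hβK : (⟨conjAut P c hcN, hβA⟩ : F.autGroup P) ∈ K) : c ∈ P := by
  have hPS : P ≤ S := hPc.1
  have hβcore : (⟨conjAut P c hcN, hβA⟩ : F.autGroup P) ∈ pCore p (F.autGroup P) :=
    Cfsg.Agent.Lib.le_pCore hKn hKp hβK
  have hβinn : conjAut P c hcN ∈ Inn P := by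
    rw [← hPr.2]
    exact ⟨_, hβcore, rfl⟩
  obtain ⟨r, hr⟩ := hβinn
  refine mem_of_conj_eq_inner (hPc.2 P (isConj_refl F hPS)) hcS hPS r (fun x => ?_)
  exact congrArg (fun β : MulAut P => ((β x : P) : Ω)) hr

/-- A subgroup `Q ⊴ S` is contained in the centric radical subgroup `P` if the conjugations by the elements of `N_Q(P)`
all lie in a normal `p`-subgroup of `Aut_F(P)`. -/
theorem le_of_centric_radical_of_normal_pGroup [Finite S] {p : ℕ} [Fact p.Prime] (hS : IsPGroup p S)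
    (F : FusionSystem S) {P Q : Subgroup Ω} (hPc : F.IsCentric P) (hPr : F.IsRadical p P) (hQS : Q ≤ S)
    (hSQ : S ≤ Subgroup.normalizer (Q : Set Ω)) (K : Subgroup (F.autGroup P)) (hKn : K.Normal)
    (hKp : IsPGroup p K)
    (hK : ∀ c ∈ Q, ∀ (hcN : c ∈ Subgroup.normalizer (P : Set Ω)) (hβA : conjAut P c hcN ∈ F.autGroup P),
      (⟨conjAut P c hcN, hβA⟩ : F.autGroup P) ∈ K) : Q ≤ P := by
  by_contra hnot
  have hPS : P ≤ S := hPc.1
  obtain ⟨c, hcQ, hcN, hcP⟩ := exists_mem_normalizer_not_mem hS hPS hQS (hPS.trans hSQ) hnot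
  have hcS : c ∈ S := hQS hcQ
  have hβA : conjAut P c hcN ∈ F.autGroup P := (mem_autGroup_iff F hPS _).mpr (isIso_conjAut F hPS hcS hcN)
  exact hcP (mem_of_conjAut_mem_normal_pGroup F hPc hPr K hKn hKp hcS hcN hβA (hK c hcQ hcN hβA))

/-- Restriction of an automorphism of the system on `P` to a strongly closed subgroup `T ≤ P`. -/
def resAutEquiv (F : FusionSystem S) {T P : Subgroup Ω} (hT : F.StronglyClosed T) (hTP : T ≤ P) (hPS : P ≤ S)
    (α : F.autGroup P) : MulAut T where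
  toFun x := ⟨(α : MulAut P) ⟨x, hTP x.2⟩, aut_mem_of_stronglyClosed F hT hPS α.2 _ x.2⟩
  invFun x := ⟨(α : MulAut P)⁻¹ ⟨x, hTP x.2⟩,
    aut_mem_of_stronglyClosed F hT hPS ((F.autGroup P).inv_mem α.2) _ x.2⟩
  left_inv x := by
    apply Subtype.ext
    simp
  right_inv x := by
    apply Subtype.ext
    simp
  map_mul' x y := by
    apply Subtype.ext
    have : (⟨((x * y : T) : Ω), hTP (x * y).2⟩ : P) = ⟨x, hTP x.2⟩ * ⟨y, hTP y.2⟩ := rfl
    simp only [this, map_mul]
    rfl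

theorem resAutEquiv_apply (F : FusionSystem S) {T P : Subgroup Ω} (hT : F.StronglyClosed T) (hTP : T ≤ P)
    (hPS : P ≤ S) (α : F.autGroup P) (x : T) :
    ((resAutEquiv F hT hTP hPS α x : T) : Ω) = (((α : MulAut P) ⟨x, hTP x.2⟩ : P) : Ω) := rfl

theorem resAutEquiv_mem (F : FusionSystem S) {T P : Subgroup Ω} (hT : F.StronglyClosed T) (hTP : T ≤ P)
    (hPS : P ≤ S) (α : F.autGroup P) : resAutEquiv F hT hTP hPS α ∈ F.autGroup T := by
  rw [mem_autGroup_iff F hT.1]
  have hα := (mem_autGroup_iff F hPS _).mp α.2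
  exact mem_of_eq F (restrict_mem F hα hTP) (fun x => rfl)

/-- Restriction to a strongly closed subgroup, as a homomorphism `Aut_F(P) →* Aut_F(T)`. -/
def resAut (F : FusionSystem S) {T P : Subgroup Ω} (hT : F.StronglyClosed T) (hTP : T ≤ P) (hPS : P ≤ S) :
    F.autGroup P →* F.autGroup T where
  toFun α := ⟨resAutEquiv F hT hTP hPS α, resAutEquiv_mem F hT hTP hPS α⟩
  map_one' := by
    apply Subtype.ext
    ext x
    rfl
  map_mul' α β := by
    apply Subtype.ext
    ext x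
    rfl

theorem resAut_apply (F : FusionSystem S) {T P : Subgroup Ω} (hT : F.StronglyClosed T) (hTP : T ≤ P)
    (hPS : P ≤ S) (α : F.autGroup P) (x : T) :
    ((((resAut F hT hTP hPS α : F.autGroup T) : MulAut T) x : T) : Ω) =
      (((α : MulAut P) ⟨x, hTP x.2⟩ : P) : Ω) := rfl

end Cfsg.Agent.Helper87
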