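import Mathlib
import Cfsg.Agent.Helper88.OmegaAut
set_option autoImplicit false

namespace Cfsg.Agent.Helper87

open scoped commutatorElement

variable {T : Type*} [Group T]

theorem comm_mul_left (hc : ∀ a b : T, ⁅a, b⁆ ∈ Subgroup.center T) (a b c : T) :
    ⁅a * b, c⁆ = ⁅a, c⁆ * ⁅b, c⁆ := by
  have h1 : ⁅a * b, c⁆ = a * ⁅b, c⁆ * a⁻¹ * ⁅a, c⁆ := by
    simp only [commutatorElement_def]
    group
  have h2 : a * ⁅b, c⁆ = ⁅b, c⁆ * a := (Subgroup.mem_center_iff.mp (hc b c) a)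
  have h3 : ⁅a, c⁆ * ⁅b, c⁆ = ⁅b, c⁆ * ⁅a, c⁆ := (Subgroup.mem_center_iff.mp (hc b c) _)
  rw [h1, h2, h3, mul_assoc ⁅b, c⁆ a a⁻¹, mul_inv_cancel, mul_one]

theorem comm_mul_right (hc : ∀ a b : T, ⁅a, b⁆ ∈ Subgroup.center T) (a b c : T) :
    ⁅a, b * c⁆ = ⁅a, b⁆ * ⁅a, c⁆ := by
  have h1 : ⁅a, b * c⁆ = ⁅a, b⁆ * (b * ⁅a, c⁆ * b⁻¹) := by
    simp only [commutatorElement_def]
    group
  have h2 : b * ⁅a, c⁆ = ⁅a, c⁆ * b := (Subgroup.mem_center_iff.mp (hc a c) b)
  rw [h1, h2, mul_assoc ⁅a, c⁆ b b⁻¹, mul_inv_cancel, mul_one]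

/-- `x ↦ ⁅x, y⁆` as a homomorphism, when commutators are central. -/
def commHomL (hc : ∀ a b : T, ⁅a, b⁆ ∈ Subgroup.center T) (y : T) : T →* T where
  toFun x := ⁅x, y⁆
  map_one' := commutatorElement_one_left y
  map_mul' a b := comm_mul_left hc a b y

/-- `y ↦ ⁅x, y⁆` as a homomorphism, when commutators are central. -/
def commHomR (hc : ∀ a b : T, ⁅a, b⁆ ∈ Subgroup.center T) (x : T) : T →* T where
  toFun y := ⁅x, y⁆
  map_one' := commutatorElement_one_right x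
  map_mul' a b := comm_mul_right hc x a b

theorem commHomL_apply (hc : ∀ a b : T, ⁅a, b⁆ ∈ Subgroup.center T) (y x : T) : commHomL hc y x = ⁅x, y⁆ := rfl

theorem commHomR_apply (hc : ∀ a b : T, ⁅a, b⁆ ∈ Subgroup.center T) (x y : T) : commHomR hc x y = ⁅x, y⁆ := rfl

theorem comm_pow_left (hc : ∀ a b : T, ⁅a, b⁆ ∈ Subgroup.center T) (a b : T) (n : ℕ) :
    ⁅a ^ n, b⁆ = ⁅a, b⁆ ^ n := map_pow (commHomL hc b) a n

theorem comm_pow_right (hc : ∀ a b : T, ⁅a, b⁆ ∈ Subgroup.center T) (a b : T) (n : ℕ) :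
    ⁅a, b ^ n⁆ = ⁅a, b⁆ ^ n := map_pow (commHomR hc a) b n

theorem ker_commHomL (hc : ∀ a b : T, ⁅a, b⁆ ∈ Subgroup.center T) (y : T) :
    (commHomL hc y).ker = Subgroup.centralizer {y} := by
  ext x
  rw [MonoidHom.mem_ker, commHomL_apply, commutatorElement_eq_one_iff_mul_comm, Subgroup.mem_centralizer_iff]
  constructor
  · intro h g hg
    rw [Set.mem_singleton_iff.mp hg]
    exact h.symm
  · intro h
    exact (h y rfl).symm

/-- The `n`-th power map is multiplicative when commutators are central and killed by `n (n - 1) / 2`. -/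
theorem mul_pow_of_comm_central (hc : ∀ a b : T, ⁅a, b⁆ ∈ Subgroup.center T) (n : ℕ)
    (hn : ∀ a b : T, ⁅a, b⁆ ^ (∑ i ∈ Finset.range n, i) = 1) (a b : T) : (a * b) ^ n = a ^ n * b ^ n := by
  have hz : ∀ g : T, Commute g ⁅b⁻¹, a⁻¹⁆ := fun g => (Subgroup.mem_center_iff.mp (hc b⁻¹ a⁻¹) g)
  have hba : b * a = a * b * ⁅b⁻¹, a⁻¹⁆ := by
    rw [commutatorElement_def]
    group
  rw [Cfsg.Agent.Helper88.mul_pow_of_central hba hz n, hn, mul_one]

/-- The `n`-th power map as a homomorphism. -/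
def powHom (n : ℕ) (h : ∀ a b : T, (a * b) ^ n = a ^ n * b ^ n) : T →* T where
  toFun x := x ^ n
  map_one' := one_pow n
  map_mul' := h

theorem powHom_apply (n : ℕ) (h : ∀ a b : T, (a * b) ^ n = a ^ n * b ^ n) (x : T) : powHom n h x = x ^ n := rfl

theorem powHom_comm (n : ℕ) (h : ∀ a b : T, (a * b) ^ n = a ^ n * b ^ n) (α : MulAut T) (x : T) :
    powHom n h (α x) = α (powHom n h x) := by
  rw [powHom_apply, powHom_apply, map_pow]

/-- A subgroup containing all commutators is normal. -/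
theorem normal_of_commutators_mem (N : Subgroup T) (h : ∀ a b : T, ⁅a, b⁆ ∈ N) : N.Normal := by
  refine ⟨fun n hn g => ?_⟩
  have : g * n * g⁻¹ = ⁅g, n⁆ * n := by rw [commutatorElement_def]; group
  rw [this]
  exact mul_mem (h g n) hn

/-- If `B` is normal, `y ∉ B` and `y ^ p ∈ B` with `p` prime, then `|B ⊔ ⟨y⟩| = p |B|`. -/
theorem card_sup_zpowers [Finite T] {p : ℕ} (hp : p.Prime) (B : Subgroup T) [hB : B.Normal] (y : T) (hy : y ∉ B)
    (hyp : y ^ p ∈ B) : Nat.card (B ⊔ Subgroup.zpowers y : Subgroup T) = p * Nat.card B := by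
  have hmap : (B ⊔ Subgroup.zpowers y).map (QuotientGroup.mk' B) = Subgroup.zpowers (QuotientGroup.mk' B y) := by
    rw [Subgroup.map_sup, MonoidHom.map_zpowers]
    have : B.map (QuotientGroup.mk' B) = ⊥ := by
      rw [eq_bot_iff]
      rintro _ ⟨b, hb, rfl⟩
      rw [Subgroup.mem_bot]
      exact (QuotientGroup.eq_one_iff b).mpr hb
    rw [this, bot_sup_eq]
  have hord : orderOf (QuotientGroup.mk' B y) = p := by
    haveI : Fact p.Prime := ⟨hp⟩
    apply orderOf_eq_prime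
    · rw [← map_pow]
      exact (QuotientGroup.eq_one_iff _).mpr hyp
    · intro h
      exact hy ((QuotientGroup.eq_one_iff y).mp h)
  have hle : B ≤ B ⊔ Subgroup.zpowers y := le_sup_left
  -- count through the quotient
  have h1 : B.relIndex (B ⊔ Subgroup.zpowers y) = p := by
    have h := Subgroup.relIndex_ker (QuotientGroup.mk' B) (K := B ⊔ Subgroup.zpowers y)
    rw [QuotientGroup.ker_mk'] at h
    rw [h, hmap, Nat.card_zpowers, hord]
  have h2 := Subgroup.relIndex_mul_relIndex ⊥ B (B ⊔ Subgroup.zpowers y) bot_le hle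
  rw [Subgroup.relIndex_bot_left, Subgroup.relIndex_bot_left, h1] at h2
  rw [← h2, mul_comm]


theorem comm_mul_left_of (a b c : T) (hbc : ⁅b, c⁆ ∈ Subgroup.center T) :
    ⁅a * b, c⁆ = ⁅a, c⁆ * ⁅b, c⁆ := by
  have h1 : ⁅a * b, c⁆ = a * ⁅b, c⁆ * a⁻¹ * ⁅a, c⁆ := by
    simp only [commutatorElement_def]
    group
  have h2 : a * ⁅b, c⁆ = ⁅b, c⁆ * a := (Subgroup.mem_center_iff.mp hbc a)
  have h3 : ⁅a, c⁆ * ⁅b, c⁆ = ⁅b, c⁆ * ⁅a, c⁆ := (Subgroup.mem_center_iff.mp hbc _)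
  rw [h1, h2, h3, mul_assoc ⁅b, c⁆ a a⁻¹, mul_inv_cancel, mul_one]

/-- `x ↦ ⁅x, y⁆` as a homomorphism, when the commutators with `y` are central. -/
def commHomLOf (y : T) (hy : ∀ x : T, ⁅x, y⁆ ∈ Subgroup.center T) : T →* T where
  toFun x := ⁅x, y⁆
  map_one' := commutatorElement_one_left y
  map_mul' a b := comm_mul_left_of a b y (hy b)

theorem commHomLOf_apply (y : T) (hy : ∀ x : T, ⁅x, y⁆ ∈ Subgroup.center T) (x : T) :
    commHomLOf y hy x = ⁅x, y⁆ := rfl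

theorem ker_commHomLOf (y : T) (hy : ∀ x : T, ⁅x, y⁆ ∈ Subgroup.center T) :
    (commHomLOf y hy).ker = Subgroup.centralizer {y} := by
  ext x
  rw [MonoidHom.mem_ker, commHomLOf_apply, commutatorElement_eq_one_iff_mul_comm, Subgroup.mem_centralizer_iff]
  constructor
  · intro h g hg
    rw [Set.mem_singleton_iff.mp hg]
    exact h.symm
  · intro h
    exact (h y rfl).symm

/-- If the commutators with `y` are central, the index of the centralizer of `y` divides the order of the centre. -/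
theorem index_centralizer_dvd [Finite T] (y : T) (hy : ∀ x : T, ⁅x, y⁆ ∈ Subgroup.center T) :
    (Subgroup.centralizer {y}).index ∣ Nat.card (Subgroup.center T) := by
  rw [← ker_commHomLOf y hy, Subgroup.index_ker]
  apply Subgroup.card_dvd_of_le
  rintro _ ⟨x, rfl⟩
  exact hy x

end Cfsg.Agent.Helper87
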