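import Cfsg.Prelude.Def_Transfer
import Cfsg.Agent.Helper87.Class2
import Cfsg.Agent.Helper86.Hyperplane

set_option autoImplicit false

/-!
# Extraspecial subgroups of an ambient group

* `zOf Q = Q ∩ C(Q)`, the centre of `Q` inside the ambient group.
* For `Q` extraspecial: `|Z(Q)| = p`, commutators of elements of `Q` lie in `Z(Q)`.
* `card_le_cube_of_abelian_index_prime`: a group with centre of order `p` containing all commutators and an abelian
  subgroup of index `p` containing the centre has order at most `p³`.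
-/

namespace Cfsg.Agent.Helper87

open Cfsg
open scoped commutatorElement

section abstract

variable {T : Type*} [Group T]

theorem card_le_cube_of_abelian_index_prime [Finite T] {p : ℕ} [hp : Fact p.Prime]
    (hc : ∀ a b : T, ⁅a, b⁆ ∈ Subgroup.center T) (hZ : Nat.card (Subgroup.center T) = p)
    (B : Subgroup T) (hZB : Subgroup.center T ≤ B) (hB : ∀ a ∈ B, ∀ b ∈ B, a * b = b * a) (hidx : B.index = p) :
    Nat.card T ≤ p ^ 3 := by
  haveI hBn : B.Normal := normal_of_commutators_mem B (fun a b => hZB (hc a b))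
  obtain ⟨x, hx⟩ : ∃ x : T, x ∉ B := by
    by_contra hcon
    push Not at hcon
    have : B = ⊤ := eq_top_iff.mpr (fun x _ => hcon x)
    rw [this, Subgroup.index_top] at hidx
    exact hp.out.one_lt.ne hidx
  set C : Subgroup T := Subgroup.centralizer {x} with hC
  have hCidx : C.index ∣ p := by
    have := index_centralizer_dvd x (fun y => hc y x)
    rwa [hZ] at this
  have hle : B ⊓ C ≤ Subgroup.center T := by
    rintro e ⟨heB, heC⟩
    rw [Subgroup.mem_center_iff]
    intro g
    obtain ⟨i, hi⟩ := Cfsg.Agent.Helper86.exists_mul_pow_mem_of_index_prime hp.out B hidx hx g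
    have h1 : (g * x ^ i) * e = e * (g * x ^ i) := hB _ hi _ heB
    have h2 : x * e = e * x := by
      have heC' : e ∈ Subgroup.centralizer {x} := heC
      rw [Subgroup.mem_centralizer_iff] at heC'
      exact heC' x rfl
    have h3 : x ^ i * e = e * x ^ i := by
      have : Commute x e := h2
      exact (this.pow_left i).eq
    calc g * e = (g * x ^ i) * (x ^ i)⁻¹ * e := by group
      _ = (g * x ^ i) * e * (x ^ i)⁻¹ := by
          have h4 : (x ^ i)⁻¹ * e = e * (x ^ i)⁻¹ := by
            have : Commute (x ^ i) e := h3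
            exact this.inv_left.eq
          rw [mul_assoc, h4, ← mul_assoc]
      _ = e * (g * x ^ i) * (x ^ i)⁻¹ := by rw [h1]
      _ = e * g := by group
  have h1 : Nat.card (B ⊓ C : Subgroup T) ≤ p := by
    rw [← hZ]
    exact Subgroup.card_le_of_le hle
  have h2 : (B ⊓ C).index ≤ p * p := by
    calc (B ⊓ C).index ≤ B.index * C.index := Subgroup.index_inf_le
      _ ≤ p * p := by
          rw [hidx]
          exact Nat.mul_le_mul_left p (Nat.le_of_dvd hp.out.pos hCidx)
  calc Nat.card T = Nat.card (B ⊓ C : Subgroup T) * (B ⊓ C).index := (Subgroup.card_mul_index _).symm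
    _ ≤ p * (p * p) := Nat.mul_le_mul h1 h2
    _ = p ^ 3 := by ring

end abstract

section ambient

variable {Ω : Type*} [Group Ω]

/-- `Z(Q)` inside the ambient group. -/
def zOf (Q : Subgroup Ω) : Subgroup Ω := Q ⊓ Subgroup.centralizer (Q : Set Ω)

theorem zOf_le (Q : Subgroup Ω) : zOf Q ≤ Q := inf_le_left

theorem mem_zOf_iff (Q : Subgroup Ω) (z : Ω) : z ∈ zOf Q ↔ z ∈ Q ∧ ∀ q ∈ Q, q * z = z * q := by
  unfold zOf
  rw [Subgroup.mem_inf, Subgroup.mem_centralizer_iff]
  rfl

theorem map_center_eq_zOf (Q : Subgroup Ω) : (Subgroup.center ↥Q).map Q.subtype = zOf Q := by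
  ext x
  rw [mem_zOf_iff]
  constructor
  · rintro ⟨⟨y, hy⟩, hyc, rfl⟩
    refine ⟨hy, fun r hr => ?_⟩
    have hyc' : (⟨y, hy⟩ : Q) ∈ Subgroup.center ↥Q := hyc
    rw [Subgroup.mem_center_iff] at hyc'
    exact congrArg Subtype.val (hyc' ⟨r, hr⟩)
  · rintro ⟨hxQ, hxc⟩
    refine ⟨⟨x, hxQ⟩, ?_, rfl⟩
    show (⟨x, hxQ⟩ : Q) ∈ Subgroup.center ↥Q
    rw [Subgroup.mem_center_iff]
    rintro ⟨r, hr⟩
    exact Subtype.ext (hxc r hr)

theorem card_zOf (Q : Subgroup Ω) : Nat.card (zOf Q) = Nat.card (Subgroup.center ↥Q) := by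
  rw [← map_center_eq_zOf]
  exact Subgroup.card_map_of_injective Q.subtype_injective

theorem mem_zOf_of_mem_center {Q : Subgroup Ω} {x : Q} (hx : x ∈ Subgroup.center ↥Q) : (x : Ω) ∈ zOf Q := by
  rw [← map_center_eq_zOf]
  exact ⟨x, hx, rfl⟩

variable {p : ℕ} {Q : Subgroup Ω}

theorem card_zOf_of_isExtraspecial (hQ : IsExtraspecial p ↥Q) : Nat.card (zOf Q) = p := by
  rw [card_zOf]
  exact hQ.2

theorem comm_mem_center_of_isExtraspecial (hQ : IsExtraspecial p ↥Q) (a b : Q) : ⁅a, b⁆ ∈ Subgroup.center ↥Q := by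
  rw [← hQ.1.2.2, commutator_def]
  exact Subgroup.commutator_mem_commutator (Subgroup.mem_top a) (Subgroup.mem_top b)

theorem comm_mem_zOf_of_isExtraspecial (hQ : IsExtraspecial p ↥Q) {a b : Ω} (ha : a ∈ Q) (hb : b ∈ Q) :
    a * b * a⁻¹ * b⁻¹ ∈ zOf Q := by
  have h := mem_zOf_of_mem_center (comm_mem_center_of_isExtraspecial hQ ⟨a, ha⟩ ⟨b, hb⟩)
  simpa [commutatorElement_def] using h

end ambient

end Cfsg.Agent.Helper87
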