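import Cfsg.Agent.Helper87.FusionSolv
import Cfsg.Agent.S5088
import Cfsg.Agent.S5255
import Cfsg.Agent.S5145
set_option autoImplicit false

namespace Cfsg.Agent.Helper87

open Cfsg Cfsg.FusionSystem
open scoped commutatorElement

variable {Ω : Type*} [Group Ω] {S : Subgroup Ω}

/-- Commutators with a join, into a subgroup normalized by both parts. -/
theorem commutator_sup_le {G : Type*} [Group G] {H₁ H₂ X Y : Subgroup G} (h₁ : ⁅H₁, X⁆ ≤ Y) (h₂ : ⁅H₂, X⁆ ≤ Y)
    (hn₁ : H₁ ≤ Subgroup.normalizer (Y : Set G)) (hn₂ : H₂ ≤ Subgroup.normalizer (Y : Set G)) :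
    ⁅H₁ ⊔ H₂, X⁆ ≤ Y := by
  rw [Subgroup.commutator_le]
  intro d hd
  have key : d ∈ Subgroup.normalizer (Y : Set G) ∧ ∀ x ∈ X, ⁅d, x⁆ ∈ Y := by
    rw [Subgroup.sup_eq_closure] at hd
    induction hd using Subgroup.closure_induction with
    | mem a ha =>
      rcases ha with ha | ha
      · exact ⟨hn₁ ha, fun x hx => h₁ (Subgroup.commutator_mem_commutator ha hx)⟩
      · exact ⟨hn₂ ha, fun x hx => h₂ (Subgroup.commutator_mem_commutator ha hx)⟩
    | one => exact ⟨Subgroup.one_mem _, fun x _ => by rw [commutatorElement_one_left]; exact Y.one_mem⟩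
    | mul a b _ _ iha ihb =>
      refine ⟨Subgroup.mul_mem _ iha.1 ihb.1, fun x hx => ?_⟩
      rw [commutatorElement_mul_left_eq_conj_mul]
      refine Y.mul_mem ?_ (iha.2 x hx)
      exact (Subgroup.mem_normalizer_iff.mp iha.1 _).mp (ihb.2 x hx)
    | inv a _ iha =>
      refine ⟨Subgroup.inv_mem _ iha.1, fun x hx => ?_⟩
      rw [commutatorElement_inv_left]
      have h1 : ⁅x, a⁆ ∈ Y := by
        rw [← commutatorElement_inv]
        exact Y.inv_mem (iha.2 x hx)
      have h2 := (Subgroup.mem_normalizer_iff.mp (Subgroup.inv_mem _ iha.1) _).mp h1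
      rwa [inv_inv] at h2
  exact key.2

theorem stronglyClosed_inf (F : FusionSystem S) {A B : Subgroup Ω} (hA : F.StronglyClosed A)
    (hB : F.StronglyClosed B) : F.StronglyClosed (A ⊓ B) :=
  ⟨inf_le_left.trans hA.1, fun R hR φ hφ x =>
    ⟨hA.2 R (hR.trans inf_le_left) φ hφ x, hB.2 R (hR.trans inf_le_right) φ hφ x⟩⟩

/-- Commutators of a subgroup normalized by `S` with subgroups of `S`. -/
theorem commutator_le_of_le_normalizer {Q X : Subgroup Ω} (hQ : X ≤ Subgroup.normalizer (Q : Set Ω)) :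
    ⁅X, Q⁆ ≤ Q := by
  rw [Subgroup.commutator_le]
  intro x hx q hq
  have h1 : x * q * x⁻¹ ∈ Q := (Subgroup.mem_normalizer_iff.mp (hQ hx) q).mp hq
  have e : ⁅x, q⁆ = (x * q * x⁻¹) * q⁻¹ := by rw [commutatorElement_def]
  rw [e]
  exact Q.mul_mem h1 (Q.inv_mem hq)

/-- A strongly closed subgroup `D` between a subgroup `Q` normal in the system and `Q C_S(Q)`, with `D/Q` abelian,
is normal in the system. -/
theorem isNormal_of_abelian_over_normal [Finite S] {p : ℕ} [Fact p.Prime] (hS : IsPGroup p S)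
    (F : FusionSystem S) (hF : F.IsSaturated p) {Q D : Subgroup Ω} (hQ : F.IsNormal Q)
    (hD : F.StronglyClosed D) (hQD : Q ≤ D) (hDle : D ≤ Q ⊔ centralizerIn S Q) (hab : ⁅D, D⁆ ≤ Q) :
    F.IsNormal D := by
  obtain ⟨n, Qs, h0, hlast, hmono, hstep⟩ := (Cfsg.Agent.S5088.result p hS F hF Q).mp hQ
  have hQsc : F.StronglyClosed Q := stronglyClosed_of_isNormal F hQ
  -- each term is strongly closed
  have hsc : ∀ i : Fin (n + 1), F.StronglyClosed (Qs i) := by
    intro i
    induction i using Fin.induction with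
    | zero => rw [h0]; exact stronglyClosed_bot F
    | succ i _ => exact (hstep i).1
  have hQsQ : ∀ i : Fin (n + 1), Qs i ≤ Q := fun i => hlast ▸ hmono (Fin.le_last i)
  let Cn : ℕ → Subgroup Ω := fun j => if h : j ≤ n then Qs ⟨j, Nat.lt_succ_of_le h⟩ else D
  have hCn_le : ∀ (j : ℕ) (h : j ≤ n), Cn j = Qs ⟨j, Nat.lt_succ_of_le h⟩ := fun j h => dif_pos h
  have hCn_gt : ∀ j : ℕ, ¬ j ≤ n → Cn j = D := fun j h => dif_neg h
  apply isNormal_of_weaklyClosed_series_nat hS F hF hD (n + 1) Cn
  · rw [hCn_le 0 (Nat.zero_le n)]; exact h0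
  · exact hCn_gt (n + 1) (by omega)
  · apply monotone_nat_of_le_succ
    intro j
    by_cases h1 : j + 1 ≤ n
    · rw [hCn_le j (by omega), hCn_le (j + 1) h1]
      exact hmono (Fin.mk_le_mk.mpr (Nat.le_succ j))
    · rw [hCn_gt (j + 1) h1]
      by_cases h2 : j ≤ n
      · rw [hCn_le j h2]
        exact (hQsQ _).trans hQD
      · rw [hCn_gt j h2]
  · intro j hj
    by_cases h1 : j + 1 ≤ n
    · rw [hCn_le j (by omega), hCn_le (j + 1) h1]
      have hj' : j < n := h1
      have hs := (hstep ⟨j, hj'⟩).2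
      have e1 : (⟨j, hj'⟩ : Fin n).succ = ⟨j + 1, Nat.lt_succ_of_le h1⟩ := rfl
      have e2 : Fin.castSucc (⟨j, hj'⟩ : Fin n) = ⟨j, Nat.lt_succ_of_le (by omega)⟩ := rfl
      rw [e1, e2] at hs
      rw [Subgroup.commutator_comm]
      refine (Subgroup.commutator_mono hDle le_rfl).trans ?_
      have hnorm : S ≤ Subgroup.normalizer ((Qs ⟨j, Nat.lt_succ_of_le (by omega)⟩ : Subgroup Ω) : Set Ω) :=
        le_normalizer_of_stronglyClosed F (hsc _)
      apply commutator_sup_le hs _ (hQsc.1.trans hnorm) ((inf_le_left : centralizerIn S Q ≤ S).trans hnorm)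
      rw [Subgroup.commutator_le]
      intro c hc x hx
      have hcx : x * c = c * x := (Subgroup.mem_centralizer_iff.mp hc.2) x (hQsQ _ hx)
      have : ⁅c, x⁆ = 1 := by
        rw [commutatorElement_eq_one_iff_mul_comm]; exact hcx.symm
      rw [this]; exact Subgroup.one_mem _
    · have hjn : j = n := by omega
      rw [hCn_gt (j + 1) h1, hCn_le j (by omega)]
      have e : (⟨j, Nat.lt_succ_of_le (by omega)⟩ : Fin (n + 1)) = Fin.last n := Fin.ext hjn
      rw [e, hlast]
      exact hab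
  · intro j hj
    rw [hCn_le j (by omega)]
    exact weaklyClosed_of_stronglyClosed F (hsc _)

/-- A solvable saturated system is constrained: its largest normal subgroup is centric. -/
theorem isConstrained_of_isSolvableSystem [Finite S] {p : ℕ} [Fact p.Prime] (hS : IsPGroup p S)
    (F : FusionSystem S) (hF : F.IsSaturated p) (hsolv : F.IsSolvableSystem) : F.IsConstrained p := by
  have hQn : F.IsNormal F.core := Cfsg.Agent.S5145.result F
  have hQsc : F.StronglyClosed F.core := stronglyClosed_of_isNormal F hQn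
  have hDtop : F.StronglyClosed (F.core ⊔ centralizerIn S F.core) :=
    Cfsg.Agent.S5255.result p hS F hF F.core hQsc
  have hSQ : S ≤ Subgroup.normalizer (F.core : Set Ω) := le_normalizer_of_stronglyClosed F hQsc
  obtain ⟨n, T, h0, hlast, -, hsc, hcomm⟩ := exists_chain_of_step F
    (fun T hT hTS => exists_stronglyClosed_gt_of_solvable hS F hF hsolv hT hTS)
  have claim : ∀ i : Fin (n + 1), T i ⊓ (F.core ⊔ centralizerIn S F.core) ≤ F.core := by
    intro i
    induction i using Fin.induction with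
    | zero => rw [h0]; exact inf_le_left.trans bot_le
    | succ i ih =>
      set A := T i.succ ⊓ (F.core ⊔ centralizerIn S F.core) with hA
      have hAsc : F.StronglyClosed A := stronglyClosed_inf F (hsc _) hDtop
      have hD'sc : F.StronglyClosed (A ⊔ F.core) := Cfsg.Agent.S5128.result p hS F hF _ _ hAsc hQsc
      have hAA : ⁅A, A⁆ ≤ F.core := by
        refine le_trans (le_inf ?_ ?_) ih
        · exact (Subgroup.commutator_mono inf_le_left inf_le_left).trans (hcomm i)
        · exact (Subgroup.commutator_le_self A).trans inf_le_right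
      have hAQ : ⁅A, F.core⁆ ≤ F.core := commutator_le_of_le_normalizer (hAsc.1.trans hSQ)
      have hQA : ⁅F.core, A⁆ ≤ F.core := by rw [Subgroup.commutator_comm]; exact hAQ
      have hQQ : ⁅F.core, F.core⁆ ≤ F.core := Subgroup.commutator_le_self _
      have hnA : A ≤ Subgroup.normalizer (F.core : Set Ω) := hAsc.1.trans hSQ
      have hnQ : F.core ≤ Subgroup.normalizer (F.core : Set Ω) := hQsc.1.trans hSQ
      have h1 : ⁅A ⊔ F.core, A⁆ ≤ F.core := commutator_sup_le hAA hQA hnA hnQ
      have h2 : ⁅A ⊔ F.core, F.core⁆ ≤ F.core := commutator_sup_le hAQ hQQ hnA hnQ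
      have h1' : ⁅A, A ⊔ F.core⁆ ≤ F.core := by rw [Subgroup.commutator_comm]; exact h1
      have h2' : ⁅F.core, A ⊔ F.core⁆ ≤ F.core := by rw [Subgroup.commutator_comm]; exact h2
      have hab : ⁅A ⊔ F.core, A ⊔ F.core⁆ ≤ F.core := commutator_sup_le h1' h2' hnA hnQ
      have hD'n : F.IsNormal (A ⊔ F.core) :=
        isNormal_of_abelian_over_normal hS F hF hQn hD'sc le_sup_right
          (sup_le inf_le_right le_sup_left) hab
      have hle : A ⊔ F.core ≤ F.core := le_sSup hD'n
      exact le_sup_left.trans hle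
  have hC : centralizerIn S F.core ≤ F.core := by
    have h1 := claim (Fin.last n)
    rw [hlast] at h1
    exact le_trans (le_inf (inf_le_left) le_sup_right) h1
  refine ⟨hF, F.core, hQn, hQsc.1, fun Q' hQ' => ?_⟩
  obtain ⟨φ, hφ, rfl⟩ := hQ'
  rw [(weaklyClosed_of_isNormal F hQn).2 φ hφ]
  exact hC

end Cfsg.Agent.Helper87
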