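import Cfsg.Prelude.Def_FusionSystem
set_option autoImplicit false

namespace Cfsg.Agent.Helper87

open Cfsg Cfsg.FusionSystem

variable {Ω : Type*} [Group Ω] {S : Subgroup Ω}

/-- `conjHom P 1` is the inclusion. -/
theorem conjHom_one (P : Subgroup Ω) : conjHom P (1 : Ω) = P.subtype := by
  ext x
  simp [conjHom]

theorem conjHom_apply (P : Subgroup Ω) (g : Ω) (x : P) : conjHom P g x = g * (x : Ω) * g⁻¹ := rfl

/-- The inclusion of a subgroup of `S` is a map of the system. -/
theorem subtype_mem (F : FusionSystem S) {P : Subgroup Ω} (hP : P ≤ S) : P.subtype ∈ F.Hom P := by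
  have h := F.conj_mem (P := P) (g := 1) hP S.one_mem
  rwa [conjHom_one] at h

/-- Restriction of a map of the system to a smaller subgroup is a map of the system. -/
theorem restrict_mem (F : FusionSystem S) {P R : Subgroup Ω} {φ : P →* Ω} (hφ : φ ∈ F.Hom P) (h : R ≤ P) :
    φ.comp (Subgroup.inclusion h) ∈ F.Hom R := by
  have hR : R ≤ S := h.trans (F.le_of_mem hφ).1
  exact F.comp_mem (subtype_mem F hR) hφ (fun x => h x.2)

/-- A map of the system given by a pointwise formula: membership only depends on the values. -/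
theorem mem_of_eq (F : FusionSystem S) {P : Subgroup Ω} {φ ψ : P →* Ω} (hφ : φ ∈ F.Hom P)
    (h : ∀ x, ψ x = φ x) : ψ ∈ F.Hom P := by
  have : ψ = φ := MonoidHom.ext h
  rwa [this]

/-- Two fusion systems over `S` with the same maps are equal. -/
theorem fusionSystem_ext {F E : FusionSystem S} (h : ∀ P : Subgroup Ω, F.Hom P = E.Hom P) : F = E := by
  cases F
  cases E
  congr
  funext P
  exact h P

/-- The maps of the inner fusion system are maps of every fusion system over `S`. -/
theorem inner_hom_subset (F : FusionSystem S) (P : Subgroup Ω) : (innerFusionSystem S).Hom P ⊆ F.Hom P := by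
  rintro φ ⟨hP, g, hg, hgx⟩
  exact mem_of_eq F (F.conj_mem hP hg) hgx

/-- If every map of the system is conjugation by an element of `S`, the system has the same maps as the inner
fusion system. -/
theorem hom_eq_inner_of_forall_conj (F : FusionSystem S)
    (h : ∀ (P : Subgroup Ω) (φ : P →* Ω), φ ∈ F.Hom P → ∃ g ∈ S, ∀ x : P, φ x = g * x * g⁻¹) (P : Subgroup Ω) :
    F.Hom P = (innerFusionSystem S).Hom P := by
  apply Set.Subset.antisymm
  · intro φ hφ
    obtain ⟨g, hg, hgx⟩ := h P φ hφ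
    exact ⟨(F.le_of_mem hφ).1, g, hg, hgx⟩
  · exact inner_hom_subset F P

/-! ### Isomorphisms of the system -/

/-- `e : P ≃* Q` is an isomorphism of the system: followed by the inclusion of `Q` it is a map of the system. -/
def IsIso (F : FusionSystem S) {P Q : Subgroup Ω} (e : P ≃* Q) : Prop :=
  Q.subtype.comp e.toMonoidHom ∈ F.Hom P

theorem IsIso.le_left {F : FusionSystem S} {P Q : Subgroup Ω} {e : P ≃* Q} (h : IsIso F e) : P ≤ S :=
  (F.le_of_mem h).1

theorem IsIso.le_right {F : FusionSystem S} {P Q : Subgroup Ω} {e : P ≃* Q} (h : IsIso F e) : Q ≤ S := by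
  intro y hy
  have := (F.le_of_mem h).2 (e.symm ⟨y, hy⟩)
  simpa using this

theorem isIso_refl (F : FusionSystem S) {P : Subgroup Ω} (hP : P ≤ S) : IsIso F (MulEquiv.refl P) := by
  unfold IsIso
  exact mem_of_eq F (subtype_mem F hP) (fun x => rfl)

theorem IsIso.trans {F : FusionSystem S} {P Q R : Subgroup Ω} {e : P ≃* Q} {f : Q ≃* R}
    (he : IsIso F e) (hf : IsIso F f) : IsIso F (e.trans f) := by
  unfold IsIso at *
  have := F.comp_mem he hf (fun x => (e x).2)
  exact mem_of_eq F this (fun x => rfl)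

theorem IsIso.symm {F : FusionSystem S} {P Q : Subgroup Ω} {e : P ≃* Q} (he : IsIso F e) :
    IsIso F e.symm := by
  unfold IsIso at *
  obtain ⟨ψ, hψ, hψx⟩ := F.inv_mem he
  have hle : Q ≤ (Q.subtype.comp e.toMonoidHom).range := by
    intro y hy
    exact ⟨e.symm ⟨y, hy⟩, by simp⟩
  have h1 := restrict_mem F hψ hle
  refine mem_of_eq F h1 (fun y => ?_)
  have h2 := hψx (e.symm y)
  have h3 : (⟨(Q.subtype.comp e.toMonoidHom) (e.symm y), ⟨e.symm y, rfl⟩⟩ : (Q.subtype.comp e.toMonoidHom).range)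
      = Subgroup.inclusion hle y := by
    apply Subtype.ext
    show ((e (e.symm y) : Q) : Ω) = (y : Ω)
    rw [MulEquiv.apply_symm_apply]
  rw [h3] at h2
  show ((e.symm y : P) : Ω) = ψ (Subgroup.inclusion hle y)
  exact h2.symm

/-- The isomorphism of the system from `P` onto the image of a map of the system. -/
theorem isIso_ofInjective (F : FusionSystem S) {P : Subgroup Ω} {φ : P →* Ω} (hφ : φ ∈ F.Hom P) :
    IsIso F (MonoidHom.ofInjective (F.injective_of_mem hφ)) := by
  unfold IsIso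
  exact mem_of_eq F hφ (fun x => rfl)

/-- The isomorphism of the system from `P` onto `Q`, when the image of the map is `Q`. -/
noncomputable def isoOfRange (F : FusionSystem S) {P Q : Subgroup Ω} {φ : P →* Ω} (hφ : φ ∈ F.Hom P)
    (hQ : φ.range = Q) : P ≃* Q :=
  (MonoidHom.ofInjective (F.injective_of_mem hφ)).trans (MulEquiv.subgroupCongr hQ)

theorem isoOfRange_apply (F : FusionSystem S) {P Q : Subgroup Ω} {φ : P →* Ω} (hφ : φ ∈ F.Hom P)
    (hQ : φ.range = Q) (x : P) : ((isoOfRange F hφ hQ x : Q) : Ω) = φ x := rfl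

theorem isIso_isoOfRange (F : FusionSystem S) {P Q : Subgroup Ω} {φ : P →* Ω} (hφ : φ ∈ F.Hom P)
    (hQ : φ.range = Q) : IsIso F (isoOfRange F hφ hQ) := by
  unfold IsIso
  exact mem_of_eq F hφ (fun x => rfl)

theorem isConj_iff (F : FusionSystem S) (P Q : Subgroup Ω) :
    F.IsConj P Q ↔ ∃ e : P ≃* Q, IsIso F e := by
  constructor
  · rintro ⟨φ, hφ, hQ⟩
    exact ⟨isoOfRange F hφ hQ, isIso_isoOfRange F hφ hQ⟩
  · rintro ⟨e, he⟩
    refine ⟨_, he, ?_⟩
    ext y
    constructor
    · rintro ⟨x, rfl⟩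
      exact (e x).2
    · intro hy
      exact ⟨e.symm ⟨y, hy⟩, by simp⟩

/-- A map of the system from `P`, composed with an isomorphism of the system onto `P`. -/
theorem comp_iso_mem (F : FusionSystem S) {P Q : Subgroup Ω} {e : P ≃* Q} (he : IsIso F e) {ψ : Q →* Ω}
    (hψ : ψ ∈ F.Hom Q) : ψ.comp e.toMonoidHom ∈ F.Hom P := by
  have := F.comp_mem he hψ (fun x => (e x).2)
  exact mem_of_eq F this (fun x => rfl)

/-! ### The automorphism group of the system on a subgroup -/

theorem mem_autGroup_iff (F : FusionSystem S) {P : Subgroup Ω} (hP : P ≤ S) (α : MulAut P) :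
    α ∈ F.autGroup P ↔ IsIso F (α : P ≃* P) := by
  constructor
  · intro h
    unfold autGroup at h
    induction h using Subgroup.closure_induction with
    | mem x hx => exact hx
    | one => exact isIso_refl F hP
    | mul x y _ _ hx hy => exact IsIso.trans hy hx
    | inv x _ hx => exact IsIso.symm hx
  · intro h
    exact Subgroup.subset_closure h

/-- Conjugation by an element of `N_S(P)` as an automorphism of `P`. -/
def conjAut (P : Subgroup Ω) (g : Ω) (hg : g ∈ Subgroup.normalizer (P : Set Ω)) : MulAut P :=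
  P.normalizerMonoidHom ⟨g, hg⟩

theorem conjAut_apply (P : Subgroup Ω) (g : Ω) (hg : g ∈ Subgroup.normalizer (P : Set Ω)) (x : P) :
    ((conjAut P g hg x : P) : Ω) = g * x * g⁻¹ := rfl

theorem isIso_conjAut (F : FusionSystem S) {P : Subgroup Ω} (hP : P ≤ S) {g : Ω} (hgS : g ∈ S)
    (hg : g ∈ Subgroup.normalizer (P : Set Ω)) : IsIso F (conjAut P g hg : P ≃* P) := by
  unfold IsIso
  exact mem_of_eq F (F.conj_mem hP hgS) (fun x => rfl)

/-- Membership in `Aut_K(P)`. -/
theorem mem_autInducedBy_iff (K P : Subgroup Ω) (α : MulAut P) :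
    α ∈ autInducedBy K P ↔ ∃ g ∈ K, ∀ x : P, ((α x : P) : Ω) = g * (x : Ω) * g⁻¹ := by
  constructor
  · intro h
    unfold autInducedBy at h
    induction h using Subgroup.closure_induction with
    | mem x hx => exact hx
    | one => exact ⟨1, K.one_mem, fun x => by simp⟩
    | mul a b _ _ ha hb =>
      obtain ⟨g, hg, hga⟩ := ha
      obtain ⟨k, hk, hkb⟩ := hb
      refine ⟨g * k, K.mul_mem hg hk, fun x => ?_⟩
      rw [MulAut.mul_apply, hga, hkb]
      group
    | inv a _ ha =>
      obtain ⟨g, hg, hga⟩ := ha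
      refine ⟨g⁻¹, K.inv_mem hg, fun x => ?_⟩
      have := hga (a⁻¹ x)
      rw [MulAut.apply_inv_self] at this
      rw [this]
      group
  · intro h
    exact Subgroup.subset_closure h

/-- Membership in the extender `N_φ`. -/
theorem mem_extender_iff (S P : Subgroup Ω) (φ : P →* Ω) (g : Ω) :
    g ∈ extender S P φ ↔ g ∈ S ∧ g ∈ Subgroup.normalizer (P : Set Ω) ∧
      ∃ h ∈ S, ∀ (x : P) (hx : g * (x : Ω) * g⁻¹ ∈ P), φ ⟨g * x * g⁻¹, hx⟩ = h * φ x * h⁻¹ := by
  constructor
  · intro hg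
    unfold extender at hg
    induction hg using Subgroup.closure_induction with
    | mem x hx => exact hx
    | one =>
      refine ⟨S.one_mem, Subgroup.one_mem _, 1, S.one_mem, fun x hx => ?_⟩
      have : (⟨1 * (x : Ω) * 1⁻¹, hx⟩ : P) = x := Subtype.ext (by simp)
      rw [this]; simp
    | mul a b _ _ ha hb =>
      obtain ⟨haS, haN, h, hh, hha⟩ := ha
      obtain ⟨hbS, hbN, k, hk, hkb⟩ := hb
      refine ⟨S.mul_mem haS hbS, Subgroup.mul_mem _ haN hbN, h * k, S.mul_mem hh hk, fun x hx => ?_⟩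
      have hbx : b * (x : Ω) * b⁻¹ ∈ P := (hbN x).mp x.2
      have hax : a * ((⟨b * (x : Ω) * b⁻¹, hbx⟩ : P) : Ω) * a⁻¹ ∈ P := by
        have : a * (b * (x : Ω) * b⁻¹) * a⁻¹ = a * b * x * (a * b)⁻¹ := by group
        simpa [this] using hx
      have e1 : (⟨a * b * (x : Ω) * (a * b)⁻¹, hx⟩ : P) = ⟨a * ((⟨b * (x : Ω) * b⁻¹, hbx⟩ : P) : Ω) * a⁻¹, hax⟩ := by
        apply Subtype.ext
        simp only [mul_inv_rev]
        group
      rw [e1, hha _ hax, hkb x hbx]
      simp only [mul_inv_rev]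
      group
    | inv a _ ha =>
      obtain ⟨haS, haN, h, hh, hha⟩ := ha
      refine ⟨S.inv_mem haS, Subgroup.inv_mem _ haN, h⁻¹, S.inv_mem hh, fun x hx => ?_⟩
      have hax : a * ((⟨a⁻¹ * (x : Ω) * a⁻¹⁻¹, hx⟩ : P) : Ω) * a⁻¹ ∈ P := by
        have : a * (a⁻¹ * (x : Ω) * a⁻¹⁻¹) * a⁻¹ = x := by group
        show a * (a⁻¹ * (x : Ω) * a⁻¹⁻¹) * a⁻¹ ∈ P
        rw [this]
        exact x.2
      have := hha ⟨a⁻¹ * (x : Ω) * a⁻¹⁻¹, hx⟩ hax
      have e1 : (⟨a * ((⟨a⁻¹ * (x : Ω) * a⁻¹⁻¹, hx⟩ : P) : Ω) * a⁻¹, hax⟩ : P) = x := by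
        apply Subtype.ext
        simp only
        group
      rw [e1] at this
      rw [this]
      group
  · intro h
    exact Subgroup.subset_closure h

end Cfsg.Agent.Helper87
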