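import Cfsg.Agent.Helper87.FusionFrobenius
set_option autoImplicit false

namespace Cfsg.Agent.Helper87

open Cfsg Cfsg.FusionSystem
open scoped Pointwise

/-- Sylow: a `p`-subgroup `B` of a finite group `A` is conjugate into a given Sylow `p`-subgroup `T`. -/
theorem exists_conj_mem_sylow_of_isPGroup {A : Type*} [Group A] [Finite A] {p : ℕ} [Fact p.Prime] (T : Sylow p A)
    (B : Subgroup A) (hB : IsPGroup p B) : ∃ a : A, ∀ b ∈ B, a * b * a⁻¹ ∈ (T : Subgroup A) := by
  obtain ⟨T', hT'⟩ := hB.exists_le_sylow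
  obtain ⟨a, ha⟩ := MulAction.exists_smul_eq A T' T
  refine ⟨a, fun b hb => ?_⟩
  have h1 : b ∈ (T' : Subgroup A) := hT' hb
  have h2 : MulAut.conj a • b ∈ MulAut.conj a • (T' : Subgroup A) :=
    Subgroup.smul_mem_pointwise_smul_iff.mpr h1
  rw [← Sylow.coe_subgroup_smul, ha] at h2
  simpa using h2

variable {Ω : Type*} [Group Ω] {S : Subgroup Ω}

theorem conjAut_pow (P : Subgroup Ω) (g : Ω) (hg : g ∈ Subgroup.normalizer (P : Set Ω)) (m : ℕ) :
    (conjAut P g hg) ^ m = conjAut P (g ^ m) (Subgroup.pow_mem _ hg m) := by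
  unfold conjAut
  rw [← map_pow]
  rfl

theorem conjAut_one (P : Subgroup Ω) (h : (1 : Ω) ∈ Subgroup.normalizer (P : Set Ω)) : conjAut P 1 h = 1 := by
  ext x
  simp [conjAut_apply]

/-- An element inducing an automorphism of `P` by conjugation normalizes `P`. -/
theorem mem_normalizer_of_conj_eq {P : Subgroup Ω} (α : MulAut P) (g : Ω)
    (h : ∀ x : P, ((α x : P) : Ω) = g * x * g⁻¹) : g ∈ Subgroup.normalizer (P : Set Ω) := by
  rw [Subgroup.mem_normalizer_iff]
  intro y
  constructor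
  · intro hy
    rw [← h ⟨y, hy⟩]
    exact (α ⟨y, hy⟩).2
  · intro hy
    have := h (α.symm ⟨g * y * g⁻¹, hy⟩)
    rw [MulEquiv.apply_symm_apply] at this
    have h2 : y = ((α.symm ⟨g * y * g⁻¹, hy⟩ : P) : Ω) := by
      have h3 : g * y * g⁻¹ = g * ((α.symm ⟨g * y * g⁻¹, hy⟩ : P) : Ω) * g⁻¹ := this
      exact mul_left_cancel (mul_right_cancel h3)
    rw [h2]
    exact (α.symm ⟨g * y * g⁻¹, hy⟩).2

theorem eq_conjAut_of_conj_eq {P : Subgroup Ω} (α : MulAut P) (g : Ω)
    (h : ∀ x : P, ((α x : P) : Ω) = g * x * g⁻¹) : α = conjAut P g (mem_normalizer_of_conj_eq α g h) := by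
  ext x
  rw [h x, conjAut_apply]

/-- `Aut_S(P)` is a `p`-group when `S` is. -/
theorem isPGroup_autInducedBy {p : ℕ} (hS : IsPGroup p S) (P : Subgroup Ω) : IsPGroup p (autInducedBy S P) := by
  rintro ⟨α, hα⟩
  obtain ⟨g, hg, hgx⟩ := (mem_autInducedBy_iff S P α).mp hα
  obtain ⟨k, hk⟩ := hS ⟨g, hg⟩
  refine ⟨k, Subtype.ext ?_⟩
  have hk' : g ^ p ^ k = 1 := by simpa using congrArg Subtype.val hk
  show α ^ p ^ k = 1
  rw [eq_conjAut_of_conj_eq α g hgx, conjAut_pow]
  have : ∀ (y : Ω) (hy : y ∈ Subgroup.normalizer (P : Set Ω)), y = 1 → conjAut P y hy = 1 := by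
    intro y hy h1
    subst h1
    exact conjAut_one P hy
  exact this _ _ hk'

theorem finite_mulAut_of_le [Finite S] {P : Subgroup Ω} (hP : P ≤ S) : Finite (MulAut P) := by
  have : Finite P := finite_of_le hP
  exact MulEquiv.finite_left

/-- Key step of the extension lemma: if `P` is fully automized and `e : Q ≃* P` is an isomorphism of the system, then after
composing with an automorphism of the system on `P`, conjugation by every element of `N_S(Q)` is transported to an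
automorphism of `P` induced by `S`. -/
theorem exists_iso_transport_autInducedBy [Finite S] {p : ℕ} [Fact p.Prime] (hS : IsPGroup p S) (F : FusionSystem S)
    {P Q : Subgroup Ω} (h₁ : F.IsFullyAutomized p P) (e : Q ≃* P) (he : IsIso F e) :
    ∃ e' : Q ≃* P, IsIso F e' ∧ ∀ β ∈ autInducedBy S Q, MulAut.congr e' β ∈ autInducedBy S P := by
  obtain ⟨hPS, T, hT⟩ := h₁
  have hQS : Q ≤ S := he.le_left
  have : Finite (MulAut P) := finite_mulAut_of_le hPS
  -- the transported copy of `Aut_S(Q)` inside `Aut_F(P)`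
  let B : Subgroup (F.autGroup P) := ((autInducedBy S Q).map (MulAut.congr e).toMonoidHom).subgroupOf (F.autGroup P)
  have hB : IsPGroup p B := by
    rintro ⟨⟨b, hbA⟩, hb⟩
    obtain ⟨β, hβ, hβb⟩ := hb
    have hβb' : (MulAut.congr e) β = b := hβb
    obtain ⟨k, hk⟩ := isPGroup_autInducedBy hS Q ⟨β, hβ⟩
    refine ⟨k, Subtype.ext (Subtype.ext ?_)⟩
    have hk' : β ^ p ^ k = 1 := by simpa using congrArg Subtype.val hk
    show b ^ p ^ k = 1
    rw [← hβb', ← map_pow, hk', map_one]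
  obtain ⟨a, ha⟩ := exists_conj_mem_sylow_of_isPGroup T B hB
  have haiso : IsIso F ((a : MulAut P) : P ≃* P) := (mem_autGroup_iff F hPS a).mp a.2
  refine ⟨e.trans (a : MulAut P), he.trans haiso, fun β hβ => ?_⟩
  have hβiso : IsIso F (β : Q ≃* Q) := by
    obtain ⟨g, hg, hgx⟩ := (mem_autInducedBy_iff S Q β).mp hβ
    rw [eq_conjAut_of_conj_eq β g hgx]
    exact isIso_conjAut F hQS hg _
  have hbA : MulAut.congr e β ∈ F.autGroup P :=
    (mem_autGroup_iff F hPS _).mpr (he.symm.trans (hβiso.trans he))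
  have hbB : (⟨MulAut.congr e β, hbA⟩ : F.autGroup P) ∈ B := ⟨β, hβ, rfl⟩
  have h1 := ha _ hbB
  have h2 : a * ⟨MulAut.congr e β, hbA⟩ * a⁻¹ ∈ (T : Subgroup (F.autGroup P)) := h1
  rw [hT, Subgroup.mem_subgroupOf] at h2
  have h3 : ((a * ⟨MulAut.congr e β, hbA⟩ * a⁻¹ : F.autGroup P) : MulAut P) =
      MulAut.congr (e.trans (a : MulAut P)) β := by
    ext x
    simp [MulAut.congr, MulAut.mul_apply, MulAut.inv_apply]
  rwa [h3] at h2

/-- For `P` fully automized and `Q` conjugate to `P`, some isomorphism of the system `Q ≃* P` has all of `N_S(Q)` in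
its extender. -/
theorem exists_iso_normalizerIn_le_extender [Finite S] {p : ℕ} [Fact p.Prime] (hS : IsPGroup p S) (F : FusionSystem S)
    {P Q : Subgroup Ω} (h₁ : F.IsFullyAutomized p P) (e : Q ≃* P) (he : IsIso F e) :
    ∃ e' : Q ≃* P, IsIso F e' ∧ normalizerIn S Q ≤ extender S Q (P.subtype.comp e'.toMonoidHom) := by
  obtain ⟨e', he', h⟩ := exists_iso_transport_autInducedBy hS F h₁ e he
  refine ⟨e', he', ?_⟩
  rintro g ⟨hgS, hgN⟩
  rw [mem_extender_iff]
  refine ⟨hgS, hgN, ?_⟩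
  have hβ : conjAut Q g hgN ∈ autInducedBy S Q :=
    (mem_autInducedBy_iff S Q _).mpr ⟨g, hgS, fun x => rfl⟩
  obtain ⟨k, hk, hkx⟩ := (mem_autInducedBy_iff S P _).mp (h _ hβ)
  refine ⟨k, hk, fun x hx => ?_⟩
  have := hkx (e' x)
  show ((e' ⟨g * x * g⁻¹, hx⟩ : P) : Ω) = k * ((e' x : P) : Ω) * k⁻¹
  rw [← this]
  show ((e' ⟨g * x * g⁻¹, hx⟩ : P) : Ω) = ((e' ((conjAut Q g hgN) (e'.symm (e' x))) : P) : Ω)
  rw [MulEquiv.symm_apply_apply]
  rfl

/-- The extension lemma: if `P` is fully automized and receptive and `Q` is conjugate to `P`, some map of the system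
defined on `N_S(Q)` restricts to an isomorphism of the system from `Q` onto `P`. -/
theorem exists_extension_normalizerIn [Finite S] {p : ℕ} [Fact p.Prime] (hS : IsPGroup p S) (F : FusionSystem S)
    {P Q : Subgroup Ω} (h₁ : F.IsFullyAutomized p P) (h₂ : F.IsReceptive P) (e : Q ≃* P) (he : IsIso F e) :
    ∃ φ ∈ F.Hom (normalizerIn S Q), ∃ e' : Q ≃* P, IsIso F e' ∧
      ∀ (x : Q), φ ⟨x, le_normalizerIn he.le_left x.2⟩ = e' x := by
  obtain ⟨e', he', hle⟩ := exists_iso_normalizerIn_le_extender hS F h₁ e he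
  have hrange : (P.subtype.comp e'.toMonoidHom).range = P := by
    ext y
    constructor
    · rintro ⟨x, rfl⟩
      exact (e' x).2
    · intro hy
      exact ⟨e'.symm ⟨y, hy⟩, by simp⟩
  obtain ⟨ψ, hψ, hψx⟩ := h₂.2 Q _ he' hrange
  refine ⟨_, restrict_mem F hψ hle, e', he', fun x => ?_⟩
  have := hψx x x.2 (hle (le_normalizerIn he.le_left x.2))
  exact this

theorem mem_normalizer_of_conj_mem_of_inv_conj_mem {P : Subgroup Ω} {g : Ω} (h1 : ∀ y ∈ P, g * y * g⁻¹ ∈ P)
    (h2 : ∀ y ∈ P, g⁻¹ * y * g ∈ P) : g ∈ Subgroup.normalizer (P : Set Ω) := by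
  rw [Subgroup.mem_normalizer_iff]
  intro y
  refine ⟨h1 y, fun hy => ?_⟩
  have := h2 _ hy
  have e : g⁻¹ * (g * y * g⁻¹) * g = y := by group
  rwa [e] at this

/-- A homomorphism defined on a subgroup `N` carries elements of `N` normalizing `Q ≤ N` to elements normalizing the
image of `Q`. -/
theorem map_mem_normalizer {N Q P : Subgroup Ω} (φ : N →* Ω) (hQN : Q ≤ N)
    (hQP : ∀ q : Q, φ (Subgroup.inclusion hQN q) ∈ P)
    (hPQ : ∀ y ∈ P, ∃ q : Q, φ (Subgroup.inclusion hQN q) = y)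
    (x : N) (hx : (x : Ω) ∈ Subgroup.normalizer (Q : Set Ω)) : φ x ∈ Subgroup.normalizer (P : Set Ω) := by
  have key : ∀ z : N, (z : Ω) ∈ Subgroup.normalizer (Q : Set Ω) → ∀ y ∈ P, φ z * y * (φ z)⁻¹ ∈ P := by
    intro z hz y hy
    obtain ⟨q, rfl⟩ := hPQ y hy
    have hq : (z : Ω) * q * (z : Ω)⁻¹ ∈ Q := (Subgroup.mem_normalizer_iff.mp hz q).mp q.2
    have := hQP ⟨_, hq⟩
    have e : Subgroup.inclusion hQN ⟨(z : Ω) * q * (z : Ω)⁻¹, hq⟩ = z * Subgroup.inclusion hQN q * z⁻¹ :=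
      Subtype.ext rfl
    rw [e, map_mul, map_mul, map_inv] at this
    exact this
  apply mem_normalizer_of_conj_mem_of_inv_conj_mem (key x hx)
  intro y hy
  have := key x⁻¹ (Subgroup.inv_mem _ hx) y hy
  rwa [map_inv, inv_inv] at this

theorem centralizerIn_le_normalizerIn (S Q : Subgroup Ω) : centralizerIn S Q ≤ normalizerIn S Q :=
  inf_le_inf_left S (Subgroup.centralizer_le_normalizer (Q : Set Ω))

/-- The extension lemma, full form: the extension `φ` of an isomorphism `e' : Q ≃* P` of the system to `N_S(Q)` takes values in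
`N_S(P)` and carries `C_S(Q)` into `C_S(P)`. -/
theorem exists_extension_normalizerIn' [Finite S] {p : ℕ} [Fact p.Prime] (hS : IsPGroup p S) (F : FusionSystem S)
    {P Q : Subgroup Ω} (h₁ : F.IsFullyAutomized p P) (h₂ : F.IsReceptive P) (e : Q ≃* P) (he : IsIso F e) :
    ∃ φ ∈ F.Hom (normalizerIn S Q), ∃ e' : Q ≃* P, IsIso F e' ∧
      (∀ (x : Q), φ ⟨x, le_normalizerIn he.le_left x.2⟩ = e' x) ∧
      (∀ x, φ x ∈ normalizerIn S P) ∧
      (∀ x : normalizerIn S Q, (x : Ω) ∈ centralizerIn S Q → φ x ∈ centralizerIn S P) ∧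
      (∀ x : normalizerIn S Q, φ x ∈ P → (x : Ω) ∈ Q) := by
  obtain ⟨φ, hφ, e', he', hφx⟩ := exists_extension_normalizerIn hS F h₁ h₂ e he
  have hQN : Q ≤ normalizerIn S Q := le_normalizerIn he.le_left
  have hincl : ∀ q : Q, φ (Subgroup.inclusion hQN q) = e' q := fun q => hφx q
  refine ⟨φ, hφ, e', he', hφx, fun x => ⟨(F.le_of_mem hφ).2 x, ?_⟩, ?_, ?_⟩
  · apply map_mem_normalizer φ hQN (fun q => ?_) (fun y hy => ?_) x x.2.2
    · rw [hincl]; exact (e' q).2
    · exact ⟨e'.symm ⟨y, hy⟩, by rw [hincl]; simp⟩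
  · intro x hx
    refine ⟨(F.le_of_mem hφ).2 x, ?_⟩
    show φ x ∈ Subgroup.centralizer (P : Set Ω)
    rw [Subgroup.mem_centralizer_iff]
    intro y hy
    have hy' : y = e' (e'.symm ⟨y, hy⟩) := by simp
    rw [hy', ← hincl, ← map_mul, ← map_mul]
    congr 1
    apply Subtype.ext
    have := Subgroup.mem_centralizer_iff.mp hx.2 _ (e'.symm ⟨y, hy⟩).2
    exact this
  · intro x hx
    have h1 : φ (Subgroup.inclusion hQN (e'.symm ⟨φ x, hx⟩)) = φ x := by rw [hincl]; simp
    have h2 := F.injective_of_mem hφ h1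
    rw [← h2]
    exact (e'.symm ⟨φ x, hx⟩).2

/-- A fully automized receptive subgroup is fully normalized. -/
theorem isFullyNormalized_of_fullyAutomized_of_receptive [Finite S] {p : ℕ} [Fact p.Prime] (hS : IsPGroup p S)
    (F : FusionSystem S) {P : Subgroup Ω} (h₁ : F.IsFullyAutomized p P) (h₂ : F.IsReceptive P) :
    F.IsFullyNormalized P := by
  refine ⟨h₁.1, fun Q hQ => ?_⟩
  obtain ⟨e, he⟩ := (isConj_iff F P Q).mp hQ
  obtain ⟨φ, hφ, e', he', -, hval, -, -⟩ := exists_extension_normalizerIn' hS F h₁ h₂ e.symm he.symm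
  have : Finite (normalizerIn S P) := finite_of_le inf_le_left
  refine Nat.card_le_card_of_injective (fun x => (⟨φ x, hval x⟩ : normalizerIn S P)) ?_
  intro a b hab
  exact F.injective_of_mem hφ (congrArg Subtype.val hab)

/-- A fully automized receptive subgroup is fully centralized. -/
theorem isFullyCentralized_of_fullyAutomized_of_receptive [Finite S] {p : ℕ} [Fact p.Prime] (hS : IsPGroup p S)
    (F : FusionSystem S) {P : Subgroup Ω} (h₁ : F.IsFullyAutomized p P) (h₂ : F.IsReceptive P) :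
    F.IsFullyCentralized P := by
  refine ⟨h₁.1, fun Q hQ => ?_⟩
  obtain ⟨e, he⟩ := (isConj_iff F P Q).mp hQ
  obtain ⟨φ, hφ, e', he', -, -, hval, -⟩ := exists_extension_normalizerIn' hS F h₁ h₂ e.symm he.symm
  have : Finite (centralizerIn S P) := finite_of_le inf_le_left
  refine Nat.card_le_card_of_injective
    (fun x : centralizerIn S Q => (⟨φ ⟨x, centralizerIn_le_normalizerIn S Q x.2⟩, hval _ x.2⟩ : centralizerIn S P)) ?_
  intro a b hab
  have := F.injective_of_mem hφ (congrArg Subtype.val hab)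
  exact Subtype.ext (congrArg (fun z : normalizerIn S Q => (z : Ω)) this)

end Cfsg.Agent.Helper87
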