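import Cfsg.Agent.Helper16.DT.Defs
import Cfsg.Agent.Helper24.DT_JH2
import Cfsg.Agent.Helper10.DT_ADD
import Cfsg.Agent.Helper30.DT_RED

/-!
helper87, piece (DEC) of helper16's DT farm (#13881, target S4641): the CORE `decomposition_of`, with the
conclusion of (RLF) for `χ` as a hypothesis (JH2, ADD, RED are imported from main).
-/

set_option autoImplicit false
set_option linter.unusedSectionVars false
set_option linter.unusedVariables false

namespace Cfsg.Agent.Helper87.DT

open Cfsg Cfsg.Agent.Helper16 Cfsg.Agent.Helper16.DT Polynomial Matrix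

universe u v w

section Decomp

variable {p : ℕ} [Fact p.Prime] {M : Ideal AlgInt} [M.IsMaximal] {G : Type u} [Group G]

theorem DEC_pReg_of_reg (f : G → ℂ) {g : G} (hg : IsPRegular p g) : pRegularPart p f g = f g := by
  unfold pRegularPart
  exact if_pos hg

theorem DEC_pReg_of_not_reg (f : G → ℂ) {g : G} (hg : ¬ IsPRegular p g) : pRegularPart p f g = 0 := by
  unfold pRegularPart
  exact if_neg hg

theorem DEC_pReg_add (f f' : G → ℂ) : pRegularPart p (f + f') = pRegularPart p f + pRegularPart p f' := by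
  funext g
  by_cases hg : IsPRegular p g
  · rw [Pi.add_apply, DEC_pReg_of_reg _ hg, DEC_pReg_of_reg _ hg, DEC_pReg_of_reg _ hg, Pi.add_apply]
  · rw [Pi.add_apply, DEC_pReg_of_not_reg _ hg, DEC_pReg_of_not_reg _ hg, DEC_pReg_of_not_reg _ hg, add_zero]

theorem DEC_pReg_zero : pRegularPart p (0 : G → ℂ) = 0 := by
  funext g
  by_cases hg : IsPRegular p g
  · rw [DEC_pReg_of_reg _ hg]
  · rw [DEC_pReg_of_not_reg _ hg]; rfl

theorem DEC_pReg_list_sum (l : List (G → ℂ)) :
    pRegularPart p l.sum = (l.map (pRegularPart p)).sum := by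
  induction l with
  | nil => simp [DEC_pReg_zero]
  | cons a l ih => rw [List.sum_cons, DEC_pReg_add, ih, List.map_cons, List.sum_cons]

/-- the class sum of the reduction is the residue of the central character -/
theorem DEC_classSum_red [Fintype G] {n : ℕ} (hn : 0 < n) (A : G →* Matrix (Fin n) (Fin n) (Rloc M))
    (x : G) (ω : ℂ) (h : classSumMat (cplxRep A) x = ω • (1 : Matrix (Fin n) (Fin n) ℂ)) :
    MemLocalRing M ω ∧
      classSumMat (redRep A) x = resC M ω • (1 : Matrix (Fin n) (Fin n) (AlgInt ⧸ M)) := by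
  classical
  set S : Finset G := Finset.univ.filter (fun y : G => IsConj x y) with hS
  -- the class sum over the local ring
  set T : Matrix (Fin n) (Fin n) (Rloc M) := ∑ y ∈ S, A y with hT
  have hT1 : ((Rloc M).subtype.mapMatrix : Matrix (Fin n) (Fin n) (Rloc M) →+* Matrix (Fin n) (Fin n) ℂ) T =
      ω • (1 : Matrix (Fin n) (Fin n) ℂ) := by
    rw [hT, map_sum, ← h]
    unfold classSumMat
    rfl
  have hent : ∀ i j, ((T i j : Rloc M) : ℂ) = (ω • (1 : Matrix (Fin n) (Fin n) ℂ)) i j := by
    intro i j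
    rw [← hT1]
    rfl
  have hω : MemLocalRing M ω := by
    have h0 := hent ⟨0, hn⟩ ⟨0, hn⟩
    rw [Matrix.smul_apply, Matrix.one_apply_eq, smul_eq_mul, mul_one] at h0
    rw [← h0]
    exact (T ⟨0, hn⟩ ⟨0, hn⟩).2
  refine ⟨hω, ?_⟩
  have hT2 : T = (⟨ω, hω⟩ : Rloc M) • (1 : Matrix (Fin n) (Fin n) (Rloc M)) := by
    ext i j
    rw [hent i j, Matrix.smul_apply, Matrix.smul_apply]
    by_cases hij : i = j
    · subst hij
      simp
    · simp [Matrix.one_apply_ne hij]
  have hT3 : classSumMat (redRep A) x =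
      ((res M).mapMatrix : Matrix (Fin n) (Fin n) (Rloc M) →+* Matrix (Fin n) (Fin n) (AlgInt ⧸ M)) T := by
    rw [hT, map_sum]
    unfold classSumMat
    rfl
  rw [hT3, hT2]
  ext i j
  rw [RingHom.mapMatrix_apply, Matrix.map_apply, Matrix.smul_apply, Matrix.smul_apply, smul_eq_mul,
    smul_eq_mul, map_mul, res_apply]
  by_cases hij : i = j
  · subst hij
    simp
  · simp [Matrix.one_apply_ne hij]

/-- (DEC), core: from the conclusion of (RLF) for `χ` -/
theorem decomposition_of (hpM : (p : AlgInt) ∈ M) [Fintype G] (χ : IrrCharacter G)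
    (hRLF : ∃ (n : ℕ) (A : G →* Matrix (Fin n) (Fin n) (Rloc M)), 0 < n ∧
      cplxTrace A = (χ : G → ℂ) ∧
      ∀ x, classSumMat (cplxRep A) x = centralChar (χ : G → ℂ) x • (1 : Matrix (Fin n) (Fin n) ℂ)) :
    ∃ l : List (G → ℂ), (∀ φ ∈ l, φ ∈ IBrIn p M (blockOf M (χ : G → ℂ))) ∧
      pRegularPart p (χ : G → ℂ) = l.sum := by
  classical
  have : M.IsPrime := Ideal.IsMaximal.isPrime inferInstance
  obtain ⟨n, A, hn, hAχ, hcls⟩ := hRLF
  obtain ⟨l, hirr, hcp, hsc⟩ := Cfsg.Agent.Helper24.DT.exists_compSeries (redRep A)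
  refine ⟨l.map (fun s => brauerChar p M s.2), ?_, ?_⟩
  · intro φ hφ
    obtain ⟨s, hs, rfl⟩ := List.mem_map.mp hφ
    refine ⟨s.1, s.2, hirr s hs, rfl, ?_⟩
    intro χ' hχ' x
    -- the class sum on the reduction
    obtain ⟨hω, hred⟩ := DEC_classSum_red hn A x _ (hcls x)
    -- the residues of the central characters agree
    have hsame : MemLocalIdeal M (centralChar (χ : G → ℂ) x - centralChar (χ' : G → ℂ) x) := hχ' x
    have hω' : MemLocalRing M (centralChar (χ' : G → ℂ) x) := by
      have := memLocalRing_sub hω (memLocalIdeal_memLocalRing hsame)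
      simpa using this
    have hres : resC M (centralChar (χ' : G → ℂ) x) = resC M (centralChar (χ : G → ℂ) x) := by
      have h1 : centralChar (χ : G → ℂ) x =
          centralChar (χ' : G → ℂ) x + (centralChar (χ : G → ℂ) x - centralChar (χ' : G → ℂ) x) := by ring
      have h2 := resC_add hω' (memLocalIdeal_memLocalRing hsame)
      rw [← h1, (resC_eq_zero_iff (memLocalIdeal_memLocalRing hsame)).mpr hsame, add_zero] at h2
      exact h2.symm
    rw [hres]
    -- transport to the composition factor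
    have h3 : ∑ g ∈ Finset.univ.filter (fun y : G => IsConj x y), (fun _ : G => (1 : AlgInt ⧸ M)) g • redRep A g =
        resC M (centralChar (χ : G → ℂ) x) • (1 : Matrix (Fin n) (Fin n) (AlgInt ⧸ M)) := by
      rw [← hred]
      unfold classSumMat
      simp
    have h4 := hsc _ _ _ h3 s hs
    rw [← h4]
    unfold classSumMat
    simp
  · -- the sum
    have h1 : brauerFull p M (redRep A) = (l.map fun s => brauerFull p M s.2).sum :=
      Cfsg.Agent.Helper10.DT.brauerFull_compSeries (redRep A) l hcp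
    have h2 : pRegularPart p (χ : G → ℂ) = pRegularPart p (brauerFull p M (redRep A)) := by
      funext g
      by_cases hg : IsPRegular p g
      · rw [DEC_pReg_of_reg _ hg, DEC_pReg_of_reg _ hg, Cfsg.Agent.Helper30.DT.brauerFull_redRep hpM A g hg, hAχ]
      · rw [DEC_pReg_of_not_reg _ hg, DEC_pReg_of_not_reg _ hg]
    rw [h2, h1, DEC_pReg_list_sum, List.map_map]
    rfl

end Decomp

end Cfsg.Agent.Helper87.DT
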