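import Cfsg.Agent.Helper16.DT.Defs
import Cfsg.Agent.Helper87.DT_DECCore
import Cfsg.Agent.Helper70.DT_RLF

/-!
helper87, piece (DEC) `decomposition` of helper16's DT farm (#13881, target S4641): the final statement.
-/

set_option autoImplicit false
set_option linter.unusedSectionVars false
set_option linter.unusedVariables false

namespace Cfsg.Agent.Helper87.DT

open Cfsg Cfsg.Agent.Helper16 Cfsg.Agent.Helper16.DT Polynomial Matrix

universe u v w

section Decomp

variable {p : ℕ} [Fact p.Prime] {M : Ideal AlgInt} [M.IsMaximal] {G : Type u} [Group G]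

/-- (DEC) -/
theorem decomposition (hpM : (p : AlgInt) ∈ M) [Fintype G] (χ : IrrCharacter G) :
    ∃ l : List (G → ℂ), (∀ φ ∈ l, φ ∈ IBrIn p M (blockOf M (χ : G → ℂ))) ∧
      pRegularPart p (χ : G → ℂ) = l.sum :=
  decomposition_of hpM χ (Cfsg.Agent.Helper70.DT.exists_Rloc_rep (M := M) χ)

end Decomp

end Cfsg.Agent.Helper87.DT
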