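import Cfsg.Agent.Helper16.DT.Defs
import Cfsg.Agent.Helper74.CharCount
import Cfsg.Agent.Helper87.DT_DECCore
import Cfsg.Agent.Helper24.DT_AC
import Cfsg.Agent.Helper30.DT_TEI
import Cfsg.Agent.Helper53.DT_WA1
import Cfsg.Agent.Helper10.DT_WA2
import Cfsg.Agent.Helper10.DT_BCH
import Cfsg.Agent.Helper24.DT_JH2
import Cfsg.Agent.Helper10.DT_ADD

/-!
helper87, piece (E4) of helper16's DT farm (#13881, target S4641): the CORE
`isCharacter_brauerFull_of_pPrime_of`, with the conclusions of (DEC), (IBI), (INJ) for the group `Q` as hypotheses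
(AC, CHP, TEI, WA1, WA2, BCH, JH2, ADD are imported from main).
-/

set_option autoImplicit false
set_option linter.unusedSectionVars false
set_option linter.unusedVariables false

namespace Cfsg.Agent.Helper87.DT

open Cfsg Cfsg.Agent.Helper16 Cfsg.Agent.Helper16.DT Polynomial Matrix

universe u v w

/-- the counting lemma -/
theorem E4_comb {X Y : Type*} [Fintype X] [Fintype Y] [DecidableEq Y] (d : X → Y → ℕ) (n : Y → ℕ)
    (N : ℕ) (hn : ∀ y, 0 < n y) (ha : ∀ y, ∃ x, d x y ≠ 0) (hb : N ≤ ∑ y, n y ^ 2)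
    (hc : ∑ x, (∑ y, d x y * n y) ^ 2 = N) :
    ∀ y, ∃ x, d x y = 1 ∧ ∀ y', y' ≠ y → d x y' = 0 := by
  classical
  choose f hf using ha
  set a : X → Y → ℕ := fun x y => d x y * n y with ha_def
  set s : X → ℕ := fun x => ∑ y, a x y with hs_def
  have h1 : N = ∑ y, ∑ x, a x y * s x := by
    rw [← hc, Finset.sum_comm]
    refine Finset.sum_congr rfl fun x _ => ?_
    show (∑ y, a x y) ^ 2 = ∑ y, a x y * s x
    rw [sq, Finset.sum_mul]
  have hs_ge : ∀ x y, a x y ≤ s x := fun x y =>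
    Finset.single_le_sum (f := fun y => a x y) (fun _ _ => Nat.zero_le _) (Finset.mem_univ y)
  have hfy : ∀ y, n y ≤ a (f y) y := by
    intro y
    show n y ≤ d (f y) y * n y
    have : 1 ≤ d (f y) y := Nat.one_le_iff_ne_zero.mpr (hf y)
    nlinarith
  have h2 : ∀ y, n y ^ 2 ≤ a (f y) y * s (f y) := by
    intro y
    have := hs_ge (f y) y
    have := hfy y
    nlinarith
  have h3 : ∀ y, a (f y) y * s (f y) ≤ ∑ x, a x y * s x := fun y =>
    Finset.single_le_sum (f := fun x => a x y * s x) (fun _ _ => Nat.zero_le _) (Finset.mem_univ (f y))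
  have h4 : ∀ y, n y ^ 2 ≤ ∑ x, a x y * s x := fun y => le_trans (h2 y) (h3 y)
  have h5 : ∑ y, n y ^ 2 = ∑ y, ∑ x, a x y * s x :=
    le_antisymm (Finset.sum_le_sum fun y _ => h4 y) (by rw [← h1]; exact hb)
  have h6 : ∀ y, n y ^ 2 = ∑ x, a x y * s x := by
    intro y
    exact (Finset.sum_eq_sum_iff_of_le (fun y _ => h4 y)).mp h5 y (Finset.mem_univ y)
  intro y
  refine ⟨f y, ?_, ?_⟩
  · have e1 : a (f y) y * s (f y) = n y ^ 2 := le_antisymm (by rw [h6 y]; exact h3 y) (h2 y)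
    have hD : 1 ≤ d (f y) y := Nat.one_le_iff_ne_zero.mpr (hf y)
    by_contra hne
    have hD2 : 2 ≤ d (f y) y := by omega
    have hny := hn y
    have h7 : a (f y) y = d (f y) y * n y := rfl
    have h8 := hs_ge (f y) y
    have h9 : 2 * n y ≤ a (f y) y := by rw [h7]; nlinarith
    nlinarith
  · intro y' hy'
    have e1 : a (f y) y * s (f y) = n y ^ 2 := le_antisymm (by rw [h6 y]; exact h3 y) (h2 y)
    have hny := hn y
    have h8 := hs_ge (f y) y
    have h9 := hfy y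
    have h10 : s (f y) = n y := by nlinarith
    have h11 : a (f y) y = n y := by nlinarith
    have h12 : s (f y) = a (f y) y + ∑ z ∈ Finset.univ.erase y, a (f y) z := by
      show ∑ z, a (f y) z = _
      rw [Finset.add_sum_erase _ _ (Finset.mem_univ y)]
    have h13 : ∑ z ∈ Finset.univ.erase y, a (f y) z = 0 := by omega
    have h14 := (Finset.sum_eq_zero_iff.mp h13) y' (Finset.mem_erase.mpr ⟨hy', Finset.mem_univ _⟩)
    have h15 : d (f y) y' * n y' = 0 := h14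
    rcases Nat.mul_eq_zero.mp h15 with h | h
    · exact h
    · exact absurd h (hn y').ne'

section Decomp

variable {p : ℕ} [Fact p.Prime] {M : Ideal AlgInt} [M.IsMaximal] {G : Type u} [Group G]

/-- `bfull` depends only on the characteristic polynomial -/
theorem E4_bfull_congr {ι κ : Type*} [Fintype ι] [DecidableEq ι] [Fintype κ] [DecidableEq κ]
    (A : Matrix ι ι (AlgInt ⧸ M)) (B : Matrix κ κ (AlgInt ⧸ M)) (h : A.charpoly = B.charpoly) :
    bfull p M A = bfull p M B := by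
  unfold bfull
  rw [h]

/-- the lifted trace function is a class function -/
theorem E4_brauerFull_classFunction {ι : Type*} [Fintype ι] [DecidableEq ι]
    (ρ : G →* Matrix ι ι (AlgInt ⧸ M)) : IsClassFunction G (brauerFull p M ρ) := by
  intro g h
  unfold brauerFull
  apply E4_bfull_congr
  rw [map_mul, map_mul, Matrix.charpoly_mul_comm, ← Matrix.mul_assoc, ← map_mul, inv_mul_cancel, map_one,
    Matrix.one_mul]

/-- the degree: `brauerFull ρ 1 = n` -/
theorem E4_brauerFull_one (hpM : (p : AlgInt) ∈ M) {n : ℕ} (ρ : G →* Matrix (Fin n) (Fin n) (AlgInt ⧸ M)) :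
    brauerFull p M ρ 1 = (n : ℂ) := by
  have hteich : teich p M (1 : AlgInt ⧸ M) = 1 := by
    have h1 : IsPPrimeRoot p (((1 : AlgInt) : AlgInt) : ℂ) := ⟨1, (Nat.Prime.one_lt Fact.out).ne' ∘ Nat.dvd_one.mp, by simp⟩
    have := Cfsg.Agent.Helper30.DT.teich_mk_root hpM h1
    simpa using this
  unfold brauerFull bfull
  rw [map_one, Matrix.charpoly_one, Polynomial.roots_pow]
  have : ((X : (AlgInt ⧸ M)[X]) - 1) = X - C 1 := by rw [map_one]
  rw [this, Polynomial.roots_X_sub_C, Multiset.map_nsmul, Multiset.sum_nsmul, Multiset.map_singleton,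
    Multiset.sum_singleton, hteich, Fintype.card_fin]
  simp


/-- over a `p'`-group every element is `p`-regular -/
theorem E4_allRegular {Q : Type u} [Group Q] [Finite Q] (hQ : ¬ p ∣ Nat.card Q) (g : Q) :
    IsPRegular p g := fun h => hQ (dvd_trans h (orderOf_dvd_natCard g))

/-- core: over a `p'`-group every irreducible Brauer character is an ordinary irreducible character -/
theorem E4_IBr_isCharacter (hpM : (p : AlgInt) ∈ M) {Q : Type u} [Group Q] [Fintype Q]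
    (hQ : ¬ p ∣ Nat.card Q)
    (hDEC : ∀ χ : IrrCharacter Q, ∃ l : List (Q → ℂ),
      (∀ φ ∈ l, φ ∈ IBrIn p M (blockOf M (χ : Q → ℂ))) ∧ pRegularPart p (χ : Q → ℂ) = l.sum)
    (hIBI : LinearIndependent ℂ (fun φ : IBr p M Q => (φ : Q → ℂ)))
    (hINJ : ∀ {m n : ℕ} (ρ : Q →* Matrix (Fin m) (Fin m) (AlgInt ⧸ M))
      (σ : Q →* Matrix (Fin n) (Fin n) (AlgInt ⧸ M)), IsIrredMat ρ → IsIrredMat σ →
      brauerChar p M ρ = brauerChar p M σ → MatEquiv ρ σ)
    {φ : Q → ℂ} (hφ : φ ∈ IBr p M Q) : IsCharacter Q φ := by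
  classical
  let _ : Fintype (IrrCharacter Q) := Cfsg.Agent.Helper74.irrFintype Q
  have hpR : ∀ f : Q → ℂ, pRegularPart p f = f := fun f =>
    funext fun g => DEC_pReg_of_reg f (E4_allRegular hQ g)
  have hbc : ∀ {n : ℕ} (ρ : Q →* Matrix (Fin n) (Fin n) (AlgInt ⧸ M)),
      brauerChar p M ρ = brauerFull p M ρ := fun ρ => hpR _
  -- the set of irreducible Brauer characters is finite
  have hB := hIBI
  have hfin : (IBr p M Q).Finite := hB.setFinite
  set Bf : Finset (Q → ℂ) := hfin.toFinset with hBf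
  have hmemB : ∀ ψ, ψ ∈ Bf ↔ ψ ∈ IBr p M Q := fun ψ => hfin.mem_toFinset
  have hBli : LinearIndependent ℂ (fun ψ : Bf => (ψ : Q → ℂ)) := by
    have := hB.comp (fun ψ : Bf => (⟨ψ.1, (hmemB _).mp ψ.2⟩ : IBr p M Q)) (by
      intro a b hab
      apply Subtype.ext
      exact congrArg (fun z : IBr p M Q => (z : Q → ℂ)) hab)
    exact this
  have hcoef : ∀ c : (Q → ℂ) → ℂ, ∑ ψ ∈ Bf, c ψ • ψ = 0 → ∀ ψ ∈ Bf, c ψ = 0 := by
    intro c hc ψ hψ
    have h1 := Fintype.linearIndependent_iff.mp hBli (fun ψ : Bf => c ψ.1) (by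
      rw [← hc, ← Finset.sum_coe_sort Bf (fun ψ => c ψ • ψ)])
    exact h1 ⟨ψ, hψ⟩
  -- degrees
  set nn : (Q → ℂ) → ℕ := fun ψ => ⌊(ψ 1).re⌋₊ with hnn
  have hdeg' : ∀ {m : ℕ} (ρ : Q →* Matrix (Fin m) (Fin m) (AlgInt ⧸ M)),
      brauerChar p M ρ 1 = (m : ℂ) ∧ nn (brauerChar p M ρ) = m := by
    intro m ρ
    have h1 : brauerChar p M ρ 1 = (m : ℂ) := by rw [hbc ρ, E4_brauerFull_one hpM ρ]
    refine ⟨h1, ?_⟩
    show ⌊(brauerChar p M ρ 1).re⌋₊ = m
    rw [h1]
    simp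
  have hdeg : ∀ ψ ∈ Bf, ψ 1 = (nn ψ : ℂ) ∧ 0 < nn ψ := by
    intro ψ hψ
    obtain ⟨m, ρ, hirr, rfl⟩ := (hmemB ψ).mp hψ
    obtain ⟨h1, h2⟩ := hdeg' ρ
    refine ⟨by rw [h1, h2], ?_⟩
    rw [h2]
    obtain ⟨i⟩ := hirr.1
    exact Fin.pos i
  -- decomposition numbers
  choose l hl hsum using hDEC
  set d : IrrCharacter Q → (Q → ℂ) → ℕ := fun χ ψ => (l χ).count ψ with hd
  have hlsub : ∀ χ, (l χ).toFinset ⊆ Bf := by
    intro χ ψ hψ
    rw [List.mem_toFinset] at hψ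
    obtain ⟨m, ρ, h1, h2, -⟩ := hl χ ψ hψ
    exact (hmemB ψ).mpr ⟨m, ρ, h1, h2⟩
  have hH1 : ∀ χ : IrrCharacter Q, (χ : Q → ℂ) = ∑ ψ ∈ Bf, (d χ ψ : ℂ) • ψ := by
    intro χ
    have h1 : (χ : Q → ℂ) = (l χ).sum := by rw [← hsum χ, hpR]
    rw [h1, Finset.sum_list_count_of_subset _ Bf (hlsub χ)]
    refine Finset.sum_congr rfl fun ψ _ => ?_
    rw [Nat.cast_smul_eq_nsmul]
  -- every irreducible Brauer character occurs
  have hH3 : ∀ ψ ∈ Bf, ∃ χ, d χ ψ ≠ 0 := by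
    intro ψ hψ
    by_contra hall
    push Not at hall
    obtain ⟨m, ρ, hirr, hρ⟩ := (hmemB ψ).mp hψ
    have hcf : IsClassFunction Q ψ := by
      rw [hρ, hbc ρ]
      exact E4_brauerFull_classFunction ρ
    have hspan : ψ ∈ Submodule.span ℂ (Set.range (fun χ : IrrCharacter Q => (χ : Q → ℂ))) := by
      rw [Cfsg.Agent.Helper74.span_irr_eq_classFunSubmodule]
      exact Cfsg.Agent.Helper74.mem_classFunSubmodule.mpr hcf
    obtain ⟨a, ha⟩ := (Submodule.mem_span_range_iff_exists_fun ℂ).mp hspan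
    have h1 : ∑ ψ' ∈ Bf, ((∑ χ, a χ * (d χ ψ' : ℂ)) - (if ψ' = ψ then 1 else 0)) • ψ' = 0 := by
      simp only [sub_smul, Finset.sum_sub_distrib, ite_smul, one_smul, zero_smul,
        Finset.sum_ite_eq', hψ, if_true]
      rw [sub_eq_zero, ← ha]
      simp only [Finset.sum_smul]
      rw [Finset.sum_comm]
      refine Finset.sum_congr rfl fun χ _ => ?_
      rw [hH1 χ, Finset.smul_sum]
      refine Finset.sum_congr rfl fun ψ' _ => ?_
      rw [smul_smul]
    have h2 := hcoef _ h1 ψ hψ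
    simp only [hall, Nat.cast_zero, mul_zero, Finset.sum_const_zero, if_true, zero_sub, neg_eq_zero,
      one_ne_zero] at h2
  -- Wedderburn over the residue field
  have : IsAlgClosed (AlgInt ⧸ M) := Cfsg.Agent.Helper24.DT.isAlgClosed_res M
  have : CharP (AlgInt ⧸ M) p := Cfsg.Agent.Helper24.DT.charP_res M hpM
  have hcard : (Fintype.card Q : AlgInt ⧸ M) ≠ 0 := by
    intro h
    rw [CharP.cast_eq_zero_iff (AlgInt ⧸ M) p] at h
    apply hQ
    rwa [Nat.card_eq_fintype_card]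
  obtain ⟨r, dW, σ, hdpos, hbij⟩ := Cfsg.Agent.Helper53.DT.wedderburn_group (K := AlgInt ⧸ M) (G := Q) hcard
  obtain ⟨hsq, hne⟩ := Cfsg.Agent.Helper10.DT.wedderburn_consequences dW σ hdpos hbij
  have hσirr : ∀ i, IsIrredMat (σ i) := by
    intro i
    have : Nonempty (Fin (dW i)) := ⟨⟨0, hdpos i⟩⟩
    have h1 := Cfsg.Agent.Helper10.DT.isIrredMat_map_of_surjective (L := AlgInt ⧸ M) (σ i) (by
      intro A
      obtain ⟨x, hx, -⟩ := hbij (fun j => if h : j = i then h ▸ A else 0)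
      refine ⟨x, ?_⟩
      have := hx i
      simpa using this)
    have h2 : ((algebraMap (AlgInt ⧸ M) (AlgInt ⧸ M)).mapMatrix :
        Matrix (Fin (dW i)) (Fin (dW i)) (AlgInt ⧸ M) →+* _).toMonoidHom.comp (σ i) = σ i := by
      ext g a b
      simp
    rw [h2] at h1
    exact h1
  set φW : Fin r → (Q → ℂ) := fun i => brauerChar p M (σ i) with hφW
  have hφWmem : ∀ i, φW i ∈ Bf := fun i => (hmemB _).mpr ⟨dW i, σ i, hσirr i, rfl⟩
  have hφWinj : Function.Injective φW := by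
    intro i j hij
    by_contra hne'
    exact hne i j hne'
      (hINJ (σ i) (σ j) (hσirr i) (hσirr j) hij)
  have hH4 : Fintype.card Q ≤ ∑ ψ ∈ Bf, nn ψ ^ 2 := by
    rw [← hsq]
    calc ∑ i, dW i ^ 2 = ∑ i, nn (φW i) ^ 2 := by
          refine Finset.sum_congr rfl fun i _ => ?_
          rw [(hdeg' (σ i)).2]
      _ = ∑ ψ ∈ Finset.univ.image φW, nn ψ ^ 2 := by
          rw [Finset.sum_image (fun i _ j _ h => hφWinj h)]
      _ ≤ ∑ ψ ∈ Bf, nn ψ ^ 2 := by
          apply Finset.sum_le_sum_of_subset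
          intro ψ hψ
          obtain ⟨i, -, rfl⟩ := Finset.mem_image.mp hψ
          exact hφWmem i
  -- degrees of the ordinary characters
  have hH5 : ∑ χ : IrrCharacter Q, (∑ ψ ∈ Bf, d χ ψ * nn ψ) ^ 2 = Fintype.card Q := by
    have h1 := Cfsg.Agent.Helper74.sum_irr_degree_sq (G := Q)
    have h2 : ∀ χ : IrrCharacter Q, (χ : Q → ℂ) 1 = ((∑ ψ ∈ Bf, d χ ψ * nn ψ : ℕ) : ℂ) := by
      intro χ
      have := congrFun (hH1 χ) 1
      rw [this, Finset.sum_apply]
      push_cast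
      refine Finset.sum_congr rfl fun ψ hψ => ?_
      rw [Pi.smul_apply, smul_eq_mul, (hdeg ψ hψ).1]
    have h3 : ((∑ χ : IrrCharacter Q, (∑ ψ ∈ Bf, d χ ψ * nn ψ) ^ 2 : ℕ) : ℂ) = ((Fintype.card Q : ℕ) : ℂ) := by
      rw [← Nat.card_eq_fintype_card, ← h1]
      push_cast
      refine Finset.sum_congr rfl fun χ _ => ?_
      rw [h2 χ]
      push_cast
      ring
    exact_mod_cast h3
  -- the counting lemma
  have hcomb := E4_comb (X := IrrCharacter Q) (Y := Bf) (fun χ ψ => d χ ψ.1) (fun ψ => nn ψ.1)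
    (Fintype.card Q) (fun ψ => (hdeg ψ.1 ψ.2).2)
    (fun ψ => hH3 ψ.1 ψ.2)
    (by rw [Finset.sum_coe_sort Bf (fun ψ => nn ψ ^ 2)]; exact hH4)
    (by
      rw [← hH5]
      refine Finset.sum_congr rfl fun χ _ => ?_
      rw [Finset.sum_coe_sort Bf (fun ψ => d χ ψ * nn ψ)])
  have hφBf : φ ∈ Bf := (hmemB φ).mpr hφ
  obtain ⟨χ, hχ1, hχ0⟩ := hcomb ⟨φ, hφBf⟩
  have hfinal : (χ : Q → ℂ) = φ := by
    rw [hH1 χ, Finset.sum_eq_single φ]
    · have : d χ φ = 1 := hχ1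
      rw [this, Nat.cast_one, one_smul]
    · intro ψ hψ hne'
      have : d χ ψ = 0 := hχ0 ⟨ψ, hψ⟩ (fun h => hne' (congrArg Subtype.val h))
      rw [this, Nat.cast_zero, zero_smul]
    · intro h; exact absurd hφBf h
  rw [← hfinal]
  exact Cfsg.Agent.Helper74.irr_isCharacter χ

/-- (E4), core: from the conclusions of (DEC), (IBI), (INJ) for `Q` -/
theorem isCharacter_brauerFull_of_pPrime_of (hpM : (p : AlgInt) ∈ M) {Q : Type u} [Group Q] [Fintype Q]
    (hQ : ¬ p ∣ Nat.card Q)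
    (hDEC : ∀ χ : IrrCharacter Q, ∃ l : List (Q → ℂ),
      (∀ φ ∈ l, φ ∈ IBrIn p M (blockOf M (χ : Q → ℂ))) ∧ pRegularPart p (χ : Q → ℂ) = l.sum)
    (hIBI : LinearIndependent ℂ (fun φ : IBr p M Q => (φ : Q → ℂ)))
    (hINJ : ∀ {m n : ℕ} (ρ : Q →* Matrix (Fin m) (Fin m) (AlgInt ⧸ M))
      (σ : Q →* Matrix (Fin n) (Fin n) (AlgInt ⧸ M)), IsIrredMat ρ → IsIrredMat σ →
      brauerChar p M ρ = brauerChar p M σ → MatEquiv ρ σ)
    {n : ℕ} (τ : Q →* Matrix (Fin n) (Fin n) (AlgInt ⧸ M)) :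
    IsCharacter Q (brauerFull p M τ) := by
  obtain ⟨l, hirr, hcp, -⟩ := Cfsg.Agent.Helper24.DT.exists_compSeries τ
  rw [Cfsg.Agent.Helper10.DT.brauerFull_compSeries (p := p) τ l hcp]
  clear hcp
  induction l with
  | nil => exact Cfsg.Agent.Helper74.isCharacter_zero
  | cons s l ih =>
    rw [List.map_cons, List.sum_cons]
    refine Cfsg.Agent.Helper74.isCharacter_add ?_ (ih fun t ht => hirr t (List.mem_cons_of_mem _ ht))
    refine E4_IBr_isCharacter hpM hQ hDEC hIBI hINJ ⟨s.1, s.2, hirr s List.mem_cons_self, ?_⟩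
    funext g
    exact (DEC_pReg_of_reg _ (E4_allRegular hQ g)).symm

end Decomp

end Cfsg.Agent.Helper87.DT
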