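import Cfsg.Agent.Helper16.DT.Defs
import Cfsg.Agent.Helper87.DT_E4Core
import Cfsg.Agent.Helper87.DT_DEC
import Cfsg.Agent.Helper2.DT_DEN
import Cfsg.Agent.Helper48.DT_INaCore
import Cfsg.Agent.Helper55.DT_INb
import Cfsg.Agent.Helper69.DT_INc
import Cfsg.Agent.Helper25.DT_INDCore
import Cfsg.Agent.Helper53.DT_EQI
import Cfsg.Agent.Helper55.DT_IBICore

/-!
helper87, piece (E4) `isCharacter_brauerFull_of_pPrime` of helper16's DT farm (#13881, target S4641): the final
statement.  The pieces (IND), (INJ), (IBI) are assembled here directly from the landed cores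
(`Helper48.DT.INa_of_density` + `Helper2.DT.density`, `Helper25.DT.brauerChar_linearIndependent_of`,
`Helper25.DT.matEquiv_of_brauerChar_eq_of`, `Helper55.DT.IBr_linearIndependent_of`), so this file does not
depend on the verbatim wrappers of those pieces.
-/

set_option autoImplicit false
set_option linter.unusedSectionVars false
set_option linter.unusedVariables false

namespace Cfsg.Agent.Helper87.DT

open Cfsg Cfsg.Agent.Helper16 Cfsg.Agent.Helper16.DT Polynomial Matrix

universe u v w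

section Decomp

variable {p : ℕ} [Fact p.Prime] {M : Ideal AlgInt} [M.IsMaximal] {G : Type u} [Group G]

/-- (IND), assembled from the cores (auxiliary copy for (E4)). -/
theorem E4_IND (hpM : (p : AlgInt) ∈ M) [Fintype G] {r : ℕ} (d : Fin r → ℕ)
    (ρ : ∀ i, G →* Matrix (Fin (d i)) (Fin (d i)) (AlgInt ⧸ M)) (hirr : ∀ i, IsIrredMat (ρ i))
    (hne : ∀ i j, i ≠ j → ¬ MatEquiv (ρ i) (ρ j)) :
    LinearIndependent ℂ (fun i => brauerChar p M (ρ i)) := by
  haveI : IsAlgClosed (AlgInt ⧸ M) := Cfsg.Agent.Helper24.DT.isAlgClosed_res M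
  haveI : CharP (AlgInt ⧸ M) p := Cfsg.Agent.Helper24.DT.charP_res M hpM
  exact Cfsg.Agent.Helper25.DT.brauerChar_linearIndependent_of d ρ hirr hne
    (fun c hc => Cfsg.Agent.Helper48.DT.INa_of_density d ρ hirr
      (fun A => Cfsg.Agent.Helper2.DT.density d ρ hirr hne A) c hc)
    (fun i g => Cfsg.Agent.Helper55.DT.resC_bfull hpM (ρ i g))
    (fun v hv h => Cfsg.Agent.Helper69.DT.linearIndependent_of_resC v hv h)

/-- (INJ), assembled from the cores (auxiliary copy for (E4)). -/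
theorem E4_INJ (hpM : (p : AlgInt) ∈ M) [Fintype G] {m n : ℕ}
    (ρ : G →* Matrix (Fin m) (Fin m) (AlgInt ⧸ M)) (σ : G →* Matrix (Fin n) (Fin n) (AlgInt ⧸ M))
    (hρ : IsIrredMat ρ) (hσ : IsIrredMat σ) (h : brauerChar p M ρ = brauerChar p M σ) :
    MatEquiv ρ σ :=
  Cfsg.Agent.Helper25.DT.matEquiv_of_brauerChar_eq_of ρ σ hρ hσ h
    (fun hirr hne => E4_IND hpM _ _ hirr hne)

/-- (IBI), assembled from the cores (auxiliary copy for (E4)). -/
theorem E4_IBI (hpM : (p : AlgInt) ∈ M) [Fintype G] :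
    LinearIndependent ℂ (fun φ : IBr p M G => (φ : G → ℂ)) :=
  Cfsg.Agent.Helper55.DT.IBr_linearIndependent_of
    (fun d ρ hirr hne => E4_IND hpM d ρ hirr hne)
    (fun ρ σ h g => Cfsg.Agent.Helper53.DT.charpoly_of_matEquiv h g)

/-- (E4) -/
theorem isCharacter_brauerFull_of_pPrime (hpM : (p : AlgInt) ∈ M) {Q : Type u} [Group Q] [Finite Q]
    (hQ : ¬ p ∣ Nat.card Q) {n : ℕ} (τ : Q →* Matrix (Fin n) (Fin n) (AlgInt ⧸ M)) :
    IsCharacter Q (brauerFull p M τ) := by
  letI : Fintype Q := Fintype.ofFinite Q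
  exact isCharacter_brauerFull_of_pPrime_of hpM hQ (fun χ => decomposition hpM χ)
    (E4_IBI hpM)
    (fun ρ σ hρ hσ h => E4_INJ hpM ρ σ hρ hσ h) τ

end Decomp

end Cfsg.Agent.Helper87.DT
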