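import Mathlib
import Cfsg.Agent.Helper99.BCDefs
import Cfsg.Agent.Helper93.BCLA1
import Cfsg.Agent.Helper93.BCLA4

/-!
# (LA9) of S2362 (helper99): the form is non-degenerate on the fixed space
-/

set_option autoImplicit false

namespace Cfsg.Agent.Helper87.BC

open Module Polynomial Cfsg.Agent.Helper99.BC

variable {F : Type*} [Field F] {V : Type*} [AddCommGroup V] [Module F V]

/-- (LA9) the form is non-degenerate on the fixed space -/
theorem nondeg_on_fixS (Q : QuadraticForm F V) (A : Module.End F V) (r : ℕ)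
    (hr : (r : F) ≠ 0) (hA : A ^ r = 1) (hiso : ∀ x, Q (A x) = Q x)
    (hnd : ∀ x : V, (∀ y, QuadraticMap.polar Q x y = 0) → x = 0) :
    ∀ x ∈ fixS A, (∀ y ∈ fixS A, QuadraticMap.polar Q x y = 0) → x = 0 := by
  intro x hx hxy
  apply hnd x
  intro y
  have hc := Cfsg.Agent.Helper93.BC.isCompl_fixS_movS A r hr hA
  have hy : y ∈ fixS A ⊔ movS A r := by
    rw [hc.sup_eq_top]; exact Submodule.mem_top
  obtain ⟨y1, hy1, y2, hy2, rfl⟩ := Submodule.mem_sup.mp hy
  rw [QuadraticMap.polar_add_right, hxy y1 hy1,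
    Cfsg.Agent.Helper93.BC.polar_eq_zero_of_fixS_movS Q A r hr hA hiso hx hy2, add_zero]

end Cfsg.Agent.Helper87.BC
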