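import Mathlib
import Cfsg.Agent.Helper99.BCDefs

/-!
# (LA3) of S2362 (helper99): orbit counting for an operator of prime order
-/

set_option autoImplicit false

namespace Cfsg.Agent.Helper87.BC

open Module Polynomial Cfsg.Agent.Helper99.BC

variable {F : Type*} [Field F] {V : Type*} [AddCommGroup V] [Module F V]

/-- a fixed vector of `A` in the moving space is zero -/
theorem eq_zero_of_fix_of_mem_movS (A : Module.End F V) (r : ℕ) (hr : (r : F) ≠ 0) {x : V}
    (hfix : A x = x) (hx : x ∈ movS A r) : x = 0 := by
  rw [mem_movS] at hx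
  have hpow : ∀ i : ℕ, (A ^ i) x = x := by
    intro i
    induction i with
    | zero => simp
    | succ i ih => rw [pow_succ, Module.End.mul_apply, hfix, ih]
  rw [Finset.sum_congr rfl (fun i _ => hpow i), Finset.sum_const, Finset.card_range] at hx
  have h2 : (r : F) • x = 0 := by
    rw [← hx, Nat.cast_smul_eq_nsmul]
  rcases smul_eq_zero.mp h2 with h | h
  · exact absurd h hr
  · exact h

/-- (LA3) orbit counting: `⟨A⟩` acts without fixed points on `W' \ {0}` -/
theorem prime_dvd_card_pow_sub_one [Fintype F] [FiniteDimensional F V] (A : Module.End F V)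
    (r : ℕ) (hrp : r.Prime) (hA : A ^ r = 1) (hr : (r : F) ≠ 0) (W' : Submodule F V)
    (hW' : W' ≤ movS A r) (hinv : ∀ x ∈ W', A x ∈ W') :
    r ∣ Fintype.card F ^ finrank F W' - 1 := by
  classical
  have : Fact r.Prime := ⟨hrp⟩
  have : Finite V := Module.finite_of_finite F
  have : Fintype W' := Fintype.ofFinite _
  -- the restriction of `A` to `W'` as a self-map
  let f : Function.End W' := fun x => ⟨A x, hinv x x.2⟩
  have hfpow : ∀ (i : ℕ) (x : W'), (((f ^ i) x : W') : V) = (A ^ i) x := by
    intro i
    induction i with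
    | zero => intro x; rfl
    | succ i ih =>
      intro x
      rw [pow_succ', pow_succ']
      change ((f ((f ^ i) x) : W') : V) = (A * A ^ i) x
      rw [Module.End.mul_apply, ← ih x]
  have hf : f ^ r ^ 1 = 1 := by
    rw [pow_one]
    funext x
    apply Subtype.ext
    rw [hfpow, hA]
    rfl
  have hmod := Equiv.Perm.card_fixedPoints_modEq (f := f) (p := r) (n := 1) hf
  -- the only fixed point is zero
  have hfix : Fintype.card (Function.fixedPoints f) = 1 := by
    rw [Fintype.card_eq_one_iff]
    refine ⟨⟨0, ?_⟩, ?_⟩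
    · change f 0 = 0
      apply Subtype.ext
      change A ((0 : W') : V) = ((0 : W') : V)
      simp
    · rintro ⟨x, hx⟩
      apply Subtype.ext
      apply Subtype.ext
      change (x : V) = ((0 : W') : V)
      have hx' : f x = x := hx
      have h1 : A (x : V) = (x : V) := congrArg Subtype.val hx'
      rw [eq_zero_of_fix_of_mem_movS A r hr h1 (hW' x.2)]
      rfl
  rw [hfix] at hmod
  have hcard : Fintype.card W' = Fintype.card F ^ finrank F W' :=
    Module.card_eq_pow_finrank (K := F) (V := W')
  rw [hcard] at hmod
  have hpos : 1 ≤ Fintype.card F ^ finrank F W' := Nat.one_le_pow _ _ Fintype.card_pos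
  exact (Nat.modEq_iff_dvd' hpos).mp hmod.symm

end Cfsg.Agent.Helper87.BC
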