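import Mathlib
import Cfsg.Agent.Helper99.BCDefs
import Cfsg.Agent.Helper93.BCLA1
import Cfsg.Agent.Helper93.BCLA2
import Cfsg.Agent.Helper87.BCLA3

/-!
# (LA5) of S2362 (helper99): dimensions of the moving and the fixed space
-/

set_option autoImplicit false

namespace Cfsg.Agent.Helper87.BC

open Module Polynomial Cfsg.Agent.Helper99.BC

variable {F : Type*} [Field F] {V : Type*} [AddCommGroup V] [Module F V]

/-- (LA5) dimensions -/
theorem finrank_movS_fixS [Fintype F] [FiniteDimensional F V] (A : Module.End F V)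
    (r : ℕ) (hrp : r.Prime) (hA : A ^ r = 1) (hA1 : A ≠ 1) (hr : (r : F) ≠ 0) (k : ℕ) (hk : 2 ≤ k)
    (hV : finrank F V = 2 * k + 3)
    (hppd : ∀ j : ℕ, 0 < j → r ∣ Fintype.card F ^ j - 1 → 2 * k ∣ j) :
    finrank F (movS A r) = 2 * k ∧ finrank F (fixS A) = 3 := by
  have hc := Cfsg.Agent.Helper93.BC.isCompl_fixS_movS A r hr hA
  have hsum : finrank F (fixS A) + finrank F (movS A r) = finrank F V :=
    Submodule.finrank_add_eq_of_isCompl hc
  -- the moving space is non-zero
  have hne : finrank F (movS A r) ≠ 0 := by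
    intro h0
    have hbot : movS A r = ⊥ := Submodule.finrank_eq_zero.mp h0
    have htop : fixS A = ⊤ := by
      have := hc.sup_eq_top
      rwa [hbot, sup_bot_eq] at this
    apply hA1
    ext x
    have hx : x ∈ fixS A := by rw [htop]; exact Submodule.mem_top
    rw [mem_fixS.mp hx, Module.End.one_apply]
  have hpos : 0 < finrank F (movS A r) := Nat.pos_of_ne_zero hne
  have hdvd := prime_dvd_card_pow_sub_one A r hrp hA hr (movS A r) le_rfl
    (fun x hx => Cfsg.Agent.Helper93.BC.map_mem_movS (Commute.refl A) hx)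
  obtain ⟨c, hc'⟩ := hppd _ hpos hdvd
  have hle : finrank F (movS A r) ≤ 2 * k + 3 := by omega
  have hc1 : c = 1 := by
    have hc0 : c ≠ 0 := by
      rintro rfl
      rw [mul_zero] at hc'
      exact hne hc'
    have hc2 : c < 2 := by
      by_contra hge
      push Not at hge
      have : 2 * k * 2 ≤ 2 * k * c := Nat.mul_le_mul_left _ hge
      omega
    omega
  rw [hc1, mul_one] at hc'
  exact ⟨hc', by omega⟩

end Cfsg.Agent.Helper87.BC
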