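import Mathlib
import Cfsg.Agent.Helper99.BCDefs
import Cfsg.Agent.Helper87.BCLA3

/-!
# (LA6) of S2362 (helper99): the moving space is irreducible
-/

set_option autoImplicit false

namespace Cfsg.Agent.Helper87.BC

open Module Polynomial Cfsg.Agent.Helper99.BC

variable {F : Type*} [Field F] {V : Type*} [AddCommGroup V] [Module F V]

/-- (LA6) the moving space is irreducible -/
theorem eq_bot_or_eq_movS [Fintype F] [FiniteDimensional F V] (A : Module.End F V)
    (r : ℕ) (hrp : r.Prime) (hA : A ^ r = 1) (hr : (r : F) ≠ 0) (k : ℕ) (hk : 1 ≤ k)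
    (hW : finrank F (movS A r) = 2 * k)
    (hppd : ∀ j : ℕ, 0 < j → r ∣ Fintype.card F ^ j - 1 → 2 * k ∣ j)
    (W' : Submodule F V) (hW' : W' ≤ movS A r) (hinv : ∀ x ∈ W', A x ∈ W') :
    W' = ⊥ ∨ W' = movS A r := by
  have hdvd := prime_dvd_card_pow_sub_one A r hrp hA hr W' hW' hinv
  by_cases h0 : finrank F W' = 0
  · left
    exact Submodule.finrank_eq_zero.mp h0
  · right
    have hpos : 0 < finrank F W' := Nat.pos_of_ne_zero h0
    have h1 : 2 * k ∣ finrank F W' := hppd _ hpos hdvd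
    have h2 : finrank F W' ≤ 2 * k := hW ▸ Submodule.finrank_mono hW'
    have h3 : finrank F W' = 2 * k := le_antisymm h2 (Nat.le_of_dvd hpos h1)
    exact Submodule.eq_of_le_of_finrank_eq hW' (h3.trans hW.symm)

end Cfsg.Agent.Helper87.BC
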