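import Mathlib
import Cfsg.Agent.Helper13.Sp4O.Defs

/-!
# (NILP) + helper lemmas of S2281, `n = 2`, `q` odd (helper13): the element `uS θ` is unipotent

With `c = θ / 2`, `u = UW c * Me 0 (-1) 0` and `N = u - 1`:
`N e1 = 0`, `N e2 = -e1`, `N f2 = -c e2`, `N f1 = f2 - c e2`, so `N ^ 4 = 0` and `N ^ 3 f1 = c e1`.
-/

set_option autoImplicit false

namespace Cfsg.Agent.Helper87.Sp4O

open Matrix Cfsg.Agent.Helper13.Sp4O

variable {F : Type*} [Field F]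

theorem coe_uS (θ : F) : ((uS θ : Sp4 F) : M4 F) = UW (θ / 2) * Me 0 (-1) 0 := rfl

/-- the nilpotent part of `uS θ` (with `c = θ / 2`) -/
noncomputable def Nm (c : F) : M4 F := UW c * Me 0 (-1) 0 - 1

theorem Nm_mulVec (c : F) (x : V4 F) :
    Nm c *ᵥ x = UW c *ᵥ (Me 0 (-1) 0 *ᵥ x) - x := by
  rw [Nm, Matrix.sub_mulVec, Matrix.one_mulVec, Matrix.mulVec_mulVec]

theorem Nm_e1 (c : F) : Nm c *ᵥ e1 = 0 := by
  rw [Nm_mulVec, Me_mulVec, UW_mulVec]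
  apply vec_ext <;> simp

theorem Nm_e2 (c : F) : Nm c *ᵥ e2 = -e1 := by
  rw [Nm_mulVec, Me_mulVec, UW_mulVec]
  apply vec_ext <;> simp

theorem Nm_f2 (c : F) : Nm c *ᵥ f2 = -(c • e2) := by
  rw [Nm_mulVec, Me_mulVec, UW_mulVec]
  apply vec_ext <;> simp

theorem Nm_f1 (c : F) : Nm c *ᵥ f1 = f2 - c • e2 := by
  rw [Nm_mulVec, Me_mulVec, UW_mulVec]
  apply vec_ext <;> simp

theorem Nm_sq_e2 (c : F) : (Nm c * Nm c) *ᵥ e2 = 0 := by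
  rw [← Matrix.mulVec_mulVec, Nm_e2, Matrix.mulVec_neg, Nm_e1, neg_zero]

theorem Nm_sq_f2 (c : F) : (Nm c * Nm c) *ᵥ f2 = c • e1 := by
  rw [← Matrix.mulVec_mulVec, Nm_f2, Matrix.mulVec_neg, Matrix.mulVec_smul, Nm_e2, smul_neg, neg_neg]

theorem Nm_sq_f1 (c : F) : (Nm c * Nm c) *ᵥ f1 = -(c • e2) + c • e1 := by
  rw [← Matrix.mulVec_mulVec, Nm_f1, Matrix.mulVec_sub, Nm_f2, Matrix.mulVec_smul, Nm_e2, smul_neg,
    sub_neg_eq_add]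

theorem Nm_sq_e1 (c : F) : (Nm c * Nm c) *ᵥ e1 = 0 := by
  rw [← Matrix.mulVec_mulVec, Nm_e1, Matrix.mulVec_zero]

theorem Nm_cube_f1 (c : F) : (Nm c * (Nm c * Nm c)) *ᵥ f1 = c • e1 := by
  rw [← Matrix.mulVec_mulVec, Nm_sq_f1, Matrix.mulVec_add, Matrix.mulVec_neg, Matrix.mulVec_smul,
    Matrix.mulVec_smul, Nm_e2, Nm_e1, smul_neg, neg_neg, smul_zero, add_zero]

theorem Nm_cube_f2 (c : F) : (Nm c * (Nm c * Nm c)) *ᵥ f2 = 0 := by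
  rw [← Matrix.mulVec_mulVec, Nm_sq_f2, Matrix.mulVec_smul, Nm_e1, smul_zero]

theorem Nm_cube_e1 (c : F) : (Nm c * (Nm c * Nm c)) *ᵥ e1 = 0 := by
  rw [← Matrix.mulVec_mulVec, Nm_sq_e1, Matrix.mulVec_zero]

theorem Nm_cube_e2 (c : F) : (Nm c * (Nm c * Nm c)) *ᵥ e2 = 0 := by
  rw [← Matrix.mulVec_mulVec, Nm_sq_e2, Matrix.mulVec_zero]

theorem Nm_pow_four (c : F) : Nm c ^ 4 = 0 := by
  have h : Nm c ^ 4 = Nm c * (Nm c * (Nm c * Nm c)) := by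
    rw [pow_succ', pow_succ', pow_two]
  rw [h]
  apply mat_ext4
  · rw [← Matrix.mulVec_mulVec, Nm_cube_e1, Matrix.mulVec_zero, Matrix.zero_mulVec]
  · rw [← Matrix.mulVec_mulVec, Nm_cube_e2, Matrix.mulVec_zero, Matrix.zero_mulVec]
  · rw [← Matrix.mulVec_mulVec, Nm_cube_f1, Matrix.mulVec_smul, Nm_e1, smul_zero,
      Matrix.zero_mulVec]
  · rw [← Matrix.mulVec_mulVec, Nm_cube_f2, Matrix.mulVec_zero, Matrix.zero_mulVec]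

/-- (NILP) -/
theorem uS_isNilpotent (θ : F) : IsNilpotent (((uS θ : Sp4 F) : M4 F) - 1) :=
  ⟨4, Nm_pow_four (θ / 2)⟩

end Cfsg.Agent.Helper87.Sp4O
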