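import Mathlib
import Cfsg.Agent.Helper13.Sp4O.Defs
import Cfsg.Agent.Helper87.Sp4ONILP

/-!
# (REGU) of S2281, `n = 2`, `q` odd (helper13): `uS θ` is a regular unipotent
-/

set_option autoImplicit false

namespace Cfsg.Agent.Helper87.Sp4O

open Matrix Cfsg.Agent.Helper13.Sp4O

variable {F : Type*} [Field F]

/-- (REGU) -/
theorem uS_pow_three_ne (θ : F) (hθ : θ ≠ 0) (h2 : (2 : F) ≠ 0) :
    (((uS θ : Sp4 F) : M4 F) - 1) ^ 3 ≠ 0 := by
  intro h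
  have h3 : Nm (θ / 2) ^ 3 = Nm (θ / 2) * (Nm (θ / 2) * Nm (θ / 2)) := by
    rw [pow_succ', pow_two]
  have h0 : Nm (θ / 2) ^ 3 = 0 := h
  have h1 := Nm_cube_f1 (θ / 2)
  rw [← h3, h0, Matrix.zero_mulVec] at h1
  have h4 := congrFun h1 (Sum.inr 0)
  rw [Pi.zero_apply, Pi.smul_apply, e1_inr0, smul_eq_mul, mul_one] at h4
  exact div_ne_zero hθ h2 h4.symm

end Cfsg.Agent.Helper87.Sp4O
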