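import Mathlib

set_option autoImplicit false

/-!
The coefficients of the characteristic polynomial of a matrix of finite order `r` in characteristic `p` are invariant
under the Frobenius powers `p ^ a`, `p ^ b` as soon as `p ^ a ≡ p ^ b` modulo `r`.
-/

namespace Cfsg.Agent.Helper87.SubOddFROB

open Matrix Polynomial

variable {F : Type*} [Field F] {n : ℕ}

/-- In characteristic `p`: `expand (p ^ k) (charpoly (M ^ p ^ k)) = (charpoly M) ^ p ^ k`. -/
theorem expand_charpoly_pow {K : Type*} [CommRing K] (p : ℕ) [Fact p.Prime] [CharP K p] {m : Type*}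
    [DecidableEq m] [Fintype m] [Nonempty m] (M : Matrix m m K) (k : ℕ) :
    expand K (p ^ k) (M ^ p ^ k).charpoly = M.charpoly ^ p ^ k := by
  unfold charpoly
  rw [AlgHom.map_det, ← coe_detMonoidHom, ← (detMonoidHom : Matrix m m K[X] →* K[X]).map_pow]
  apply congr_arg det
  refine matPolyEquiv.injective ?_
  rw [map_pow, matPolyEquiv_charmatrix, sub_pow_char_pow_of_commute, ← C_pow]
  · exact (id (matPolyEquiv_eq_X_pow_sub_C (p ^ k) M) :)
  · exact (C M).commute_X

/-- In characteristic `p`: `charpoly (M ^ p ^ k)` is `charpoly M` with the coefficients raised to the power `p ^ k`. -/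
theorem charpoly_pow_char_pow {K : Type*} [CommRing K] (p : ℕ) [Fact p.Prime] [CharP K p] {m : Type*}
    [DecidableEq m] [Fintype m] (M : Matrix m m K) (k : ℕ) :
    (M ^ p ^ k).charpoly = M.charpoly.map (iterateFrobenius K p k) := by
  cases isEmpty_or_nonempty m
  · have e1 : (M ^ p ^ k).charpoly = 1 := by
      unfold charpoly
      exact det_isEmpty
    have e2 : M.charpoly = 1 := by
      unfold charpoly
      exact det_isEmpty
    rw [e1, e2, Polynomial.map_one]
  · apply expand_injective (pow_pos (Fact.out : p.Prime).pos k)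
    rw [expand_charpoly_pow p M k, ← map_iterateFrobenius_expand p M.charpoly k, map_expand]

theorem coeff_charpoly_pow_char_pow {K : Type*} [CommRing K] (p : ℕ) [Fact p.Prime] [CharP K p] {m : Type*}
    [DecidableEq m] [Fintype m] (M : Matrix m m K) (k i : ℕ) :
    (M ^ p ^ k).charpoly.coeff i = M.charpoly.coeff i ^ p ^ k := by
  rw [charpoly_pow_char_pow p M k, coeff_map, iterateFrobenius_def]

/-- Powers of an element with `x ^ r = 1` only depend on the exponent modulo `r`. -/
theorem pow_eq_pow_of_modEq' {M : Type*} [Monoid M] (x : M) (r : ℕ) (hx : x ^ r = 1) {a b : ℕ}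
    (hab : a ≡ b [MOD r]) : x ^ a = x ^ b := by
  wlog h : a ≤ b generalizing a b
  · exact (this hab.symm (le_of_not_ge h)).symm
  obtain ⟨c, hc⟩ := (Nat.modEq_iff_dvd' h).mp hab
  have e : b = a + r * c := by omega
  rw [e, pow_add, pow_mul, hx, one_pow, mul_one]

/-- (FROB) -/
theorem charpoly_coeff_pow_eq (p : ℕ) [Fact p.Prime] [CharP F p] (A : Matrix (Fin n) (Fin n) F)
    (r : ℕ) (hA : A ^ r = 1) (a b : ℕ) (hab : p ^ a ≡ p ^ b [MOD r]) (i : ℕ) :
    A.charpoly.coeff i ^ p ^ a = A.charpoly.coeff i ^ p ^ b := by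
  rw [← coeff_charpoly_pow_char_pow p A a i, ← coeff_charpoly_pow_char_pow p A b i,
    pow_eq_pow_of_modEq' A r hA hab]

end Cfsg.Agent.Helper87.SubOddFROB
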