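import Mathlib
import Cfsg.Agent.Helper13.SubInvB

set_option autoImplicit false

/-!
If an element of `SL_n(F)` is conjugate into the subfield subgroup, then a scalar multiple of it has a characteristic
polynomial with coefficients in the subfield.
-/

namespace Cfsg.Agent.Helper87.SubOddK2

open Matrix Polynomial Cfsg Cfsg.Geo
open Cfsg.Agent.Helper13.SubInv (subH)

variable {F : Type*} [Field F] {n : ℕ}

/-- The characteristic polynomial of a matrix with entries in a subfield has coefficients in the subfield. -/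
theorem charpoly_coeff_mem_of_entries (F₀ : Subfield F) (N : Matrix (Fin n) (Fin n) F)
    (h : ∀ i j, N i j ∈ F₀) (i : ℕ) : N.charpoly.coeff i ∈ F₀ := by
  set M₀ : Matrix (Fin n) (Fin n) ↥F₀ := fun a b => ⟨N a b, h a b⟩ with hM₀
  have e : N = M₀.map F₀.subtype := by
    ext a b
    rfl
  rw [e, Matrix.charpoly_map, coeff_map]
  exact (M₀.charpoly.coeff i).2

/-- (K2) -/
theorem charpoly_of_conj (F₀ : Subfield F) (x P : Matrix.SpecialLinearGroup (Fin n) F)
    (h : P⁻¹ * x * P ∈ subH n F₀) :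
    ∃ lam : F, lam ≠ 0 ∧
      ∀ i, (lam⁻¹ • (x : Matrix (Fin n) (Fin n) F)).charpoly.coeff i ∈ F₀ := by
  obtain ⟨lam, hlam, hent⟩ := Cfsg.Agent.Helper13.SubInv.entries_of_mem_subH F₀ _ h
  refine ⟨lam, hlam, fun i => ?_⟩
  have hPP : ((P : Matrix (Fin n) (Fin n) F)) * ((P⁻¹ : Matrix.SpecialLinearGroup (Fin n) F) :
      Matrix (Fin n) (Fin n) F) = 1 := by
    rw [← Matrix.SpecialLinearGroup.coe_mul, mul_inv_cancel, Matrix.SpecialLinearGroup.coe_one]
  have e1 : ((P⁻¹ * x * P : Matrix.SpecialLinearGroup (Fin n) F) : Matrix (Fin n) (Fin n) F) =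
      ((P⁻¹ : Matrix.SpecialLinearGroup (Fin n) F) : Matrix (Fin n) (Fin n) F) *
        (x : Matrix (Fin n) (Fin n) F) * (P : Matrix (Fin n) (Fin n) F) := by
    rw [Matrix.SpecialLinearGroup.coe_mul, Matrix.SpecialLinearGroup.coe_mul]
  have e2 : (lam⁻¹ • (x : Matrix (Fin n) (Fin n) F)).charpoly =
      (lam⁻¹ • ((P⁻¹ * x * P : Matrix.SpecialLinearGroup (Fin n) F) : Matrix (Fin n) (Fin n) F)).charpoly := by
    rw [e1]
    have e3 : lam⁻¹ • (((P⁻¹ : Matrix.SpecialLinearGroup (Fin n) F) : Matrix (Fin n) (Fin n) F) *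
        (x : Matrix (Fin n) (Fin n) F) * (P : Matrix (Fin n) (Fin n) F)) =
        ((P⁻¹ : Matrix.SpecialLinearGroup (Fin n) F) : Matrix (Fin n) (Fin n) F) *
          ((lam⁻¹ • (x : Matrix (Fin n) (Fin n) F)) * (P : Matrix (Fin n) (Fin n) F)) := by
      rw [Matrix.smul_mul, Matrix.mul_smul, Matrix.mul_assoc]
    rw [e3, Matrix.charpoly_mul_comm, Matrix.mul_assoc, hPP, Matrix.mul_one]
  rw [e2]
  apply charpoly_coeff_mem_of_entries
  intro a b
  have := hent a b
  rw [Matrix.smul_apply, smul_eq_mul, mul_comm, ← div_eq_mul_inv]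
  exact this

end Cfsg.Agent.Helper87.SubOddK2
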