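import Cfsg.Agent.Helper87.FusionInduct
import Cfsg.Agent.Helper2.Residual
set_option autoImplicit false

namespace Cfsg.Agent.Helper87

open Cfsg Cfsg.FusionSystem

/-- The image of `O^p(A)` under a homomorphism lies in `O^p(B)`. -/
theorem pResidual_map_le {A B : Type*} [Group A] [Group B] {p : ℕ} (f : A →* B) :
    (Cfsg.pResidual p A).map f ≤ Cfsg.pResidual p B := by
  unfold Cfsg.pResidual
  rw [MonoidHom.map_closure, Subgroup.closure_le]
  rintro _ ⟨a, ha, rfl⟩
  apply Subgroup.subset_closure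
  show Nat.Coprime (orderOf (f a)) p
  exact Nat.Coprime.coprime_dvd_left (orderOf_map_dvd f a) ha

variable {Ω : Type*} [Group Ω] {S : Subgroup Ω}

/-- Transport of automorphisms of the system along an isomorphism of the system. -/
def autTransport (F : FusionSystem S) {P P' : Subgroup Ω} (e : P ≃* P') (he : IsIso F e) :
    F.autGroup P →* F.autGroup P' :=
  ((MulAut.congr e).toMonoidHom.comp (F.autGroup P).subtype).codRestrict (F.autGroup P') (fun α => by
    rw [mem_autGroup_iff F he.le_right]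
    have hα := (mem_autGroup_iff F he.le_left _).mp α.2
    exact he.symm.trans (hα.trans he))

theorem autTransport_apply (F : FusionSystem S) {P P' : Subgroup Ω} (e : P ≃* P') (he : IsIso F e)
    (α : F.autGroup P) (y : P') : ((autTransport F e he α : F.autGroup P') : MulAut P') y = e ((α : MulAut P) (e.symm y)) :=
  rfl

theorem hyperfocalSubgroup_le (F : FusionSystem S) (p : ℕ) : F.hyperfocalSubgroup p ≤ S := by
  unfold hyperfocalSubgroup
  rw [Subgroup.closure_le]
  rintro y ⟨P, α, x, hPS, -, rfl⟩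
  exact S.mul_mem (S.inv_mem (hPS x.2)) (hPS (((α : MulAut P) x : P)).2)

theorem mem_hyperfocalSubgroup (F : FusionSystem S) (p : ℕ) {P : Subgroup Ω} (hPS : P ≤ S) (α : F.autGroup P)
    (hα : α ∈ pResidual p (F.autGroup P)) (x : P) :
    (x : Ω)⁻¹ * ((α : MulAut P) x : P) ∈ F.hyperfocalSubgroup p :=
  Subgroup.subset_closure ⟨P, α, x, hPS, hα, rfl⟩

/-- The hyperfocal subgroup is normalized by `S`. -/
theorem conj_mem_hyperfocalSubgroup (F : FusionSystem S) (p : ℕ) {s : Ω} (hs : s ∈ S) {y : Ω}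
    (hy : y ∈ F.hyperfocalSubgroup p) : s * y * s⁻¹ ∈ F.hyperfocalSubgroup p := by
  have hle : F.hyperfocalSubgroup p ≤ (F.hyperfocalSubgroup p).comap (MulAut.conj s).toMonoidHom := by
    conv_lhs => unfold hyperfocalSubgroup
    rw [Subgroup.closure_le]
    rintro y ⟨P, α, x, hPS, hα, rfl⟩
    show s * ((x : Ω)⁻¹ * ((α : MulAut P) x : P)) * s⁻¹ ∈ F.hyperfocalSubgroup p
    have hφ : conjHom P s ∈ F.Hom P := F.conj_mem hPS hs
    have he := isIso_ofInjective F hφ
    set e := MonoidHom.ofInjective (F.injective_of_mem hφ) with he_def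
    have hα' : autTransport F e he α ∈ pResidual p (F.autGroup (conjHom P s).range) :=
      pResidual_map_le (autTransport F e he) (Subgroup.mem_map_of_mem _ hα)
    have := mem_hyperfocalSubgroup F p he.le_right _ hα' (e x)
    rw [autTransport_apply, MulEquiv.symm_apply_apply] at this
    have e1 : ∀ z : P, ((e z : (conjHom P s).range) : Ω) = s * z * s⁻¹ := fun z => rfl
    rw [e1, e1] at this
    have e2 : s * ((x : Ω)⁻¹ * ((α : MulAut P) x : P)) * s⁻¹ =
        (s * (x : Ω) * s⁻¹)⁻¹ * (s * ((α : MulAut P) x : P) * s⁻¹) := by group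
    rw [e2]
    exact this
  exact hle hy

/-- The hyperfocal subgroup of a saturated fusion system is strongly closed. -/
theorem stronglyClosed_hyperfocalSubgroup [Finite S] {p : ℕ} [Fact p.Prime] (hS : IsPGroup p S) (F : FusionSystem S)
    (hF : F.IsSaturated p) : F.StronglyClosed (F.hyperfocalSubgroup p) := by
  have hH : ∀ g ∈ S, ∀ x : Ω, g * x * g⁻¹ ∈ F.hyperfocalSubgroup p ↔ x ∈ F.hyperfocalSubgroup p := by
    intro g hg x
    refine ⟨fun h => ?_, fun h => conj_mem_hyperfocalSubgroup F p hg h⟩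
    have := conj_mem_hyperfocalSubgroup F p (S.inv_mem hg) h
    have e : g⁻¹ * (g * x * g⁻¹) * g⁻¹⁻¹ = x := by group
    rwa [e] at this
  have key := hom_subset_of_autGroup_le hS F (stabSystem F _ hH) hF (fun R hRa hRr _ => by
    have hRS := hRa.1
    obtain ⟨Sy, hSy⟩ := hRa.2
    have : Finite (MulAut R) := finite_mulAut_of_le hRS
    intro α hα
    have htop := Cfsg.Agent.Helper2.pResidual_sup_sylow_eq_top Sy
    have hmem : (⟨α, hα⟩ : F.autGroup R) ∈
        ((pResidual p (F.autGroup R) ⊔ (Sy : Subgroup (F.autGroup R)) : Subgroup (F.autGroup R)) : Set (F.autGroup R)) := by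
      rw [htop]; trivial
    rw [Subgroup.normal_mul] at hmem
    obtain ⟨β, hβ, σ, hσ, hβσ⟩ := hmem
    have hα_eq : α = (β : MulAut R) * (σ : MulAut R) := by
      have := congrArg Subtype.val hβσ
      simpa using this.symm
    rw [hα_eq]
    apply Subgroup.mul_mem
    · rw [mem_autGroup_iff _ hRS]
      refine ⟨(mem_autGroup_iff F hRS _).mp β.2, fun x => ?_⟩
      have h1 := mem_hyperfocalSubgroup F p hRS β hβ x
      have h2 : (((β : MulAut R) x : R) : Ω) = x * ((x : Ω)⁻¹ * ((β : MulAut R) x : R)) := by group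
      show (((β : MulAut R) x : R) : Ω) ∈ _ ↔ _
      rw [h2]
      exact Subgroup.mul_mem_cancel_right _ h1
    · rw [mem_autGroup_iff _ hRS]
      refine ⟨(mem_autGroup_iff F hRS _).mp σ.2, fun x => ?_⟩
      have hσ' : σ ∈ (Sy : Subgroup (F.autGroup R)) := hσ
      rw [hSy, Subgroup.mem_subgroupOf, mem_autInducedBy_iff] at hσ'
      obtain ⟨s, hsS, hs⟩ := hσ'
      show (((σ : MulAut R) x : R) : Ω) ∈ _ ↔ _
      rw [hs x]
      exact hH s hsS x)
  refine ⟨hyperfocalSubgroup_le F p, fun R hR φ hφ x => ?_⟩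
  exact ((key R hφ).2 x).mpr (hR x.2)

end Cfsg.Agent.Helper87
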