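import Mathlib.Algebra.Group.Subgroup.Basic
import Mathlib.Algebra.Group.End
set_option autoImplicit false

namespace Cfsg.Agent.Helper87

variable {N Q : Type*} [Group N] [Group Q]

/-- The endomorphism of `Q` induced along a surjection `f : N →* Q` by an endomorphism of `N` preserving the kernel. -/
noncomputable def inducedHom (f : N →* Q) (hf : Function.Surjective f) (α : N →* N)
    (hα : ∀ x, f x = 1 → f (α x) = 1) : Q →* Q :=
  f.liftOfSurjective hf ⟨f.comp α, fun x hx => by
    rw [MonoidHom.mem_ker] at hx ⊢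
    exact hα x hx⟩

theorem inducedHom_apply (f : N →* Q) (hf : Function.Surjective f) (α : N →* N)
    (hα : ∀ x, f x = 1 → f (α x) = 1) (x : N) : inducedHom f hf α hα (f x) = f (α x) :=
  MonoidHom.liftOfRightInverse_comp_apply f _ (Function.rightInverse_surjInv hf) _ x

/-- The automorphism of `Q` induced along a surjection `f : N →* Q` by an automorphism of `N` preserving the kernel. -/
noncomputable def inducedAut (f : N →* Q) (hf : Function.Surjective f) (α : MulAut N)
    (hα : ∀ x, f x = 1 → f (α x) = 1) (hα' : ∀ x, f x = 1 → f (α⁻¹ x) = 1) : MulAut Q where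
  toFun := inducedHom f hf α.toMonoidHom hα
  invFun := inducedHom f hf (α⁻¹ : MulAut N).toMonoidHom hα'
  left_inv y := by
    obtain ⟨x, rfl⟩ := hf y
    have h1 : inducedHom f hf α.toMonoidHom hα (f x) = f (α x) := inducedHom_apply f hf α.toMonoidHom hα x
    have h2 : inducedHom f hf (α⁻¹ : MulAut N).toMonoidHom hα' (f (α x)) = f (α⁻¹ (α x)) :=
      inducedHom_apply f hf (α⁻¹ : MulAut N).toMonoidHom hα' (α x)
    show inducedHom f hf (α⁻¹ : MulAut N).toMonoidHom hα' (inducedHom f hf α.toMonoidHom hα (f x)) = f x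
    exact (congrArg _ h1).trans (h2.trans (by simp))
  right_inv y := by
    obtain ⟨x, rfl⟩ := hf y
    have h1 : inducedHom f hf (α⁻¹ : MulAut N).toMonoidHom hα' (f x) = f (α⁻¹ x) :=
      inducedHom_apply f hf (α⁻¹ : MulAut N).toMonoidHom hα' x
    have h2 : inducedHom f hf α.toMonoidHom hα (f (α⁻¹ x)) = f (α (α⁻¹ x)) :=
      inducedHom_apply f hf α.toMonoidHom hα (α⁻¹ x)
    show inducedHom f hf α.toMonoidHom hα (inducedHom f hf (α⁻¹ : MulAut N).toMonoidHom hα' (f x)) = f x
    exact (congrArg _ h1).trans (h2.trans (by simp))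
  map_mul' := map_mul _

theorem inducedAut_apply (f : N →* Q) (hf : Function.Surjective f) (α : MulAut N)
    (hα : ∀ x, f x = 1 → f (α x) = 1) (hα' : ∀ x, f x = 1 → f (α⁻¹ x) = 1) (x : N) :
    inducedAut f hf α hα hα' (f x) = f (α x) :=
  inducedHom_apply f hf α.toMonoidHom hα x

/-- Passage to the induced automorphism, as a homomorphism on a group of automorphisms preserving the kernel. -/
noncomputable def inducedAutHom (f : N →* Q) (hf : Function.Surjective f) (A : Subgroup (MulAut N))
    (hA : ∀ α ∈ A, ∀ x, f x = 1 → f (α x) = 1) : A →* MulAut Q where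
  toFun α := inducedAut f hf α.1 (hA α.1 α.2) (hA _ (A.inv_mem α.2))
  map_one' := by
    ext y
    obtain ⟨x, rfl⟩ := hf y
    exact inducedAut_apply f hf _ _ _ x
  map_mul' α β := by
    ext y
    obtain ⟨x, rfl⟩ := hf y
    have h1 := inducedAut_apply f hf (α * β : A).1 (hA _ (α * β).2) (hA _ (A.inv_mem (α * β).2)) x
    have h2 := inducedAut_apply f hf β.1 (hA _ β.2) (hA _ (A.inv_mem β.2)) x
    have h3 := inducedAut_apply f hf α.1 (hA _ α.2) (hA _ (A.inv_mem α.2)) ((β : MulAut N) x)
    refine h1.trans ?_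
    show f ((α : MulAut N) ((β : MulAut N) x)) = _
    rw [← h3]
    exact congrArg _ h2.symm

theorem inducedAutHom_apply (f : N →* Q) (hf : Function.Surjective f) (A : Subgroup (MulAut N))
    (hA : ∀ α ∈ A, ∀ x, f x = 1 → f (α x) = 1) (α : A) (x : N) :
    inducedAutHom f hf A hA α (f x) = f ((α : MulAut N) x) :=
  inducedAut_apply f hf α.1 _ _ x

end Cfsg.Agent.Helper87
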