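import Cfsg.Agent.Helper87.FusionQuot2
import Cfsg.Agent.Helper87.FusionHyp
import Cfsg.Agent.Helper87.InducedAut
set_option autoImplicit false

namespace Cfsg.Agent.Helper87

open Cfsg Cfsg.FusionSystem

/-- For a surjective homomorphism from a finite group, the image of `O^p(A)` is `O^p(B)`. -/
theorem pResidual_map_eq {A B : Type*} [Group A] [Group B] [Finite A] {p : ℕ} [hp : Fact p.Prime] {f : A →* B}
    (hf : Function.Surjective f) : (Cfsg.pResidual p A).map f = Cfsg.pResidual p B := by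
  apply le_antisymm (pResidual_map_le f)
  have : ((Cfsg.pResidual p A).map f).Normal :=
    Subgroup.Normal.map (Cfsg.Agent.Lib.pResidual_normal p) f hf
  apply Cfsg.Agent.Lib.pResidual_le_of_isPGroup_quotient
  intro x
  obtain ⟨b, rfl⟩ := QuotientGroup.mk_surjective x
  obtain ⟨a, rfl⟩ := hf b
  obtain ⟨k, hk⟩ := Cfsg.Agent.Lib.isPGroup_quotient_pResidual (G := A) p (a : A ⧸ Cfsg.pResidual p A)
  refine ⟨k, ?_⟩
  rw [← QuotientGroup.mk_pow, QuotientGroup.eq_one_iff] at hk ⊢
  rw [← map_pow]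
  exact Subgroup.mem_map_of_mem f hk

variable {Ω : Type*} [Group Ω] {S : Subgroup Ω} {Ω' : Type*} [Group Ω']

/-- The restriction of `θ : S →* Ω'` to a subgroup `P ≤ S`, with values in a subgroup `P'` containing the image. -/
def restrictHom (θ : S →* Ω') {P : Subgroup Ω} (hPS : P ≤ S) {P' : Subgroup Ω'}
    (hmap : ∀ x : P, θ ⟨x, hPS x.2⟩ ∈ P') : P →* P' :=
  (θ.comp (Subgroup.inclusion hPS)).codRestrict P' hmap

theorem restrictHom_apply (θ : S →* Ω') {P : Subgroup Ω} (hPS : P ≤ S) {P' : Subgroup Ω'}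
    (hmap : ∀ x : P, θ ⟨x, hPS x.2⟩ ∈ P') (x : P) :
    ((restrictHom θ hPS hmap x : P') : Ω') = θ ⟨x, hPS x.2⟩ := rfl

theorem restrictHom_eq_one_iff (θ : S →* Ω') {T : Subgroup Ω} (hker : ∀ s : S, θ s = 1 ↔ (s : Ω) ∈ T)
    {P : Subgroup Ω} (hPS : P ≤ S) {P' : Subgroup Ω'} (hmap : ∀ x : P, θ ⟨x, hPS x.2⟩ ∈ P') (x : P) :
    restrictHom θ hPS hmap x = 1 ↔ (x : Ω) ∈ T := by
  rw [← hker ⟨x, hPS x.2⟩]
  constructor
  · intro h
    exact congrArg Subtype.val h
  · intro h
    exact Subtype.ext h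

/-- The automorphisms induced on the image `P'` of `P` by the automorphisms of the system on `P`, as a homomorphism. -/
noncomputable def quotAutHom (F : FusionSystem S) {T : Subgroup Ω} (hT : F.StronglyClosed T) (θ : S →* Ω')
    (hker : ∀ s : S, θ s = 1 ↔ (s : Ω) ∈ T) {P : Subgroup Ω} (hPS : P ≤ S) {P' : Subgroup Ω'}
    (hmap : ∀ x : P, θ ⟨x, hPS x.2⟩ ∈ P') (hsurj : Function.Surjective (restrictHom θ hPS hmap)) :
    F.autGroup P →* MulAut P' :=
  inducedAutHom (restrictHom θ hPS hmap) hsurj (F.autGroup P) (fun α hα x hx => by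
    rw [restrictHom_eq_one_iff θ hker] at hx ⊢
    exact aut_mem_of_stronglyClosed F hT hPS hα x hx)

theorem quotAutHom_apply (F : FusionSystem S) {T : Subgroup Ω} (hT : F.StronglyClosed T) (θ : S →* Ω')
    (hker : ∀ s : S, θ s = 1 ↔ (s : Ω) ∈ T) {P : Subgroup Ω} (hPS : P ≤ S) {P' : Subgroup Ω'}
    (hmap : ∀ x : P, θ ⟨x, hPS x.2⟩ ∈ P') (hsurj : Function.Surjective (restrictHom θ hPS hmap))
    (α : F.autGroup P) (x : P) :
    quotAutHom F hT θ hker hPS hmap hsurj α (restrictHom θ hPS hmap x) =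
      restrictHom θ hPS hmap ((α : MulAut P) x) :=
  inducedAutHom_apply _ _ _ _ α x

/-- The hyperfocal subgroup of a factor system `F/T` is the image of the hyperfocal subgroup of `F`. -/
theorem hyperfocalSubgroup_factor [Finite S] {p : ℕ} [Fact p.Prime] (hS : IsPGroup p S) (F : FusionSystem S)
    (hF : F.IsSaturated p) {T : Subgroup Ω} (hT : F.StronglyClosed T) {S' : Subgroup Ω'} (θ : S →* Ω')
    (E : FusionSystem S') (hE : F.IsFactorSystem T θ E) :
    E.hyperfocalSubgroup p = ((F.hyperfocalSubgroup p).subgroupOf S).map θ := by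
  obtain ⟨-, hker, hrange, hhom⟩ := hE
  apply le_antisymm
  · -- generators of `hyp(E)` come from the full preimage
    conv_lhs => unfold hyperfocalSubgroup
    rw [Subgroup.closure_le]
    rintro _ ⟨P', β, y, hP'S', hβ, rfl⟩
    set N := preimageAlong θ P' with hN
    have hNS : N ≤ S := Helper85.preimageAlong_le θ P'
    have hmap : ∀ x : N, θ ⟨x, hNS x.2⟩ ∈ P' := fun x => Helper85.map_mem_of_mem_preimageAlong θ P' x
    have hsurj : Function.Surjective (restrictHom θ hNS hmap) := by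
      intro y
      have hy : (y : Ω') ∈ θ.range := by rw [hrange]; exact hP'S' y.2
      obtain ⟨s, hs⟩ := hy
      refine ⟨⟨s, (Helper85.mem_preimageAlong θ P' s).mpr ⟨s.2, by rw [Subtype.coe_eta, hs]; exact y.2⟩⟩, ?_⟩
      apply Subtype.ext
      rw [restrictHom_apply]
      exact hs
    have hmem : ∀ α : F.autGroup N, quotAutHom F hT θ hker hNS hmap hsurj α ∈ E.autGroup P' := by
      intro α
      rw [mem_autGroup_iff E hP'S']
      have hα := (mem_autGroup_iff F hNS _).mp α.2
      refine (hhom P' _).mpr ⟨hP'S', _, hα, hNS, (F.le_of_mem hα).2, hmap, fun x => ?_⟩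
      have := quotAutHom_apply F hT θ hker hNS hmap hsurj α x
      exact congrArg Subtype.val this
    let ρ : F.autGroup N →* E.autGroup P' := (quotAutHom F hT θ hker hNS hmap hsurj).codRestrict _ hmem
    have hfinN : Finite N := finite_of_le hNS
    have hρsurj : Function.Surjective ρ := by
      intro β
      have hβ' := (mem_autGroup_iff E hP'S' _).mp β.2
      obtain ⟨-, φ, hφ, hP, hφS, hP', hind⟩ := (hhom P' _).mp hβ'
      have hφN : ∀ x : N, φ x ∈ N := by
        intro x
        rw [hN, Helper85.mem_preimageAlong]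
        refine ⟨hφS x, ?_⟩
        rw [← hind x]
        exact ((β : MulAut P') _).2
      have hinj : Function.Injective (φ.codRestrict N hφN) := by
        intro a b hab
        exact F.injective_of_mem hφ (congrArg Subtype.val hab)
      have hbij : Function.Bijective (φ.codRestrict N hφN) := ⟨hinj, Finite.injective_iff_surjective.mp hinj⟩
      let α : MulAut N := MulEquiv.ofBijective (φ.codRestrict N hφN) hbij
      have hαF : α ∈ F.autGroup N := by
        rw [mem_autGroup_iff F hNS]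
        exact mem_of_eq F hφ (fun x => rfl)
      refine ⟨⟨α, hαF⟩, ?_⟩
      apply Subtype.ext
      ext y
      obtain ⟨x, rfl⟩ := hsurj y
      have h1 := quotAutHom_apply F hT θ hker hNS hmap hsurj ⟨α, hαF⟩ x
      have h2 : ((ρ ⟨α, hαF⟩ : E.autGroup P') : MulAut P') (restrictHom θ hNS hmap x) =
          restrictHom θ hNS hmap (α x) := h1
      rw [h2]
      exact (hind x).symm
    have hfinA : Finite (MulAut N) := finite_mulAut_of_le hNS
    have hres := pResidual_map_eq (p := p) hρsurj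
    rw [← hres] at hβ
    obtain ⟨α, hα, rfl⟩ := hβ
    obtain ⟨x, rfl⟩ := hsurj y
    have hgen := mem_hyperfocalSubgroup F p hNS α hα x
    have hgenS : (x : Ω)⁻¹ * ((α : MulAut N) x : N) ∈ S := hyperfocalSubgroup_le F p hgen
    refine ⟨⟨_, hgenS⟩, hgen, ?_⟩
    have h1 := quotAutHom_apply F hT θ hker hNS hmap hsurj α x
    have h2 : ((((ρ α : E.autGroup P') : MulAut P') (restrictHom θ hNS hmap x) : P') : Ω') =
        θ ⟨((α : MulAut N) x : N), hNS ((α : MulAut N) x).2⟩ := congrArg Subtype.val h1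
    rw [h2, restrictHom_apply]
    have e : (⟨(x : Ω)⁻¹ * ((α : MulAut N) x : N), hgenS⟩ : S) =
        (⟨x, hNS x.2⟩ : S)⁻¹ * ⟨((α : MulAut N) x : N), hNS ((α : MulAut N) x).2⟩ := rfl
    rw [e, map_mul, map_inv]
  · -- the image of `hyp(F)` lies in `hyp(E)`
    have hle : F.hyperfocalSubgroup p ≤ ((E.hyperfocalSubgroup p).comap θ).map S.subtype := by
      conv_lhs => unfold hyperfocalSubgroup
      rw [Subgroup.closure_le]
      rintro _ ⟨P, α, x, hPS, hα, rfl⟩
      set P' := imageAlong θ P with hP'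
      have hP'S' : P' ≤ S' := by
        rw [← hrange]
        rintro _ ⟨s, -, rfl⟩
        exact ⟨s, rfl⟩
      have hmap : ∀ x : P, θ ⟨x, hPS x.2⟩ ∈ P' := fun x => ⟨⟨x, hPS x.2⟩, x.2, rfl⟩
      have hsurj : Function.Surjective (restrictHom θ hPS hmap) := by
        rintro ⟨_, s, hs, rfl⟩
        exact ⟨⟨s, hs⟩, Subtype.ext rfl⟩
      have hmem : ∀ α : F.autGroup P, quotAutHom F hT θ hker hPS hmap hsurj α ∈ E.autGroup P' := by
        intro α
        rw [mem_autGroup_iff E hP'S']
        have hα := (mem_autGroup_iff F hPS _).mp α.2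
        obtain ⟨φ', h1, h2⟩ := exists_induced hS F hF hT θ hker hα
        have hφ'E : φ' ∈ E.Hom P' := (hhom _ φ').mpr ⟨hP'S', h1⟩
        refine mem_of_eq E hφ'E (fun y => ?_)
        obtain ⟨x, rfl⟩ := hsurj y
        obtain ⟨hP, hφS, hPP', hind⟩ := h2
        have h3 := quotAutHom_apply F hT θ hker hPS hmap hsurj α x
        have h4 := hind x
        show ((quotAutHom F hT θ hker hPS hmap hsurj α (restrictHom θ hPS hmap x) : P') : Ω') = _
        rw [h3]
        exact h4.symm
      let ρ : F.autGroup P →* E.autGroup P' := (quotAutHom F hT θ hker hPS hmap hsurj).codRestrict _ hmem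
      have hρα : ρ α ∈ pResidual p (E.autGroup P') := pResidual_map_le ρ (Subgroup.mem_map_of_mem _ hα)
      have hgen := mem_hyperfocalSubgroup E p hP'S' (ρ α) hρα (restrictHom θ hPS hmap x)
      have hgenS : (x : Ω)⁻¹ * ((α : MulAut P) x : P) ∈ S :=
        S.mul_mem (S.inv_mem (hPS x.2)) (hPS ((α : MulAut P) x).2)
      refine ⟨⟨_, hgenS⟩, ?_, rfl⟩
      show θ ⟨_, hgenS⟩ ∈ E.hyperfocalSubgroup p
      have h1 := quotAutHom_apply F hT θ hker hPS hmap hsurj α x
      have h2 : ((((ρ α : E.autGroup P') : MulAut P') (restrictHom θ hPS hmap x) : P') : Ω') =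
          θ ⟨((α : MulAut P) x : P), hPS ((α : MulAut P) x).2⟩ := congrArg Subtype.val h1
      rw [h2, restrictHom_apply] at hgen
      have e : (⟨(x : Ω)⁻¹ * ((α : MulAut P) x : P), hgenS⟩ : S) =
          (⟨x, hPS x.2⟩ : S)⁻¹ * ⟨((α : MulAut P) x : P), hPS ((α : MulAut P) x).2⟩ := rfl
      rw [e, map_mul, map_inv]
      exact hgen
    rintro _ ⟨s, hs, rfl⟩
    obtain ⟨s', hs', hss'⟩ := hle hs
    have : s' = s := Subtype.ext hss'
    rw [← this]
    exact hs'

end Cfsg.Agent.Helper87
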