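import Cfsg.Agent.Helper87.FusionQuot
set_option autoImplicit false

namespace Cfsg.Agent.Helper87

open Cfsg Cfsg.FusionSystem

variable {Ω : Type*} [Group Ω] {S : Subgroup Ω} {Ω' : Type*} [Group Ω']

theorem preimageAlong_imageAlong_le (θ : S →* Ω') {T : Subgroup Ω} (hker : ∀ s : S, θ s = 1 ↔ (s : Ω) ∈ T)
    (P : Subgroup Ω) : preimageAlong θ (imageAlong θ P) ≤ P ⊔ T := by
  intro y hy
  obtain ⟨hyS, hyP⟩ := (Helper85.mem_preimageAlong θ _ y).mp hy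
  obtain ⟨x, hx, hxy⟩ := hyP
  have hx' : (x : Ω) ∈ P := hx
  have h1 : θ (x⁻¹ * ⟨y, hyS⟩) = 1 := by rw [map_mul, map_inv, hxy, inv_mul_cancel]
  have h2 : (x : Ω)⁻¹ * y ∈ T := (hker _).mp h1
  have e : y = (x : Ω) * ((x : Ω)⁻¹ * y) := by group
  rw [e]
  exact Subgroup.mul_mem _ (Subgroup.mem_sup_left hx') (Subgroup.mem_sup_right h2)

theorem le_preimageAlong_imageAlong (θ : S →* Ω') {P : Subgroup Ω} (hPS : P ≤ S) :
    P ≤ preimageAlong θ (imageAlong θ P) := by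
  intro x hx
  rw [Helper85.mem_preimageAlong]
  exact ⟨hPS hx, ⟨⟨x, hPS hx⟩, hx, rfl⟩⟩

/-- In a saturated fusion system every map induces, along a homomorphism `θ` of `S` whose kernel is a strongly closed
subgroup `T`, a homomorphism on the image of its source, which is also induced by a map of the system defined on the full
preimage of that image. -/
theorem exists_induced [Finite S] {p : ℕ} [Fact p.Prime] (hS : IsPGroup p S) (F : FusionSystem S)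
    (hF : F.IsSaturated p) {T : Subgroup Ω} (hT : F.StronglyClosed T) (θ : S →* Ω')
    (hker : ∀ s : S, θ s = 1 ↔ (s : Ω) ∈ T) {P : Subgroup Ω} {φ : P →* Ω} (hφ : φ ∈ F.Hom P) :
    ∃ φ' : imageAlong θ P →* Ω',
      (∃ φ₀ ∈ F.Hom (preimageAlong θ (imageAlong θ P)), InducedAlong θ φ₀ φ') ∧ InducedAlong θ φ φ' := by
  have hPS : P ≤ S := (F.le_of_mem hφ).1
  obtain ⟨ψ, hψ, hψφ⟩ := exists_extension_mod hS F hF hT hφ
  set N := preimageAlong θ (imageAlong θ P) with hN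
  have hNle : N ≤ P ⊔ T := preimageAlong_imageAlong_le θ hker P
  have hNS : N ≤ S := Helper85.preimageAlong_le θ _
  have hPN : P ≤ N := le_preimageAlong_imageAlong θ hPS
  have hψN : ψ.comp (Subgroup.inclusion hNle) ∈ F.Hom N := restrict_mem F hψ hNle
  have hψS : ∀ x : N, (ψ.comp (Subgroup.inclusion hNle)) x ∈ S := (F.le_of_mem hψN).2
  -- the surjection `N → θ(P)`
  let f : N →* imageAlong θ P :=
    (θ.comp (Subgroup.inclusion hNS)).codRestrict (imageAlong θ P)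
      (fun x => Helper85.map_mem_of_mem_preimageAlong θ _ x)
  have hf : Function.Surjective f := by
    rintro ⟨y, x, hx, rfl⟩
    have hx' : (x : Ω) ∈ P := hx
    exact ⟨⟨x, hPN hx'⟩, Subtype.ext rfl⟩
  let g : N →* Ω' := θ.comp ((ψ.comp (Subgroup.inclusion hNle)).codRestrict S hψS)
  have hfg : f.ker ≤ g.ker := by
    intro x hx
    rw [MonoidHom.mem_ker] at hx ⊢
    have h1 : θ ⟨x, hNS x.2⟩ = 1 := congrArg Subtype.val hx
    have h2 : (x : Ω) ∈ T := (hker _).mp h1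
    have h3 : (ψ.comp (Subgroup.inclusion hNle)) x ∈ T :=
      hT.2 (N ⊓ T) inf_le_right _ (restrict_mem F hψN inf_le_left) ⟨x, x.2, h2⟩
    exact (hker ⟨_, hψS x⟩).mpr h3
  let φ' : imageAlong θ P →* Ω' := f.liftOfSurjective hf ⟨g, hfg⟩
  have hφ'f : ∀ x : N, φ' (f x) = g x := fun x =>
    MonoidHom.liftOfRightInverse_comp_apply f _ (Function.rightInverse_surjInv hf) ⟨g, hfg⟩ x
  refine ⟨φ', ⟨ψ.comp (Subgroup.inclusion hNle), hψN, hNS, hψS,
    fun x => Helper85.map_mem_of_mem_preimageAlong θ _ x, fun x => hφ'f x⟩, ?_⟩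
  have hφS : ∀ x : P, φ x ∈ S := (F.le_of_mem hφ).2
  refine ⟨hPS, hφS, fun x => ⟨⟨x, hPS x.2⟩, x.2, rfl⟩, fun x => ?_⟩
  have h1 := hφ'f ⟨x, hPN x.2⟩
  have h2 : f ⟨x, hPN x.2⟩ = ⟨θ ⟨x, hPS x.2⟩, ⟨⟨x, hPS x.2⟩, x.2, rfl⟩⟩ := Subtype.ext rfl
  rw [h2] at h1
  rw [h1]
  show θ ⟨ψ (Subgroup.inclusion le_sup_left x), _⟩ = θ ⟨φ x, hφS x⟩
  have ht := hψφ x
  have hψxS : ψ (Subgroup.inclusion le_sup_left x) ∈ S := (F.le_of_mem hψ).2 _
  have h3 : θ (⟨φ x, hφS x⟩⁻¹ * ⟨ψ (Subgroup.inclusion le_sup_left x), hψxS⟩) = 1 := (hker _).mpr ht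
  rw [map_mul, map_inv, inv_mul_eq_one] at h3
  exact h3.symm

end Cfsg.Agent.Helper87
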