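import Cfsg.Agent.Helper87.FusionAlperin
set_option autoImplicit false

namespace Cfsg.Agent.Helper87

open Cfsg Cfsg.FusionSystem

variable {Ω : Type*} [Group Ω] {S : Subgroup Ω}

/-- Induction principle behind the Alperin–Goldschmidt theorem: to show that every map of a saturated system `F` is a map
of the system `E`, it is enough to show, for each fully automized receptive subgroup `R`, that `Aut_F(R) ≤ Aut_E(R)`,
assuming that the maps of `F` on all subgroups of larger order are maps of `E`. -/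
theorem hom_subset_of_autGroup_le [Finite S] {p : ℕ} [Fact p.Prime] (hS : IsPGroup p S) (F E : FusionSystem S)
    (hF : F.IsSaturated p)
    (hE : ∀ R : Subgroup Ω, F.IsFullyAutomized p R → F.IsReceptive R →
      (∀ (N : Subgroup Ω) (ψ : N →* Ω), Nat.card R < Nat.card N → ψ ∈ F.Hom N → ψ ∈ E.Hom N) →
      F.autGroup R ≤ E.autGroup R) :
    ∀ P : Subgroup Ω, F.Hom P ⊆ E.Hom P := by
  intro P
  induction' hn : Nat.card S - Nat.card P using Nat.strong_induction_on with n ih generalizing P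
  intro φ hφ
  have hPS : P ≤ S := (F.le_of_mem hφ).1
  have hP : Finite P := finite_of_le hPS
  -- maps of `F` on subgroups of larger order are maps of `E`
  have ih' : ∀ (N : Subgroup Ω) (ψ : N →* Ω), Nat.card P < Nat.card N → ψ ∈ F.Hom N → ψ ∈ E.Hom N := by
    intro N ψ hlt hψ
    have hNS : N ≤ S := (F.le_of_mem hψ).1
    have : Finite N := finite_of_le hNS
    have hle : Nat.card N ≤ Nat.card S := Subgroup.card_le_of_le hNS
    exact ih (Nat.card S - Nat.card N) (by omega) N rfl hψ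
  have he := isIso_ofInjective F hφ
  set e := MonoidHom.ofInjective (F.injective_of_mem hφ) with he_def
  have hQS : φ.range ≤ S := he.le_right
  have hcardQ : Nat.card φ.range = Nat.card P := (Nat.card_congr e.toEquiv).symm
  obtain ⟨R, hQR, hRa, hRr⟩ := hF φ.range hQS
  obtain ⟨e₂, he₂⟩ := (isConj_iff F φ.range R).mp hQR
  have hRS : R ≤ S := he₂.le_right
  have hcardR : Nat.card R = Nat.card P := by rw [← hcardQ]; exact (Nat.card_congr e₂.toEquiv).symm
  have hle := hE R hRa hRr (fun N ψ hlt hψ => ih' N ψ (by rw [← hcardR]; exact hlt) hψ)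
  by_cases hPeq : P = S
  · subst hPeq
    have : Finite φ.range := finite_of_le hQS
    have hQ : φ.range = P := Subgroup.eq_of_le_of_card_ge hQS (le_of_eq hcardQ.symm)
    have hR : R = P := Subgroup.eq_of_le_of_card_ge hRS (le_of_eq hcardR.symm)
    subst hR
    have hα : IsIso F (e.trans (MulEquiv.subgroupCongr hQ)) := by
      unfold IsIso
      exact mem_of_eq F hφ (fun x => rfl)
    have hαE := hle ((mem_autGroup_iff F hPS (e.trans (MulEquiv.subgroupCongr hQ))).mpr hα)
    have := (mem_autGroup_iff E hPS _).mp hαE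
    exact mem_of_eq E this (fun x => rfl)
  · have hPlt : P < S := lt_of_le_of_ne hPS hPeq
    have hcardlt : Nat.card P < Nat.card S := card_lt_card_of_lt hPlt
    have hQlt : φ.range < S := lt_of_le_of_ne hQS (fun h => by rw [h] at hcardQ; omega)
    -- extend to the normalizers
    obtain ⟨φ₁, hφ₁, e₁', he₁', hφ₁x⟩ := exists_extension_normalizerIn hS F hRa hRr (e.trans e₂) (he.trans he₂)
    obtain ⟨φ₂, hφ₂, e₂', he₂', hφ₂x⟩ := exists_extension_normalizerIn hS F hRa hRr e₂ he₂
    have hN₁ : Finite (normalizerIn S P) := finite_of_le inf_le_left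
    have hN₂ : Finite (normalizerIn S φ.range) := finite_of_le inf_le_left
    have hφ₁E := ih' _ φ₁ (card_lt_card_of_lt (lt_normalizerIn hS hPlt)) hφ₁
    have hφ₂E := ih' _ φ₂ (by rw [← hcardQ]; exact card_lt_card_of_lt (lt_normalizerIn hS hQlt)) hφ₂
    have he₁E : IsIso E e₁' := isIso_of_restrict E hφ₁E (le_normalizerIn hPS) e₁' hφ₁x
    have he₂E : IsIso E e₂' := isIso_of_restrict E hφ₂E (le_normalizerIn hQS) e₂' hφ₂x
    -- the automorphism of `R`
    have hαF : IsIso F (e₁'.symm.trans (e.trans e₂')) := he₁'.symm.trans (he.trans he₂')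
    have hαE : IsIso E (e₁'.symm.trans (e.trans e₂')) :=
      (mem_autGroup_iff E hRS _).mp (hle ((mem_autGroup_iff F hRS (e₁'.symm.trans (e.trans e₂'))).mpr hαF))
    have hfin : IsIso E (e₁'.trans ((e₁'.symm.trans (e.trans e₂')).trans e₂'.symm)) :=
      he₁E.trans (hαE.trans he₂E.symm)
    exact mem_of_eq E hfin (fun x => by simp; rfl)

/-- The subsystem of `F` of the maps that preserve membership in the subgroup `U`, when `S` normalizes `U`. -/
def stabSystem (F : FusionSystem S) (U : Subgroup Ω) (hU : ∀ g ∈ S, ∀ x : Ω, g * x * g⁻¹ ∈ U ↔ x ∈ U) :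
    FusionSystem S where
  Hom P := {φ | φ ∈ F.Hom P ∧ ∀ x : P, φ x ∈ U ↔ (x : Ω) ∈ U}
  le_of_mem h := F.le_of_mem h.1
  injective_of_mem h := F.injective_of_mem h.1
  conj_mem hP hg := ⟨F.conj_mem hP hg, fun x => hU _ hg x⟩
  comp_mem hφ hψ h := ⟨F.comp_mem hφ.1 hψ.1 h, fun x => by
    have h1 := hψ.2 ⟨_, h x⟩
    have h2 := hφ.2 x
    exact h1.trans h2⟩
  inv_mem hφ := by
    obtain ⟨ψ, hψ, hψx⟩ := F.inv_mem hφ.1
    refine ⟨ψ, ⟨hψ, ?_⟩, hψx⟩
    rintro ⟨_, x, rfl⟩
    rw [hψx]
    exact (hφ.2 x).symm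

theorem mem_stabSystem_iff (F : FusionSystem S) (U : Subgroup Ω) (hU : ∀ g ∈ S, ∀ x : Ω, g * x * g⁻¹ ∈ U ↔ x ∈ U)
    {P : Subgroup Ω} (φ : P →* Ω) :
    φ ∈ (stabSystem F U hU).Hom P ↔ φ ∈ F.Hom P ∧ ∀ x : P, φ x ∈ U ↔ (x : Ω) ∈ U := Iff.rfl

end Cfsg.Agent.Helper87
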