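import Mathlib
import Cfsg.Agent.Helper5.SuBN.Defs

/-!
# S2546 pieces (R3I), (R3II): shared lemmas on root elements and reflections of `UG n σ`.
-/

set_option autoImplicit false

namespace Cfsg.Agent.Helper87.SuBNR3Aux

open Matrix Cfsg.Agent.Helper5.SuBN

variable {F : Type*} [Field F] {n : ℕ} {σ : F →+* F}

theorem mul_single_one_apply (A : Matrix (Fin n) (Fin n) F) (a b i j : Fin n) :
    (A * Matrix.single a b (1 : F)) i j = if b = j then A i a else 0 := by
  by_cases h : b = j
  · subst h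
    rw [if_pos rfl, Matrix.mul_single_apply_same, mul_one]
  · rw [if_neg h]
    exact Matrix.mul_single_apply_of_ne (hbj := fun h' : j = b => h h'.symm) ..

/-- right multiplication by a root element -/
theorem mul_xMat_apply (A : Matrix (Fin n) (Fin n) F) (k : Fin (n / 2)) (t u : F) (i j : Fin n) :
    (A * xMat σ k t u) i j = A i j + (if ib k = j then t * A i (ia k) else 0)
      - (if Fin.rev (ia k) = j then σ t * A i (Fin.rev (ib k)) else 0)
      + (if Fin.rev (ia k) = j then u * A i (ia k) else 0) := by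
  unfold xMat
  simp only [Matrix.mul_add, Matrix.mul_sub, Matrix.mul_one, Matrix.mul_smul, Matrix.add_apply,
    Matrix.sub_apply, Matrix.smul_apply, smul_eq_mul, mul_single_one_apply, mul_ite, mul_zero]

/-- the inverse of a root element -/
theorem mat_inv_xMat (hσ : ∀ x, σ (σ x) = x) (g : UG n σ) (k : Fin (n / 2)) (t u : F)
    (hg : mat g = xMat σ k t u) : mat g⁻¹ = xMat σ k (-t) (σ u) := by
  ext i j
  rw [inv_apply, hg, xMat_apply, xMat_apply]
  have c1 : (Fin.rev j = Fin.rev i) ↔ (i = j) := by rw [Fin.rev_inj]; exact eq_comm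
  have c2 : (ia k = Fin.rev j ∧ ib k = Fin.rev i) ↔ (Fin.rev (ib k) = i ∧ Fin.rev (ia k) = j) := by
    rw [← Fin.rev_eq_iff, ← Fin.rev_eq_iff]; exact and_comm
  have c3 : (Fin.rev (ib k) = Fin.rev j ∧ Fin.rev (ia k) = Fin.rev i) ↔ (ia k = i ∧ ib k = j) := by
    rw [Fin.rev_inj, Fin.rev_inj]; exact and_comm
  have c4 : (ia k = Fin.rev j ∧ Fin.rev (ia k) = Fin.rev i) ↔ (ia k = i ∧ Fin.rev (ia k) = j) := by
    rw [← Fin.rev_eq_iff, Fin.rev_inj]; exact and_comm
  simp only [c1, c2, c3, c4, map_add, map_sub, apply_ite σ, map_one, map_zero, map_neg, hσ]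
  split_ifs <;> ring

section refl

variable (c : F) (k : Fin (n / 2)) (s : UG n σ) (hs : mat s = sMat c k)
include hs

theorem refl_mono (a b : Fin n) (hab : a ≠ sPerm k b) : mat s a b = 0 := by
  rw [hs, sMat_apply, if_neg hab]

theorem refl_inv_mono (a b : Fin n) (hab : a ≠ sPerm k b) : mat s⁻¹ a b = 0 := by
  apply mono_inv_apply_eq_zero s (sPerm k) (refl_mono c k s hs)
  intro h
  apply hab
  rw [h, Equiv.Perm.inv_eq_iff_eq, sPerm_sPerm]

theorem refl_apply_same (i : Fin n) : mat s i (sPerm k i) = sSign c k (sPerm k i) := by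
  rw [hs, sMat_apply, sPerm_sPerm, if_pos rfl]

theorem refl_inv_apply (l : Fin n) :
    mat s⁻¹ (sPerm k l) l = σ (sSign c k (Fin.rev (sPerm k l))) := by
  rw [inv_apply, hs, sMat_apply, sPerm_rev, sPerm_sPerm, if_pos rfl]

/-- conjugation by a reflection -/
theorem conj_apply (g : UG n σ) (i l : Fin n) :
    mat (s * g * s⁻¹) i l = sSign c k (sPerm k i) * mat g (sPerm k i) (sPerm k l) *
      σ (sSign c k (Fin.rev (sPerm k l))) := by
  have h := mono_conj_apply' s (sPerm k) (refl_mono c k s hs) g (sPerm k i) (sPerm k l)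
  rw [sPerm_sPerm, sPerm_sPerm] at h
  rw [h, refl_apply_same c k s hs, refl_inv_apply c k s hs]

/-- right multiplication by the inverse of a reflection -/
theorem mul_refl_inv_apply (A : Matrix (Fin n) (Fin n) F) (i j : Fin n) :
    (A * mat s⁻¹) i j = A i (sPerm k j) * mat s⁻¹ (sPerm k j) j :=
  mul_mono_apply s⁻¹ (sPerm k) (refl_inv_mono c k s hs) A i j

/-- the criterion for `y * z * s⁻¹ ∈ B` -/
theorem mem_Bsub_of (y z : UG n σ)
    (h : ∀ i j : Fin n, j < i → (mat y * mat z) i (sPerm k j) = 0) : y * z * s⁻¹ ∈ Bsub n σ := by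
  rw [mem_Bsub_iff]
  intro i j hji
  rw [mat_mul, mat_mul, mul_refl_inv_apply c k s hs, h i j hji, zero_mul]

end refl

end Cfsg.Agent.Helper87.SuBNR3Aux
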