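import Mathlib
import Cfsg.Agent.Helper5.SuBN.Defs
import Cfsg.Agent.Helper87.SuBNR3Aux

/-!
# S2546 piece (R3I): the rank one relation `s x s⁻¹ ∈ B s X_k` for a root of kind I.
-/

set_option autoImplicit false

namespace Cfsg.Agent.Helper87.SuBNR3I

open Matrix Cfsg.Agent.Helper5.SuBN Cfsg.Agent.Helper87.SuBNR3Aux

variable {F : Type*} [Field F] {n : ℕ} {σ : F →+* F}

set_option linter.unusedSimpArgs false in
theorem rank_one_I (hσ : ∀ x, σ (σ x) = x)
    (hX : ∀ (k : Fin (n / 2)) (t u : F), Param σ k t u → IsUJ σ (xMat σ k t u))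
    (c : F) (k : Fin (n / 2)) (hk : 2 * k.val + 3 < n) (s : UG n σ) (hs : mat s = sMat c k)
    (x : UG n σ) (hx : x ∈ Xset σ k) (hx1 : x ≠ 1) :
    ∃ b₁ ∈ Bsub n σ, ∃ x₂ ∈ Xset σ k, s * x * s⁻¹ = b₁ * s * x₂ := by
  obtain ⟨t, u, hP, hxm⟩ := hx
  have hu : u = 0 := by unfold Param at hP; rwa [if_pos hk] at hP
  subst hu
  have ht : t ≠ 0 := by
    rintro rfl
    apply hx1
    apply mat_injective
    rw [hxm, mat_one]
    unfold xMat; simp
  have hP2 : Param σ k t⁻¹ 0 := by unfold Param; rw [if_pos hk]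
  obtain ⟨x₂, hx₂⟩ := exists_of_isUJ (hX k t⁻¹ 0 hP2)
  refine ⟨s * x * s⁻¹ * x₂⁻¹ * s⁻¹, ?_, x₂, ⟨t⁻¹, 0, hP2, hx₂⟩, by group⟩
  apply mem_Bsub_of c k s hs
  intro i j hji
  rw [mat_inv_xMat hσ x₂ k t⁻¹ 0 hx₂, mul_xMat_apply]
  simp only [conj_apply c k s hs, hxm, xMat_apply]
  have hS : ∀ l, sSign c k l = 1 := fun l => by unfold sSign; rw [if_pos hk]
  have hk2 := k.2
  have pa : sPerm k (ia k) = ib k := by
    apply Fin.ext; rw [val_sPerm, if_pos hk, val_ia, val_ib]; simp
  have pb : sPerm k (ib k) = ia k := by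
    apply Fin.ext; rw [val_sPerm, if_pos hk, val_ia, val_ib]; simp
  have pra : sPerm k (Fin.rev (ia k)) = Fin.rev (ib k) := by rw [sPerm_rev, pa]
  have prb : sPerm k (Fin.rev (ib k)) = Fin.rev (ia k) := by rw [sPerm_rev, pb]
  have eqp : ∀ x y : Fin n, x = sPerm k y ↔ sPerm k x = y := by
    intro x y
    constructor
    · intro h; rw [h, sPerm_sPerm]
    · intro h; rw [← h, sPerm_sPerm]
  simp only [hS, map_one, one_mul, mul_one, map_zero, zero_mul, map_neg,
    map_inv₀, sPerm_sPerm, eqp, pa, pb, pra, prb, EmbeddingLike.apply_eq_iff_eq]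
  have hi := i.2
  have hj := j.2
  have hji' : j.val < i.val := hji
  have hst : σ t ≠ 0 := (map_ne_zero σ).2 ht
  have sp_eq : ∀ x y : Fin n, sPerm k x = y ↔ x = sPerm k y := fun x y =>
    ⟨fun h => by rw [← h, sPerm_sPerm], fun h => by rw [h, sPerm_sPerm]⟩
  have n1 : (ia k).rev ≠ ib k := by
    intro h; have := congrArg Fin.val h; rw [val_rev, val_ia, val_ib] at this; omega
  have n2 : ib k ≠ (ia k).rev := fun h => n1 h.symm
  by_cases hja : ia k = j
  · subst hja
    have hia : i ≠ ia k := ne_of_gt hji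
    have n3 : ib k ≠ ia k := by
      intro h; have := congrArg Fin.val h; rw [val_ia, val_ib] at this; omega
    have n4 : (ia k).rev ≠ ia k := by
      intro h; have := congrArg Fin.val h; rw [val_rev, val_ia] at this; omega
    have n5 : (ib k).rev ≠ ia k := by
      intro h; have := congrArg Fin.val h; rw [val_rev, val_ia, val_ib] at this; omega
    by_cases hib : ib k = i
    · subst hib
      simp [sp_eq, pa, pb, n1, n2, n3, n3.symm, n4, n5, ht]
    · have hib' : i ≠ ib k := fun h => hib h.symm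
      simp [sp_eq, pa, pb, pra, prb, n1, n2, n3, n4, n5, hia, hib, hib']
  · by_cases hjb : (ib k).rev = j
    · subst hjb
      have hia : i ≠ (ib k).rev := ne_of_gt hji
      have n3 : ib k ≠ (ib k).rev := by
        intro h; have := congrArg Fin.val h; rw [val_rev, val_ib] at this; omega
      have n4 : (ia k).rev ≠ (ib k).rev := by
        intro h; have := congrArg Fin.val h; rw [val_rev, val_rev, val_ia, val_ib] at this; omega
      by_cases hib : (ia k).rev = i
      · subst hib
        have n6 : ib k ≠ ia k := by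
          intro h; have := congrArg Fin.val h; rw [val_ia, val_ib] at this; omega
        simp [sp_eq, pa, pb, pra, prb, n1, n2, n3, n4, n6, hja, hst]
      · have hib' : i ≠ (ia k).rev := fun h => hib h.symm
        simp [sp_eq, pa, pb, pra, prb, n1, n2, n3, n4, hja, hia, hib, hib']
    · have hne : sPerm k i ≠ j := by
        intro h
        have h1 := congrArg Fin.val h
        have h2 : j.val ≠ k.val := fun h' => hja (Fin.ext (by rw [val_ia]; exact h'.symm))
        have h3 : j.val ≠ n - 1 - (k.val + 1) := fun h' => hjb (Fin.ext (by rw [val_rev, val_ib]; exact h'.symm))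
        rw [val_sPerm, if_pos hk] at h1
        split_ifs at h1 <;> omega
      have h4 : ¬ (ib k = i ∧ ib k = j) := fun h => absurd (h.1.symm.trans h.2) (ne_of_gt hji)
      have h5 : ¬ ((ia k).rev = i ∧ (ia k).rev = j) := fun h => absurd (h.1.symm.trans h.2) (ne_of_gt hji)
      simp [hne, h4, h5, hja, hjb]

end Cfsg.Agent.Helper87.SuBNR3I
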