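import Mathlib
import Cfsg.Agent.Helper5.SuBN.Defs
import Cfsg.Agent.Helper87.SuBNR3Aux

/-!
# S2546 piece (R3II): the rank one relation `s x s⁻¹ ∈ B s X_k` for the root of kind II.
-/

set_option autoImplicit false

namespace Cfsg.Agent.Helper87.SuBNR3II

open Matrix Cfsg.Agent.Helper5.SuBN Cfsg.Agent.Helper87.SuBNR3Aux

variable {F : Type*} [Field F] {n : ℕ} {σ : F →+* F}

set_option linter.unusedSimpArgs false in
theorem rank_one_II (hσ : ∀ x, σ (σ x) = x)
    (hX : ∀ (k : Fin (n / 2)) (t u : F), Param σ k t u → IsUJ σ (xMat σ k t u))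
    (c : F) (hc0 : c ≠ 0) (hc : σ c = -c) (k : Fin (n / 2)) (hk : 2 * k.val + 2 = n) (s : UG n σ)
    (hs : mat s = sMat c k) (x : UG n σ) (hx : x ∈ Xset σ k) (hx1 : x ≠ 1) :
    ∃ b₁ ∈ Bsub n σ, ∃ x₂ ∈ Xset σ k, s * x * s⁻¹ = b₁ * s * x₂ := by
  obtain ⟨t, u, hP, hxm⟩ := hx
  have hk1 : ¬ 2 * k.val + 3 < n := by omega
  have hP' : t = 0 ∧ u + σ u = 0 := by
    unfold Param at hP; rwa [if_neg hk1, if_pos hk] at hP
  obtain ⟨rfl, hu⟩ := hP'
  have hσu : σ u = -u := by linear_combination hu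
  have hu0 : u ≠ 0 := by
    rintro rfl
    apply hx1
    apply mat_injective
    rw [hxm, mat_one]
    unfold xMat; simp
  have hσu₂ : σ (-c ^ 2 / u) = c ^ 2 / u := by
    rw [map_div₀, map_neg, map_pow, hc, hσu]
    field_simp
  have hP2 : Param σ k 0 (-c ^ 2 / u) := by
    unfold Param; rw [if_neg hk1, if_pos hk]
    refine ⟨rfl, ?_⟩
    rw [hσu₂]; ring
  obtain ⟨x₂, hx₂⟩ := exists_of_isUJ (hX k 0 (-c ^ 2 / u) hP2)
  refine ⟨s * x * s⁻¹ * x₂⁻¹ * s⁻¹, ?_, x₂, ⟨0, -c ^ 2 / u, hP2, hx₂⟩, by group⟩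
  apply mem_Bsub_of c k s hs
  intro i j hji
  rw [mat_inv_xMat hσ x₂ k 0 (-c ^ 2 / u) hx₂, mul_xMat_apply, hσu₂]
  simp only [conj_apply c k s hs, hxm, xMat_apply]
  have hk2 := k.2
  have hrb : Fin.rev (ib k) = ia k := by
    apply Fin.ext; rw [val_rev, val_ia, val_ib]; omega
  have hra : Fin.rev (ia k) = ib k := by
    apply Fin.ext; rw [val_rev, val_ia, val_ib]; omega
  have pa : sPerm k (ia k) = ib k := by
    apply Fin.ext; rw [val_sPerm, if_neg hk1, val_ia, val_ib]; simp; omega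
  have pb : sPerm k (ib k) = ia k := by
    rw [← pa, sPerm_sPerm]
  have eqp : ∀ x y : Fin n, x = sPerm k y ↔ sPerm k x = y := by
    intro x y
    constructor
    · intro h; rw [h, sPerm_sPerm]
    · intro h; rw [← h, sPerm_sPerm]
  have sp_eq : ∀ x y : Fin n, sPerm k x = y ↔ x = sPerm k y := fun x y =>
    ⟨fun h => by rw [← h, sPerm_sPerm], fun h => by rw [h, sPerm_sPerm]⟩
  have n3 : ib k ≠ ia k := by
    intro h; have := congrArg Fin.val h; rw [val_ia, val_ib] at this; omega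
  simp only [map_zero, neg_zero, zero_mul, sPerm_sPerm, eqp, pa, pb, hra, hrb,
    EmbeddingLike.apply_eq_iff_eq]
  have hSa : sSign c k (ia k) = -c⁻¹ := by
    unfold sSign; rw [if_neg hk1, if_pos hk, if_pos rfl]
  have hSb : sSign c k (ib k) = c := by
    unfold sSign; rw [if_neg hk1, if_pos hk, if_neg n3, if_pos rfl]
  by_cases hja : ia k = j
  · subst hja
    have hia : i ≠ ia k := ne_of_gt hji
    by_cases hib : ib k = i
    · subst hib
      simp [sp_eq, pa, pb, hra, hrb, n3, n3.symm, hSa, hSb, hc, map_inv₀]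
      field_simp
      ring
    · have hib' : i ≠ ib k := fun h => hib h.symm
      simp [sp_eq, pa, pb, hra, hrb, n3, n3.symm, hia, hib, hib']
  · have hne : sPerm k i ≠ j := by
      intro h
      have h1 := congrArg Fin.val h
      have h2 : j.val ≠ k.val := fun h' => hja (Fin.ext (by rw [val_ia]; exact h'.symm))
      have hji' : j.val < i.val := hji
      have hi := i.2
      rw [val_sPerm, if_neg hk1] at h1
      split_ifs at h1 <;> omega
    have h4 : ¬ (ib k = i ∧ ib k = j) := fun h => absurd (h.1.symm.trans h.2) (ne_of_gt hji)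
    simp [hne, h4, hja]

end Cfsg.Agent.Helper87.SuBNR3II
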