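import Mathlib
import Cfsg.Agent.Helper19.OpBN.Defs

/-!
# Root elements of the plus-type orthogonal group: matrix algebra (helper87, for helper19's S2548)

`nMat a b t = t E(a,b) - t E(rev b, rev a)` is the nilpotent part of the root element `xMat a b t`.
-/

set_option autoImplicit false

namespace Cfsg.Agent.Helper87.OpBN

open Matrix Cfsg Cfsg.Agent.Helper19.OpBN

variable {F : Type*} [Field F] {m : ℕ}

/-- the nilpotent part of the root element `xMat a b t` -/
def nMat (a b : Fin (2 * m)) (t : F) : Matrix (Fin (2 * m)) (Fin (2 * m)) F :=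
  t • Matrix.single a b (1 : F) - t • Matrix.single (Fin.rev b) (Fin.rev a) (1 : F)

theorem xMat_eq (a b : Fin (2 * m)) (t : F) : xMat a b t = 1 + nMat a b t := by
  unfold xMat nMat
  rw [add_sub_assoc]

theorem xMat_neg_eq (a b : Fin (2 * m)) (t : F) : xMat a b (-t) = 1 - nMat a b t := by
  unfold xMat nMat
  rw [neg_smul, neg_smul]
  abel

theorem nMat_add (a b : Fin (2 * m)) (s t : F) : nMat a b (s + t) = nMat a b s + nMat a b t := by
  unfold nMat
  rw [add_smul, add_smul]
  abel

/-- a product of two nilpotent parts with no matching positions vanishes -/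
theorem nMat_mul_nMat_zero {a b c d : Fin (2 * m)} (s t : F) (h1 : b ≠ c) (h2 : b ≠ Fin.rev d)
    (h3 : Fin.rev a ≠ c) (h4 : a ≠ d) : nMat a b s * nMat c d t = 0 := by
  have h4' : Fin.rev a ≠ Fin.rev d := fun h => h4 (Fin.rev_injective h)
  unfold nMat
  rw [Matrix.sub_mul, Matrix.mul_sub, Matrix.mul_sub]
  simp only [Matrix.smul_mul, Matrix.mul_smul]
  rw [Matrix.single_mul_single_of_ne _ _ _ _ h1, Matrix.single_mul_single_of_ne _ _ _ _ h2,
    Matrix.single_mul_single_of_ne _ _ _ _ h3, Matrix.single_mul_single_of_ne _ _ _ _ h4']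
  simp

/-- the chain product `A(a,c) A(c,b)` -/
theorem nMat_mul_nMat_chain {a c b : Fin (2 * m)} (s t : F) (h2 : c ≠ Fin.rev b)
    (h3 : Fin.rev a ≠ c) (h4 : a ≠ b) :
    nMat a c s * nMat c b t = (s * t) • Matrix.single a b (1 : F) := by
  have h4' : Fin.rev a ≠ Fin.rev b := fun h => h4 (Fin.rev_injective h)
  unfold nMat
  rw [Matrix.sub_mul, Matrix.mul_sub, Matrix.mul_sub]
  simp only [Matrix.smul_mul, Matrix.mul_smul]
  rw [Matrix.single_mul_single_same, Matrix.single_mul_single_of_ne _ _ _ _ h2,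
    Matrix.single_mul_single_of_ne _ _ _ _ h3, Matrix.single_mul_single_of_ne _ _ _ _ h4']
  simp [mul_comm]

/-- the chain product the other way round, `A(c,b) A(a,c)` -/
theorem nMat_mul_nMat_chain' {a c b : Fin (2 * m)} (s t : F) (h1 : b ≠ a) (h2 : b ≠ Fin.rev c)
    (h3 : Fin.rev c ≠ a) :
    nMat c b t * nMat a c s = (s * t) • Matrix.single (Fin.rev b) (Fin.rev a) (1 : F) := by
  unfold nMat
  rw [Matrix.sub_mul, Matrix.mul_sub, Matrix.mul_sub]
  simp only [Matrix.smul_mul, Matrix.mul_smul]
  rw [Matrix.single_mul_single_same, Matrix.single_mul_single_of_ne _ _ _ _ h1,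
    Matrix.single_mul_single_of_ne _ _ _ _ h2, Matrix.single_mul_single_of_ne _ _ _ _ h3]
  simp

/-- the nilpotent part of a root element squares to zero -/
theorem nMat_mul_self {a b : Fin (2 * m)} (hab : a ≠ b) (s t : F) : nMat a b s * nMat a b t = 0 :=
  nMat_mul_nMat_zero s t hab.symm (rev_ne b).symm (rev_ne a) hab

/-- a root element times a root element of the same root -/
theorem xMat_mul_xMat {a b : Fin (2 * m)} (hab : a ≠ b) (s t : F) :
    xMat a b s * xMat a b t = xMat a b (s + t) := by
  rw [xMat_eq, xMat_eq, xMat_eq, nMat_add, mul_add, add_mul, add_mul, nMat_mul_self hab]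
  simp only [one_mul, mul_one, add_zero]
  abel

/-- the commutator expansion in a ring -/
theorem comm_expand {R : Type*} [Ring R] (A B : R) (hA : A * A = 0) (hB : B * B = 0)
    (hABA : A * B * A = 0) (hBAB : B * A * B = 0) :
    (1 + A) * (1 + B) * (1 - A) * (1 - B) = 1 + (A * B - B * A) := by
  have h : (1 + A) * (1 + B) * (1 - A) * (1 - B) =
      1 + (A * B - B * A) - A * A - B * B + A * A * B + B * A * B - A * B * A - A * (B * B)
        + A * B * A * B := by
    noncomm_ring
  rw [h, hA, hB, hABA, hBAB]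
  simp

end Cfsg.Agent.Helper87.OpBN
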