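import Mathlib
import Cfsg.Agent.Helper19.OpBN.Defs
import Cfsg.Agent.Helper87.OpBNXLem

/-!
# (XOM2) for helper19's S2548: the root elements are commutators of root elements when `m ≥ 3`
-/

set_option autoImplicit false

namespace Cfsg.Agent.Helper87.OpBN

open Matrix Cfsg Cfsg.Agent.Helper19.OpBN

variable {F : Type*} [Field F] {m : ℕ}

/-- the commutator formula `[x_{ac}(t), x_{cb}(u)] = x_{ab}(t u)` for six distinct positions -/
theorem xMat_comm_formula {a b c : Fin (2 * m)} (hab : a ≠ b) (hac : a ≠ c) (hcb : c ≠ b)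
    (hac' : a ≠ Fin.rev c) (hcb' : c ≠ Fin.rev b) (t u : F) :
    xMat a c t * xMat c b u * xMat a c (-t) * xMat c b (-u) = xMat a b (t * u) := by
  have hrev : ∀ {x y : Fin (2 * m)}, x ≠ Fin.rev y → Fin.rev x ≠ y := by
    intro x y h h'
    apply h
    rw [← h', Fin.rev_rev]
  have hAB : nMat a c t * nMat c b u = (t * u) • Matrix.single a b (1 : F) :=
    nMat_mul_nMat_chain t u hcb' (hrev hac') hab
  have hBA : nMat c b u * nMat a c t = (t * u) • Matrix.single (Fin.rev b) (Fin.rev a) (1 : F) :=
    nMat_mul_nMat_chain' t u hab.symm (fun h => hcb' (by rw [h, Fin.rev_rev])) hac'.symm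
  have hABA : nMat a c t * nMat c b u * nMat a c t = 0 := by
    rw [hAB]
    unfold nMat
    rw [Matrix.mul_sub]
    simp only [Matrix.smul_mul, Matrix.mul_smul]
    rw [Matrix.single_mul_single_of_ne _ _ _ _ hab.symm,
      Matrix.single_mul_single_of_ne _ _ _ _ (fun h => hcb' (by rw [h, Fin.rev_rev]))]
    simp
  have hBAB : nMat c b u * nMat a c t * nMat c b u = 0 := by
    rw [hBA]
    unfold nMat
    rw [Matrix.mul_sub]
    simp only [Matrix.smul_mul, Matrix.mul_smul]
    rw [Matrix.single_mul_single_of_ne _ _ _ _ (hrev hac'),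
      Matrix.single_mul_single_of_ne _ _ _ _ (fun h => hab (Fin.rev_injective h))]
    simp
  rw [xMat_eq a c t, xMat_eq c b u, xMat_neg_eq, xMat_neg_eq,
    comm_expand _ _ (nMat_mul_self hac t t) (nMat_mul_self hcb u u) hABA hBAB, hAB, hBA, xMat_eq]
  rfl

/-- (XOM2) the root elements are commutators of root elements, if `m ≥ 3` -/
theorem Xset_subset_commutator_of_three
    (hX : ∀ (a b : Fin (2 * m)), a ≠ b → a ≠ Fin.rev b → ∀ t : F, IsOJ (xMat a b t))
    (hm : 3 ≤ m) (k : Fin (m - 1)) :
    Xset k ⊆ ((commutator (OG m F) : Subgroup (OG m F)) : Set (OG m F)) := by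
  intro g hg
  obtain ⟨t, ht⟩ := hg
  have hk := k.2
  -- the third position
  let c : Fin (2 * m) := ⟨if k.val = 0 then 2 else 0, by split_ifs <;> omega⟩
  have hcv : c.val = if k.val = 0 then 2 else 0 := rfl
  have hab : ia k ≠ ib k := by
    intro h
    have := congrArg Fin.val h
    rw [val_ia, val_ib] at this
    omega
  have hac : ia k ≠ c := by
    intro h
    have := congrArg Fin.val h
    rw [val_ia, hcv] at this
    split_ifs at this <;> omega
  have hcb : c ≠ ib k := by
    intro h
    have := congrArg Fin.val h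
    rw [val_ib, hcv] at this
    split_ifs at this <;> omega
  have hab' : ia k ≠ Fin.rev (ib k) := by
    intro h
    have := congrArg Fin.val h
    rw [val_rev, val_ia, val_ib] at this
    omega
  have hac' : ia k ≠ Fin.rev c := by
    intro h
    have := congrArg Fin.val h
    rw [val_rev, val_ia, hcv] at this
    split_ifs at this <;> omega
  have hcb' : c ≠ Fin.rev (ib k) := by
    intro h
    have := congrArg Fin.val h
    rw [val_rev, val_ib, hcv] at this
    split_ifs at this <;> omega
  obtain ⟨x, hx⟩ := exists_of_isOJ (hX (ia k) c hac hac' t)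
  obtain ⟨y, hy⟩ := exists_of_isOJ (hX c (ib k) hcb hcb' 1)
  obtain ⟨x', hx'⟩ := exists_of_isOJ (hX (ia k) c hac hac' (-t))
  obtain ⟨y', hy'⟩ := exists_of_isOJ (hX c (ib k) hcb hcb' (-1))
  have hxx : x⁻¹ = x' := by
    apply inv_eq_of_mul_eq_one_right
    apply mat_injective
    rw [mat_mul, hx, hx', xMat_mul_xMat hac, add_neg_cancel, mat_one]
    unfold xMat
    simp
  have hyy : y⁻¹ = y' := by
    apply inv_eq_of_mul_eq_one_right
    apply mat_injective
    rw [mat_mul, hy, hy', xMat_mul_xMat hcb, add_neg_cancel, mat_one]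
    unfold xMat
    simp
  have hgc : g = x * y * x⁻¹ * y⁻¹ := by
    apply mat_injective
    rw [hxx, hyy, mat_mul, mat_mul, mat_mul, hx, hy, hx', hy', ht,
      xMat_comm_formula hab hac hcb hac' hcb', mul_one]
  have hmem := Subgroup.commutator_mem_commutator (Subgroup.mem_top x) (Subgroup.mem_top y)
  rw [commutatorElement_def] at hmem
  rw [hgc]
  exact hmem

end Cfsg.Agent.Helper87.OpBN
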