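import Cfsg.Agent.Helper87.FusionClosed
set_option autoImplicit false

namespace Cfsg.Agent.Helper87

open Cfsg Cfsg.FusionSystem

variable {Ω : Type*} [Group Ω] {S : Subgroup Ω}

/-- General form of the main step: `U ≥ T` with `T` strongly closed; automorphisms of the system on a fully automized
receptive subgroup `R` preserve `U`, if all maps on larger subgroups do and automorphisms of subgroups containing `T` do. -/
theorem autGroup_le_stabSystem_of_le [Finite S] {p : ℕ} [Fact p.Prime] (hS : IsPGroup p S) (F : FusionSystem S)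
    {T : Subgroup Ω} (hT : F.StronglyClosed T) {U : Subgroup Ω} (hTU : T ≤ U)
    (hU : ∀ g ∈ S, ∀ x : Ω, g * x * g⁻¹ ∈ U ↔ x ∈ U)
    (hbig : ∀ R : Subgroup Ω, R ≤ S → T ≤ R → ∀ α ∈ F.autGroup R, ∀ x : R, (x : Ω) ∈ U → ((α x : R) : Ω) ∈ U)
    {R : Subgroup Ω} (hRa : F.IsFullyAutomized p R) (hRr : F.IsReceptive R)
    (ih : ∀ (N : Subgroup Ω) (ψ : N →* Ω), R < N → ψ ∈ F.Hom N → ψ ∈ (stabSystem F U hU).Hom N) :
    F.autGroup R ≤ (stabSystem F U hU).autGroup R := by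
  have hRS := hRa.1
  by_cases hTR : T ≤ R
  · intro α hα
    rw [mem_autGroup_iff _ hRS]
    refine ⟨(mem_autGroup_iff F hRS α).mp hα, fun x => ⟨fun h => ?_, fun h => hbig R hRS hTR α hα x h⟩⟩
    have := hbig R hRS hTR _ ((F.autGroup R).inv_mem hα) (α x) h
    simpa using this
  · have hTn : ∀ g ∈ S, ∀ x ∈ T, g * x * g⁻¹ ∈ T := fun g hg x hx => conj_mem_of_stronglyClosed F hT hg hx
    obtain ⟨t, htT, htN, htR⟩ := exists_mem_normalizer_not_mem hS hRS hT.1
      (hRS.trans (le_normalizer_of_stronglyClosed F hT)) hTR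
    obtain ⟨Sy, hSy⟩ := hRa.2
    have : Finite (MulAut R) := finite_mulAut_of_le hRS
    have hKn : (modStab F hT hRS).Normal := modStab_normal F hT hRS
    have hct : conjAut R t htN ∈ F.autGroup R :=
      (mem_autGroup_iff F hRS _).mpr (isIso_conjAut F hRS (hT.1 htT) htN)
    have hctSy : (⟨conjAut R t htN, hct⟩ : F.autGroup R) ∈ (Sy : Subgroup (F.autGroup R)) := by
      rw [hSy, Subgroup.mem_subgroupOf, mem_autInducedBy_iff]
      exact ⟨t, hT.1 htT, fun x => rfl⟩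
    have hctK : (⟨conjAut R t htN, hct⟩ : F.autGroup R) ∈ modStab F hT hRS := by
      rw [mem_modStab_iff]
      intro x
      show (x : Ω)⁻¹ * (t * x * t⁻¹) ∈ T
      have h1 : (x : Ω)⁻¹ * t * ((x : Ω)⁻¹)⁻¹ ∈ T := hTn _ (S.inv_mem (hRS x.2)) t htT
      have : (x : Ω)⁻¹ * (t * x * t⁻¹) = ((x : Ω)⁻¹ * t * ((x : Ω)⁻¹)⁻¹) * t⁻¹ := by group
      rw [this]
      exact T.mul_mem h1 (T.inv_mem htT)
    intro α hα
    obtain ⟨g, hg, n, hn, hgn⟩ := exists_mul_of_normal Sy (modStab F hT hRS) ⟨α, hα⟩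
    have hα_eq : α = (g : MulAut R) * (n : MulAut R) := by
      have := congrArg Subtype.val hgn
      simpa using this
    rw [hα_eq]
    apply Subgroup.mul_mem
    · rw [mem_autGroup_iff _ hRS]
      apply isIso_of_extender_gt F _ hRr (g : MulAut R) ((mem_autGroup_iff F hRS _).mp g.2) ih t _ htR
      rw [mem_extender_iff]
      refine ⟨hT.1 htT, htN, ?_⟩
      have h1 : g * ⟨conjAut R t htN, hct⟩ * g⁻¹ ∈ (Sy : Subgroup (F.autGroup R)) ⊓ modStab F hT hRS :=
        (Subgroup.mem_normalizer_iff.mp hg _).mp ⟨hctSy, hctK⟩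
      have h2 : g * ⟨conjAut R t htN, hct⟩ * g⁻¹ ∈ (Sy : Subgroup (F.autGroup R)) := h1.1
      rw [hSy, Subgroup.mem_subgroupOf, mem_autInducedBy_iff] at h2
      obtain ⟨h, hhS, hh⟩ := h2
      refine ⟨h, hhS, fun x hx => ?_⟩
      have := hh ((g : MulAut R) x)
      simp only [Subgroup.coe_mul, Subgroup.coe_inv, MulAut.mul_apply, MulAut.inv_apply_self] at this
      exact this
    · rw [mem_autGroup_iff _ hRS]
      refine ⟨(mem_autGroup_iff F hRS _).mp n.2, fun x => ?_⟩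
      have h1 := (mem_modStab_iff F hT hRS n).mp hn x
      have h2 : (((n : MulAut R) x : R) : Ω) = x * ((x : Ω)⁻¹ * ((n : MulAut R) x : R)) := by group
      show (((n : MulAut R) x : R) : Ω) ∈ _ ↔ _
      rw [h2]
      exact Subgroup.mul_mem_cancel_right _ (hTU h1)

/-- A subgroup `U` of `S`, normalized by `S` and containing a strongly closed subgroup `T`, is strongly closed in a
saturated system as soon as the automorphisms of the system on the subgroups containing `T` preserve `U`. -/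
theorem stronglyClosed_of_le [Finite S] {p : ℕ} [Fact p.Prime] (hS : IsPGroup p S) (F : FusionSystem S)
    (hF : F.IsSaturated p) {T : Subgroup Ω} (hT : F.StronglyClosed T) {U : Subgroup Ω} (hTU : T ≤ U) (hUS : U ≤ S)
    (hU : ∀ g ∈ S, ∀ x : Ω, g * x * g⁻¹ ∈ U ↔ x ∈ U)
    (hbig : ∀ R : Subgroup Ω, R ≤ S → T ≤ R → ∀ α ∈ F.autGroup R, ∀ x : R, (x : Ω) ∈ U → ((α x : R) : Ω) ∈ U) :
    F.StronglyClosed U := by
  have key := hom_subset_of_autGroup_le hS F (stabSystem F _ hU) hF (fun R hRa hRr ih =>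
    autGroup_le_stabSystem_of_le hS F hT hTU hU hbig hRa hRr (fun N ψ hlt hψ => by
      have hNS : N ≤ S := (F.le_of_mem hψ).1
      have : Finite N := finite_of_le hNS
      exact ih N ψ (card_lt_card_of_lt hlt) hψ))
  refine ⟨hUS, fun R hR φ hφ x => ?_⟩
  exact ((key R hφ).2 x).mpr (hR x.2)

/-- The product of two strongly closed subgroups of a saturated fusion system is strongly closed. -/
theorem stronglyClosed_sup [Finite S] {p : ℕ} [Fact p.Prime] (hS : IsPGroup p S) (F : FusionSystem S)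
    (hF : F.IsSaturated p) {T₁ T₂ : Subgroup Ω} (h₁ : F.StronglyClosed T₁) (h₂ : F.StronglyClosed T₂) :
    F.StronglyClosed (T₁ ⊔ T₂) := by
  have hle : T₁ ≤ Subgroup.normalizer (T₂ : Set Ω) := h₁.1.trans (le_normalizer_of_stronglyClosed F h₂)
  have hmem : ∀ x : Ω, x ∈ T₁ ⊔ T₂ ↔ ∃ t₁ ∈ T₁, ∃ t₂ ∈ T₂, t₁ * t₂ = x := by
    intro x
    rw [← SetLike.mem_coe, Subgroup.coe_mul_of_left_le_normalizer_right T₁ _ hle]
    exact Set.mem_mul
  have hconj : ∀ g ∈ S, ∀ x, x ∈ T₁ ⊔ T₂ → g * x * g⁻¹ ∈ T₁ ⊔ T₂ := by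
    intro g hg x hx
    obtain ⟨t₁, ht₁, t₂, ht₂, rfl⟩ := (hmem x).mp hx
    have : g * (t₁ * t₂) * g⁻¹ = (g * t₁ * g⁻¹) * (g * t₂ * g⁻¹) := by group
    rw [this]
    exact Subgroup.mul_mem _ (Subgroup.mem_sup_left (conj_mem_of_stronglyClosed F h₁ hg ht₁))
      (Subgroup.mem_sup_right (conj_mem_of_stronglyClosed F h₂ hg ht₂))
  apply stronglyClosed_of_le hS F hF h₁ le_sup_left (sup_le h₁.1 h₂.1)
  · intro g hg x
    refine ⟨fun h => ?_, hconj g hg x⟩
    have := hconj g⁻¹ (S.inv_mem hg) _ h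
    have e : g⁻¹ * (g * x * g⁻¹) * g⁻¹⁻¹ = x := by group
    rwa [e] at this
  · intro R hRS hTR α hα x hx
    obtain ⟨t₁, ht₁, t₂, ht₂, h12⟩ := (hmem x).mp hx
    have ht₂R : t₂ ∈ R := by
      have : t₂ = t₁⁻¹ * x := by rw [← h12]; group
      rw [this]; exact R.mul_mem (R.inv_mem (hTR ht₁)) x.2
    have hx' : x = ⟨t₁, hTR ht₁⟩ * ⟨t₂, ht₂R⟩ := Subtype.ext h12.symm
    rw [hx', map_mul, Subgroup.coe_mul]
    exact Subgroup.mul_mem _ (Subgroup.mem_sup_left (aut_mem_of_stronglyClosed F h₁ hRS hα _ ht₁))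
      (Subgroup.mem_sup_right (aut_mem_of_stronglyClosed F h₂ hRS hα _ ht₂))

end Cfsg.Agent.Helper87
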