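import Cfsg.Agent.Helper87.FusionQuot2
import Cfsg.Agent.Helper87.FusionSeries
import Cfsg.Agent.Helper85.Morphism
import Cfsg.Agent.S5128
import Cfsg.Agent.S5089
import Cfsg.Agent.S5133
import Cfsg.Agent.S5134
import Cfsg.Agent.S5132
set_option autoImplicit false

namespace Cfsg.Agent.Helper87

open Cfsg Cfsg.FusionSystem
open scoped commutatorElement

variable {Ω : Type*} [Group Ω] {S : Subgroup Ω} {Ω' : Type*} [Group Ω']

/-- The image of a subgroup of `S` is unchanged by adjoining the kernel. -/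
theorem imageAlong_sup_ker (θ : S →* Ω') {R T : Subgroup Ω} (hker : ∀ s : S, θ s = 1 ↔ (s : Ω) ∈ R)
    (hTS : T ≤ S) (hRS : R ≤ S) : imageAlong θ (T ⊔ R) = imageAlong θ T := by
  unfold imageAlong
  rw [Subgroup.subgroupOf_sup hTS hRS, Subgroup.map_sup]
  have h : (R.subgroupOf S).map θ = ⊥ := by
    rw [eq_bot_iff]
    rintro _ ⟨s, hs, rfl⟩
    rw [Subgroup.mem_bot]
    exact (hker s).mpr (Subgroup.mem_subgroupOf.mp hs)
  rw [h, sup_bot_eq]

/-- The image in a factor system of a strongly closed subgroup containing the kernel is strongly closed. -/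
theorem stronglyClosed_imageAlong_of_le (F : FusionSystem S) {R : Subgroup Ω} (θ : S →* Ω') {S' : Subgroup Ω'}
    (E : FusionSystem S') (hE : F.IsFactorSystem R θ E) {T : Subgroup Ω} (hT : F.StronglyClosed T) (hRT : R ≤ T) :
    E.StronglyClosed (imageAlong θ T) := by
  have hker := hE.2.1
  have hrange := hE.2.2.1
  have hθS' : ∀ s : S, θ s ∈ S' := fun s => by rw [← hrange]; exact ⟨s, rfl⟩
  refine ⟨Helper85.imageAlong_le θ hθS' T, fun R' hR' φ' hφ' x' => ?_⟩
  obtain ⟨hR'S', φ, hφ, hNS, hφS, hN', hind⟩ := (hE.2.2.2 R' φ').mp hφ'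
  have hkerT : Helper85.kerAlong θ ≤ T := by
    intro y hy
    have hyS : y ∈ S := Helper85.kerAlong_le θ hy
    exact hRT ((hker ⟨y, hyS⟩).mp ((Helper85.mem_kerAlong θ ⟨y, hyS⟩).mpr hy))
  have hNT : preimageAlong θ R' ≤ T := by
    have h1 := Helper85.preimageAlong_mono θ hR'
    rwa [Helper85.preimageAlong_imageAlong θ hT.1 hkerT] at h1
  have hx' : (x' : Ω') ∈ θ.range := by rw [hrange]; exact hR'S' x'.2
  obtain ⟨s, hs⟩ := hx'
  have hsN : (s : Ω) ∈ preimageAlong θ R' := (Helper85.mem_preimageAlong θ R' _).mpr ⟨s.2, by rw [hs]; exact x'.2⟩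
  have h1 := hind ⟨s, hsN⟩
  have e : (⟨θ ⟨((⟨s, hsN⟩ : preimageAlong θ R') : Ω), hNS hsN⟩, hN' ⟨s, hsN⟩⟩ : R') = x' := Subtype.ext hs
  rw [e] at h1
  rw [h1]
  have h2 : φ ⟨s, hsN⟩ ∈ T := hT.2 _ hNT φ hφ ⟨s, hsN⟩
  exact (Helper85.mem_imageAlong θ T _).mpr ⟨⟨_, hφS _⟩, h2, rfl⟩

/-- The image in a factor system of a saturated system of a strongly closed subgroup is strongly closed. -/
theorem stronglyClosed_imageAlong [Finite S] {p : ℕ} [Fact p.Prime] (hS : IsPGroup p S) (F : FusionSystem S)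
    (hF : F.IsSaturated p) {R : Subgroup Ω} (hR : F.StronglyClosed R) (θ : S →* Ω') {S' : Subgroup Ω'}
    (E : FusionSystem S') (hE : F.IsFactorSystem R θ E) {T : Subgroup Ω} (hT : F.StronglyClosed T) :
    E.StronglyClosed (imageAlong θ T) := by
  rw [← imageAlong_sup_ker θ hE.2.1 hT.1 hR.1]
  exact stronglyClosed_imageAlong_of_le F θ E hE (Cfsg.Agent.S5128.result p hS F hF T R hT hR) le_sup_right

/-- The preimage of a strongly closed subgroup of a factor system of a saturated system is strongly closed. -/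
theorem stronglyClosed_preimageAlong [Finite S] {p : ℕ} [Fact p.Prime] (hS : IsPGroup p S) (F : FusionSystem S)
    (hF : F.IsSaturated p) {R : Subgroup Ω} (hR : F.StronglyClosed R) (θ : S →* Ω') {S' : Subgroup Ω'}
    (E : FusionSystem S') (hE : F.IsFactorSystem R θ E) {A' : Subgroup Ω'} (hA' : E.StronglyClosed A') :
    F.StronglyClosed (preimageAlong θ A') := by
  have hker := hE.2.1
  have hrange := hE.2.2.1
  refine ⟨Helper85.preimageAlong_le θ A', fun P hP φ hφ x => ?_⟩
  obtain ⟨φ', ⟨φ₀, hφ₀, hind₀⟩, hind⟩ := exists_induced hS F hF hR θ hker hφ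
  have hPi : imageAlong θ P ≤ S' := by
    rw [← hrange]
    rintro _ ⟨x, -, rfl⟩
    exact ⟨x, rfl⟩
  have hφ'E : φ' ∈ E.Hom (imageAlong θ P) := (hE.2.2.2 _ _).mpr ⟨hPi, φ₀, hφ₀, hind₀⟩
  have hPA : imageAlong θ P ≤ A' := by
    intro y hy
    obtain ⟨s, hs, rfl⟩ := (Helper85.mem_imageAlong θ P y).mp hy
    exact ((Helper85.mem_preimageAlong θ A' _).mp (hP hs)).2
  obtain ⟨hPS, hφS, hP', hcomm⟩ := hind
  have h1 := hA'.2 _ hPA φ' hφ'E ⟨θ ⟨x, hPS x.2⟩, hP' x⟩
  rw [hcomm x] at h1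
  exact (Helper85.mem_preimageAlong θ A' _).mpr ⟨hφS x, h1⟩

/-- The preimage of an abelian subgroup has its commutator subgroup in the kernel. -/
theorem commutator_preimageAlong_le (θ : S →* Ω') {R : Subgroup Ω} (hker : ∀ s : S, θ s = 1 ↔ (s : Ω) ∈ R)
    {A' : Subgroup Ω'} (hA' : IsMulCommutative A') : ⁅preimageAlong θ A', preimageAlong θ A'⁆ ≤ R := by
  rw [Subgroup.commutator_le]
  intro a ha b hb
  obtain ⟨haS, haA⟩ := (Helper85.mem_preimageAlong θ A' a).mp ha
  obtain ⟨hbS, hbA⟩ := (Helper85.mem_preimageAlong θ A' b).mp hb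
  have h1 : θ ⁅(⟨a, haS⟩ : S), ⟨b, hbS⟩⁆ = 1 := by
    rw [map_commutatorElement, commutatorElement_eq_one_iff_mul_comm]
    have := hA'.is_comm.comm (⟨_, haA⟩ : A') ⟨_, hbA⟩
    exact congrArg Subtype.val this
  exact (hker _).mp h1


theorem stronglyClosed_self (F : FusionSystem S) : F.StronglyClosed S :=
  ⟨le_rfl, fun _ _ _ hφ x => (F.le_of_mem hφ).2 x⟩

theorem normal_subgroupOf_of_stronglyClosed (F : FusionSystem S) {T : Subgroup Ω} (hT : F.StronglyClosed T) :
    (T.subgroupOf S).Normal := by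
  refine ⟨fun n hn g => ?_⟩
  rw [Subgroup.mem_subgroupOf] at hn ⊢
  exact hT.2 T le_rfl _ (F.conj_mem hT.1 g.2) ⟨n, hn⟩

/-- In a solvable saturated system, above every strongly closed `T ≠ S` there is a larger strongly closed subgroup
with abelian quotient. -/
theorem exists_stronglyClosed_gt_of_solvable [Finite S] {p : ℕ} [Fact p.Prime] (hS : IsPGroup p S)
    (F : FusionSystem S) (hF : F.IsSaturated p) (hsolv : F.IsSolvableSystem)
    {T : Subgroup Ω} (hT : F.StronglyClosed T) (hTS : T ≠ S) :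
    ∃ T' : Subgroup Ω, F.StronglyClosed T' ∧ T < T' ∧ ⁅T', T'⁆ ≤ T := by
  have hn : (T.subgroupOf S).Normal := normal_subgroupOf_of_stronglyClosed F hT
  obtain ⟨E, hE⟩ := Cfsg.Agent.S5132.result p hS F T hT
  have hcore := hsolv T hT hTS E hE
  have hsurj := Cfsg.Agent.S5134.result p hS F hF T hT _ E hE
  have hEsat := Cfsg.Agent.S5133.result p hS F hF E _ hsurj
  have hS' : IsPGroup p ↥(⊤ : Subgroup (S ⧸ T.subgroupOf S)) := (hS.to_quotient _).to_subgroup ⊤
  obtain ⟨A', hA'ne, hA'comm, hA'sc⟩ := (Cfsg.Agent.S5089.result p hS' E hEsat).mp hcore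
  refine ⟨preimageAlong (QuotientGroup.mk' (T.subgroupOf S)) A',
    stronglyClosed_preimageAlong hS F hF hT _ E hE hA'sc, ?_, commutator_preimageAlong_le _ hE.2.1 hA'comm⟩
  have hle : T ≤ preimageAlong (QuotientGroup.mk' (T.subgroupOf S)) A' := by
    intro t ht
    rw [Helper85.mem_preimageAlong]
    refine ⟨hT.1 ht, ?_⟩
    rw [(hE.2.1 ⟨t, hT.1 ht⟩).mpr ht]
    exact A'.one_mem
  refine lt_of_le_of_ne hle (fun heq => ?_)
  obtain ⟨a, ha⟩ := (Subgroup.ne_bot_iff_exists_ne_one).mp hA'ne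
  have har : (a : S ⧸ T.subgroupOf S) ∈ (QuotientGroup.mk' (T.subgroupOf S)).range := by
    rw [hE.2.2.1]; trivial
  obtain ⟨s, hs⟩ := har
  have hsT' : (s : Ω) ∈ preimageAlong (QuotientGroup.mk' (T.subgroupOf S)) A' :=
    (Helper85.mem_preimageAlong _ A' _).mpr ⟨s.2, by rw [hs]; exact a.2⟩
  rw [← heq] at hsT'
  have h1 := (hE.2.1 s).mpr hsT'
  apply ha
  apply Subtype.ext
  rw [← hs, h1]
  rfl

/-- A chain of strongly closed subgroups with abelian quotients from `1` to `S`, from a step function. -/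
theorem exists_chain_of_step [Finite S] (F : FusionSystem S)
    (step : ∀ T : Subgroup Ω, F.StronglyClosed T → T ≠ S →
      ∃ T' : Subgroup Ω, F.StronglyClosed T' ∧ T < T' ∧ ⁅T', T'⁆ ≤ T) :
    ∃ (n : ℕ) (T : Fin (n + 1) → Subgroup Ω), T 0 = ⊥ ∧ T (Fin.last n) = S ∧ Monotone T ∧
      (∀ i, F.StronglyClosed (T i)) ∧ ∀ i : Fin n, ⁅T i.succ, T i.succ⁆ ≤ T (Fin.castSucc i) := by
  classical
  let next : Subgroup Ω → Subgroup Ω := fun T =>
    if h : F.StronglyClosed T ∧ T ≠ S then Classical.choose (step T h.1 h.2) else S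
  have next_pos : ∀ T (h : F.StronglyClosed T ∧ T ≠ S),
      F.StronglyClosed (next T) ∧ T < next T ∧ ⁅next T, next T⁆ ≤ T := by
    intro T h
    have hn : next T = Classical.choose (step T h.1 h.2) := dif_pos h
    rw [hn]
    exact Classical.choose_spec (step T h.1 h.2)
  have next_neg : ∀ T, ¬ (F.StronglyClosed T ∧ T ≠ S) → next T = S := fun T h => dif_neg h
  let f : ℕ → Subgroup Ω := fun k => next^[k] ⊥
  have f_succ : ∀ k, f (k + 1) = next (f k) := fun k => Function.iterate_succ_apply' next k ⊥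
  have hsc : ∀ k, F.StronglyClosed (f k) := by
    intro k
    induction k with
    | zero => exact stronglyClosed_bot F
    | succ k ih =>
      rw [f_succ]
      by_cases h : F.StronglyClosed (f k) ∧ f k ≠ S
      · exact (next_pos _ h).1
      · rw [next_neg _ h]; exact stronglyClosed_self F
  have hle : ∀ k, f k ≤ f (k + 1) := by
    intro k
    rw [f_succ]
    by_cases h : F.StronglyClosed (f k) ∧ f k ≠ S
    · exact (next_pos _ h).2.1.le
    · rw [next_neg _ h]; exact (hsc k).1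
  have hcomm : ∀ k, ⁅f (k + 1), f (k + 1)⁆ ≤ f k := by
    intro k
    rw [f_succ]
    by_cases h : F.StronglyClosed (f k) ∧ f k ≠ S
    · exact (next_pos _ h).2.2
    · rw [next_neg _ h]
      have hk : f k = S := by
        by_contra hne
        exact h ⟨hsc k, hne⟩
      rw [hk]
      exact Subgroup.commutator_le.mpr (fun a ha b hb => S.mul_mem (S.mul_mem (S.mul_mem ha hb) (S.inv_mem ha)) (S.inv_mem hb))
  have hcard : ∀ k, f k = S ∨ k + 1 ≤ Nat.card (f k) := by
    intro k
    induction k with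
    | zero =>
      right
      show 0 + 1 ≤ Nat.card (⊥ : Subgroup Ω)
      rw [Subgroup.card_bot]
    | succ k ih =>
      by_cases h : F.StronglyClosed (f k) ∧ f k ≠ S
      · right
        rcases ih with ih | ih
        · exact absurd ih h.2
        · have hlt : f k < f (k + 1) := by rw [f_succ]; exact (next_pos _ h).2.1
          have : Finite (f (k + 1)) := finite_of_le (hsc (k + 1)).1
          have := card_lt_card_of_lt hlt
          omega
      · left
        rw [f_succ, next_neg _ h]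
  have hfin : f (Nat.card S) = S := by
    rcases hcard (Nat.card S) with h | h
    · exact h
    · exfalso
      have := Subgroup.card_le_of_le (hsc (Nat.card S)).1
      omega
  have hmono : Monotone f := monotone_nat_of_le_succ hle
  refine ⟨Nat.card S, fun i => f i, ?_, ?_, ?_, fun i => hsc i, fun i => ?_⟩
  · show f ((0 : Fin (Nat.card S + 1)) : ℕ) = ⊥
    rw [Fin.val_zero]
    rfl
  · show f ((Fin.last (Nat.card S) : Fin (Nat.card S + 1)) : ℕ) = S
    rw [Fin.val_last]
    exact hfin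
  · intro i j hij
    exact hmono hij
  · show ⁅f ((i.succ : Fin (Nat.card S + 1)) : ℕ), f ((i.succ : Fin (Nat.card S + 1)) : ℕ)⁆ ≤
      f ((Fin.castSucc i : Fin (Nat.card S + 1)) : ℕ)
    rw [Fin.val_succ, Fin.val_castSucc]
    exact hcomm i


/-- A saturated system with a chain of strongly closed subgroups from `1` to `S` with abelian quotients is solvable. -/
theorem isSolvableSystem_of_chain [Finite S] {p : ℕ} [Fact p.Prime] (hS : IsPGroup p S)
    (F : FusionSystem S) (hF : F.IsSaturated p) {n : ℕ} (T : Fin (n + 1) → Subgroup Ω) (h0 : T 0 = ⊥)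
    (hlast : T (Fin.last n) = S) (hsc : ∀ i, F.StronglyClosed (T i))
    (hcomm : ∀ i : Fin n, ⁅T i.succ, T i.succ⁆ ≤ T (Fin.castSucc i)) : F.IsSolvableSystem := by
  intro R hR hRS inst E hE
  have hker := hE.2.1
  have hsurj := Cfsg.Agent.S5134.result p hS F hF R hR _ E hE
  have hEsat := Cfsg.Agent.S5133.result p hS F hF E _ hsurj
  have hS' : IsPGroup p ↥(⊤ : Subgroup (S ⧸ R.subgroupOf S)) := (hS.to_quotient _).to_subgroup ⊤
  -- the first step of the chain leaving `R`
  have hex : ∃ i : Fin n, T (Fin.castSucc i) ≤ R ∧ ¬ T i.succ ≤ R := by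
    by_contra hno
    push Not at hno
    have hall : ∀ i : Fin (n + 1), T i ≤ R := by
      intro i
      induction i using Fin.induction with
      | zero => rw [h0]; exact bot_le
      | succ i ih => exact hno i ih
    have := hall (Fin.last n)
    rw [hlast] at this
    exact hRS (le_antisymm hR.1 this)
  obtain ⟨i, hi1, hi2⟩ := hex
  rw [Cfsg.Agent.S5089.result p hS' E hEsat]
  refine ⟨imageAlong (QuotientGroup.mk' (R.subgroupOf S)) (T i.succ), ?_, ?_,
    stronglyClosed_imageAlong hS F hF hR _ E hE (hsc _)⟩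
  · intro hbot
    apply hi2
    intro t ht
    have htS : t ∈ S := (hsc i.succ).1 ht
    have h1 : (QuotientGroup.mk' (R.subgroupOf S)) ⟨t, htS⟩ ∈
        imageAlong (QuotientGroup.mk' (R.subgroupOf S)) (T i.succ) :=
      (Helper85.mem_imageAlong _ _ _).mpr ⟨⟨t, htS⟩, ht, rfl⟩
    rw [hbot, Subgroup.mem_bot] at h1
    exact (hker ⟨t, htS⟩).mp h1
  · refine ⟨⟨fun a b => ?_⟩⟩
    obtain ⟨s₁, hs₁, hs₁a⟩ := (Helper85.mem_imageAlong _ _ _).mp a.2
    obtain ⟨s₂, hs₂, hs₂b⟩ := (Helper85.mem_imageAlong _ _ _).mp b.2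
    apply Subtype.ext
    show (a : S ⧸ R.subgroupOf S) * b = b * a
    rw [← hs₁a, ← hs₂b, ← commutatorElement_eq_one_iff_mul_comm, ← map_commutatorElement]
    apply (hker _).mpr
    have h2 : ⁅(s₁ : Ω), (s₂ : Ω)⁆ ∈ ⁅T i.succ, T i.succ⁆ := Subgroup.commutator_mem_commutator hs₁ hs₂
    exact hi1 (hcomm i h2)

end Cfsg.Agent.Helper87
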