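import Cfsg.Agent.Helper87.FusionExtend
set_option autoImplicit false

namespace Cfsg.Agent.Helper87

open Cfsg Cfsg.FusionSystem

variable {Ω : Type*} [Group Ω] {S : Subgroup Ω}

theorem range_subtype_comp_equiv {P Q : Subgroup Ω} (e : P ≃* Q) : (Q.subtype.comp e.toMonoidHom).range = Q := by
  ext y
  constructor
  · rintro ⟨x, rfl⟩
    exact (e x).2
  · intro hy
    exact ⟨e.symm ⟨y, hy⟩, by simp⟩

/-- `R` is contained in the extender of every automorphism of `R` with values in `S`. -/
theorem le_extender_of_aut {R : Subgroup Ω} (hRS : R ≤ S) (α : MulAut R) :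
    R ≤ extender S R (R.subtype.comp (α : R ≃* R).toMonoidHom) := by
  intro r hr
  rw [mem_extender_iff]
  refine ⟨hRS hr, Subgroup.le_normalizer hr, ((α ⟨r, hr⟩ : R) : Ω), hRS (α ⟨r, hr⟩).2, fun x hx => ?_⟩
  have e1 : (⟨r * (x : Ω) * r⁻¹, hx⟩ : R) = ⟨r, hr⟩ * x * ⟨r, hr⟩⁻¹ := Subtype.ext rfl
  rw [e1]
  simp

/-- If the extender of an automorphism `α` of the system on a receptive subgroup `R` is strictly larger than `R`, and all maps of
`F` on subgroups strictly larger than `R` are maps of `E`, then `α` is an automorphism of `E`. -/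
theorem isIso_of_extender_gt (F E : FusionSystem S) {R : Subgroup Ω} (hRr : F.IsReceptive R) (α : MulAut R)
    (hα : IsIso F (α : R ≃* R))
    (ih : ∀ (N : Subgroup Ω) (ψ : N →* Ω), R < N → ψ ∈ F.Hom N → ψ ∈ E.Hom N)
    (g : Ω) (hg : g ∈ extender S R (R.subtype.comp (α : R ≃* R).toMonoidHom)) (hgR : g ∉ R) :
    IsIso E (α : R ≃* R) := by
  have hRS : R ≤ S := hRr.1
  obtain ⟨ψ, hψ, hψx⟩ := hRr.2 R _ hα (range_subtype_comp_equiv (α : R ≃* R))
  have hle := le_extender_of_aut hRS α
  have hlt : R < extender S R (R.subtype.comp (α : R ≃* R).toMonoidHom) :=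
    lt_of_le_of_ne hle (fun h => hgR (h ▸ hg))
  have hψE := ih _ ψ hlt hψ
  have h1 := restrict_mem E hψE hle
  unfold IsIso
  refine mem_of_eq E h1 (fun x => ?_)
  exact (hψx x x.2 (hle x.2)).symm

/-- Inner automorphisms of `R ≤ S` are automorphisms of every fusion system over `S`. -/
theorem inn_le_autGroup (E : FusionSystem S) {R : Subgroup Ω} (hRS : R ≤ S) : Inn R ≤ E.autGroup R := by
  rintro ν ⟨r, rfl⟩
  rw [mem_autGroup_iff E hRS]
  unfold IsIso
  exact mem_of_eq E (E.conj_mem hRS (hRS r.2)) (fun x => rfl)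

/-- Main step of the Alperin–Goldschmidt theorem. -/
theorem autGroup_le_of_larger [Finite S] {p : ℕ} [Fact p.Prime] (hS : IsPGroup p S) (F E : FusionSystem S)
    {R : Subgroup Ω} (hRa : F.IsFullyAutomized p R) (hRr : F.IsReceptive R) (hRS : R < S)
    (hE : F.IsEssential p R → F.autGroup R ≤ E.autGroup R)
    (ih : ∀ (N : Subgroup Ω) (ψ : N →* Ω), R < N → ψ ∈ F.Hom N → ψ ∈ E.Hom N) :
    F.autGroup R ≤ E.autGroup R := by
  by_contra hne
  have hRS' : R ≤ S := hRS.le
  have key : ∀ α ∈ F.autGroup R,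
      (∃ g ∈ extender S R (R.subtype.comp (α : R ≃* R).toMonoidHom), g ∉ R) → α ∈ E.autGroup R := by
    rintro α hα ⟨g, hg, hgR⟩
    rw [mem_autGroup_iff E hRS']
    exact isIso_of_extender_gt F E hRr α ((mem_autGroup_iff F hRS' α).mp hα) ih g hg hgR
  -- Step 1: `R` is centric
  have hcen : F.IsCentric R := by
    refine ⟨hRS', fun Q hQ => ?_⟩
    by_contra hnot
    obtain ⟨c, hcC, hcQ⟩ := SetLike.not_le_iff_exists.mp hnot
    obtain ⟨e, he⟩ := (isConj_iff F R Q).mp hQ
    obtain ⟨φ, hφ, e', he', hφx, hvalN, hvalC, hinj⟩ := exists_extension_normalizerIn' hS F hRa hRr e.symm he.symm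
    have hcN : c ∈ normalizerIn S Q := centralizerIn_le_normalizerIn S Q hcC
    have hd := hvalC ⟨c, hcN⟩ hcC
    have hdR : φ ⟨c, hcN⟩ ∉ R := fun h => hcQ (hinj ⟨c, hcN⟩ h)
    apply hne
    intro α hα
    refine key α hα ⟨φ ⟨c, hcN⟩, ?_, hdR⟩
    rw [mem_extender_iff]
    refine ⟨hd.1, Subgroup.centralizer_le_normalizer _ hd.2, 1, S.one_mem, fun x hx => ?_⟩
    have hcomm := Subgroup.mem_centralizer_iff.mp hd.2 x x.2
    have e1 : (⟨φ ⟨c, hcN⟩ * (x : Ω) * (φ ⟨c, hcN⟩)⁻¹, hx⟩ : R) = x := by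
      apply Subtype.ext
      show φ ⟨c, hcN⟩ * (x : Ω) * (φ ⟨c, hcN⟩)⁻¹ = x
      rw [← hcomm]; group
    rw [e1]; simp
  have hfn := isFullyNormalized_of_fullyAutomized_of_receptive hS F hRa hRr
  -- Step 2: the strongly `p`-embedded subgroup
  have : Finite (MulAut R) := finite_mulAut_of_le hRS'
  obtain ⟨-, T₀, hT₀⟩ := hRa
  let N : Subgroup (F.autGroup R) := (Inn R).subgroupOf (F.autGroup R)
  have hNn : N.Normal := inferInstance
  let π : F.autGroup R →* F.autGroup R ⧸ N := QuotientGroup.mk' N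
  have hπ : Function.Surjective π := QuotientGroup.mk'_surjective N
  let H : Subgroup (F.autGroup R) := (E.autGroup R).subgroupOf (F.autGroup R)
  have hNH : N ≤ H := fun a ha => inn_le_autGroup E hRS' ha
  let T : Sylow p (F.autGroup R ⧸ N) := T₀.mapSurjective hπ
  have hT : (T : Subgroup (F.autGroup R ⧸ N)) = (T₀ : Subgroup (F.autGroup R)).map π := Sylow.coe_mapSurjective hπ T₀
  -- elements of `T₀` are conjugations by elements of `S`
  have hT₀mem : ∀ t : F.autGroup R, t ∈ (T₀ : Subgroup (F.autGroup R)) →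
      ∃ g ∈ S, ∀ x : R, (((t : MulAut R) x : R) : Ω) = g * x * g⁻¹ := by
    intro t ht
    rw [hT₀, Subgroup.mem_subgroupOf] at ht
    exact (mem_autInducedBy_iff S R _).mp ht
  -- an element of `T₀` induced by an element of `R` lies in `N`
  have hinner : ∀ (t : F.autGroup R) (g : Ω), g ∈ R → (∀ x : R, (((t : MulAut R) x : R) : Ω) = g * x * g⁻¹) → t ∈ N := by
    intro t g hg hgx
    show (t : MulAut R) ∈ Inn R
    refine ⟨⟨g, hg⟩, ?_⟩
    ext x
    rw [hgx x]
    rfl
  have hess : F.IsEssential p R := by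
    refine ⟨hcen, hfn, hNn, H.map π, ?_, ?_, T, ?_⟩
    · -- `p` divides the order of the quotient
      obtain ⟨g, hgN, hgR⟩ := SetLike.exists_of_lt (lt_normalizerIn hS hRS)
      have htA : conjAut R g hgN.2 ∈ F.autGroup R :=
        (mem_autGroup_iff F hRS' _).mpr (isIso_conjAut F hRS' hgN.1 hgN.2)
      have htT₀ : (⟨conjAut R g hgN.2, htA⟩ : F.autGroup R) ∈ (T₀ : Subgroup (F.autGroup R)) := by
        rw [hT₀, Subgroup.mem_subgroupOf]
        exact (mem_autInducedBy_iff S R _).mpr ⟨g, hgN.1, fun x => rfl⟩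
      have hne1 : π ⟨conjAut R g hgN.2, htA⟩ ≠ 1 := by
        intro h1
        have hN' : (⟨conjAut R g hgN.2, htA⟩ : F.autGroup R) ∈ N := (QuotientGroup.eq_one_iff _).mp h1
        obtain ⟨r, hr⟩ := hN'
        -- `r⁻¹ g` centralizes `R`
        have hcent : (r : Ω)⁻¹ * g ∈ centralizerIn S R := by
          refine ⟨S.mul_mem (S.inv_mem (hRS' r.2)) hgN.1, ?_⟩
          show _ ∈ Subgroup.centralizer (R : Set Ω)
          rw [Subgroup.mem_centralizer_iff]
          intro y hy
          have h2 := congrArg (fun β : MulAut R => ((β ⟨y, hy⟩ : R) : Ω)) hr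
          simp only [MulAut.conj_apply] at h2
          have h3 : (r : Ω) * y * (r : Ω)⁻¹ = g * y * g⁻¹ := h2
          calc y * ((r : Ω)⁻¹ * g) = (r : Ω)⁻¹ * ((r : Ω) * y * (r : Ω)⁻¹) * g := by group
            _ = (r : Ω)⁻¹ * (g * y * g⁻¹) * g := by rw [h3]
            _ = (r : Ω)⁻¹ * g * y := by group
        have hR' := hcen.2 R ((isConj_iff F R R).mpr ⟨MulEquiv.refl R, isIso_refl F hRS'⟩) hcent
        apply hgR
        have : g = r * ((r : Ω)⁻¹ * g) := by group
        rw [this]
        exact R.mul_mem r.2 hR'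
      have hTne : (T : Subgroup (F.autGroup R ⧸ N)) ≠ ⊥ := by
        intro hbot
        apply hne1
        have : π ⟨conjAut R g hgN.2, htA⟩ ∈ (T : Subgroup (F.autGroup R ⧸ N)) := by
          rw [hT]; exact ⟨_, htT₀, rfl⟩
        rw [hbot, Subgroup.mem_bot] at this
        exact this
      obtain ⟨n, hn⟩ := IsPGroup.iff_card.mp T.isPGroup'
      have hn0 : n ≠ 0 := by
        rintro rfl
        apply hTne
        rw [pow_zero] at hn
        exact Subgroup.card_eq_one.mp hn
      have h1 : p ∣ Nat.card (T : Subgroup (F.autGroup R ⧸ N)) := by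
        rw [hn]; exact dvd_pow_self p hn0
      exact h1.trans (Subgroup.card_subgroup_dvd_card _)
    · -- the image of `H` is proper
      intro htop
      apply hne
      intro α hα
      have : π ⟨α, hα⟩ ∈ H.map π := by rw [htop]; exact Subgroup.mem_top _
      obtain ⟨h, hhH, hh⟩ := this
      obtain ⟨z, hzN, hz⟩ := (QuotientGroup.mk'_eq_mk' N).mp hh
      have : (⟨α, hα⟩ : F.autGroup R) ∈ H := by
        rw [← hz]; exact H.mul_mem hhH (hNH hzN)
      exact this
    · -- the `1`-generated core lies in the image of `H`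
      unfold kGeneratedCore
      refine iSup_le ?_
      rintro ⟨V, hVT, hVrank⟩
      intro xbar hx
      obtain ⟨a, rfl⟩ := hπ xbar
      refine ⟨a, ?_, rfl⟩
      show (a : MulAut R) ∈ E.autGroup R
      -- a nontrivial element of `V`
      obtain ⟨v, hvV, hv1⟩ : ∃ v ∈ V, v ≠ 1 := by
        by_contra hcon
        push Not at hcon
        apply hVrank
        intro A' _ _
        have hsub : Subsingleton V := ⟨fun a b => Subtype.ext ((hcon a a.2).trans (hcon b b.2).symm)⟩
        have : Subsingleton A' := ⟨fun a b => Subtype.ext (Subsingleton.elim _ _)⟩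
        simp
      have hvT : v ∈ (T : Subgroup (F.autGroup R ⧸ N)) := hVT hvV
      rw [hT] at hvT
      obtain ⟨t, ht, rfl⟩ := hvT
      obtain ⟨g, hgS, hgx⟩ := hT₀mem t ht
      have hgR : g ∉ R := by
        intro hgR
        exact hv1 ((QuotientGroup.eq_one_iff _).mpr (hinner t g hgR hgx))
      have hgN : g ∈ Subgroup.normalizer (R : Set Ω) := mem_normalizer_of_conj_eq _ g hgx
      refine key a a.2 ⟨g, ?_, hgR⟩
      -- `g` lies in the extender of `a`
      have hconj : π a * π t * (π a)⁻¹ ∈ V := (Subgroup.mem_normalizer_iff.mp hx _).mp hvV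
      have hconjT := hVT hconj
      rw [hT] at hconjT
      obtain ⟨t', ht', ht'eq⟩ := hconjT
      obtain ⟨g', hg'S, hg'x⟩ := hT₀mem t' ht'
      have h2 : π t' = π (a * t * a⁻¹) := by rw [ht'eq, map_mul, map_mul, map_inv]
      obtain ⟨z, hzN, hz⟩ := (QuotientGroup.mk'_eq_mk' N).mp h2
      obtain ⟨r, hr⟩ := hzN
      rw [mem_extender_iff]
      refine ⟨hgS, hgN, g' * r, S.mul_mem hg'S (hRS' r.2), fun x hx' => ?_⟩
      have h3 := congrArg (fun β : F.autGroup R => (((β : MulAut R) ((a : MulAut R) x) : R) : Ω)) hz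
      simp only [Subgroup.coe_mul, MulAut.mul_apply, Subgroup.coe_inv, MulAut.inv_apply_self] at h3
      rw [hg'x] at h3
      have h4 : (((z : MulAut R) ((a : MulAut R) x) : R) : Ω) = r * (((a : MulAut R) x : R) : Ω) * (r : Ω)⁻¹ := by
        have hz' : (z : MulAut R) = MulAut.conj r := hr.symm
        rw [hz']; rfl
      rw [h4] at h3
      have h5 : (t : MulAut R) x = ⟨g * x * g⁻¹, hx'⟩ := Subtype.ext (hgx x)
      rw [h5] at h3
      show ((((a : MulAut R) ⟨g * x * g⁻¹, hx'⟩ : R)) : Ω) = g' * r * (((a : MulAut R) x : R) : Ω) * (g' * r)⁻¹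
      rw [← h3]
      group
  exact hne (hE hess)

/-- A map of the system whose restriction to a subgroup is given: the induced isomorphism is an isomorphism of the
system `E` when the map is a map of `E`. -/
theorem isIso_of_restrict (E : FusionSystem S) {N P R : Subgroup Ω} {φ : N →* Ω} (hφ : φ ∈ E.Hom N) (hPN : P ≤ N)
    (e : P ≃* R) (h : ∀ x : P, φ (Subgroup.inclusion hPN x) = e x) : IsIso E e := by
  unfold IsIso
  exact mem_of_eq E (restrict_mem E hφ hPN) (fun x => (h x).symm)

/-- The Alperin–Goldschmidt fusion theorem: a saturated fusion system is generated by the automorphism groups of `S` and of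
its essential subgroups. -/
theorem alperin [Finite S] {p : ℕ} [Fact p.Prime] (hS : IsPGroup p S) (F E : FusionSystem S) (hF : F.IsSaturated p)
    (hE : ∀ P : Subgroup Ω, (P = S ∨ F.IsEssential p P) → F.autGroup P ≤ E.autGroup P) :
    ∀ P : Subgroup Ω, F.Hom P ⊆ E.Hom P := by
  intro P
  induction' hn : Nat.card S - Nat.card P using Nat.strong_induction_on with n ih generalizing P
  intro φ hφ
  have hPS : P ≤ S := (F.le_of_mem hφ).1
  have hP : Finite P := finite_of_le hPS
  -- maps of `F` on subgroups of larger order are maps of `E`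
  have ih' : ∀ (N : Subgroup Ω) (ψ : N →* Ω), Nat.card P < Nat.card N → ψ ∈ F.Hom N → ψ ∈ E.Hom N := by
    intro N ψ hlt hψ
    have hNS : N ≤ S := (F.le_of_mem hψ).1
    have : Finite N := finite_of_le hNS
    have hle : Nat.card N ≤ Nat.card S := Subgroup.card_le_of_le hNS
    exact ih (Nat.card S - Nat.card N) (by omega) N rfl hψ
  have he := isIso_ofInjective F hφ
  set e := MonoidHom.ofInjective (F.injective_of_mem hφ) with he_def
  have hQS : φ.range ≤ S := he.le_right
  have hcardQ : Nat.card φ.range = Nat.card P := (Nat.card_congr e.toEquiv).symm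
  by_cases hPeq : P = S
  · subst hPeq
    have : Finite φ.range := finite_of_le hQS
    have hQ : φ.range = P := Subgroup.eq_of_le_of_card_ge hQS (le_of_eq hcardQ.symm)
    have hα : IsIso F (e.trans (MulEquiv.subgroupCongr hQ)) := by
      unfold IsIso
      exact mem_of_eq F hφ (fun x => rfl)
    have hαE := hE P (Or.inl rfl) ((mem_autGroup_iff F hPS (e.trans (MulEquiv.subgroupCongr hQ))).mpr hα)
    have := (mem_autGroup_iff E hPS _).mp hαE
    exact mem_of_eq E this (fun x => rfl)
  · have hPlt : P < S := lt_of_le_of_ne hPS hPeq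
    obtain ⟨R, hQR, hRa, hRr⟩ := hF φ.range hQS
    obtain ⟨e₂, he₂⟩ := (isConj_iff F φ.range R).mp hQR
    have hRS : R ≤ S := he₂.le_right
    have hcardR : Nat.card R = Nat.card P := by rw [← hcardQ]; exact (Nat.card_congr e₂.toEquiv).symm
    have hcardlt : Nat.card P < Nat.card S := card_lt_card_of_lt hPlt
    have hRlt : R < S := lt_of_le_of_ne hRS (fun h => by rw [h] at hcardR; omega)
    have hQlt : φ.range < S := lt_of_le_of_ne hQS (fun h => by rw [h] at hcardQ; omega)
    -- extend to the normalizers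
    obtain ⟨φ₁, hφ₁, e₁', he₁', hφ₁x⟩ := exists_extension_normalizerIn hS F hRa hRr (e.trans e₂) (he.trans he₂)
    obtain ⟨φ₂, hφ₂, e₂', he₂', hφ₂x⟩ := exists_extension_normalizerIn hS F hRa hRr e₂ he₂
    have hN₁ : Finite (normalizerIn S P) := finite_of_le inf_le_left
    have hN₂ : Finite (normalizerIn S φ.range) := finite_of_le inf_le_left
    have hφ₁E := ih' _ φ₁ (card_lt_card_of_lt (lt_normalizerIn hS hPlt)) hφ₁
    have hφ₂E := ih' _ φ₂ (by rw [← hcardQ]; exact card_lt_card_of_lt (lt_normalizerIn hS hQlt)) hφ₂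
    have he₁E : IsIso E e₁' := isIso_of_restrict E hφ₁E (le_normalizerIn hPS) e₁' hφ₁x
    have he₂E : IsIso E e₂' := isIso_of_restrict E hφ₂E (le_normalizerIn hQS) e₂' hφ₂x
    -- the automorphism of `R`
    have hαF : IsIso F (e₁'.symm.trans (e.trans e₂')) := he₁'.symm.trans (he.trans he₂')
    have hle := autGroup_le_of_larger hS F E hRa hRr hRlt (fun hess => hE R (Or.inr hess))
      (fun N ψ hlt hψ => by
        have hNS : N ≤ S := (F.le_of_mem hψ).1
        have : Finite N := finite_of_le hNS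
        exact ih' N ψ (by rw [← hcardR]; exact card_lt_card_of_lt hlt) hψ)
    have hαE : IsIso E (e₁'.symm.trans (e.trans e₂')) :=
      (mem_autGroup_iff E hRS _).mp (hle ((mem_autGroup_iff F hRS (e₁'.symm.trans (e.trans e₂'))).mpr hαF))
    have hfin : IsIso E (e₁'.trans ((e₁'.symm.trans (e.trans e₂')).trans e₂'.symm)) :=
      he₁E.trans (hαE.trans he₂E.symm)
    exact mem_of_eq E hfin (fun x => by simp; rfl)

end Cfsg.Agent.Helper87
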