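import Cfsg.Agent.Helper87.FusionGen
set_option autoImplicit false

namespace Cfsg.Agent.Helper87

open Cfsg Cfsg.FusionSystem

variable {Ω : Type*} [Group Ω] {S : Subgroup Ω}

/-- A generated isomorphism between conjugates of `Q`, transported to `Q` along maps of the system defined on the
normalizers, lies in the group generated by the automorphisms of `Q` that extend to strictly larger subgroups. -/
theorem gen_mem_closure [Finite S] {p : ℕ} [Fact p.Prime] (hS : IsPGroup p S) (F : FusionSystem S)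
    {Q : Subgroup Ω} (hQa : F.IsFullyAutomized p Q) (hQr : F.IsReceptive Q) (H : Subgroup (MulAut Q))
    (hH : H = Subgroup.closure {α : MulAut Q | ∃ (R : Subgroup Ω) (hQR : Q < R) (φ : R →* Ω), φ ∈ F.Hom R ∧
      ∀ x : Q, φ (Subgroup.inclusion hQR.le x) = α x})
    {Q' Q'' : Subgroup Ω} {e : Q' ≃* Q''} (hG : Gen F e) :
    ∀ (hQ'S : Q' ≤ S) (hQ''S : Q'' ≤ S) (ψ' : normalizerIn S Q' →* Ω) (ψ'' : normalizerIn S Q'' →* Ω)
      (a' : Q' ≃* Q) (a'' : Q'' ≃* Q), ψ' ∈ F.Hom (normalizerIn S Q') → ψ'' ∈ F.Hom (normalizerIn S Q'') →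
      (∀ x : Q', ψ' ⟨x, le_normalizerIn hQ'S x.2⟩ = a' x) →
      (∀ y : Q'', ψ'' ⟨y, le_normalizerIn hQ''S y.2⟩ = a'' y) →
      (a'.symm.trans (e.trans a'') : MulAut Q) ∈ H := by
  induction hG with
  | @trans Q' Q₁ Q'' e₁ e₂ hG₁ hG₂ ih₁ ih₂ =>
    intro hQ'S hQ''S ψ' ψ'' a' a'' hψ' hψ'' ha' ha''
    have hQ₁S : Q₁ ≤ S := hG₁.isIso.le_right
    have ha'iso : IsIso F a' := isIso_of_restrict F hψ' (le_normalizerIn hQ'S) a' ha'
    have hf : IsIso F (e₁.symm.trans a') := hG₁.isIso.symm.trans ha'iso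
    obtain ⟨ψ₁, hψ₁, a₁, -, ha₁⟩ := exists_extension_normalizerIn hS F hQa hQr (e₁.symm.trans a') hf
    have h1 := ih₁ hQ'S hQ₁S ψ' ψ₁ a' a₁ hψ' hψ₁ ha' ha₁
    have h2 := ih₂ hQ₁S hQ''S ψ₁ ψ'' a₁ a'' hψ₁ hψ'' ha₁ ha''
    have := H.mul_mem h2 h1
    have e : (a'.symm.trans ((e₁.trans e₂).trans a'') : MulAut Q) =
        (a₁.symm.trans (e₂.trans a'') : MulAut Q) * (a'.symm.trans (e₁.trans a₁) : MulAut Q) := by
      ext y
      simp
    rw [e]
    exact this
  | @ext Q' Q'' N e hlt φ hφ h =>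
    intro hQ'S hQ''S ψ' ψ'' a' a'' hψ' hψ'' ha' ha''
    have hNS : N ≤ S := (F.le_of_mem hφ).1
    -- the subgroup `M = N_N(Q')`
    set M := N ⊓ normalizerIn S Q' with hM
    have hQ'M : Q' ≤ M := le_inf hlt.le (le_normalizerIn hQ'S)
    obtain ⟨c, hcN, hcn, hcQ'⟩ := exists_mem_normalizer_not_mem hS hQ'S hNS
      (hlt.le.trans Subgroup.le_normalizer) (not_le_of_gt hlt)
    have hcM : c ∈ M := ⟨hcN, hNS hcN, hcn⟩
    have hMS : M ≤ S := inf_le_left.trans hNS
    have hfinM : Finite M := finite_of_le hMS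
    have hQ'ltM : Q' < M := lt_of_le_of_ne hQ'M (fun heq => hcQ' (heq ▸ hcM))
    -- the isomorphism `d : M ≃* D`
    have hψ'M : ψ'.comp (Subgroup.inclusion (inf_le_right : M ≤ normalizerIn S Q')) ∈ F.Hom M :=
      restrict_mem F hψ' inf_le_right
    have hdiso : IsIso F (MonoidHom.ofInjective (F.injective_of_mem hψ'M)) := isIso_ofInjective F hψ'M
    have hdx : ∀ m : M, (((MonoidHom.ofInjective (F.injective_of_mem hψ'M)) m :
        (ψ'.comp (Subgroup.inclusion (inf_le_right : M ≤ normalizerIn S Q'))).range) : Ω) =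
        ψ' ⟨m, (inf_le_right : M ≤ normalizerIn S Q') m.2⟩ := fun m => rfl
    generalize MonoidHom.ofInjective (F.injective_of_mem hψ'M) = d at hdiso hdx
    generalize hD : (ψ'.comp (Subgroup.inclusion (inf_le_right : M ≤ normalizerIn S Q'))).range = D at d hdiso hdx
    -- `φ` maps `M` into the normalizer of `Q''`
    have hφM : φ.comp (Subgroup.inclusion (inf_le_left : M ≤ N)) ∈ F.Hom M := restrict_mem F hφ inf_le_left
    have hφMval : ∀ m : M, (φ.comp (Subgroup.inclusion (inf_le_left : M ≤ N))) m ∈ normalizerIn S Q'' := by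
      intro m
      refine ⟨(F.le_of_mem hφ).2 _, ?_⟩
      apply map_mem_normalizer φ hlt.le (fun q => ?_) (fun y hy => ?_) _ m.2.2.2
      · rw [h]; exact (e q).2
      · exact ⟨e.symm ⟨y, hy⟩, by rw [h]; simp⟩
    have hΘ : ψ''.comp ((φ.comp (Subgroup.inclusion (inf_le_left : M ≤ N))).codRestrict _ hφMval) ∈ F.Hom M :=
      F.comp_mem hφM hψ'' hφMval
    have hΦ := comp_iso_mem F hdiso.symm hΘ
    -- `Q < D`
    have hQD : Q ≤ D := by
      intro y hy
      have hm : ((a'.symm ⟨y, hy⟩ : Q') : Ω) ∈ M := hQ'M (a'.symm ⟨y, hy⟩).2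
      have e0 : ((d ⟨_, hm⟩ : D) : Ω) = y := by
        rw [hdx]
        show ψ' ⟨(a'.symm ⟨y, hy⟩ : Q'), _⟩ = y
        rw [ha']; simp
      rw [← e0]
      exact (d ⟨_, hm⟩).2
    have hDS : D ≤ S := hdiso.le_right
    have hfinD : Finite D := finite_of_le hDS
    have hcardD : Nat.card D = Nat.card M := (Nat.card_congr d.toEquiv).symm
    have hcardQ : Nat.card Q = Nat.card Q' := (Nat.card_congr a'.toEquiv).symm
    have hcardlt : Nat.card Q' < Nat.card M := card_lt_card_of_lt hQ'ltM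
    have hQltD : Q < D := by
      refine lt_of_le_of_ne hQD (fun heq => ?_)
      rw [heq] at hcardQ
      omega
    rw [hH]
    apply Subgroup.subset_closure
    refine ⟨D, hQltD, _, hΦ, fun y => ?_⟩
    -- compute
    set x : Q' := a'.symm y with hx
    have hxM : (x : Ω) ∈ M := hQ'M x.2
    have e1 : Subgroup.inclusion hQltD.le y = d ⟨x, hxM⟩ := by
      apply Subtype.ext
      rw [hdx]
      show (y : Ω) = ψ' ⟨(x : Ω), _⟩
      rw [ha', hx]; simp
    show ψ'' ⟨φ (Subgroup.inclusion (inf_le_left : M ≤ N) (d.symm (Subgroup.inclusion hQltD.le y))), _⟩ = _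
    have e2 : d.symm (Subgroup.inclusion hQltD.le y) = ⟨x, hxM⟩ := by rw [e1]; simp
    have e3 : φ (Subgroup.inclusion (inf_le_left : M ≤ N) (d.symm (Subgroup.inclusion hQltD.le y))) = e x := by
      rw [e2, ← h]; rfl
    have e4 : (⟨φ (Subgroup.inclusion (inf_le_left : M ≤ N) (d.symm (Subgroup.inclusion hQltD.le y))),
        hφMval (d.symm (Subgroup.inclusion hQltD.le y))⟩ : normalizerIn S Q'') =
        ⟨e x, le_normalizerIn hQ''S (e x).2⟩ := Subtype.ext e3
    rw [e4, ha'']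
    rfl

end Cfsg.Agent.Helper87
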