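import Cfsg.Agent.Helper87.FusionAlperin
import Cfsg.Agent.Helper87.FusionRS
import Cfsg.Agent.Helper87.FusionSeries
import Cfsg.Agent.Helper48.StronglyEmbedded
set_option autoImplicit false

namespace Cfsg.Agent.Helper87

open Cfsg Cfsg.FusionSystem

variable {Ω : Type*} [Group Ω] {S : Subgroup Ω}

/-- General form of the main step of the Alperin–Goldschmidt theorem: if a subgroup `H₀` of `Aut(R)` contains the inner
automorphisms and all automorphisms of the system whose extender is larger than `R`, but not all of `Aut_F(R)`, then `R` is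
centric and the image of `H₀` in `Out_F(R)` is strongly `p`-embedded. -/
theorem stronglyPEmbedded_of_extendable [Finite S] {p : ℕ} [Fact p.Prime] (hS : IsPGroup p S) (F : FusionSystem S)
    {R : Subgroup Ω} (hRa : F.IsFullyAutomized p R) (hRr : F.IsReceptive R) (hRS : R < S)
    (H₀ : Subgroup (MulAut R)) (hInn : Inn R ≤ H₀)
    (key : ∀ α ∈ F.autGroup R,
      (∃ g ∈ extender S R (R.subtype.comp (α : R ≃* R).toMonoidHom), g ∉ R) → α ∈ H₀)
    (hne : ¬ F.autGroup R ≤ H₀) :
    F.IsCentric R ∧ ∃ hn : ((Inn R).subgroupOf (F.autGroup R)).Normal,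
      IsStronglyPEmbedded p ((H₀.subgroupOf (F.autGroup R)).map
        (QuotientGroup.mk' ((Inn R).subgroupOf (F.autGroup R)))) := by
  have hRS' : R ≤ S := hRS.le
  -- Step 1: `R` is centric
  have hcen : F.IsCentric R := by
    refine ⟨hRS', fun Q hQ => ?_⟩
    by_contra hnot
    obtain ⟨c, hcC, hcQ⟩ := SetLike.not_le_iff_exists.mp hnot
    obtain ⟨e, he⟩ := (isConj_iff F R Q).mp hQ
    obtain ⟨φ, hφ, e', he', hφx, hvalN, hvalC, hinj⟩ := exists_extension_normalizerIn' hS F hRa hRr e.symm he.symm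
    have hcN : c ∈ normalizerIn S Q := centralizerIn_le_normalizerIn S Q hcC
    have hd := hvalC ⟨c, hcN⟩ hcC
    have hdR : φ ⟨c, hcN⟩ ∉ R := fun h => hcQ (hinj ⟨c, hcN⟩ h)
    apply hne
    intro α hα
    refine key α hα ⟨φ ⟨c, hcN⟩, ?_, hdR⟩
    rw [mem_extender_iff]
    refine ⟨hd.1, Subgroup.centralizer_le_normalizer _ hd.2, 1, S.one_mem, fun x hx => ?_⟩
    have hcomm := Subgroup.mem_centralizer_iff.mp hd.2 x x.2
    have e1 : (⟨φ ⟨c, hcN⟩ * (x : Ω) * (φ ⟨c, hcN⟩)⁻¹, hx⟩ : R) = x := by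
      apply Subtype.ext
      show φ ⟨c, hcN⟩ * (x : Ω) * (φ ⟨c, hcN⟩)⁻¹ = x
      rw [← hcomm]; group
    rw [e1]; simp
  -- Step 2: the strongly `p`-embedded subgroup
  have : Finite (MulAut R) := finite_mulAut_of_le hRS'
  obtain ⟨-, T₀, hT₀⟩ := hRa
  let N : Subgroup (F.autGroup R) := (Inn R).subgroupOf (F.autGroup R)
  have hNn : N.Normal := inferInstance
  let π : F.autGroup R →* F.autGroup R ⧸ N := QuotientGroup.mk' N
  have hπ : Function.Surjective π := QuotientGroup.mk'_surjective N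
  let H : Subgroup (F.autGroup R) := H₀.subgroupOf (F.autGroup R)
  have hNH : N ≤ H := fun a ha => hInn ha
  let T : Sylow p (F.autGroup R ⧸ N) := T₀.mapSurjective hπ
  have hT : (T : Subgroup (F.autGroup R ⧸ N)) = (T₀ : Subgroup (F.autGroup R)).map π := Sylow.coe_mapSurjective hπ T₀
  -- elements of `T₀` are conjugations by elements of `S`
  have hT₀mem : ∀ t : F.autGroup R, t ∈ (T₀ : Subgroup (F.autGroup R)) →
      ∃ g ∈ S, ∀ x : R, (((t : MulAut R) x : R) : Ω) = g * x * g⁻¹ := by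
    intro t ht
    rw [hT₀, Subgroup.mem_subgroupOf] at ht
    exact (mem_autInducedBy_iff S R _).mp ht
  -- an element of `T₀` induced by an element of `R` lies in `N`
  have hinner : ∀ (t : F.autGroup R) (g : Ω), g ∈ R → (∀ x : R, (((t : MulAut R) x : R) : Ω) = g * x * g⁻¹) → t ∈ N := by
    intro t g hg hgx
    show (t : MulAut R) ∈ Inn R
    refine ⟨⟨g, hg⟩, ?_⟩
    ext x
    rw [hgx x]
    rfl
  refine ⟨hcen, hNn, ?_, ?_, T, ?_⟩
  · -- `p` divides the order of the quotient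
    obtain ⟨g, hgN, hgR⟩ := SetLike.exists_of_lt (lt_normalizerIn hS hRS)
    have htA : conjAut R g hgN.2 ∈ F.autGroup R :=
      (mem_autGroup_iff F hRS' _).mpr (isIso_conjAut F hRS' hgN.1 hgN.2)
    have htT₀ : (⟨conjAut R g hgN.2, htA⟩ : F.autGroup R) ∈ (T₀ : Subgroup (F.autGroup R)) := by
      rw [hT₀, Subgroup.mem_subgroupOf]
      exact (mem_autInducedBy_iff S R _).mpr ⟨g, hgN.1, fun x => rfl⟩
    have hne1 : π ⟨conjAut R g hgN.2, htA⟩ ≠ 1 := by
      intro h1
      have hN' : (⟨conjAut R g hgN.2, htA⟩ : F.autGroup R) ∈ N := (QuotientGroup.eq_one_iff _).mp h1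
      obtain ⟨r, hr⟩ := hN'
      -- `r⁻¹ g` centralizes `R`
      have hcent : (r : Ω)⁻¹ * g ∈ centralizerIn S R := by
        refine ⟨S.mul_mem (S.inv_mem (hRS' r.2)) hgN.1, ?_⟩
        show _ ∈ Subgroup.centralizer (R : Set Ω)
        rw [Subgroup.mem_centralizer_iff]
        intro y hy
        have h2 := congrArg (fun β : MulAut R => ((β ⟨y, hy⟩ : R) : Ω)) hr
        simp only [MulAut.conj_apply] at h2
        have h3 : (r : Ω) * y * (r : Ω)⁻¹ = g * y * g⁻¹ := h2
        calc y * ((r : Ω)⁻¹ * g) = (r : Ω)⁻¹ * ((r : Ω) * y * (r : Ω)⁻¹) * g := by group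
          _ = (r : Ω)⁻¹ * (g * y * g⁻¹) * g := by rw [h3]
          _ = (r : Ω)⁻¹ * g * y := by group
      have hR' := hcen.2 R ((isConj_iff F R R).mpr ⟨MulEquiv.refl R, isIso_refl F hRS'⟩) hcent
      apply hgR
      have : g = r * ((r : Ω)⁻¹ * g) := by group
      rw [this]
      exact R.mul_mem r.2 hR'
    have hTne : (T : Subgroup (F.autGroup R ⧸ N)) ≠ ⊥ := by
      intro hbot
      apply hne1
      have : π ⟨conjAut R g hgN.2, htA⟩ ∈ (T : Subgroup (F.autGroup R ⧸ N)) := by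
        rw [hT]; exact ⟨_, htT₀, rfl⟩
      rw [hbot, Subgroup.mem_bot] at this
      exact this
    obtain ⟨n, hn⟩ := IsPGroup.iff_card.mp T.isPGroup'
    have hn0 : n ≠ 0 := by
      rintro rfl
      apply hTne
      rw [pow_zero] at hn
      exact Subgroup.card_eq_one.mp hn
    have h1 : p ∣ Nat.card (T : Subgroup (F.autGroup R ⧸ N)) := by
      rw [hn]; exact dvd_pow_self p hn0
    exact h1.trans (Subgroup.card_subgroup_dvd_card _)
  · -- the image of `H` is proper
    intro htop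
    apply hne
    intro α hα
    have : π ⟨α, hα⟩ ∈ H.map π := by rw [htop]; exact Subgroup.mem_top _
    obtain ⟨h, hhH, hh⟩ := this
    obtain ⟨z, hzN, hz⟩ := (QuotientGroup.mk'_eq_mk' N).mp hh
    have : (⟨α, hα⟩ : F.autGroup R) ∈ H := by
      rw [← hz]; exact H.mul_mem hhH (hNH hzN)
    exact this
  · -- the `1`-generated core lies in the image of `H`
    unfold kGeneratedCore
    refine iSup_le ?_
    rintro ⟨V, hVT, hVrank⟩
    intro xbar hx
    obtain ⟨a, rfl⟩ := hπ xbar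
    refine ⟨a, ?_, rfl⟩
    show (a : MulAut R) ∈ H₀
    -- a nontrivial element of `V`
    obtain ⟨v, hvV, hv1⟩ : ∃ v ∈ V, v ≠ 1 := by
      by_contra hcon
      push Not at hcon
      apply hVrank
      intro A' _ _
      have hsub : Subsingleton V := ⟨fun a b => Subtype.ext ((hcon a a.2).trans (hcon b b.2).symm)⟩
      have : Subsingleton A' := ⟨fun a b => Subtype.ext (Subsingleton.elim _ _)⟩
      simp
    have hvT : v ∈ (T : Subgroup (F.autGroup R ⧸ N)) := hVT hvV
    rw [hT] at hvT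
    obtain ⟨t, ht, rfl⟩ := hvT
    obtain ⟨g, hgS, hgx⟩ := hT₀mem t ht
    have hgR : g ∉ R := by
      intro hgR
      exact hv1 ((QuotientGroup.eq_one_iff _).mpr (hinner t g hgR hgx))
    have hgN : g ∈ Subgroup.normalizer (R : Set Ω) := mem_normalizer_of_conj_eq _ g hgx
    refine key a a.2 ⟨g, ?_, hgR⟩
    -- `g` lies in the extender of `a`
    have hconj : π a * π t * (π a)⁻¹ ∈ V := (Subgroup.mem_normalizer_iff.mp hx _).mp hvV
    have hconjT := hVT hconj
    rw [hT] at hconjT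
    obtain ⟨t', ht', ht'eq⟩ := hconjT
    obtain ⟨g', hg'S, hg'x⟩ := hT₀mem t' ht'
    have h2 : π t' = π (a * t * a⁻¹) := by rw [ht'eq, map_mul, map_mul, map_inv]
    obtain ⟨z, hzN, hz⟩ := (QuotientGroup.mk'_eq_mk' N).mp h2
    obtain ⟨r, hr⟩ := hzN
    rw [mem_extender_iff]
    refine ⟨hgS, hgN, g' * r, S.mul_mem hg'S (hRS' r.2), fun x hx' => ?_⟩
    have h3 := congrArg (fun β : F.autGroup R => (((β : MulAut R) ((a : MulAut R) x) : R) : Ω)) hz
    simp only [Subgroup.coe_mul, MulAut.mul_apply, Subgroup.coe_inv, MulAut.inv_apply_self] at h3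
    rw [hg'x] at h3
    have h4 : (((z : MulAut R) ((a : MulAut R) x) : R) : Ω) = r * (((a : MulAut R) x : R) : Ω) * (r : Ω)⁻¹ := by
      have hz' : (z : MulAut R) = MulAut.conj r := hr.symm
      rw [hz']; rfl
    rw [h4] at h3
    have h5 : (t : MulAut R) x = ⟨g * x * g⁻¹, hx'⟩ := Subtype.ext (hgx x)
    rw [h5] at h3
    show ((((a : MulAut R) ⟨g * x * g⁻¹, hx'⟩ : R)) : Ω) = g' * r * (((a : MulAut R) x : R) : Ω) * (g' * r)⁻¹
    rw [← h3]
    group


end Cfsg.Agent.Helper87
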