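import Cfsg.Agent.Helper87.FusionSeries
import Cfsg.Agent.Helper85.Realize
import Cfsg.Agent.Helper85.Basic
import Cfsg.Agent.Lib.Cores
set_option autoImplicit false

namespace Cfsg.Agent.Helper87

open Cfsg Cfsg.FusionSystem

variable {Ω : Type*} [Group Ω] {S : Subgroup Ω}

theorem le_normalizerIn_self {R : Subgroup Ω} (hRS : R ≤ S) : R ≤ normalizerIn S R :=
  le_inf hRS Subgroup.le_normalizer

/-- Membership in the maps of the normalizer system of a map defined on a subgroup containing `R`. -/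
theorem mem_normalizerHom_of_le [Finite S] (F : FusionSystem S) {R B : Subgroup Ω} (hRB : R ≤ B)
    (hBN : B ≤ normalizerIn S R) {ψ : B →* Ω} (hψ : ψ ∈ F.Hom B) (hψR : (R.subgroupOf B).map ψ = R) :
    ψ ∈ F.normalizerHom R B := by
  have hRS : R ≤ S := hRB.trans (hBN.trans inf_le_left)
  have hfin : Finite R := finite_of_le hRS
  obtain ⟨hin, hsurj⟩ := (Helper85.map_subgroupOf_eq_iff ψ).mp hψR
  refine ⟨hψ, hBN, fun y => ⟨(F.le_of_mem hψ).2 y, ?_⟩, ?_⟩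
  · -- `ψ y` normalizes `R`
    apply Helper85.mem_normalizer_of_finite
    intro r hr
    obtain ⟨x, hx, rfl⟩ := hsurj r hr
    have h1 : ((y * x * y⁻¹ : B) : Ω) ∈ R := by
      have hy : (y : Ω) ∈ Subgroup.normalizer (R : Set Ω) := (hBN y.2).2
      exact (Subgroup.mem_normalizer_iff.mp hy _).mp hx
    have h2 := hin _ h1
    rwa [map_mul, map_mul, map_inv] at h2
  · have hle : B ⊔ R ≤ B := sup_le le_rfl hRB
    refine ⟨ψ.comp (Subgroup.inclusion hle), restrict_mem F hψ hle, fun x => ?_, ?_⟩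
    · show ψ (Subgroup.inclusion hle (Subgroup.inclusion le_sup_left x)) = ψ x
      congr 1
    · rw [Helper85.map_subgroupOf_eq_iff]
      refine ⟨fun x hx => hin _ hx, fun y hy => ?_⟩
      obtain ⟨x, hx, hxy⟩ := hsurj y hy
      exact ⟨⟨x, le_sup_left (b := R) x.2⟩, hx, hxy⟩

/-- `R` is normal in its normalizer system. -/
theorem isNormal_normalizerSystem [Finite S] (F : FusionSystem S) {R : Subgroup Ω} (hRS : R ≤ S)
    (E : FusionSystem (normalizerIn S R)) (hE : F.IsNormalizerSystem R E) : E.IsNormal R := by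
  refine ⟨le_normalizerIn_self hRS, fun P φ hφ => ?_⟩
  rw [hE P] at hφ
  obtain ⟨-, hPN, -, ψ, hψ, hψφ, hψR⟩ := hφ
  refine ⟨ψ, ?_, hψφ, hψR⟩
  rw [hE (P ⊔ R)]
  exact mem_normalizerHom_of_le F le_sup_right (sup_le hPN (le_normalizerIn_self hRS)) hψ hψR

/-- The normalizer system induces on `R` the same automorphisms as `F`. -/
theorem autGroup_normalizerSystem [Finite S] (F : FusionSystem S) {R : Subgroup Ω} (hRS : R ≤ S)
    (E : FusionSystem (normalizerIn S R)) (hE : F.IsNormalizerSystem R E) : E.autGroup R = F.autGroup R := by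
  have hfin : Finite R := finite_of_le hRS
  ext α
  rw [mem_autGroup_iff E (le_normalizerIn_self hRS), mem_autGroup_iff F hRS]
  unfold IsIso
  rw [hE R]
  constructor
  · intro h
    exact h.1
  · intro h
    apply mem_normalizerHom_of_le F le_rfl (le_normalizerIn_self hRS) h
    rw [Helper85.map_subgroupOf_eq_iff]
    refine ⟨fun x _ => (α x).2, fun y hy => ?_⟩
    refine ⟨α.symm ⟨y, hy⟩, (α.symm ⟨y, hy⟩).2, ?_⟩
    show ((α (α.symm ⟨y, hy⟩) : R) : Ω) = y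
    rw [MulEquiv.apply_symm_apply]

theorem isCentric_normalizerSystem [Finite S] (F : FusionSystem S) {R : Subgroup Ω} (hRc : F.IsCentric R)
    (E : FusionSystem (normalizerIn S R)) (hE : F.IsNormalizerSystem R E) : E.IsCentric R := by
  have hRS : R ≤ S := hRc.1
  have hn := isNormal_normalizerSystem F hRS E hE
  refine ⟨le_normalizerIn_self hRS, fun Q' hQ' => ?_⟩
  obtain ⟨φ, hφ, rfl⟩ := hQ'
  rw [(weaklyClosed_of_isNormal E hn).2 φ hφ]
  refine le_trans ?_ (hRc.2 R (isConj_refl F hRS))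
  exact inf_le_inf_right _ inf_le_left

theorem isRadical_normalizerSystem [Finite S] (F : FusionSystem S) {p : ℕ} {R : Subgroup Ω}
    (hRr : F.IsRadical p R) (E : FusionSystem (normalizerIn S R)) (hE : F.IsNormalizerSystem R E) :
    E.IsRadical p R := by
  have hRS : R ≤ S := hRr.1
  refine ⟨le_normalizerIn_self hRS, ?_⟩
  rw [autGroup_normalizerSystem F hRS E hE]
  exact hRr.2


/-! ### Models -/

section model

variable {G : Type*} [Group G]

/-- Conjugation by `g`, where it carries the image of `P` into the image of `S`, read back through `ι`. -/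
theorem exists_hom_of_conj (ι : S →* G) (hinj : Function.Injective ι) {P : Subgroup Ω} (hPS : P ≤ S) (g : G)
    (hmem : ∀ y : P, g * ι ⟨y, hPS y.2⟩ * g⁻¹ ∈ ι.range) :
    ∃ (ψ : P →* Ω) (hψS : ∀ y, ψ y ∈ S), ∀ y, ι ⟨ψ y, hψS y⟩ = g * ι ⟨y, hPS y.2⟩ * g⁻¹ := by
  let c : P →* ι.range :=
    ((MulAut.conj g).toMonoidHom.comp (ι.comp (Subgroup.inclusion hPS))).codRestrict ι.range hmem
  let ψ : P →* Ω := S.subtype.comp ((Helper85.invOn ι hinj rfl).comp c)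
  exact ⟨ψ, fun y => ((Helper85.invOn ι hinj rfl) (c y)).2, fun y => Helper85.map_invOn ι hinj rfl (c y)⟩

/-- The preimage of `O_p(G)` under the realizing map of a model is normal in the system. -/
theorem isNormal_preimageAlong_pCore [Finite S] (p : ℕ) [Fact p.Prime] (F : FusionSystem S) (ι : S →* G)
    (hG : F.IsModel p G ι) : F.IsNormal (preimageAlong ι (Cfsg.pCore p G)) := by
  obtain ⟨hfin, ⟨hinj, hreal⟩, ⟨T, hT⟩, hcent⟩ := hG
  have hOn : (Cfsg.pCore p G).Normal := by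
    have : (Cfsg.pCore p G).Characteristic := Cfsg.Agent.Lib.pCore_characteristic p
    infer_instance
  have hOT : Cfsg.pCore p G ≤ ι.range := by
    rw [← hT]
    exact Cfsg.Agent.Lib.pCore_le_sylow T
  set U := preimageAlong ι (Cfsg.pCore p G) with hU
  have hUS : U ≤ S := Helper85.preimageAlong_le ι _
  have hmemU : ∀ (y : Ω) (hy : y ∈ S), y ∈ U ↔ ι ⟨y, hy⟩ ∈ Cfsg.pCore p G := by
    intro y hy
    rw [hU, Helper85.mem_preimageAlong]
    exact ⟨fun ⟨_, h⟩ => h, fun h => ⟨hy, h⟩⟩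
  refine ⟨hUS, fun P φ hφ => ?_⟩
  have hPS : P ≤ S := (F.le_of_mem hφ).1
  have hφS : ∀ x : P, φ x ∈ S := (F.le_of_mem hφ).2
  obtain ⟨g, hg⟩ := (hreal P hPS φ hφS).1 hφ
  have hPUS : P ⊔ U ≤ S := sup_le hPS hUS
  have hmem : ∀ y : ↥(P ⊔ U), g * ι ⟨y, hPUS y.2⟩ * g⁻¹ ∈ ι.range := by
    have hle : P ⊔ U ≤ preimageAlong ((MulAut.conj g).toMonoidHom.comp ι) ι.range := by
      apply sup_le
      · intro y hy
        rw [Helper85.mem_preimageAlong]
        refine ⟨hPS hy, ?_⟩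
        show g * ι ⟨y, hPS hy⟩ * g⁻¹ ∈ ι.range
        rw [← hg ⟨y, hy⟩]
        exact ⟨_, rfl⟩
      · intro y hy
        rw [Helper85.mem_preimageAlong]
        refine ⟨hUS hy, ?_⟩
        show g * ι ⟨y, hUS hy⟩ * g⁻¹ ∈ ι.range
        exact hOT (hOn.conj_mem _ ((hmemU y (hUS hy)).1 hy) g)
    intro y
    exact ((Helper85.mem_preimageAlong _ _ _).1 (hle y.2)).2
  obtain ⟨ψ, hψS, hιψ⟩ := exists_hom_of_conj ι hinj hPUS g hmem
  have hψF : ψ ∈ F.Hom (P ⊔ U) := by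
    rw [hreal _ hPUS ψ hψS]
    exact ⟨g, hιψ⟩
  refine ⟨ψ, hψF, fun x => ?_, ?_⟩
  · have h1 : ι ⟨ψ (Subgroup.inclusion le_sup_left x), hψS _⟩ = ι ⟨φ x, hφS x⟩ := by
      rw [hιψ, hg]
      rfl
    exact congrArg Subtype.val (hinj h1)
  · rw [Helper85.map_subgroupOf_eq_iff]
    refine ⟨fun x hx => ?_, fun y hy => ?_⟩
    · rw [hmemU _ (hψS x), hιψ]
      exact hOn.conj_mem _ ((hmemU _ (hPUS x.2)).1 hx) g
    · have h1 : g⁻¹ * ι ⟨y, hUS hy⟩ * g ∈ Cfsg.pCore p G := by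
        have := hOn.conj_mem _ ((hmemU y (hUS hy)).1 hy) g⁻¹
        simpa using this
      obtain ⟨s, hs⟩ := hOT h1
      have hsU : (s : Ω) ∈ U := (hmemU s s.2).2 (by rw [hs]; exact h1)
      refine ⟨⟨s, le_sup_right (a := P) hsU⟩, hsU, ?_⟩
      have h2 : ι ⟨ψ ⟨s, le_sup_right (a := P) hsU⟩, hψS _⟩ = ι ⟨y, hUS hy⟩ := by
        rw [hιψ]
        show g * ι s * g⁻¹ = _
        rw [hs]
        group
      exact congrArg Subtype.val (hinj h2)

/-- In a model, the image of a subgroup normal in the system is a normal subgroup. -/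
theorem normal_map_of_isNormal [Finite S] (p : ℕ) [Fact p.Prime] (F : FusionSystem S) (ι : S →* G)
    (hG : F.IsModel p G ι) {Q : Subgroup Ω} (hQ : F.IsNormal Q) : ((Q.subgroupOf S).map ι).Normal := by
  have hUn := isNormal_preimageAlong_pCore p F ι hG
  obtain ⟨hfin, ⟨hinj, hreal⟩, ⟨T, hT⟩, hcent⟩ := hG
  have hOn : (Cfsg.pCore p G).Normal := by
    have : (Cfsg.pCore p G).Characteristic := Cfsg.Agent.Lib.pCore_characteristic p
    infer_instance
  have hOT : Cfsg.pCore p G ≤ ι.range := by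
    rw [← hT]
    exact Cfsg.Agent.Lib.pCore_le_sylow T
  set U := preimageAlong ι (Cfsg.pCore p G) with hU
  have hUS : U ≤ S := Helper85.preimageAlong_le ι _
  have hQS : Q ≤ S := hQ.1
  have hmemU : ∀ (y : Ω) (hy : y ∈ S), y ∈ U ↔ ι ⟨y, hy⟩ ∈ Cfsg.pCore p G := by
    intro y hy
    rw [hU, Helper85.mem_preimageAlong]
    exact ⟨fun ⟨_, h⟩ => h, fun h => ⟨hy, h⟩⟩
  have hQsc : F.StronglyClosed Q := stronglyClosed_of_isNormal F hQ
  have hSQ : S ≤ Subgroup.normalizer (Q : Set Ω) := le_normalizer_of_stronglyClosed F hQsc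
  refine ⟨fun n hn g => ?_⟩
  obtain ⟨q, hq', rfl⟩ := hn
  have hq : (q : Ω) ∈ Q := Subgroup.mem_subgroupOf.mp hq'
  -- conjugation by `g` on `U`
  have hmem : ∀ y : U, g * ι ⟨y, hUS y.2⟩ * g⁻¹ ∈ ι.range :=
    fun y => hOT (hOn.conj_mem _ ((hmemU y (hUS y.2)).1 y.2) g)
  obtain ⟨φ, hφS, hιφ⟩ := exists_hom_of_conj ι hinj hUS g hmem
  have hφF : φ ∈ F.Hom U := by
    rw [hreal _ hUS φ hφS]
    exact ⟨g, hιφ⟩
  obtain ⟨ψ, hψ, hψφ, hψQ⟩ := hQ.2 U φ hφF
  have hUQS : U ⊔ Q ≤ S := sup_le hUS hQS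
  have hψS : ∀ y, ψ y ∈ S := (F.le_of_mem hψ).2
  obtain ⟨h, hh⟩ := (hreal _ hUQS ψ hψS).1 hψ
  obtain ⟨hin, -⟩ := (Helper85.map_subgroupOf_eq_iff ψ).mp hψQ
  -- `h⁻¹ g` centralizes `O_p(G)`
  have hcen : h⁻¹ * g ∈ Subgroup.centralizer ((Cfsg.pCore p G : Subgroup G) : Set G) := by
    rw [Subgroup.mem_centralizer_iff]
    intro z hz
    obtain ⟨s, rfl⟩ := hOT hz
    have hsU : (s : Ω) ∈ U := (hmemU s s.2).2 hz
    have h1 := hh (Subgroup.inclusion le_sup_left ⟨s, hsU⟩)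
    have h2 : ψ (Subgroup.inclusion le_sup_left ⟨(s : Ω), hsU⟩) = φ ⟨s, hsU⟩ := hψφ ⟨s, hsU⟩
    have h3 := hιφ ⟨s, hsU⟩
    have e1 : (⟨ψ (Subgroup.inclusion le_sup_left ⟨(s : Ω), hsU⟩), hψS _⟩ : S) = ⟨φ ⟨s, hsU⟩, hφS _⟩ :=
      Subtype.ext h2
    rw [e1, h3] at h1
    have h4 : g * ι s * g⁻¹ = h * ι s * h⁻¹ := h1
    calc ι s * (h⁻¹ * g) = h⁻¹ * (h * ι s * h⁻¹) * g := by group
      _ = h⁻¹ * (g * ι s * g⁻¹) * g := by rw [h4]
      _ = h⁻¹ * g * ι s := by group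
  have ho : h⁻¹ * g ∈ Cfsg.pCore p G := hcent hcen
  obtain ⟨n, hn⟩ := hOT ho
  -- `n` normalizes `Q`
  have hnq : (n : Ω) * q * (n : Ω)⁻¹ ∈ Q := (Subgroup.mem_normalizer_iff.mp (hSQ n.2) _).mp hq
  have h5 := hh ⟨(n : Ω) * q * (n : Ω)⁻¹, le_sup_right (a := U) hnq⟩
  have h6 : ψ ⟨(n : Ω) * q * (n : Ω)⁻¹, le_sup_right (a := U) hnq⟩ ∈ Q := hin _ hnq
  refine ⟨⟨_, hψS ⟨(n : Ω) * q * (n : Ω)⁻¹, le_sup_right (a := U) hnq⟩⟩, Subgroup.mem_subgroupOf.mpr h6, ?_⟩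
  rw [h5]
  have e2 : (⟨((⟨(n : Ω) * q * (n : Ω)⁻¹, le_sup_right (a := U) hnq⟩ : ↥(U ⊔ Q)) : Ω), hUQS
      (le_sup_right (a := U) hnq)⟩ : S) = n * q * n⁻¹ := Subtype.ext rfl
  rw [e2, map_mul, map_mul, map_inv, hn]
  group

end model

end Cfsg.Agent.Helper87
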