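import Mathlib

set_option autoImplicit false

namespace Cfsg.Agent.Helper87.S3S3

/-- two inverses agree, so the numbers agree -/
theorem k3_inv_unique {x y D d : ℚ} (hxD : x * D = 1) (hyd : y * d = 1) (h : y = x) : d = D := by
  calc d = d * (x * D) := by rw [hxD, mul_one]
    _ = (y * d) * D := by rw [h]; ring
    _ = D := by rw [hyd, one_mul]

/-- inverses reverse the order -/
theorem k3_order {y₁ y₂ d₁ d₂ : ℚ} (hy1 : y₁ * d₁ = 1) (hy2 : y₂ * d₂ = 1) (hy2p : 0 < y₂)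
    (hd1 : 0 < d₁) (h : y₂ < y₁) (h' : d₂ < d₁) : False := by
  nlinarith [mul_pos (sub_pos.2 h) hd1, mul_pos (sub_pos.2 h') hy2p]

/-- `1/d₁ + 1/d₂ = 4/(d₁+d₂)` forces `d₁ = d₂` -/
theorem k3_eq {x y₁ y₂ D d₁ d₂ : ℚ} (hxD : x * D = 1) (hy1 : y₁ * d₁ = 1) (hy2 : y₂ * d₂ = 1)
    (h : y₁ + y₂ = 4 * x) (h' : d₁ + d₂ = D) : d₁ = d₂ := by
  have h2 : y₁ * d₂ + y₂ * d₁ = 2 := by
    have : (y₁ + y₂) * (d₁ + d₂) = 4 := by rw [h, h']; linarith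
    nlinarith
  have h3 : (d₁ - d₂) ^ 2 = 0 := by
    linear_combination (d₁ * d₂) * h2 - d₂ ^ 2 * hy1 - d₁ ^ 2 * hy2
  have := pow_eq_zero_iff (two_ne_zero) |>.mp h3
  linarith

/-- `x = 9 z` gives `g = 9 D` -/
theorem k3_nine {x z D g : ℚ} (hxD : x * D = 1) (hzg : z * g = 1) (hz : 0 < z) (h : x = 9 * z) :
    g = 9 * D := by
  apply mul_left_cancel₀ hz.ne'
  rw [h] at hxD
  linarith

theorem local_arith_aux (e₀ a₁ a₂ c₀ c₁ c₂ : ℤ) (D d₁ d₂ g : ℕ)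
    (he : e₀ = 1 ∨ e₀ = -1) (h1 : a₁ = 1 ∨ a₁ = -1) (h2 : a₂ = 1 ∨ a₂ = -1)
    (hD : 0 < D) (hd1 : 0 < d₁) (hd2 : 0 < d₂) (hg : 0 < g)
    (hC4 : c₀ ^ 2 + c₁ ^ 2 + c₂ ^ 2 ≤ 4)
    (hAC : e₀ * c₀ + a₁ * c₁ + a₂ * c₂ = -1)
    (hdA : e₀ * D + a₁ * d₁ + a₂ * d₂ = 0)
    (x y₁ y₂ z : ℚ) (hx : 0 < x) (hy1p : 0 < y₁) (hy2p : 0 < y₂) (hz : 0 < z)
    (hxD : x * D = 1) (hy1 : y₁ * d₁ = 1) (hy2 : y₂ * d₂ = 1) (hzg : z * g = 1)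
    (hq1 : ((e₀ - c₀) ^ 2 * e₀ : ℚ) * x + ((a₁ + c₁) ^ 2 * a₁ : ℚ) * y₁
      + ((a₂ + c₂) ^ 2 * a₂ : ℚ) * y₂ = 0)
    (hq2 : ((e₀ - c₀) ^ 2 * e₀ : ℚ) * x + ((-a₁ - c₁) * (2 * a₁ - c₁) * a₁ : ℚ) * y₁
      + ((-a₂ - c₂) * (2 * a₂ - c₂) * a₂ : ℚ) * y₂ = -108 * z)
    (hq3 : ((e₀ - c₀) * (-2 * e₀ - c₀) * e₀ : ℚ) * x + ((a₁ + c₁) ^ 2 * a₁ : ℚ) * y₁
      + ((a₂ + c₂) ^ 2 * a₂ : ℚ) * y₂ = 54 * z) :
    g = 9 * D ∧ 2 * d₁ = D ∧ 2 * d₂ = D := by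
  have hDq : (0:ℚ) < (D:ℚ) := by exact_mod_cast hD
  have hd1q : (0:ℚ) < (d₁:ℚ) := by exact_mod_cast hd1
  have hd2q : (0:ℚ) < (d₂:ℚ) := by exact_mod_cast hd2
  have hgq : (0:ℚ) < (g:ℚ) := by exact_mod_cast hg
  have hdAq : (e₀:ℚ) * D + a₁ * d₁ + a₂ * d₂ = 0 := by exact_mod_cast hdA
  have b0 : -2 ≤ c₀ ∧ c₀ ≤ 2 := by
    constructor <;> nlinarith [sq_nonneg c₁, sq_nonneg c₂, sq_nonneg (c₀ + 2), sq_nonneg (c₀ - 2)]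
  have b1 : -2 ≤ c₁ ∧ c₁ ≤ 2 := by
    constructor <;> nlinarith [sq_nonneg c₀, sq_nonneg c₂, sq_nonneg (c₁ + 2), sq_nonneg (c₁ - 2)]
  have b2 : -2 ≤ c₂ ∧ c₂ ≤ 2 := by
    constructor <;> nlinarith [sq_nonneg c₀, sq_nonneg c₁, sq_nonneg (c₂ + 2), sq_nonneg (c₂ - 2)]
  obtain ⟨b0l, b0u⟩ := b0
  obtain ⟨b1l, b1u⟩ := b1
  obtain ⟨b2l, b2u⟩ := b2
  interval_cases c₀ <;> interval_cases c₁ <;> interval_cases c₂ <;>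
  first
  | (exfalso; omega)
  | (rcases he with rfl | rfl <;> rcases h1 with rfl | rfl <;> rcases h2 with rfl | rfl <;>
     first
     | (exfalso; omega)
     | (exfalso; push_cast at hq1 hq2 hq3; linarith)
     | (exfalso; push_cast at hq1 hq2 hq3 hdAq
        have h := k3_inv_unique hxD hy2 (by linarith); linarith)
     | (exfalso; push_cast at hq1 hq2 hq3 hdAq
        have h := k3_inv_unique hxD hy1 (by linarith); linarith)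
     | (exfalso; push_cast at hq1 hq2 hq3 hdAq
        exact k3_order hy1 hy2 hy2p hd1q (by linarith) (by linarith))
     | (exfalso; push_cast at hq1 hq2 hq3 hdAq
        exact k3_order hy2 hy1 hy1p hd2q (by linarith) (by linarith))
     | (push_cast at hq1 hq2 hq3 hdAq
        have h12 := k3_eq hxD hy1 hy2 (by linarith) (by linarith)
        have hg9 := k3_nine hxD hzg hz (by linarith)
        refine ⟨by exact_mod_cast hg9, ?_, ?_⟩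
        · have : (2:ℚ) * d₁ = D := by linarith
          exact_mod_cast this
        · have : (2:ℚ) * d₂ = D := by linarith
          exact_mod_cast this))

/-- (K3) the local analysis on the support of `A` (pure arithmetic, no sums). -/
theorem local_arith (e₀ a₁ a₂ c₀ c₁ c₂ : ℤ) (D d₁ d₂ g : ℕ)
    (he : e₀ = 1 ∨ e₀ = -1) (h1 : a₁ = 1 ∨ a₁ = -1) (h2 : a₂ = 1 ∨ a₂ = -1)
    (hD : 0 < D) (hd1 : 0 < d₁) (hd2 : 0 < d₂) (hg : 0 < g)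
    (hC4 : c₀ ^ 2 + c₁ ^ 2 + c₂ ^ 2 ≤ 4)
    (hAC : e₀ * c₀ + a₁ * c₁ + a₂ * c₂ = -1)
    (hdA : e₀ * D + a₁ * d₁ + a₂ * d₂ = 0)
    (hq1 : ((e₀ - c₀) ^ 2 * e₀ : ℚ) / D + ((a₁ + c₁) ^ 2 * a₁ : ℚ) / d₁
      + ((a₂ + c₂) ^ 2 * a₂ : ℚ) / d₂ = 0)
    (hq2 : ((e₀ - c₀) ^ 2 * e₀ : ℚ) / D + ((-a₁ - c₁) * (2 * a₁ - c₁) * a₁ : ℚ) / d₁
      + ((-a₂ - c₂) * (2 * a₂ - c₂) * a₂ : ℚ) / d₂ = -108 / g)
    (hq3 : ((e₀ - c₀) * (-2 * e₀ - c₀) * e₀ : ℚ) / D + ((a₁ + c₁) ^ 2 * a₁ : ℚ) / d₁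
      + ((a₂ + c₂) ^ 2 * a₂ : ℚ) / d₂ = 54 / g) :
    g = 9 * D ∧ 2 * d₁ = D ∧ 2 * d₂ = D := by
  have hDq : (0:ℚ) < (D:ℚ) := by exact_mod_cast hD
  have hd1q : (0:ℚ) < (d₁:ℚ) := by exact_mod_cast hd1
  have hd2q : (0:ℚ) < (d₂:ℚ) := by exact_mod_cast hd2
  have hgq : (0:ℚ) < (g:ℚ) := by exact_mod_cast hg
  refine local_arith_aux e₀ a₁ a₂ c₀ c₁ c₂ D d₁ d₂ g he h1 h2 hD hd1 hd2 hg hC4 hAC hdA
    (D:ℚ)⁻¹ (d₁:ℚ)⁻¹ (d₂:ℚ)⁻¹ (g:ℚ)⁻¹ (inv_pos.2 hDq) (inv_pos.2 hd1q) (inv_pos.2 hd2q)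
    (inv_pos.2 hgq) (inv_mul_cancel₀ hDq.ne') (inv_mul_cancel₀ hd1q.ne')
    (inv_mul_cancel₀ hd2q.ne') (inv_mul_cancel₀ hgq.ne') ?_ ?_ ?_
  · simpa only [div_eq_mul_inv] using hq1
  · simpa only [div_eq_mul_inv] using hq2
  · simpa only [div_eq_mul_inv] using hq3

end Cfsg.Agent.Helper87.S3S3
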