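import Cfsg.Agent.Helper80.Tor.Defs
import Cfsg.Agent.Helper29.TorCOMM
import Cfsg.Agent.Helper29.TorIRR
import Cfsg.Agent.Helper84.TorEXPV

/-!
helper87, piece (STAB) `stab_trivial` of helper80's torus farm (#13336, S2372/S2375).
-/

set_option autoImplicit false
set_option linter.unusedVariables false

namespace Cfsg.Agent.Helper87.Tor

open Cfsg.Agent.Helper18 (zact)
open Polynomial

/-- `v A = a v`, `v B = v`, `v C = a⁻¹ v` ⟹ `v (A B C) = v` -/
theorem STAB_conj_fix {l r : ℕ} [Fact r.Prime] (v : Fin l → ZMod r) (A B C : Matrix (Fin l) (Fin l) (ZMod r))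
    (a : ZMod r) (ha : a ≠ 0) (hA : Matrix.vecMul v A = a • v) (hB : Matrix.vecMul v B = v)
    (hC : Matrix.vecMul v C = a⁻¹ • v) : Matrix.vecMul v (A * B * C) = v := by
  rw [← Matrix.vecMul_vecMul, ← Matrix.vecMul_vecMul, hA, Matrix.smul_vecMul, hB, Matrix.smul_vecMul, hC,
    smul_smul, mul_inv_cancel₀ ha, one_smul]

/-- `vecMul v` of a finite sum -/
theorem STAB_vecMul_sum {l r : ℕ} {ι : Type*} (t : Finset ι) (v : Fin l → ZMod r)
    (A : ι → Matrix (Fin l) (Fin l) (ZMod r)) :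
    Matrix.vecMul v (∑ s ∈ t, A s) = ∑ s ∈ t, Matrix.vecMul v (A s) := by
  classical
  induction t using Finset.induction_on with
  | empty => simp
  | insert a t ha ih => rw [Finset.sum_insert ha, Finset.sum_insert ha, Matrix.vecMul_add, ih]

/-- a nonsingular integer matrix is left cancellable -/
theorem STAB_cancel {l : ℕ} (E X : Matrix (Fin l) (Fin l) ℤ) (hE : E.det ≠ 0) (h : E * X = 0) : X = 0 := by
  have h1 : E.adjugate * (E * X) = E.det • X := by
    rw [← Matrix.mul_assoc, Matrix.adjugate_mul, Matrix.smul_mul, Matrix.one_mul]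
  rw [h, Matrix.mul_zero] at h1
  ext i j
  have h2 := congrFun (congrFun h1 i) j
  simp only [Matrix.zero_apply, Matrix.smul_apply, smul_eq_mul] at h2
  rcases mul_eq_zero.mp h2.symm with h3 | h3
  · exact absurd h3 hE
  · simpa using h3

/-- (STAB) -/
theorem stab_trivial {K : Type*} [Field K] {l m q r : ℕ} [Fact r.Prime] (hm : 0 < m)
    (hl : Nat.totient m = l) {Wg : Type*} [Group Wg] [Finite Wg] (hrW : ¬ r ∣ Nat.card Wg)
    (ρ : Wg →* (Matrix (Fin l) (Fin l) ℤ)ˣ) (hqr : orderOf (q : ZMod r) = m) (c₀ : Fin l → Kˣ)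
    (hc1 : c₀ ≠ 1) (hcr : ∀ i, c₀ i ^ r = 1) (w₀ : Wg)
    (hw : zact ((ρ w₀ : (Matrix (Fin l) (Fin l) ℤ)ˣ) : Matrix (Fin l) (Fin l) ℤ) (c₀ ^ q) = c₀) :
    aeval ((ρ w₀ : (Matrix (Fin l) (Fin l) ℤ)ˣ) : Matrix (Fin l) (Fin l) ℤ) (cyclotomic m ℤ) = 0 ∧
    ∀ s : Wg, zact ((ρ s : (Matrix (Fin l) (Fin l) ℤ)ˣ) : Matrix (Fin l) (Fin l) ℤ) c₀ = c₀ → ρ s = 1 := by
  classical
  have hrp : r.Prime := Fact.out
  have : NeZero r := ⟨hrp.ne_zero⟩
  obtain ⟨ζ, v, hζ, hv, hcv⟩ := Cfsg.Agent.Helper84.Tor.exists_expVec c₀ hc1 hcr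
  have hc₀ : c₀ = fun i => ζ ^ (v i).val := funext hcv
  -- reduction mod `r`
  let red : Matrix (Fin l) (Fin l) ℤ →+* Matrix (Fin l) (Fin l) (ZMod r) :=
    (Int.castRingHom (ZMod r)).mapMatrix
  let ρb : Wg →* Matrix (Fin l) (Fin l) (ZMod r) := red.toMonoidHom.comp ((Units.coeHom _).comp ρ)
  have hρb : ∀ s, ρb s = ((ρ s : (Matrix (Fin l) (Fin l) ℤ)ˣ) : Matrix (Fin l) (Fin l) ℤ).map
      (Int.cast : ℤ → ZMod r) := fun s => rfl
  -- fixing `c₀` is fixing `v`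
  have hfix : ∀ s : Wg, zact ((ρ s : (Matrix (Fin l) (Fin l) ℤ)ˣ) : Matrix (Fin l) (Fin l) ℤ) c₀ = c₀ ↔
      Matrix.vecMul v (ρb s) = v := by
    intro s
    constructor
    · intro h
      rw [hc₀, Cfsg.Agent.Helper84.Tor.zact_expVec ζ hζ v] at h
      rw [hρb]
      exact Cfsg.Agent.Helper84.Tor.expVec_injective ζ hζ _ _ h
    · intro h
      rw [hρb] at h
      rw [hc₀, Cfsg.Agent.Helper84.Tor.zact_expVec ζ hζ v, h]
  -- the eigenvector equation
  have hq0 : (q : ZMod r) ≠ 0 := by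
    intro h0
    rw [h0] at hqr
    have : orderOf (0 : ZMod r) = 0 := by
      rw [orderOf_eq_zero_iff']
      intro n hn
      rw [zero_pow hn.ne']
      exact zero_ne_one
    omega
  set lam : ZMod r := (q : ZMod r)⁻¹ with hlamdef
  have hlam0 : lam ≠ 0 := inv_ne_zero hq0
  have hlam : orderOf lam = m := by
    rw [← hqr]
    apply orderOf_eq_orderOf_iff.mpr
    intro n
    rw [hlamdef, inv_pow, inv_eq_one]
  have hpowq : c₀ ^ q = fun i => ζ ^ (((q : ZMod r) • v) i).val := by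
    funext i
    rw [Pi.pow_apply, hcv i, ← pow_mul]
    apply (pow_eq_pow_iff_modEq).mpr
    rw [hζ]
    apply (ZMod.natCast_eq_natCast_iff _ _ _).mp
    rw [ZMod.natCast_zmod_val]
    push_cast
    rw [ZMod.natCast_zmod_val, Pi.smul_apply, smul_eq_mul, mul_comm]
  have heig : Matrix.vecMul v (((ρ w₀ : (Matrix (Fin l) (Fin l) ℤ)ˣ) : Matrix (Fin l) (Fin l) ℤ).map
      (Int.cast : ℤ → ZMod r)) = lam • v := by
    have h1 := hw
    rw [hpowq, Cfsg.Agent.Helper84.Tor.zact_expVec ζ hζ] at h1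
    rw [hc₀] at h1
    have h2 := Cfsg.Agent.Helper84.Tor.expVec_injective ζ hζ _ _ h1
    rw [Matrix.smul_vecMul] at h2
    rw [hlamdef]
    exact (eq_inv_smul_iff₀ hq0).mpr h2
  have heig' : Matrix.vecMul v (ρb w₀) = lam • v := by rw [hρb]; exact heig
  -- first conjunct: (IRR)
  have hN : 0 < Nat.card Wg := Nat.card_pos
  have hMN : ((ρ w₀ : (Matrix (Fin l) (Fin l) ℤ)ˣ) : Matrix (Fin l) (Fin l) ℤ) ^ Nat.card Wg = 1 := by
    rw [← Units.val_pow_eq_pow_val, ← map_pow, pow_card_eq_one', map_one, Units.val_one]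
  have hΦ : aeval ((ρ w₀ : (Matrix (Fin l) (Fin l) ℤ)ˣ) : Matrix (Fin l) (Fin l) ℤ) (cyclotomic m ℤ) = 0 :=
    Cfsg.Agent.Helper29.Tor.aeval_cyclotomic_eq_zero_of_eigen hm hl _ (Nat.card Wg) hN hMN hrW v hv lam hlam
      heig
  refine ⟨hΦ, ?_⟩
  -- the stabiliser of `v`
  have hinv : ∀ a : Wg, ρb a * ρb a⁻¹ = 1 := fun a => by rw [← map_mul, mul_inv_cancel, map_one]
  let S : Subgroup Wg :=
    { carrier := {s | Matrix.vecMul v (ρb s) = v}
      mul_mem' := by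
        intro a b ha hb
        simp only [Set.mem_ofPred_eq] at ha hb ⊢
        rw [map_mul, ← Matrix.vecMul_vecMul, ha, hb]
      one_mem' := by
        simp only [Set.mem_ofPred_eq]
        rw [map_one, Matrix.vecMul_one]
      inv_mem' := by
        intro a ha
        simp only [Set.mem_ofPred_eq] at ha ⊢
        calc Matrix.vecMul v (ρb a⁻¹) = Matrix.vecMul (Matrix.vecMul v (ρb a)) (ρb a⁻¹) := by rw [ha]
          _ = v := by rw [Matrix.vecMul_vecMul, hinv, Matrix.vecMul_one] }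
  have hSmem : ∀ s : Wg, s ∈ S ↔ Matrix.vecMul v (ρb s) = v := fun s => Iff.rfl
  letI : Fintype S := Fintype.ofFinite S
  -- `v ρ̄(w₀⁻¹) = lam⁻¹ v`
  have heiginv : Matrix.vecMul v (ρb w₀⁻¹) = lam⁻¹ • v := by
    have h1 : Matrix.vecMul (Matrix.vecMul v (ρb w₀)) (ρb w₀⁻¹) = v := by
      rw [Matrix.vecMul_vecMul, hinv, Matrix.vecMul_one]
    rw [heig', Matrix.smul_vecMul] at h1
    exact (eq_inv_smul_iff₀ hlam0).mpr h1
  have hnorm : ∀ s : Wg, s ∈ S → w₀ * s * w₀⁻¹ ∈ S := by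
    intro s hs
    rw [hSmem] at hs ⊢
    rw [map_mul, map_mul]
    exact STAB_conj_fix v _ _ _ lam hlam0 heig' hs heiginv
  have hnorm' : ∀ s : Wg, s ∈ S → w₀⁻¹ * s * w₀ ∈ S := by
    intro s hs
    rw [hSmem] at hs ⊢
    rw [map_mul, map_mul]
    refine STAB_conj_fix v _ _ _ lam⁻¹ (inv_ne_zero hlam0) heiginv hs ?_
    rw [inv_inv]; exact heig'
  let σ : S ≃ S :=
    { toFun := fun s => ⟨w₀ * s * w₀⁻¹, hnorm s s.2⟩
      invFun := fun s => ⟨w₀⁻¹ * s * w₀, hnorm' s s.2⟩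
      left_inv := fun s => by
        apply Subtype.ext
        show w₀⁻¹ * (w₀ * (s : Wg) * w₀⁻¹) * w₀ = s
        group
      right_inv := fun s => by
        apply Subtype.ext
        show w₀ * (w₀⁻¹ * (s : Wg) * w₀) * w₀⁻¹ = s
        group }
  set M : Matrix (Fin l) (Fin l) ℤ := ((ρ w₀ : (Matrix (Fin l) (Fin l) ℤ)ˣ) : Matrix (Fin l) (Fin l) ℤ) with hM
  let f : Wg → Matrix (Fin l) (Fin l) ℤ := fun s => ((ρ s : (Matrix (Fin l) (Fin l) ℤ)ˣ) : Matrix (Fin l) (Fin l) ℤ)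
  have hfmul : ∀ a b : Wg, f (a * b) = f a * f b := fun a b => by
    show ((ρ (a * b) : (Matrix (Fin l) (Fin l) ℤ)ˣ) : Matrix (Fin l) (Fin l) ℤ) = _
    rw [map_mul, Units.val_mul]
  set e : Matrix (Fin l) (Fin l) ℤ := ∑ s : S, f (s : Wg) with he
  -- `e` commutes with `M`
  have hcomm : Commute M e := by
    show M * e = e * M
    have hMf : M = f w₀ := rfl
    rw [he, Finset.mul_sum, Finset.sum_mul]
    rw [← Equiv.sum_comp σ (fun s : S => f (s : Wg) * M)]
    refine Finset.sum_congr rfl fun s _ => ?_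
    show M * f (s : Wg) = f (w₀ * (s : Wg) * w₀⁻¹) * M
    rw [hMf, ← hfmul, ← hfmul]
    congr 1
    group
  -- `e ≠ 0`
  have hcardS : ¬ r ∣ Fintype.card S := by
    intro h
    apply hrW
    have h1 : Nat.card S ∣ Nat.card Wg := Subgroup.card_subgroup_dvd_card S
    rw [Nat.card_eq_fintype_card] at h1
    exact dvd_trans h h1
  have he0 : e ≠ 0 := by
    intro h0
    have h1 : red e = 0 := by rw [h0, map_zero]
    rw [he, map_sum] at h1
    have h2 : Matrix.vecMul v (∑ s : S, red (f (s : Wg))) = ∑ s : S, v := by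
      rw [STAB_vecMul_sum]
      refine Finset.sum_congr rfl fun s _ => ?_
      exact (hSmem _).mp s.2
    rw [h1, Matrix.vecMul_zero, Finset.sum_const, Finset.card_univ] at h2
    have h3 : ((Fintype.card S : ℕ) : ZMod r) • v = 0 := by
      rw [Nat.cast_smul_eq_nsmul]; exact h2.symm
    rcases smul_eq_zero.mp h3 with h4 | h4
    · exact hcardS ((ZMod.natCast_eq_zero_iff _ _).mp h4)
    · exact hv h4
  have hdet : e.det ≠ 0 := by
    rcases Cfsg.Agent.Helper29.Tor.comm_zero_or_det_ne_zero hm hl M e hΦ hcomm with h | h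
    · exact absurd h he0
    · exact h
  -- conclusion
  intro s hs
  have hsS : s ∈ S := (hSmem s).mpr ((hfix s).mp hs)
  have hes : e * f s = e := by
    rw [he, Finset.sum_mul]
    rw [← Equiv.sum_comp (Equiv.mulRight (⟨s, hsS⟩ : S)) (fun x : S => f (x : Wg))]
    refine Finset.sum_congr rfl fun x _ => ?_
    rw [← hfmul]
    rfl
  have h0 : e * (f s - 1) = 0 := by rw [Matrix.mul_sub, hes, Matrix.mul_one, sub_self]
  have h1 := STAB_cancel e _ hdet h0
  apply Units.ext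
  rw [Units.val_one]
  exact sub_eq_zero.mp h1

end Cfsg.Agent.Helper87.Tor
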