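import Mathlib
import Cfsg.Agent.Helper44.CliffDefs

/-!
# (C6) of S3084 (helper44): the commutant of the Pauli operators consists of scalars

Direct proof (no use of the completeness relation): commuting with the diagonal operators
`T (a, 0)` forces `M` to be diagonal; commuting with the translations `T (0, b)` forces the
diagonal to be constant.
-/

set_option autoImplicit false
open scoped MatrixGroups

namespace Cfsg.Agent.Helper87.Cliff

open Matrix Cfsg.Agent.Helper44.Cliff

variable {n : ℕ}

theorem mul_T_apply (M : Matrix (X n) (X n) (ZMod 3)) (u : U0 n) (x y : X n) :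
    (M * T u) x y = M x (y + u.2) * sg (u.1 ⬝ᵥ (y + u.2)) := by
  rw [Matrix.mul_apply, Finset.sum_eq_single (y + u.2)]
  · rw [T_apply, if_pos (by rw [add_assoc, add_self_X, add_zero])]
  · intro z _ hz
    rw [T_apply, if_neg, mul_zero]
    intro hy
    apply hz
    rw [hy, add_assoc, add_self_X, add_zero]
  · intro h; exact absurd (Finset.mem_univ _) h

theorem T_mul_apply (M : Matrix (X n) (X n) (ZMod 3)) (u : U0 n) (x y : X n) :
    (T u * M) x y = sg (u.1 ⬝ᵥ x) * M (x + u.2) y := by
  rw [Matrix.mul_apply, Finset.sum_eq_single (x + u.2)]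
  · rw [T_apply, if_pos rfl]
  · intro z _ hz
    rw [T_apply, if_neg hz, zero_mul]
  · intro h; exact absurd (Finset.mem_univ _) h

theorem sg_ne_of_ne {s t : ZMod 2} (h : s ≠ t) : sg s - sg t ≠ 0 := by
  intro h0
  exact h (sg_injective (sub_eq_zero.mp h0))

/-- (C6) commutant of the Pauli operators = scalars. -/
theorem scalar_of_commute (M : Matrix (X n) (X n) (ZMod 3)) (h : ∀ u : U0 n, M * T u = T u * M) :
    ∃ c : ZMod 3, M = c • 1 := by
  -- off-diagonal entries vanish
  have hoff : ∀ x y : X n, x ≠ y → M x y = 0 := by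
    intro x y hxy
    obtain ⟨i, hi⟩ : ∃ i, x i ≠ y i := Function.ne_iff.mp hxy
    have h1 := congrFun (congrFun (h ((Pi.single i 1 : X n), (0 : X n))) x) y
    rw [mul_T_apply, T_mul_apply] at h1
    simp only [add_zero] at h1
    rw [single_dotProduct, single_dotProduct, one_mul, one_mul] at h1
    have h2 : M x y * (sg (y i) - sg (x i)) = 0 := by
      rw [mul_sub, h1]; ring
    rcases mul_eq_zero.mp h2 with h3 | h3
    · exact h3
    · exact absurd h3 (sg_ne_of_ne (Ne.symm hi))
  -- the diagonal is constant
  have hdiag : ∀ b : X n, M b b = M 0 0 := by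
    intro b
    have h1 := congrFun (congrFun (h ((0 : X n), b)) 0) b
    rw [mul_T_apply, T_mul_apply] at h1
    simp only [zero_dotProduct, sg_zero, mul_one, one_mul, zero_add] at h1
    rw [add_self_X] at h1
    exact h1.symm
  refine ⟨M 0 0, ?_⟩
  ext x y
  rw [Matrix.smul_apply, Matrix.one_apply, smul_eq_mul]
  by_cases hxy : x = y
  · subst hxy
    rw [if_pos rfl, mul_one, hdiag]
  · rw [if_neg hxy, mul_zero, hoff x y hxy]

end Cfsg.Agent.Helper87.Cliff
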