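import Mathlib
import Cfsg.Agent.Helper44.CliffDefs

/-!
# (C7) of S3084 (helper44): uniqueness of the expression `± T u`
-/

set_option autoImplicit false
open scoped MatrixGroups

namespace Cfsg.Agent.Helper87.Cliff

open Matrix Cfsg.Agent.Helper44.Cliff

variable {n : ℕ}

theorem smul_T_apply (ε : ZMod 2) (u : U0 n) (x y : X n) :
    (sg ε • T u) x y = if y = x + u.2 then sg ε * sg (u.1 ⬝ᵥ x) else 0 := by
  rw [Matrix.smul_apply, T_apply, smul_eq_mul]
  split_ifs <;> simp

theorem dotProduct_single_one' (a : X n) (i : Fin n) : a ⬝ᵥ (Pi.single i 1 : X n) = a i := by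
  rw [dotProduct_single, mul_one]

/-- (C7) uniqueness of the expression `± T u` -/
theorem T_unique (ε δ : ZMod 2) (u v : U0 n) (h : sg ε • T u = sg δ • T v) : u = v ∧ ε = δ := by
  have key : ∀ x y : X n, (if y = x + u.2 then sg ε * sg (u.1 ⬝ᵥ x) else 0) =
      (if y = x + v.2 then sg δ * sg (v.1 ⬝ᵥ x) else 0) := by
    intro x y
    rw [← smul_T_apply, ← smul_T_apply, h]
  -- second components agree
  have h2 : u.2 = v.2 := by
    have := key 0 u.2
    rw [if_pos (by rw [zero_add])] at this
    by_contra hne
    rw [if_neg (by rw [zero_add]; exact hne)] at this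
    exact mul_ne_zero (sg_ne_zero _) (sg_ne_zero _) this
  -- signs agree
  have hε : ε = δ := by
    have := key 0 u.2
    rw [if_pos (by rw [zero_add]), if_pos (by rw [zero_add, h2])] at this
    rw [dotProduct_zero, dotProduct_zero, sg_zero, mul_one, mul_one] at this
    exact sg_injective this
  -- first components agree
  have h1 : u.1 = v.1 := by
    funext i
    have := key (Pi.single i 1) (Pi.single i 1 + u.2)
    rw [if_pos rfl, if_pos (by rw [h2]), hε] at this
    have h3 := mul_left_cancel₀ (sg_ne_zero δ) this
    have h4 := sg_injective h3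
    rwa [dotProduct_single_one', dotProduct_single_one'] at h4
  exact ⟨Prod.ext h1 h2, hε⟩

end Cfsg.Agent.Helper87.Cliff
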