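import Mathlib
import Cfsg.Agent.Helper30.HallSym.Defs
set_option autoImplicit false
open Equiv Equiv.Perm MulAction Subgroup Cfsg Cfsg.Agent.Helper30.HallSym
open scoped Nat Pointwise
universe u

namespace Cfsg.Agent.Helper87.HallSym

theorem padic_le_of_dvd {p : ℕ} [Fact p.Prime] {m n : ℕ} (hn : n ≠ 0) (h : m ∣ n) :
    padicValNat p m ≤ padicValNat p n := by
  obtain ⟨c, rfl⟩ := h
  have hm : m ≠ 0 := fun h => hn (by rw [h, zero_mul])
  have hc : c ≠ 0 := fun h => hn (by rw [h, mul_zero])
  rw [padicValNat.mul hm hc]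
  exact Nat.le_add_right _ _

/-- `(a!)^b * b!` divides `(a b)!` -/
theorem pow_factorial_mul_dvd (a b : ℕ) (ha : 0 < a) : (a !) ^ b * b ! ∣ (a * b)! := by
  induction b with
  | zero => simp
  | succ b ih =>
    obtain ⟨a', rfl⟩ : ∃ a', a = a' + 1 := ⟨a - 1, by omega⟩
    have h1 : ((a' + 1) * b + (a' + 1)).choose (a' + 1) * ((a' + 1) * b)! * (a' + 1)! =
        ((a' + 1) * b + (a' + 1))! := Nat.add_choose_mul_factorial_mul_factorial _ _
    have h2 : ((a' + 1) * b + a' + 1) * ((a' + 1) * b + a').choose a' =
        ((a' + 1) * b + a' + 1).choose (a' + 1) * (a' + 1) := Nat.add_one_mul_choose_eq _ _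
    have h3 : ((a' + 1) * b + (a' + 1)).choose (a' + 1) = (b + 1) * ((a' + 1) * b + a').choose a' := by
      have h4 : ((a' + 1) * b + a' + 1) = (a' + 1) * (b + 1) := by ring
      rw [h4] at h2
      have h5 : (a' + 1) * ((b + 1) * ((a' + 1) * b + a').choose a') =
          (a' + 1) * (((a' + 1) * (b + 1)).choose (a' + 1)) := by
        rw [← mul_assoc, h2, mul_comm]
      have h6 := Nat.eq_of_mul_eq_mul_left (Nat.succ_pos a') h5
      rw [show (a' + 1) * b + (a' + 1) = (a' + 1) * (b + 1) by ring]
      exact h6.symm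
    have h7 : (a' + 1) * (b + 1) = (a' + 1) * b + (a' + 1) := by ring
    rw [h7, ← h1, h3, pow_succ, Nat.factorial_succ b]
    obtain ⟨c, hc⟩ := ih
    rw [hc]
    exact ⟨c * ((a' + 1) * b + a').choose a', by ring⟩

/-- the valuation bookkeeping -/
theorem val_core {r : ℕ} [Fact r.Prime] {N n₀ m a b d : ℕ} (ha : 0 < a) (hd : a * b = d)
    (hN : N = n₀ * m) (hv : padicValNat r N = padicValNat r d !)
    (h0 : n₀ ∣ (a !) ^ b) (hm : m ∣ b !) :
    padicValNat r d ! = b * padicValNat r a ! + padicValNat r b ! ∧
      padicValNat r n₀ = b * padicValNat r a ! := by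
  have hpow : (a !) ^ b ≠ 0 := pow_ne_zero _ (Nat.factorial_ne_zero a)
  have hn0 : n₀ ≠ 0 := fun h => hpow (by rw [h] at h0; exact zero_dvd_iff.mp h0)
  have hm0 : m ≠ 0 := fun h => (Nat.factorial_ne_zero b) (by rw [h] at hm; exact zero_dvd_iff.mp hm)
  have e1 : padicValNat r N = padicValNat r n₀ + padicValNat r m := by
    rw [hN, padicValNat.mul hn0 hm0]
  have e2 : padicValNat r n₀ ≤ b * padicValNat r a ! := by
    have := padic_le_of_dvd (p := r) hpow h0
    rwa [padicValNat.pow] at this
  have e3 : padicValNat r m ≤ padicValNat r b ! := padic_le_of_dvd (Nat.factorial_ne_zero b) hm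
  have e4 : b * padicValNat r a ! + padicValNat r b ! ≤ padicValNat r d ! := by
    have h := padic_le_of_dvd (p := r) (Nat.factorial_ne_zero (a * b)) (pow_factorial_mul_dvd a b ha)
    rw [padicValNat.mul hpow (Nat.factorial_ne_zero b), padicValNat.pow, hd] at h
    exact h
  omega

/-- A subgroup of `Perm α` preserving `f` has order dividing the product of the factorials of the fibre sizes. -/
theorem card_dvd_of_preserves {α : Type*} [Fintype α] {ι : Type*} [Fintype ι] (f : α → ι)
    (X : Subgroup (Perm α)) (hX : ∀ g ∈ X, ∀ x, f (g x) = f x) :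
    Nat.card X ∣ ∏ i, (Nat.card {a // f a = i})! := by
  classical
  let St : Subgroup (Perm α) :=
    { carrier := {g | f ∘ g = f}
      mul_mem' := by
        intro g h hg hh
        show f ∘ (g * h) = f
        funext x
        have h1 := congrFun hg (h x)
        have h2 := congrFun hh x
        simp only [Function.comp_apply] at h1 h2
        simp only [Function.comp_apply, Perm.mul_apply, h1, h2]
      one_mem' := rfl
      inv_mem' := by
        intro g hg
        show f ∘ (g⁻¹ : Perm α) = f
        funext x
        have h1 := congrFun hg (g⁻¹ x)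
        have h2 : g (g⁻¹ x) = x := by simp
        simp only [Function.comp_apply, h2] at h1
        simp only [Function.comp_apply, h1] }
  have hXS : X ≤ St := by
    intro g hg
    show f ∘ g = f
    funext x
    exact hX g hg x
  have hcard : Nat.card St = ∏ i, (Nat.card {a // f a = i})! := by
    have h1 := DomMulAct.stabilizer_card f
    have h2 : Nat.card St = Fintype.card {g : Perm α // f ∘ g = f} := by
      rw [← Nat.card_eq_fintype_card]
      rfl
    rw [h2, h1]
    refine Finset.prod_congr rfl (fun i _ => ?_)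
    rw [Nat.card_eq_fintype_card]
  rw [← hcard]
  exact Subgroup.card_dvd_of_le hXS

section blocks
variable {α : Type u} (H : Subgroup (Perm α)) (B : Set α)

/-- the block map -/
theorem exists_blk (htr : IsPretransitive H α) (hB : IsBlock H B) (hBne : B.Nonempty) :
    ∃ blk : α → orbit H B, (∀ x, x ∈ (blk x : Set α)) ∧
      (∀ x (s : orbit H B), x ∈ (s : Set α) → s = blk x) := by
  obtain ⟨x₀, hx₀⟩ := hBne
  have hex : ∀ x : α, ∃ s : orbit H B, x ∈ (s : Set α) := by
    intro x
    obtain ⟨g, hg⟩ := htr.exists_smul_eq x₀ x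
    refine ⟨⟨g • B, ⟨g, rfl⟩⟩, ?_⟩
    show x ∈ g • B
    rw [← hg]
    exact Set.smul_mem_smul_set hx₀
  refine ⟨fun x => (hex x).choose, fun x => (hex x).choose_spec, fun x s hs => ?_⟩
  obtain ⟨s, g₁, rfl⟩ := s
  have h2 := (hex x).choose_spec
  obtain ⟨g₂, hg₂⟩ := (hex x).choose.2
  apply Subtype.ext
  show g₁ • B = ((hex x).choose : Set α)
  rw [← hg₂] at h2 ⊢
  exact (isBlock_iff_smul_eq_smul_of_nonempty.mp hB) ⟨x, hs, h2⟩

variable {H B}

theorem blk_smul {blk : α → orbit H B} (h1 : ∀ x, x ∈ (blk x : Set α))
    (h2 : ∀ x (s : orbit H B), x ∈ (s : Set α) → s = blk x) (g : H) (x : α) :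
    blk (g • x) = g • blk x := by
  symm
  apply h2
  rw [orbit.coe_smul]
  exact Set.smul_mem_smul_set (h1 x)

theorem blk_eq_iff {blk : α → orbit H B} (h1 : ∀ x, x ∈ (blk x : Set α))
    (h2 : ∀ x (s : orbit H B), x ∈ (s : Set α) → s = blk x) (x : α) (s : orbit H B) :
    blk x = s ↔ x ∈ (s : Set α) := by
  constructor
  · rintro rfl
    exact h1 x
  · intro h
    exact (h2 x s h).symm

theorem card_fibre [Finite α] {blk : α → orbit H B} (h1 : ∀ x, x ∈ (blk x : Set α))
    (h2 : ∀ x (s : orbit H B), x ∈ (s : Set α) → s = blk x) (s : orbit H B) :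
    Nat.card {x // blk x = s} = B.ncard := by
  have h3 : Nat.card {x // blk x = s} = Nat.card ((s : Set α) : Type u) := by
    refine Nat.card_congr (Equiv.subtypeEquivRight (fun x => ?_))
    exact blk_eq_iff h1 h2 x s
  rw [h3, Nat.card_coe_set_eq]
  obtain ⟨s, g, rfl⟩ := s
  exact Set.ncard_smul_set g B

variable (H B)

/-- restriction of the setwise stabilizer to the block -/
noncomputable def restr : stabilizer H B →* Perm B where
  toFun g := Perm.subtypePerm ((g : H) : Perm α) (fun x => mem_stabilizer_set.mp g.2 x)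
  map_one' := by ext x; rfl
  map_mul' g h := by ext x; rfl

theorem restr_apply (g : stabilizer H B) (x : B) : ((restr H B g x : B) : α) = ((g : H) : Perm α) x := rfl

end blocks


section main
variable {α : Type u} [Fintype α] [DecidableEq α]

/-- Hall valuation -/
theorem hall_val {π : Set ℕ} (H : Subgroup (Perm α)) (hH : IsPiHall π H) {r : ℕ} [Fact r.Prime]
    (hrπ : r ∈ π) : padicValNat r (Nat.card H) = padicValNat r (Fintype.card α)! := by
  have h1 : Nat.card H * H.index = (Fintype.card α)! := by
    rw [Subgroup.card_mul_index, Nat.card_perm, Nat.card_eq_fintype_card]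
  have h2 : ¬ r ∣ H.index := hH.2 r (Fact.out) hrπ
  have h3 : Nat.card H ≠ 0 := Nat.card_pos.ne'
  have h4 : H.index ≠ 0 := by
    intro h
    rw [h, mul_zero] at h1
    exact Nat.factorial_ne_zero _ h1.symm
  rw [← h1, padicValNat.mul h3 h4, padicValNat.eq_zero_of_not_dvd h2, add_zero]

theorem part_one {π : Set ℕ} (H : Subgroup (Perm α)) (hH : IsPiHall π H) (htr : IsPretransitive H α)
    (B : Set α) (hB : IsBlock H B) (hBne : B.Nonempty)
    (blk : α → orbit H B) (h1 : ∀ x, x ∈ (blk x : Set α))
    (h2 : ∀ x (s : orbit H B), x ∈ (s : Set α) → s = blk x) {r : ℕ} [Fact r.Prime] (hrπ : r ∈ π) :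
    padicValNat r (Fintype.card α)! =
      (Nat.card (orbit H B)) * padicValNat r (B.ncard)! + padicValNat r (Nat.card (orbit H B))! ∧
    padicValNat r (Nat.card (MulAction.toPermHom H (orbit H B)).ker) =
      (Nat.card (orbit H B)) * padicValNat r (B.ncard)! := by
  classical
  haveI : Finite (orbit H B) := Subtype.finite
  letI : Fintype (orbit H B) := Fintype.ofFinite _
  have hab : B.ncard * Nat.card (orbit H B) = Fintype.card α := by
    have := hB.ncard_block_mul_ncard_orbit_eq hBne
    rw [Nat.card_eq_fintype_card] at this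
    rw [← this, Nat.card_coe_set_eq]
  have ha_pos : 0 < B.ncard := (Set.ncard_pos (Set.toFinite B)).mpr hBne
  set ρ : H →* Perm (orbit H B) := MulAction.toPermHom H (orbit H B) with hρ
  have hN : Nat.card H = Nat.card ρ.ker * Nat.card ρ.range := by
    rw [← Subgroup.index_ker, Subgroup.card_mul_index]
  have hm : Nat.card ρ.range ∣ (Nat.card (orbit H B))! := by
    have := Subgroup.card_subgroup_dvd_card ρ.range
    rwa [Nat.card_perm] at this
  have hK0 : Nat.card ρ.ker ∣ (B.ncard !) ^ (Nat.card (orbit H B)) := by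
    have h3 := card_dvd_of_preserves blk (ρ.ker.map H.subtype) (by
      rintro _ ⟨k, hk, rfl⟩ x
      have h4 : ρ k = 1 := hk
      have h5 : blk (k • x) = k • blk x := blk_smul h1 h2 k x
      have h6 : k • blk x = blk x := by
        have := congrArg (fun σ : Perm (orbit H B) => σ (blk x)) h4
        simpa [hρ] using this
      rw [h6] at h5
      exact h5)
    rw [Subgroup.card_map_of_injective H.subtype_injective] at h3
    have h7 : ∏ i : orbit H B, (Nat.card {a // blk a = i})! = (B.ncard !) ^ (Nat.card (orbit H B)) := by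
      rw [Finset.prod_congr rfl (fun i _ => by rw [card_fibre h1 h2 i]), Finset.prod_const, Finset.card_univ,
        Nat.card_eq_fintype_card]
    rwa [h7] at h3
  exact val_core ha_pos hab hN (hall_val H hH hrπ) hK0 hm


/-- a group preserving all blocks and fixing the block `B` pointwise -/
theorem card_dvd_of_fix (H : Subgroup (Perm α)) (B : Set α)
    (blk : α → orbit H B) (h1 : ∀ x, x ∈ (blk x : Set α))
    (h2 : ∀ x (s : orbit H B), x ∈ (s : Set α) → s = blk x)
    (X : Subgroup (Perm α)) (hX1 : ∀ g ∈ X, ∀ x, blk (g x) = blk x) (hX2 : ∀ g ∈ X, ∀ x ∈ B, g x = x) :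
    Nat.card X ∣ (B.ncard !) ^ (Nat.card (orbit H B) - 1) := by
  classical
  haveI : Finite (orbit H B) := Subtype.finite
  letI : Fintype (orbit H B) := Fintype.ofFinite _
  let f' : α → (orbit H B) ⊕ α := fun x => if x ∈ B then Sum.inr x else Sum.inl (blk x)
  have hf'in : ∀ x, x ∈ B → f' x = Sum.inr x := fun x hx => if_pos hx
  have hf'out : ∀ x, x ∉ B → f' x = Sum.inl (blk x) := fun x hx => if_neg hx
  let B₀ : orbit H B := ⟨B, mem_orbit_self B⟩
  have hB₀ : ∀ x, x ∈ B → blk x = B₀ := fun x hx => (h2 x B₀ hx).symm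
  have hB₀' : ∀ x, blk x = B₀ → x ∈ B := by
    intro x hx
    have := h1 x
    rw [hx] at this
    exact this
  have h3 := card_dvd_of_preserves f' X (by
    intro g hg x
    by_cases hx : x ∈ B
    · rw [hX2 g hg x hx]
    · have hgx : g x ∉ B := by
        intro hgx
        have h4 := hX2 g hg (g x) hgx
        have h5 := g.injective h4
        exact hx (h5 ▸ hgx)
      rw [hf'out _ hgx, hf'out _ hx, hX1 g hg x])
  have h4 : ∏ i : (orbit H B) ⊕ α, (Nat.card {a // f' a = i})! =
      (B.ncard !) ^ (Nat.card (orbit H B) - 1) := by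
    rw [Fintype.prod_sum_type]
    have e2 : ∏ y : α, (Nat.card {a // f' a = Sum.inr y})! = 1 := by
      refine Finset.prod_eq_one (fun y _ => ?_)
      rw [Nat.factorial_eq_one]
      haveI : Subsingleton {a // f' a = Sum.inr y} := by
        refine ⟨fun u v => ?_⟩
        have hu : (u : α) = y := by
          by_cases hx : (u : α) ∈ B
          · have := u.2
            rw [hf'in _ hx] at this
            exact Sum.inr.inj this
          · have := u.2
            rw [hf'out _ hx] at this
            exact absurd this (by simp)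
        have hv : (v : α) = y := by
          by_cases hx : (v : α) ∈ B
          · have := v.2
            rw [hf'in _ hx] at this
            exact Sum.inr.inj this
          · have := v.2
            rw [hf'out _ hx] at this
            exact absurd this (by simp)
        exact Subtype.ext (hu.trans hv.symm)
      exact Finite.card_le_one_iff_subsingleton.mpr inferInstance
    have e1 : ∏ s : orbit H B, (Nat.card {a // f' a = Sum.inl s})! =
        (B.ncard !) ^ (Nat.card (orbit H B) - 1) := by
      rw [← Finset.mul_prod_erase Finset.univ _ (Finset.mem_univ B₀)]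
      have e3 : Nat.card {a // f' a = Sum.inl B₀} = 0 := by
        haveI : IsEmpty {a // f' a = Sum.inl B₀} := by
          refine ⟨fun u => ?_⟩
          by_cases hx : (u : α) ∈ B
          · have := u.2
            rw [hf'in _ hx] at this
            exact absurd this (by simp)
          · have := u.2
            rw [hf'out _ hx] at this
            exact hx (hB₀' _ (Sum.inl.inj this))
        exact Nat.card_of_isEmpty
      rw [e3, Nat.factorial_zero, one_mul]
      have e4 : ∀ s ∈ Finset.univ.erase B₀, (Nat.card {a // f' a = Sum.inl s})! = B.ncard ! := by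
        intro s hs
        have hne : s ≠ B₀ := Finset.ne_of_mem_erase hs
        have e5 : Nat.card {a // f' a = Sum.inl s} = Nat.card {a // blk a = s} := by
          refine Nat.card_congr (Equiv.subtypeEquivRight (fun x => ?_))
          constructor
          · intro hx'
            by_cases hx : x ∈ B
            · rw [hf'in _ hx] at hx'
              exact absurd hx' (by simp)
            · rw [hf'out _ hx] at hx'
              exact Sum.inl.inj hx'
          · intro hx'
            have hx : x ∉ B := fun hx => hne (by rw [← hx', hB₀ x hx])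
            rw [hf'out _ hx, hx']
        rw [e5, card_fibre h1 h2 s]
      rw [Finset.prod_congr rfl e4, Finset.prod_const, Finset.card_erase_of_mem (Finset.mem_univ _),
        Finset.card_univ, Nat.card_eq_fintype_card]
    rw [e1, e2, mul_one]
  rwa [h4] at h3

theorem part_two {π : Set ℕ} (H : Subgroup (Perm α)) (hH : IsPiHall π H) (htr : IsPretransitive H α)
    (B : Set α) (hB : IsBlock H B) (hBne : B.Nonempty) :
    IsPiHall π (restr H B).range ∧ IsPretransitive (restr H B).range B := by
  classical
  obtain ⟨blk, h1, h2⟩ := exists_blk H B htr hB hBne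
  refine ⟨⟨fun p hp hpK => hH.1 p hp ?_, fun r hr hrπ => ?_⟩, ?_⟩
  · exact (hpK.trans (Subgroup.card_range_dvd (restr H B))).trans (Subgroup.card_subgroup_dvd_card _)
  · haveI : Fact r.Prime := ⟨hr⟩
    haveI : Finite (orbit H B) := Subtype.finite
    obtain ⟨hv1, hv2⟩ := part_one H hH htr B hB hBne blk h1 h2 hrπ
    set ρ : H →* Perm (orbit H B) := MulAction.toPermHom H (orbit H B) with hρ
    have hfix : ∀ k ∈ ρ.ker, ∀ s : orbit H B, k • s = s := by
      intro k hk s
      have h4 : ρ k = 1 := hk
      have := congrArg (fun σ : Perm (orbit H B) => σ s) h4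
      simpa [hρ] using this
    have hle : ρ.ker ≤ stabilizer H B := by
      intro k hk
      rw [mem_stabilizer_iff]
      have := hfix k hk ⟨B, mem_orbit_self B⟩
      exact congrArg Subtype.val this
    set restr₀ : ρ.ker →* Perm B := (restr H B).comp (Subgroup.inclusion hle) with hrestr₀
    have hr0 : restr₀.range ≤ (restr H B).range := by
      rintro _ ⟨x, rfl⟩
      exact ⟨Subgroup.inclusion hle x, rfl⟩
    have c1 : Nat.card ρ.ker = Nat.card restr₀.ker * Nat.card restr₀.range := by
      rw [← Subgroup.index_ker, Subgroup.card_mul_index]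
    have c2 : Nat.card restr₀.range ∣ Nat.card (restr H B).range := Subgroup.card_dvd_of_le hr0
    have c3 : Nat.card restr₀.ker ∣ (B.ncard !) ^ (Nat.card (orbit H B) - 1) := by
      have := card_dvd_of_fix H B blk h1 h2 ((restr₀.ker.map ρ.ker.subtype).map H.subtype) (by
        rintro _ ⟨_, ⟨k, hk, rfl⟩, rfl⟩ x
        have h5 : blk ((k : H) • x) = (k : H) • blk x := blk_smul h1 h2 (k : H) x
        rw [hfix (k : H) k.2] at h5
        exact h5) (by
        rintro _ ⟨_, ⟨k, hk, rfl⟩, rfl⟩ x hx
        have h4 : restr₀ k = 1 := hk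
        have := congrArg (fun σ : Perm B => ((σ ⟨x, hx⟩ : B) : α)) h4
        exact this)
      rwa [Subgroup.card_map_of_injective H.subtype_injective,
        Subgroup.card_map_of_injective ρ.ker.subtype_injective] at this
    -- the count
    have hKcard : Nat.card (restr H B).range * (restr H B).range.index = (B.ncard)! := by
      rw [Subgroup.card_mul_index, Nat.card_perm, Nat.card_coe_set_eq]
    have hb_pos : 0 < Nat.card (orbit H B) := by
      haveI : Nonempty (orbit H B) := ⟨⟨B, mem_orbit_self B⟩⟩
      exact Nat.card_pos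
    obtain ⟨b', hb'⟩ : ∃ b', Nat.card (orbit H B) = b' + 1 := ⟨_, (Nat.succ_pred_eq_of_pos hb_pos).symm⟩
    have hpow : (B.ncard !) ^ (Nat.card (orbit H B) - 1) ≠ 0 := pow_ne_zero _ (Nat.factorial_ne_zero _)
    have hk0 : Nat.card restr₀.ker ≠ 0 := Nat.card_pos.ne'
    have hr0' : Nat.card restr₀.range ≠ 0 := Nat.card_pos.ne'
    have hK0 : Nat.card (restr H B).range ≠ 0 := Nat.card_pos.ne'
    have d1 : padicValNat r (Nat.card ρ.ker) =
        padicValNat r (Nat.card restr₀.ker) + padicValNat r (Nat.card restr₀.range) := by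
      rw [c1, padicValNat.mul hk0 hr0']
    have d2 : padicValNat r (Nat.card restr₀.range) ≤ padicValNat r (Nat.card (restr H B).range) :=
      padic_le_of_dvd hK0 c2
    have d3 : padicValNat r (Nat.card restr₀.ker) ≤ b' * padicValNat r (B.ncard)! := by
      have := padic_le_of_dvd (p := r) hpow c3
      rwa [padicValNat.pow, hb', Nat.add_sub_cancel] at this
    have d4 : padicValNat r (B.ncard)! ≤ padicValNat r (Nat.card (restr H B).range) := by
      rw [hb'] at hv2
      have : (b' + 1) * padicValNat r (B.ncard)! = b' * padicValNat r (B.ncard)! + padicValNat r (B.ncard)! := by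
        ring
      omega
    intro hdvd
    have hidx : (restr H B).range.index ≠ 0 := by
      intro h
      rw [h, mul_zero] at hKcard
      exact Nat.factorial_ne_zero _ hKcard.symm
    have d5 := one_le_padicValNat_of_dvd hidx hdvd
    have d6 : padicValNat r (B.ncard)! =
        padicValNat r (Nat.card (restr H B).range) + padicValNat r ((restr H B).range.index) := by
      rw [← hKcard, padicValNat.mul hK0 hidx]
    omega
  · refine ⟨fun x y => ?_⟩
    obtain ⟨h, hh⟩ := htr.exists_smul_eq (x : α) (y : α)
    have hmem : h ∈ stabilizer H B := by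
      rw [mem_stabilizer_iff]
      exact (isBlock_iff_smul_eq_of_mem.mp hB) x.2 (by rw [hh]; exact y.2)
    refine ⟨⟨restr H B ⟨h, hmem⟩, ⟨_, rfl⟩⟩, ?_⟩
    apply Subtype.ext
    exact hh


/-- (G-B): a transitive Hall `π`-subgroup of `Perm α` with a block `B`: the valuation identity, and a transitive Hall
`π`-subgroup of `Perm B`. -/
theorem block_constituent {π : Set ℕ} (H : Subgroup (Perm α)) (hH : IsPiHall π H)
    (htr : IsPretransitive H α) (B : Set α) (hB : IsBlock H B) (hBne : B.Nonempty) :
    (∀ r : ℕ, r.Prime → r ∈ π → padicValNat r (Fintype.card α)! =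
      (Fintype.card α / B.ncard) * padicValNat r (B.ncard)! + padicValNat r (Fintype.card α / B.ncard)!) ∧
    ∃ K : Subgroup (Perm B), IsPiHall π K ∧ IsPretransitive K B := by
  refine ⟨fun r hr hrπ => ?_, (restr H B).range, part_two H hH htr B hB hBne⟩
  haveI : Fact r.Prime := ⟨hr⟩
  obtain ⟨blk, h1, h2⟩ := exists_blk H B htr hB hBne
  have hab : B.ncard * Nat.card (orbit H B) = Fintype.card α := by
    have := hB.ncard_block_mul_ncard_orbit_eq hBne
    rw [Nat.card_eq_fintype_card] at this
    rw [← this, Nat.card_coe_set_eq]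
  have ha_pos : 0 < B.ncard := (Set.ncard_pos (Set.toFinite B)).mpr hBne
  have hb : Fintype.card α / B.ncard = Nat.card (orbit H B) :=
    Nat.div_eq_of_eq_mul_right ha_pos hab.symm
  rw [hb]
  exact (part_one H hH htr B hB hBne blk h1 h2 hrπ).1

end main

end Cfsg.Agent.Helper87.HallSym
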