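import Cfsg.Agent.Helper61.DihDefs

/-!
# S3616 piece (FR3): Frobenius in the group algebra of a dihedral group: the rotation
coefficients of the `q`-th power of an inverse-closed indicator element.
-/

set_option autoImplicit false
set_option linter.unusedSectionVars false
set_option linter.style.haveILetI false

namespace Cfsg.Agent.Helper87.Dih

open DihedralGroup Finset Cfsg.Agent.Helper61.Dih

variable {e : ℕ} [NeZero e]

section alg

variable (q : ℕ) [Fact q.Prime]

/-- the group algebra over `ZMod q` has characteristic `q` -/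
theorem charP_monoidAlgebra (D : Type*) [Monoid D] : CharP (MonoidAlgebra (ZMod q) D) q :=
  charP_of_injective_ringHom (f := (MonoidAlgebra.singleOneRingHom : ZMod q →+* MonoidAlgebra (ZMod q) D))
    (fun a b h => by
      have := congrArg (fun y => y.coeff (1 : D)) h
      simpa [MonoidAlgebra.singleOneRingHom] using this) q

/-- the rotation part of an indicator element -/
noncomputable def rotSum (S : Finset (ZMod e)) : MonoidAlgebra (ZMod q) (DihedralGroup e) :=
  ∑ i ∈ S, MonoidAlgebra.single (r i) 1

/-- the reflection part of an indicator element -/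
noncomputable def refSum (S : Finset (ZMod e)) : MonoidAlgebra (ZMod q) (DihedralGroup e) :=
  ∑ j ∈ S, MonoidAlgebra.single (sr j) 1

theorem rot_single_commute (i j : ZMod e) :
    Commute (MonoidAlgebra.single (r i) (1 : ZMod q)) (MonoidAlgebra.single (r j) (1 : ZMod q)) := by
  show _ * _ = _ * _
  rw [MonoidAlgebra.single_mul_single, MonoidAlgebra.single_mul_single, r_mul_r, r_mul_r, add_comm]

/-- Frobenius on the rotation part -/
theorem rotSum_pow (S : Finset (ZMod e)) :
    rotSum q S ^ q = ∑ i ∈ S, MonoidAlgebra.single (r (q • i)) (1 : ZMod q) := by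
  haveI := charP_monoidAlgebra q (DihedralGroup e)
  unfold rotSum
  induction S using Finset.induction_on with
  | empty =>
    rw [Finset.sum_empty, Finset.sum_empty, zero_pow (Fact.out : q.Prime).ne_zero]
  | insert a S ha ih =>
    rw [Finset.sum_insert ha, Finset.sum_insert ha, add_pow_char_of_commute, ih]
    · congr 1
      rw [MonoidAlgebra.single_pow, one_pow, r_pow, nsmul_eq_mul, mul_comm]
    · exact Commute.sum_right _ _ _ (fun j _ => rot_single_commute q a j)

/-- the span of the rotations -/
noncomputable def RotS : Submodule (ZMod q) (MonoidAlgebra (ZMod q) (DihedralGroup e)) :=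
  Submodule.span (ZMod q) (Set.range fun i : ZMod e => MonoidAlgebra.single (r i) (1 : ZMod q))

/-- the span of the reflections -/
noncomputable def RefS : Submodule (ZMod q) (MonoidAlgebra (ZMod q) (DihedralGroup e)) :=
  Submodule.span (ZMod q) (Set.range fun j : ZMod e => MonoidAlgebra.single (sr j) (1 : ZMod q))

theorem RefS_mul_RefS : (RefS q : Submodule (ZMod q) (MonoidAlgebra (ZMod q) (DihedralGroup e))) *
    RefS q ≤ RotS q := by
  unfold RefS
  rw [Submodule.span_mul_span, Submodule.span_le]
  rintro _ ⟨_, ⟨j, rfl⟩, _, ⟨j', rfl⟩, rfl⟩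
  simp only [MonoidAlgebra.single_mul_single, sr_mul_sr, mul_one]
  exact Submodule.subset_span ⟨_, rfl⟩

theorem RefS_mul_RotS : (RefS q : Submodule (ZMod q) (MonoidAlgebra (ZMod q) (DihedralGroup e))) *
    RotS q ≤ RefS q := by
  unfold RefS RotS
  rw [Submodule.span_mul_span, Submodule.span_le]
  rintro _ ⟨_, ⟨j, rfl⟩, _, ⟨i, rfl⟩, rfl⟩
  simp only [MonoidAlgebra.single_mul_single, sr_mul_r, mul_one]
  exact Submodule.subset_span ⟨_, rfl⟩

theorem refSum_mem (S : Finset (ZMod e)) : refSum q S ∈ RefS q :=
  Submodule.sum_mem _ fun j _ => Submodule.subset_span ⟨j, rfl⟩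

theorem pow_odd_mem_RefS {b : MonoidAlgebra (ZMod q) (DihedralGroup e)} (hb : b ∈ RefS q) (k : ℕ) :
    b ^ (2 * k + 1) ∈ RefS q := by
  induction k with
  | zero => simpa using hb
  | succ k ih =>
    have h1 : b ^ (2 * (k + 1) + 1) = b ^ (2 * k + 1) * (b * b) := by
      rw [show 2 * (k + 1) + 1 = (2 * k + 1) + 2 by ring, pow_add, pow_two]
    rw [h1]
    exact RefS_mul_RotS q (Submodule.mul_mem_mul ih (RefS_mul_RefS q (Submodule.mul_mem_mul hb hb)))

theorem coeff_rot_of_mem_RefS {y : MonoidAlgebra (ZMod q) (DihedralGroup e)} (hy : y ∈ RefS q)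
    (x : ZMod e) : y.coeff (r x) = 0 := by
  unfold RefS at hy
  induction hy using Submodule.span_induction with
  | mem y hy =>
    obtain ⟨j, rfl⟩ := hy
    rw [MonoidAlgebra.coeff_single, Finsupp.single_apply, if_neg (by simp)]
  | zero => simp
  | add y z _ _ hy hz => rw [MonoidAlgebra.coeff_add, Finsupp.add_apply, hy, hz, add_zero]
  | smul c y _ hy => rw [MonoidAlgebra.coeff_smul, Finsupp.smul_apply, hy, smul_zero]

/-- the rotation part commutes with the reflection part when the rotation part is symmetric -/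
theorem rotSum_commute_refSum (A B : Finset (ZMod e)) (hA : ∀ i ∈ A, -i ∈ A) :
    Commute (rotSum q A) (refSum q B) := by
  show _ * _ = _ * _
  unfold rotSum refSum
  rw [Finset.sum_mul_sum, Finset.sum_mul_sum, Finset.sum_comm]
  apply Finset.sum_congr rfl
  intro j _
  simp only [MonoidAlgebra.single_mul_single, r_mul_sr, sr_mul_r, mul_one]
  refine Finset.sum_nbij' (fun i => -i) (fun i => -i) ?_ ?_ ?_ ?_ ?_
  · intro i hi; exact hA i hi
  · intro i hi; exact hA i hi
  · intro i _; exact neg_neg i
  · intro i _; exact neg_neg i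
  · intro i _
    rw [sub_eq_add_neg]

end alg

/-- (FR3) Frobenius: rotation coefficients of the `q`-th power -/
theorem coeff_pow_rot (T : Finset (DihedralGroup e)) (hinv : ∀ d ∈ T, d⁻¹ ∈ T) (q : ℕ)
    [Fact q.Prime] (hq2 : q ≠ 2) (x : ZMod e) :
    ((((ind T : MonoidAlgebra ℤ (DihedralGroup e)) ^ q).coeff (r x) : ℤ) : ZMod q) =
      (((rotPart T).filter (fun i => q • i = x)).card : ZMod q) := by
  haveI := charP_monoidAlgebra q (DihedralGroup e)
  have hq : q.Prime := Fact.out
  set φ := MonoidAlgebra.mapRingHom (DihedralGroup e) (Int.castRingHom (ZMod q)) with hφ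
  -- decomposition of `T`
  have hT : T = (rotPart T).image r ∪ (refPart T).image sr := by
    ext d
    cases d with
    | r i => simp [mem_rotPart]
    | sr j => simp [mem_refPart]
  have hdisj : Disjoint ((rotPart T).image (r : ZMod e → DihedralGroup e)) ((refPart T).image sr) := by
    rw [Finset.disjoint_left]
    intro d hd hd'
    obtain ⟨i, _, rfl⟩ := Finset.mem_image.mp hd
    obtain ⟨j, _, hj⟩ := Finset.mem_image.mp hd'
    cases hj
  have hind : φ (ind T) = rotSum q (rotPart T) + refSum q (refPart T) := by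
    unfold ind rotSum refSum
    conv_lhs => rw [hT]
    rw [Finset.sum_union hdisj, map_add, map_sum, map_sum,
      Finset.sum_image (fun a _ b _ h => by injection h),
      Finset.sum_image (fun a _ b _ h => by injection h)]
    simp [hφ]
  have hA : ∀ i ∈ rotPart T, -i ∈ rotPart T := by
    intro i hi
    rw [mem_rotPart] at hi ⊢
    have := hinv _ hi
    rwa [inv_r] at this
  obtain ⟨k, hk⟩ : ∃ k, q = 2 * k + 1 := by
    rcases hq.eq_two_or_odd' with h | h
    · exact absurd h hq2
    · obtain ⟨k, hk⟩ := h; exact ⟨k, hk⟩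
  have h1 : ((((ind T : MonoidAlgebra ℤ (DihedralGroup e)) ^ q).coeff (r x) : ℤ) : ZMod q) =
      ((φ (ind T)) ^ q).coeff (r x) := by
    rw [← map_pow, hφ, MonoidAlgebra.coeff_mapRingHom]
    rfl
  rw [h1, hind, add_pow_char_of_commute q (rotSum_commute_refSum q _ _ hA), MonoidAlgebra.coeff_add,
    Finsupp.add_apply]
  have h2 : (refSum q (refPart T) ^ q).coeff (r x) = 0 := by
    have hmem := pow_odd_mem_RefS q (refSum_mem q (refPart T)) k
    rw [← hk] at hmem
    exact coeff_rot_of_mem_RefS q hmem x
  rw [h2, add_zero, rotSum_pow, MonoidAlgebra.coeff_sum, Finsupp.finsetSum_apply]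
  simp only [MonoidAlgebra.coeff_single, Finsupp.single_apply]
  rw [Finset.card_filter, Nat.cast_sum]
  apply Finset.sum_congr rfl
  intro i _
  by_cases h : q • i = x
  · rw [if_pos (by rw [h]), if_pos h, Nat.cast_one]
  · rw [if_neg (fun h' => h (by injection h')), if_neg h, Nat.cast_zero]

end Cfsg.Agent.Helper87.Dih
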