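import Cfsg.Agent.Helper85.KLDefs
import Cfsg.Agent.Helper87.FusionRS
set_option autoImplicit false

/-!
(B) of helper85's plan for S5142: the elements of `p`-power order of `Aut_E(P)` lie in `Aut_D(P)`, for `E`, `D` weakly
normal in `F` over the same `T`.
-/

namespace Cfsg.Agent.Helper87.KLB

open Cfsg Cfsg.FusionSystem Cfsg.Agent.Helper87

variable {Ω : Type*} [Group Ω] {S T : Subgroup Ω}

/-- In a finite group with a Sylow `p`-subgroup `R`, every element of `p`-power order is conjugate into `R`. -/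
theorem exists_conj_mem_sylow {A : Type*} [Group A] [Finite A] {p : ℕ} [Fact p.Prime] (R : Sylow p A) (a : A)
    {k : ℕ} (ha : orderOf a = p ^ k) : ∃ g : A, g⁻¹ * a * g ∈ (R : Subgroup A) := by
  have hz : IsPGroup p (Subgroup.zpowers a) := by
    refine IsPGroup.of_card (n := k) ?_
    rw [Nat.card_zpowers, ha]
  obtain ⟨R₁, hR₁⟩ := hz.exists_le_sylow
  obtain ⟨g, hg⟩ := MulAction.exists_smul_eq A R R₁
  refine ⟨g, ?_⟩
  have ha1 : a ∈ (R₁ : Subgroup A) := hR₁ (Subgroup.mem_zpowers a)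
  rw [← hg, Sylow.coe_subgroup_smul, Subgroup.mem_pointwise_smul_iff_inv_smul_mem] at ha1
  simpa [MulAut.smul_def, MulAut.conj_apply, mul_assoc] using ha1

/-- The key transport step: an automorphism `γ` of `P` which becomes conjugation by `t ∈ T` after an isomorphism `e'`
of `E` is a map of `D`. -/
theorem mem_autGroup_of_conj (F : FusionSystem S) (E D : FusionSystem T)
    (hEF : E.IsSubsystemOf F) (hD : D.IsInvariantIn F) {P Q : Subgroup Ω} (hPT : P ≤ T)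
    (e' : P ≃* Q) (he' : IsIso E e') (γ : MulAut P) (t : Ω) (ht : t ∈ T)
    (hγ : ∀ x : P, ((e' (γ x) : Q) : Ω) = t * ((e' x : Q) : Ω) * t⁻¹) : γ ∈ D.autGroup P := by
  -- Frattini
  have hχF : Q.subtype.comp e'.toMonoidHom ∈ F.Hom P := hEF P he'
  obtain ⟨α, hα, φ₀, hφ₀, hfr⟩ := hD.2.2.2 P hPT _ hχF
  have hφ₀T : ∀ x : P, φ₀ x ∈ T := (D.le_of_mem hφ₀).2
  have hfr' : ∀ x : P, ((e' x : Q) : Ω) = ((α (⟨φ₀ x, hφ₀T x⟩ : T) : T) : Ω) := fun x => hfr x (hφ₀T x)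
  set t' : T := α⁻¹ ⟨t, ht⟩ with ht'
  have hαt' : α t' = ⟨t, ht⟩ := MulAut.apply_inv_self T α ⟨t, ht⟩
  have hkey : ∀ x : P, φ₀ (γ x) = (t' : Ω) * φ₀ x * (t' : Ω)⁻¹ := by
    intro x
    have h1 : α (⟨φ₀ (γ x), hφ₀T (γ x)⟩ : T) = α (t' * (⟨φ₀ x, hφ₀T x⟩ : T) * t'⁻¹) := by
      apply Subtype.ext
      rw [← hfr' (γ x), hγ x, hfr' x, map_mul, map_mul, map_inv, hαt']
      rfl
    have h2 := α.injective h1
    exact congrArg Subtype.val h2
  -- the maps of `D`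
  have hP₀T : φ₀.range ≤ T := by
    rintro _ ⟨x, rfl⟩
    exact hφ₀T x
  let e₀ : P ≃* φ₀.range := isoOfRange D hφ₀ rfl
  have he₀ : IsIso D e₀ := isIso_isoOfRange D hφ₀ rfl
  have hψ₁ : (conjHom φ₀.range (t' : Ω)).comp e₀.toMonoidHom ∈ D.Hom P :=
    comp_iso_mem D he₀ (D.conj_mem hP₀T t'.2)
  have hval : ∀ x : P, ((conjHom φ₀.range (t' : Ω)).comp e₀.toMonoidHom) x ∈ φ₀.range := by
    intro x
    refine ⟨γ x, ?_⟩
    rw [hkey x]
    rfl
  have h3 := D.comp_mem hψ₁ he₀.symm hval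
  rw [mem_autGroup_iff D hPT]
  refine mem_of_eq D h3 (fun x => ?_)
  show ((γ x : P) : Ω) = ((e₀.symm ⟨_, hval x⟩ : P) : Ω)
  have h4 : (⟨_, hval x⟩ : φ₀.range) = e₀ (γ x) := by
    apply Subtype.ext
    show (t' : Ω) * φ₀ x * (t' : Ω)⁻¹ = φ₀ (γ x)
    exact (hkey x).symm
  rw [h4, MulEquiv.symm_apply_apply]

theorem pElements_le_autGroup [Finite S] (p : ℕ) [Fact p.Prime] (hS : IsPGroup p S)
    (F : FusionSystem S) (hF : F.IsSaturated p) (E D : FusionSystem T)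
    (hE : E.IsWeaklyNormalIn F p) (hD : D.IsWeaklyNormalIn F p) (P : Subgroup Ω) (hPT : P ≤ T) :
    (Subgroup.closure {α : ↥(E.autGroup P) | ∃ k : ℕ, orderOf α = p ^ k}).map (E.autGroup P).subtype ≤
      D.autGroup P := by
  rw [Subgroup.map_le_iff_le_comap, Subgroup.closure_le]
  rintro γ ⟨k, hk⟩
  show (γ : MulAut P) ∈ D.autGroup P
  have hTS : T ≤ S := hD.2.2.2.1.1
  have hEF : E.IsSubsystemOf F := hE.2.2.1
  -- a fully automized conjugate
  obtain ⟨Q, hPQ, ⟨hQT, R, hR⟩, -⟩ := hE.1 P hPT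
  obtain ⟨e, he⟩ := (isConj_iff E P Q).mp hPQ
  haveI : Finite T := Cfsg.Agent.Helper87.finite_of_le hTS
  haveI : Finite Q := Cfsg.Agent.Helper87.finite_of_le (hQT.trans hTS)
  haveI : Finite (MulAut Q) := MulEquiv.finite_left
  -- transport `γ` to `Q`
  have hγ'mem : MulAut.congr e (γ : MulAut P) ∈ E.autGroup Q := by
    rw [← map_congr_autGroup E e he]
    exact ⟨γ, γ.2, rfl⟩
  have hord : orderOf (⟨MulAut.congr e (γ : MulAut P), hγ'mem⟩ : E.autGroup Q) = p ^ k := by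
    rw [← hk, ← Subgroup.orderOf_coe, ← Subgroup.orderOf_coe]
    exact MulEquiv.orderOf_eq (MulAut.congr e) (γ : MulAut P)
  obtain ⟨g, hg⟩ := exists_conj_mem_sylow R _ hord
  rw [hR, Subgroup.mem_subgroupOf] at hg
  obtain ⟨t, ht, htg⟩ := (mem_autInducedBy_iff T Q _).mp hg
  -- the corrected isomorphism
  have hgiso : IsIso E ((g⁻¹ : E.autGroup Q) : MulAut Q) := (mem_autGroup_iff E hQT _).mp (g⁻¹).2
  refine mem_autGroup_of_conj F E D hEF hD.2.2 hPT (e.trans ((g⁻¹ : E.autGroup Q) : MulAut Q))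
    (he.trans hgiso) (γ : MulAut P) t ht (fun x => ?_)
  have h5 := htg (((g⁻¹ : E.autGroup Q) : MulAut Q) (e x))
  simp only [MulEquiv.trans_apply]
  rw [← h5]
  congr 1
  simp [MulAut.mul_apply, MulAut.congr_apply]

end Cfsg.Agent.Helper87.KLB
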