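import Mathlib

/-!
# (IF) for helper38's farm (S2500 part 5): the involution of a finite field of order `Q ^ 2` is `z ↦ z ^ Q`
-/

set_option autoImplicit false
set_option linter.unusedVariables false
set_option linter.style.haveILetI false

namespace Cfsg.Agent.Helper87.Cov2

/-- (IF) the involution of a finite field of order `Q ^ 2` -/
theorem involution_eq_pow {E : Type*} [Field E] [Fintype E] (Q : ℕ) (hE : Fintype.card E = Q ^ 2)
    (τ : E →+* E) (hτ2 : ∀ z, τ (τ z) = z) (hτ : ∃ z, τ z ≠ z) (z : E) : τ z = z ^ Q := by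
  obtain ⟨p, hp⟩ := CharP.exists E
  haveI := hp
  haveI : Fact p.Prime := ⟨CharP.char_is_prime E p⟩
  letI : Algebra (ZMod p) E := ZMod.algebra E p
  -- `τ` as an algebra homomorphism over the prime field
  let τ' : E →ₐ[ZMod p] E :=
    { τ with
      commutes' := fun c => by
        obtain ⟨k, rfl⟩ := ZMod.natCast_zmod_surjective c
        simp }
  have hτ' : ∀ x, τ' x = τ x := fun x => rfl
  set n := Module.finrank (ZMod p) E with hn
  have hnpos : 0 < n := Module.finrank_pos
  have hcard : Fintype.card E = p ^ n := by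
    rw [Module.card_eq_pow_finrank (K := ZMod p) (V := E), ZMod.card]
  obtain ⟨⟨i, hi⟩, hi2⟩ := (FiniteField.bijective_frobeniusAlgHom_pow (ZMod p) E).2 τ'
  simp only at hi2
  have hτi : ∀ x, τ x = x ^ (p ^ i) := by
    intro x
    have := DFunLike.congr_fun hi2 x
    rw [AlgHom.coe_pow, FiniteField.coe_frobeniusAlgHom, pow_iterate, ZMod.card, hτ'] at this
    exact this.symm
  -- `Q = p ^ m`
  have hQ : Q ∣ p ^ n := ⟨Q, by rw [← hcard, hE, sq]⟩
  obtain ⟨m, hm, rfl⟩ := (Nat.dvd_prime_pow Fact.out).1 hQ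
  have hnm : n = 2 * m := by
    have h1 : p ^ n = p ^ (m * 2) := by rw [← hcard, hE, pow_mul]
    have h2 := Nat.pow_right_injective (Fact.out : p.Prime).two_le h1
    omega
  -- the order of the Frobenius
  have hsq : (FiniteField.frobeniusAlgHom (ZMod p) E) ^ (2 * i) = 1 := by
    rw [two_mul, pow_add, hi2]
    apply AlgHom.ext
    intro x
    rw [AlgHom.mul_apply, hτ', hτ', hτ2, AlgHom.one_apply]
  have hdvd : n ∣ 2 * i := by
    rw [hn, ← FiniteField.orderOf_frobeniusAlgHom (ZMod p) E]
    exact orderOf_dvd_of_pow_eq_one hsq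
  have him : i = 0 ∨ i = m := by
    obtain ⟨k, hk⟩ := hdvd
    rw [hnm] at hk
    have hki : i = m * k := by
      have : 2 * i = 2 * (m * k) := by rw [hk]; ring
      omega
    rw [← hn, hnm] at hi
    rcases Nat.lt_or_ge k 1 with h0 | h1
    · left
      have : k = 0 := by omega
      rw [hki, this, mul_zero]
    · right
      rcases Nat.lt_or_ge k 2 with h2 | h2
      · have : k = 1 := by omega
        rw [hki, this, mul_one]
      · exfalso
        have : m * 2 ≤ m * k := Nat.mul_le_mul_left m h2
        omega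
  rcases him with h0 | h0
  · exfalso
    obtain ⟨w, hw⟩ := hτ
    apply hw
    rw [hτi, h0, pow_zero, pow_one]
  · rw [hτi, h0]

end Cfsg.Agent.Helper87.Cov2
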