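import Mathlib

/-!
# (P6) for helper38's farm (S2500 part 5): a `3 × 3` matrix over a field of order `q ^ 2` with irreducible
characteristic polynomial satisfies `A ^ ((q ^ 2) ^ 3) = A`
-/

set_option autoImplicit false
set_option linter.unusedVariables false
set_option linter.style.haveILetI false

namespace Cfsg.Agent.Helper87.P5

open Matrix Polynomial Module

variable {F : Type*} [Field F] [Fintype F] {q : ℕ}

/-- (P6) a matrix with irreducible characteristic polynomial has order dividing `q ^ 6 - 1` -/
theorem pow_card_pow_three (hF : Fintype.card F = q ^ 2) (A : Matrix (Fin 3) (Fin 3) F)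
    (hirr : Irreducible A.charpoly) : A ^ ((q ^ 2) ^ 3) = A := by
  classical
  haveI : Fact (Irreducible A.charpoly) := ⟨hirr⟩
  have hne : A.charpoly ≠ 0 := hirr.ne_zero
  let pb := AdjoinRoot.powerBasis hne
  haveI : Module.Finite F (AdjoinRoot A.charpoly) := pb.finite
  have hfrL : finrank F (AdjoinRoot A.charpoly) = 3 := by
    rw [pb.finrank, AdjoinRoot.powerBasis_dim, Matrix.charpoly_natDegree_eq_dim, Fintype.card_fin]
  haveI : Finite (AdjoinRoot A.charpoly) := Module.finite_of_finite F
  haveI : Fintype (AdjoinRoot A.charpoly) := Fintype.ofFinite _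
  have hcard : Fintype.card (AdjoinRoot A.charpoly) = (q ^ 2) ^ 3 := by
    rw [Module.card_eq_pow_finrank (K := F) (V := AdjoinRoot A.charpoly), hfrL, hF]
  have hI : ∀ a : Polynomial F, a ∈ Ideal.span {A.charpoly} → Polynomial.aeval A a = 0 := by
    intro a ha
    obtain ⟨c, rfl⟩ := Ideal.mem_span_singleton.1 ha
    rw [map_mul, Matrix.aeval_self_charpoly, zero_mul]
  let φ : AdjoinRoot A.charpoly →ₐ[F] Matrix (Fin 3) (Fin 3) F :=
    Ideal.Quotient.liftₐ (Ideal.span {A.charpoly}) (Polynomial.aeval A) hI
  have h1 : φ (AdjoinRoot.root A.charpoly) = A := by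
    have h1 : φ (Ideal.Quotient.mk _ Polynomial.X) = Polynomial.aeval A Polynomial.X :=
      Ideal.Quotient.lift_mk _ _ _
    rw [Polynomial.aeval_X] at h1
    exact h1
  have h2 : (AdjoinRoot.root A.charpoly) ^ (Fintype.card (AdjoinRoot A.charpoly)) =
      AdjoinRoot.root A.charpoly := FiniteField.pow_card _
  have h3 := congrArg φ h2
  rw [map_pow, h1, hcard] at h3
  exact h3

end Cfsg.Agent.Helper87.P5
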