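import Mathlib
import Cfsg.Agent.Helper38.SU2G.Defs

/-!
# (E1) for helper38's S2412: the commutator `[h, b h b⁻¹]`, `b = x n`, is a nontrivial element of the root group
`{E(e_0, t f_1, 0)}`
-/

set_option autoImplicit false
set_option linter.unusedSectionVars false

namespace Cfsg.Agent.Helper87.SU2G

open Matrix Cfsg.Agent.Helper84.PSU Cfsg.Agent.Helper38.SU2G

/-- the abstract commutator computation in a group with a one parameter subgroup `r` normalised by two commuting
elements `h`, `h'` -/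
theorem comm_root {G : Type*} [Group G] {K : Type*} [Field K] (r : K → G) (h h' : G) (a β : K)
    (hadd : ∀ s t, r s * r t = r (s + t)) (hh : ∀ t, h * r t * h⁻¹ = r (a * t))
    (hh' : ∀ t, h' * r t * h'⁻¹ = r (β * t)) (hc : h * h' = h' * h) :
    h * (r 1 * h' * (r 1)⁻¹) * h⁻¹ * (r 1 * h' * (r 1)⁻¹)⁻¹ = r (a + β * (1 - a) - 1) := by
  have h0 : r 0 = 1 := by
    have := hadd 0 0
    rw [add_zero] at this
    exact mul_left_cancel (a := r 0) (by rw [this, mul_one])
  have hinv : ∀ t, (r t)⁻¹ = r (-t) := fun t =>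
    inv_eq_of_mul_eq_one_right (by rw [hadd, add_neg_cancel, h0])
  have k1 : h * (r 1 * h' * (r 1)⁻¹) * h⁻¹ = r a * h' * (r a)⁻¹ := by
    have : h * (r 1 * h' * (r 1)⁻¹) * h⁻¹ = (h * r 1 * h⁻¹) * (h * h' * h⁻¹) * (h * r 1 * h⁻¹)⁻¹ := by
      group
    rw [this, hh 1, mul_one, hc, mul_inv_cancel_right]
  rw [k1]
  have k2 : r a * h' * (r a)⁻¹ * (r 1 * h' * (r 1)⁻¹)⁻¹ =
      r a * (h' * ((r a)⁻¹ * r 1) * h'⁻¹) * (r 1)⁻¹ := by
    group
  rw [k2, hinv a, hadd, hh', hinv 1, hadd, hadd]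
  congr 1
  ring

variable {K : Type*} [Field K] {m r : ℕ}

local notation "Vec" => (I (m + 2) r → K)
local notation "Mat" => Matrix (I (m + 2) r) (I (m + 2) r) K

variable (bar : K →+* K) (hb : ∀ x, bar (bar x) = x)

set_option quotPrecheck false in
local notation "SUk" => ↥(SUm (m + 2) r bar)

/-- an element acting diagonally on the standard basis -/
def IsDiag (g : SUk) : Prop := ∀ y : I (m + 2) r, ∃ c : K, av bar g (bv y) = c • bv y

theorem IsDiag.comm {g g' : SUk} (hg : IsDiag bar g) (hg' : IsDiag bar g') : g * g' = g' * g := by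
  apply ext_av
  intro y
  obtain ⟨c, hc⟩ := hg y
  obtain ⟨c', hc'⟩ := hg' y
  rw [av_mul, av_mul, hc, hc', av_smul, av_smul, hc, hc', smul_smul, smul_smul, mul_comm]

theorem conj_diag_apply (n h : SUk) {y₀ y : I (m + 2) r} {ρ c : K} (hρ : ρ ≠ 0)
    (hn : av bar n (bv y₀) = ρ • bv y) (hh : av bar h (bv y₀) = c • bv y₀) :
    av bar (n * h * n⁻¹) (bv y) = c • bv y := by
  have key : av bar (n * h * n⁻¹) (av bar n (bv y₀)) = c • av bar n (bv y₀) := by
    rw [av_mul, av_mul, av_inv_av, hh, av_smul]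
  rw [hn, av_smul] at key
  calc av bar (n * h * n⁻¹) (bv y) = ρ⁻¹ • (ρ • av bar (n * h * n⁻¹) (bv y)) := by
        rw [smul_smul, inv_mul_cancel₀ hρ, one_smul]
    _ = ρ⁻¹ • (c • ρ • (bv y : Vec)) := by rw [key]
    _ = c • bv y := by
        rw [smul_smul, smul_smul]
        congr 1
        field_simp

theorem isDiag_tor {h : SUk} {κ : K} (hh : IsTor bar h κ) : IsDiag bar h := by
  intro y
  rcases y with i | a | i
  · by_cases h0 : i = i0
    · exact ⟨κ, by rw [h0]; exact hh.e0⟩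
    · by_cases h1 : i = i1
      · exact ⟨κ⁻¹, by rw [h1]; exact hh.e1⟩
      · exact ⟨1, by rw [one_smul]; exact hh.e_fix i h0 h1⟩
  · exact ⟨1, by rw [one_smul]; exact hh.w_fix a⟩
  · by_cases h0 : i = i0
    · exact ⟨(bar κ)⁻¹, by rw [h0]; exact hh.f0⟩
    · by_cases h1 : i = i1
      · exact ⟨bar κ, by rw [h1]; exact hh.f1⟩
      · exact ⟨1, by rw [one_smul]; exact hh.f_fix i h0 h1⟩

theorem isDiag_conj_cox {n h : SUk} {μ ν : K} (hn : IsCox bar n μ ν) (hh : IsDiag bar h) :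
    IsDiag bar (n * h * n⁻¹) := by
  intro y
  rcases y with j | a | j
  · by_cases hj : j.val = 0
    · obtain ⟨c, hc⟩ := hh (fI il)
      have hj0 : j = i0 := Fin.ext hj
      refine ⟨c, conj_diag_apply bar n h hn.hν ?_ hc⟩
      rw [hj0]
      exact hn.f_last
    · have hlt : j.val - 1 + 1 < m + 2 := by have := j.2; omega
      obtain ⟨c, hc⟩ := hh (eI ⟨j.val - 1, by have := j.2; omega⟩)
      refine ⟨c, conj_diag_apply bar n h (one_ne_zero) ?_ hc⟩
      rw [one_smul]
      have h1 := hn.e_succ ⟨j.val - 1, by have := j.2; omega⟩ hlt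
      have h2 : (⟨j.val - 1 + 1, hlt⟩ : Fin (m + 2)) = j := Fin.ext (by show j.val - 1 + 1 = j.val; omega)
      rw [h2] at h1
      exact h1
  · obtain ⟨c, hc⟩ := hh (wI a)
    refine ⟨c, conj_diag_apply bar n h (one_ne_zero) ?_ hc⟩
    rw [one_smul]
    exact hn.w_fix a
  · by_cases hj : j.val = 0
    · obtain ⟨c, hc⟩ := hh (eI il)
      have hj0 : j = i0 := Fin.ext hj
      refine ⟨c, conj_diag_apply bar n h hn.hμ ?_ hc⟩
      rw [hj0]
      exact hn.e_last
    · have hlt : j.val - 1 + 1 < m + 2 := by have := j.2; omega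
      obtain ⟨c, hc⟩ := hh (fI ⟨j.val - 1, by have := j.2; omega⟩)
      refine ⟨c, conj_diag_apply bar n h (one_ne_zero) ?_ hc⟩
      rw [one_smul]
      have h1 := hn.f_succ ⟨j.val - 1, by have := j.2; omega⟩ hlt
      have h2 : (⟨j.val - 1 + 1, hlt⟩ : Fin (m + 2)) = j := Fin.ext (by show j.val - 1 + 1 = j.val; omega)
      rw [h2] at h1
      exact h1

theorem i1_ne_i0' : (i1 : Fin (m + 2)) ≠ i0 := by
  intro h
  have := congrArg Fin.val h
  simp [i1, i0] at this

theorem hf_vE0_vE0' : hf bar (vE i0 : Vec) (vE i0) = 0 := hf_bv_ee bar _ _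

theorem hf_smul_vF1_vE0 (t : K) : hf bar (t • (vF i1 : Vec)) (vE i0) = 0 := by
  unfold vF vE
  rw [hf_smul_left, hf_bv_fe, if_neg i1_ne_i0', mul_zero]

theorem hf_smul_vF1_smul_vF1 (s t : K) : hf bar (t • (vF i1 : Vec)) (s • vF i1) = 0 := by
  unfold vF
  rw [hf_smul_left, hf_smul_right, hf_bv_ff, mul_zero, mul_zero]

section hb

include hb

/-- the root elements `E(e_0, t f_1, 0)` as group elements -/
def rr (t : K) : SUk :=
  eich bar hb (vE i0) (t • vF i1) 0 (hf_vE0_vE0' bar) (hf_smul_vF1_vE0 bar t)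
    (by rw [hf_smul_vF1_smul_vF1, map_zero, add_zero, add_zero])

theorem mt_rr (t : K) : mt bar (rr (m := m) (r := r) bar hb t) = eichM bar (vE i0) (t • vF i1) 0 := rfl

theorem rr_add (s t : K) : rr (m := m) (r := r) bar hb s * rr bar hb t = rr bar hb (s + t) := by
  apply mt_injective
  rw [mt_mul, mt_rr, mt_rr, mt_rr,
    eichM_mul bar hb 0 0 (hf_vE0_vE0' bar) (hf_smul_vF1_vE0 bar s) (hf_smul_vF1_vE0 bar t),
    hf_smul_vF1_smul_vF1, add_smul, add_zero, sub_zero]

/-- conjugation of the root elements by an element acting diagonally on `e_0` and `f_1` -/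
theorem conj_rr (g : SUk) {α γ : K} (he : av bar g (vE i0) = α • vE i0) (hf' : av bar g (vF i1) = γ • vF i1)
    (t : K) : g * rr bar hb t * g⁻¹ = rr bar hb (bar α * γ * t) := by
  apply mt_injective
  rw [mt_mul, mt_mul, mt_rr, mt_rr, conj_eichM bar (isU_mt bar g) (mt_mul_inv bar g)]
  have e1 : mt bar g *ᵥ (vE i0 : Vec) = α • vE i0 := he
  have e2 : mt bar g *ᵥ (t • (vF i1 : Vec)) = t • γ • vF i1 := by
    rw [Matrix.mulVec_smul]
    congr 1
  rw [e1, e2, eichM_smul_left bar hb, mul_zero, smul_smul, smul_smul]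
  congr 2
  ring

/-- (E1) -/
theorem e1_piece {n h x : SUk} {μ ν κ : K} (hn : IsCox bar n μ ν) (hh : IsTor bar h κ) (hκ0 : κ ≠ 0)
    (hκ2 : κ * κ ≠ 1) (hκb : bar κ ≠ κ) (hx : mt bar x = eichM bar (vE i0) (vF i1) 0)
    (L : Subgroup SUk) (hhL : h ∈ L) (hbL : x * n ∈ L) :
    ∃ c₂ : K, c₂ ≠ 0 ∧ HasM bar L (eichM bar (vE i0) (c₂ • vF i1) 0) := by
  have hbκ : bar κ ≠ 0 := fun h0 => hκ0 (by rw [← hb κ, h0, map_zero])
  have hbinj : ∀ {a b : K}, bar a = bar b → a = b := by
    intro a b hab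
    rw [← hb a, hab, hb]
  -- `x = r 1`
  have hx1 : x = rr bar hb 1 := by
    apply mt_injective
    rw [hx, mt_rr, one_smul]
  -- the conjugate `h' = n h n⁻¹`
  have hd : IsDiag bar h := isDiag_tor bar hh
  have hd' : IsDiag bar (n * h * n⁻¹) := isDiag_conj_cox bar hn hd
  have hcomm : h * (n * h * n⁻¹) = (n * h * n⁻¹) * h := hd.comm bar hd'
  -- the eigenvalue of `h'` on `f_1`
  have hf1 : av bar (n * h * n⁻¹) (vF i1) = (bar κ)⁻¹ • vF i1 := by
    have h1 := hn.f_succ i0 (by show 0 + 1 < m + 2; omega)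
    have h2 : (⟨(i0 : Fin (m + 2)).val + 1, by show 0 + 1 < m + 2; omega⟩ : Fin (m + 2)) = i1 := Fin.ext rfl
    rw [h2] at h1
    exact conj_diag_apply bar n h (one_ne_zero) (by rw [one_smul]; exact h1) hh.f0
  -- the eigenvalue `χ` of `h'` on `e_0`
  obtain ⟨χ, hχe, hχ⟩ : ∃ χ : K, av bar (n * h * n⁻¹) (vE i0) = χ • vE i0 ∧ bar χ ≠ bar κ := by
    by_cases hm : m = 0
    · refine ⟨bar κ, ?_, ?_⟩
      · have hil : (il : Fin (m + 2)) = i1 := Fin.ext (by show m + 1 = 1; omega)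
        have h1 := hn.f_last
        rw [hil] at h1
        exact conj_diag_apply bar n h hn.hν h1 hh.f1
      · rw [hb]
        exact fun h' => hκb h'.symm
    · refine ⟨1, ?_, ?_⟩
      · have hil0 : (il : Fin (m + 2)) ≠ i0 := by
          intro h'
          have := congrArg Fin.val h'
          simp [il, i0] at this
        have hil1 : (il : Fin (m + 2)) ≠ i1 := by
          intro h'
          have := congrArg Fin.val h'
          simp [il, i1] at this
          omega
        have h2 : av bar h (vF il) = (1 : K) • vF il := by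
          rw [one_smul]
          exact hh.f_fix il hil0 hil1
        exact conj_diag_apply bar n h hn.hν hn.f_last h2
      · rw [map_one]
        intro h'
        apply hκ2
        have : κ = 1 := hbinj (by rw [map_one]; exact h'.symm)
        rw [this, mul_one]
  -- the commutator
  have key := comm_root (rr (m := m) (r := r) bar hb) h (n * h * n⁻¹) (bar κ * bar κ) (bar χ * (bar κ)⁻¹)
    (rr_add bar hb)
    (fun t => by rw [conj_rr bar hb h hh.e0 hh.f1 t])
    (fun t => by rw [conj_rr bar hb (n * h * n⁻¹) hχe hf1 t])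
    hcomm
  refine ⟨bar κ * bar κ + bar χ * (bar κ)⁻¹ * (1 - bar κ * bar κ) - 1, ?_, ?_⟩
  · have e : bar κ * bar κ + bar χ * (bar κ)⁻¹ * (1 - bar κ * bar κ) - 1 =
        (bar κ * bar κ - 1) * (1 - bar χ * (bar κ)⁻¹) := by ring
    rw [e]
    apply mul_ne_zero
    · intro h'
      apply hκ2
      apply hbinj
      rw [map_mul, map_one]
      exact sub_eq_zero.1 h'
    · intro h'
      apply hχ
      have h1 : bar χ * (bar κ)⁻¹ = 1 := (sub_eq_zero.1 h').symm
      calc bar χ = bar χ * (bar κ)⁻¹ * bar κ := by rw [mul_assoc, inv_mul_cancel₀ hbκ, mul_one]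
        _ = bar κ := by rw [h1, one_mul]
  · refine ⟨h * (x * n * h * (x * n)⁻¹) * h⁻¹ * (x * n * h * (x * n)⁻¹)⁻¹, ?_, ?_⟩
    · have hb1 : x * n * h * (x * n)⁻¹ ∈ L := L.mul_mem (L.mul_mem hbL hhL) (L.inv_mem hbL)
      exact L.mul_mem (L.mul_mem (L.mul_mem hhL hb1) (L.inv_mem hhL)) (L.inv_mem hb1)
    · have e : x * n * h * (x * n)⁻¹ = rr bar hb 1 * (n * h * n⁻¹) * (rr bar hb 1)⁻¹ := by
        rw [← hx1]
        group
      rw [e, key, mt_rr]

end hb

end Cfsg.Agent.Helper87.SU2G
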