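import Mathlib
import Cfsg.Agent.Helper38.SU2G.Defs
import Cfsg.Agent.Helper84.PSULevi

/-!
# (EXH) for helper38's S2412: the torus element `diag(κ, κ⁻¹, 1, ..., 1)` exists
-/

set_option autoImplicit false
set_option linter.unusedSectionVars false

namespace Cfsg.Agent.Helper87.SU2G

open Matrix Cfsg.Agent.Helper84.PSU Cfsg.Agent.Helper38.SU2G

variable {K : Type*} [Field K] {m r : ℕ}

local notation "Vec" => (I (m + 2) r → K)
local notation "Mat" => Matrix (I (m + 2) r) (I (m + 2) r) K

variable (bar : K →+* K) (hb : ∀ x, bar (bar x) = x)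

set_option quotPrecheck false in
local notation "SUk" => ↥(SUm (m + 2) r bar)

include hb in
/-- diagonal elements of the model group -/
theorem exists_diag (a d : Fin (m + 2) → K) (h1 : ∀ i, a i * bar (d i) = 1)
    (hdet : (∏ i, a i) * (∏ i, d i) = 1) :
    ∃ h : SUk, (∀ i, av bar h (vE i) = a i • vE i) ∧ (∀ i, av bar h (vF i) = d i • vF i) ∧
      ∀ b : Fin r, av bar h (vW b) = vW b := by
  have h2 : ∀ i, d i * bar (a i) = 1 := by
    intro i
    have := congrArg bar (h1 i)
    rw [map_mul, hb, map_one] at this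
    rw [mul_comm]
    exact this
  have hAD : (Matrix.diagonal a)ᵀ * (Matrix.diagonal d).map bar = 1 := by
    rw [Matrix.diagonal_transpose, Matrix.diagonal_map (map_zero bar), Matrix.diagonal_mul_diagonal,
      ← Matrix.diagonal_one]
    congr 1
    funext i
    exact h1 i
  have hDA : (Matrix.diagonal d)ᵀ * (Matrix.diagonal a).map bar = 1 := by
    rw [Matrix.diagonal_transpose, Matrix.diagonal_map (map_zero bar), Matrix.diagonal_mul_diagonal,
      ← Matrix.diagonal_one]
    congr 1
    funext i
    exact h2 i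
  have hM : (1 : Matrix (Fin r) (Fin r) K)ᵀ * (1 : Matrix (Fin r) (Fin r) K).map bar = 1 := by
    rw [Matrix.transpose_one, one_mul]
    exact Matrix.map_one bar (map_zero bar) (map_one bar)
  have hd : (Matrix.diagonal a).det * ((1 : Matrix (Fin r) (Fin r) K).det * (Matrix.diagonal d).det) = 1 := by
    rw [Matrix.det_diagonal, Matrix.det_diagonal, Matrix.det_one, one_mul]
    exact hdet
  refine ⟨lvE bar (Matrix.diagonal a) 1 (Matrix.diagonal d) hAD hDA hM hd, ?_, ?_, ?_⟩
  · intro i
    funext x
    unfold av vE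
    rw [mt_lvE, mulVec_bv, Pi.smul_apply, bv_apply, smul_eq_mul]
    rcases x with j | b | j
    · rw [lvM_ee, Matrix.diagonal_apply]
      by_cases hji : j = i
      · rw [if_pos hji, if_pos (by rw [hji]), mul_one, hji]
      · rw [if_neg hji, if_neg (fun h' => hji (Sum.inl.inj h')), mul_zero]
    · rw [lvM_we, if_neg (by intro h'; cases h'), mul_zero]
    · rw [lvM_fe, if_neg (by intro h'; cases h'), mul_zero]
  · intro i
    funext x
    unfold av vF
    rw [mt_lvE, mulVec_bv, Pi.smul_apply, bv_apply, smul_eq_mul]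
    rcases x with j | b | j
    · rw [lvM_ef, if_neg (by intro h'; cases h'), mul_zero]
    · rw [lvM_wf, if_neg (by intro h'; cases h'), mul_zero]
    · rw [lvM_ff, Matrix.diagonal_apply]
      by_cases hji : j = i
      · rw [if_pos hji, if_pos (by rw [hji]), mul_one, hji]
      · rw [if_neg hji, if_neg (fun h' => hji (Sum.inr.inj (Sum.inr.inj h'))), mul_zero]
  · intro b
    funext x
    unfold av vW
    rw [mt_lvE, mulVec_bv, bv_apply]
    rcases x with j | c | j
    · rw [lvM_ew, if_neg (by intro h'; cases h')]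
    · rw [lvM_ww, Matrix.one_apply]
      by_cases hcb : c = b
      · rw [if_pos hcb, if_pos (by rw [hcb])]
      · rw [if_neg hcb, if_neg (fun h' => hcb (Sum.inl.inj (Sum.inr.inj h')))]
    · rw [lvM_fw, if_neg (by intro h'; cases h')]

theorem i0_ne_i1 : (i0 : Fin (m + 2)) ≠ i1 := by
  intro h
  have := congrArg Fin.val h
  simp [i1, i0] at this

include hb in
/-- (EXH) the torus element exists. -/
theorem exists_tor (κ : K) (hκ : κ ≠ 0) : ∃ h : SUk, IsTor bar h κ := by
  classical
  have hbκ : bar κ ≠ 0 := fun h0 => hκ (by rw [← hb κ, h0, map_zero])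
  obtain ⟨h, he, hf', hw⟩ := exists_diag (m := m) (r := r) bar hb
    (fun i => (if i = i0 then κ else 1) * (if i = i1 then κ⁻¹ else 1))
    (fun i => (if i = i0 then (bar κ)⁻¹ else 1) * (if i = i1 then bar κ else 1))
    (by
      intro i
      by_cases h0 : i = i0
      · have h1 : i ≠ i1 := fun h' => i0_ne_i1 (h0.symm.trans h')
        simp only [if_pos h0, if_neg h1, mul_one, map_inv₀, hb]
        exact mul_inv_cancel₀ hκ
      · by_cases h1 : i = i1
        · simp only [if_neg h0, if_pos h1, one_mul, hb]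
          exact inv_mul_cancel₀ hκ
        · simp only [if_neg h0, if_neg h1, one_mul, map_one])
    (by
      rw [Finset.prod_mul_distrib, Finset.prod_mul_distrib, Finset.prod_ite_eq' Finset.univ i0,
        Finset.prod_ite_eq' Finset.univ i1, Finset.prod_ite_eq' Finset.univ i0,
        Finset.prod_ite_eq' Finset.univ i1]
      simp only [Finset.mem_univ, if_true]
      rw [mul_inv_cancel₀ hκ, inv_mul_cancel₀ hbκ, one_mul])
  refine ⟨h, ⟨?_, ?_, ?_, ?_, ?_, ?_, hw⟩⟩
  · rw [he, if_pos rfl, if_neg i0_ne_i1, mul_one]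
  · rw [he, if_neg i0_ne_i1.symm, if_pos rfl, one_mul]
  · rw [hf', if_pos rfl, if_neg i0_ne_i1, mul_one]
  · rw [hf', if_neg i0_ne_i1.symm, if_pos rfl, one_mul]
  · intro i hi0 hi1
    rw [he, if_neg hi0, if_neg hi1, one_mul, one_smul]
  · intro i hi0 hi1
    rw [hf', if_neg hi0, if_neg hi1, one_mul, one_smul]

end Cfsg.Agent.Helper87.SU2G
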