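import Cfsg.Agent.Helper39.C320.Conc

/-!
# (C8) of S1903 (helper39): assembly of the concrete part (pure group theory + arithmetic)
-/

set_option autoImplicit false

namespace Cfsg.Agent.Helper87.C320

open Cfsg.Agent.Helper39.C320 Cfsg.Agent.Helper39.U34 Cfsg.Agent.Helper23.U34E

/-- abstract form: `H ≤ C ≤ S`, `|H| = 320`, `|S| = 960`, `C ≠ S`  ⟹  `H = C`, `|C| = 320` -/
theorem eq_of_320_960 {G : Type*} [Group G] (H C S : Subgroup G) (hHC : H ≤ C) (hCS : C ≤ S)
    (hH : Nat.card H = 320) (hS : Nat.card S = 960) (hne : C ≠ S) :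
    H = C ∧ Nat.card C = 320 := by
  have hSfin : Finite S := Nat.finite_of_card_ne_zero (by rw [hS]; norm_num)
  have hCfin : Finite C := Finite.of_injective (Subgroup.inclusion hCS)
    (Subgroup.inclusion_injective hCS)
  have h1 : Nat.card H ∣ Nat.card C := Subgroup.card_dvd_of_le hHC
  have h2 : Nat.card C ∣ Nat.card S := Subgroup.card_dvd_of_le hCS
  rw [hH] at h1
  rw [hS] at h2
  have h3 : Nat.card C ≠ 960 := by
    intro h
    apply hne
    exact Subgroup.eq_of_le_of_card_ge hCS (by rw [hS, h])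
  have hC : Nat.card C = 320 := by
    obtain ⟨m, hm⟩ := h1
    rw [hm] at h2 h3 ⊢
    have hm3 : m ∣ 3 := by
      have : 320 * m ∣ 320 * 3 := h2
      exact (Nat.mul_dvd_mul_iff_left (by norm_num)).mp this
    have hm' : m = 1 ∨ m = 3 := by
      have := (Nat.dvd_prime (by norm_num : Nat.Prime 3)).mp hm3
      exact this
    rcases hm' with rfl | rfl
    · rfl
    · exact absurd rfl h3
  exact ⟨Subgroup.eq_of_le_of_card_ge hHC (by rw [hH, hC]), hC⟩

/-- (C8) assembly of the concrete part (pure group theory + arithmetic) -/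
theorem conc_main (hrel : Rel X0 A0)
    (hge : 320 ≤ Nat.card (Subgroup.closure ({X0, A0} : Set G0)))
    (hle : Nat.card (Subgroup.closure ({X0, A0} : Set G0)) ≤ 320)
    (hstab : Nat.card Stab = 960) (hcs : Subgroup.centralizer {T0} ≤ Stab)
    (hnc : ∃ s ∈ Stab, s * T0 ≠ T0 * s) :
    Subgroup.closure ({X0, A0} : Set G0) = Subgroup.centralizer {T0} ∧
      Nat.card (Subgroup.centralizer ({T0} : Set G0)) = 320 := by
  apply eq_of_320_960 _ _ Stab _ hcs (le_antisymm hle hge) hstab
  · rintro h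
    obtain ⟨s, hs, hsT⟩ := hnc
    rw [← h, Subgroup.mem_centralizer_iff] at hs
    exact hsT (hs T0 rfl).symm
  · rw [Subgroup.closure_le]
    intro g hg
    rw [Set.mem_insert_iff, Set.mem_singleton_iff] at hg
    rw [SetLike.mem_coe, Subgroup.mem_centralizer_iff]
    intro h hh
    rw [Set.mem_singleton_iff] at hh
    subst hh
    rcases hg with rfl | rfl
    · exact hrel.sx
    · change (A0 * A0) * A0 = A0 * (A0 * A0)
      rw [mul_assoc]

end Cfsg.Agent.Helper87.C320
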