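import Mathlib

/-!
# (C9) of S1903 (helper39): transfer of centralisers along an isomorphism
-/

set_option autoImplicit false

namespace Cfsg.Agent.Helper87.C320

/-- (C9) transfer of centralisers along an isomorphism -/
theorem centralizer_equiv {A B : Type*} [Group A] [Group B] (e : A ≃* B) (t : A) :
    Nonempty (Subgroup.centralizer ({t} : Set A) ≃* Subgroup.centralizer ({e t} : Set B)) := by
  have hmap : (Subgroup.centralizer ({t} : Set A)).map e.toMonoidHom =
      Subgroup.centralizer ({e t} : Set B) := by
    ext b
    rw [Subgroup.mem_map, Subgroup.mem_centralizer_iff]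
    constructor
    · rintro ⟨a, ha, rfl⟩ h hh
      rw [Set.mem_singleton_iff] at hh
      subst hh
      rw [Subgroup.mem_centralizer_iff] at ha
      have := ha t rfl
      change e t * e a = e a * e t
      rw [← map_mul, ← map_mul, this]
    · intro hb
      refine ⟨e.symm b, ?_, ?_⟩
      · rw [Subgroup.mem_centralizer_iff]
        intro h hh
        rw [Set.mem_singleton_iff] at hh
        subst hh
        apply e.injective
        rw [map_mul, map_mul, e.apply_symm_apply]
        exact hb (e h) rfl
      · exact e.apply_symm_apply b
  exact ⟨(e.subgroupMap (Subgroup.centralizer ({t} : Set A))).trans (MulEquiv.subgroupCongr hmap)⟩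

end Cfsg.Agent.Helper87.C320
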