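import Cfsg.Agent.Helper43.Cov2.P7Defs

/-!
# (CONJ) for helper41's sub-farm (U6) of helper43's S2500 part 7: `NormCubic` is invariant under conjugation by
similitudes of the symplectic form
-/

set_option autoImplicit false
set_option linter.unusedVariables false

namespace Cfsg.Agent.Helper87.Cov2.P7

open Matrix Cfsg.Agent.Helper43.Cov2.P7

variable {F : Type*} [Field F]

/-- conjugation `k ↦ s k s⁻¹` as an algebra homomorphism -/
def CONJ_hom (s si : M6 F) (hs : s * si = 1) : M6 F →ₐ[F] M6 F where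
  toFun k := s * k * si
  map_one' := by rw [mul_one, hs]
  map_mul' a b := by
    have hsi : si * s = 1 := mul_eq_one_comm.mp hs
    calc s * (a * b) * si = s * a * (1 * b) * si := by rw [one_mul]; simp only [mul_assoc]
      _ = s * a * (si * s * b) * si := by rw [hsi]
      _ = s * a * si * (s * b * si) := by simp only [mul_assoc]
  map_zero' := by rw [mul_zero, zero_mul]
  map_add' a b := by rw [mul_add, add_mul]
  commutes' r := by
    rw [← Algebra.commutes r s, mul_assoc, hs, mul_one]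

theorem CONJ_hom_apply (s si : M6 F) (hs : s * si = 1) (k : M6 F) :
    CONJ_hom s si hs k = s * k * si := rfl

theorem CONJ_hom_injective (s si : M6 F) (hs : s * si = 1) : Function.Injective (CONJ_hom s si hs) := by
  have hsi : si * s = 1 := mul_eq_one_comm.mp hs
  intro a b hab
  rw [CONJ_hom_apply, CONJ_hom_apply] at hab
  have : si * (s * a * si) * s = si * (s * b * si) * s := by rw [hab]
  calc a = (si * s) * a * (si * s) := by rw [hsi, one_mul, mul_one]
    _ = si * (s * a * si) * s := by simp only [mul_assoc]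
    _ = si * (s * b * si) * s := this
    _ = (si * s) * b * (si * s) := by simp only [mul_assoc]
    _ = b := by rw [hsi, one_mul, mul_one]

/-- (CONJ) `NormCubic` is invariant under conjugation by similitudes -/
theorem normCubic_conj {g s si : M6 F} {c : F} (hc : c ≠ 0) (hs : s * si = 1)
    (hsim : ∀ x y : V6 F, Cfsg.sympForm 3 F (s *ᵥ x) (s *ᵥ y) = c * Cfsg.sympForm 3 F x y)
    (h : NormCubic g) : NormCubic (s * g * si) := by
  have hsi : si * s = 1 := mul_eq_one_comm.mp hs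
  obtain ⟨K, ⟨hKf, hKsa⟩, hKn⟩ := h
  set φ := CONJ_hom s si hs with hφ
  refine ⟨K.map φ, ⟨⟨?_, ?_, ?_⟩, ?_⟩, ?_⟩
  · -- commutative
    rintro x hx y hy
    obtain ⟨a, ha, rfl⟩ := Subalgebra.mem_map.1 hx
    obtain ⟨b, hb, rfl⟩ := Subalgebra.mem_map.1 hy
    rw [← map_mul, ← map_mul, hKf.comm a ha b hb]
  · -- inverses
    rintro x hx hx0
    obtain ⟨a, ha, rfl⟩ := Subalgebra.mem_map.1 hx
    have ha0 : a ≠ 0 := by
      rintro rfl
      exact hx0 (map_zero φ)
    obtain ⟨b, hb, hab⟩ := hKf.inv a ha ha0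
    exact ⟨φ b, Subalgebra.mem_map.2 ⟨b, hb, rfl⟩, by rw [← map_mul, hab, map_one]⟩
  · -- dimension
    have h3 := hKf.finrank_eq
    have h4 := LinearEquiv.finrank_eq
      (Subalgebra.equivMapOfInjective K φ (CONJ_hom_injective s si hs)).toLinearEquiv
    rw [← h4]
    exact h3
  · -- self-adjoint
    intro x hx u v
    obtain ⟨k, hk, rfl⟩ := Subalgebra.mem_map.1 hx
    have hu : s *ᵥ (si *ᵥ u) = u := by rw [Matrix.mulVec_mulVec, hs, Matrix.one_mulVec]
    have hv : s *ᵥ (si *ᵥ v) = v := by rw [Matrix.mulVec_mulVec, hs, Matrix.one_mulVec]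
    have e1 : (φ k) *ᵥ u = s *ᵥ (k *ᵥ (si *ᵥ u)) := by
      rw [hφ, CONJ_hom_apply, Matrix.mulVec_mulVec, Matrix.mulVec_mulVec, mul_assoc]
    have e2 : (φ k) *ᵥ v = s *ᵥ (k *ᵥ (si *ᵥ v)) := by
      rw [hφ, CONJ_hom_apply, Matrix.mulVec_mulVec, Matrix.mulVec_mulVec, mul_assoc]
    calc Cfsg.sympForm 3 F ((φ k) *ᵥ u) v
        = Cfsg.sympForm 3 F (s *ᵥ (k *ᵥ (si *ᵥ u))) (s *ᵥ (si *ᵥ v)) := by rw [e1, hv]
      _ = c * Cfsg.sympForm 3 F (k *ᵥ (si *ᵥ u)) (si *ᵥ v) := hsim _ _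
      _ = c * Cfsg.sympForm 3 F (si *ᵥ u) (k *ᵥ (si *ᵥ v)) := by rw [hKsa k hk]
      _ = Cfsg.sympForm 3 F (s *ᵥ (si *ᵥ u)) (s *ᵥ (k *ᵥ (si *ᵥ v))) := (hsim _ _).symm
      _ = Cfsg.sympForm 3 F u ((φ k) *ᵥ v) := by rw [e2, hu]
  · -- normalising
    intro x hx
    obtain ⟨k, hk, rfl⟩ := Subalgebra.mem_map.1 hx
    obtain ⟨k', hk', hgk⟩ := hKn k hk
    refine ⟨φ k', Subalgebra.mem_map.2 ⟨k', hk', rfl⟩, ?_⟩
    rw [hφ, CONJ_hom_apply, CONJ_hom_apply]
    calc s * g * si * (s * k * si) = s * g * (si * s) * k * si := by simp only [mul_assoc]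
      _ = s * (g * k) * si := by rw [hsi, mul_one]; simp only [mul_assoc]
      _ = s * (k' * g) * si := by rw [hgk]
      _ = s * k' * (si * s) * g * si := by rw [hsi, mul_one]; simp only [mul_assoc]
      _ = s * k' * si * (s * g * si) := by simp only [mul_assoc]

end Cfsg.Agent.Helper87.Cov2.P7
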