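import Cfsg.Agent.Helper43.Cov2.P7Defs
import Cfsg.Agent.Helper43.RegNilpConj

/-!
# (REG) for helper41's sub-farm (U6) of helper43's S2500 part 7: a `6 × 6` matrix with `N⁶ = 0 ≠ N⁵` is a regular
nilpotent
-/

set_option autoImplicit false
set_option linter.unusedVariables false

namespace Cfsg.Agent.Helper87.Cov2.P7

open Matrix Cfsg.Agent.Helper43.Cov2.P7 Cfsg.Agent.Helper43

variable {F : Type*} [Field F]

/-- (REG) nilpotent of index exactly 6 on a 6-dimensional space is regular -/
theorem isRegNilp_of_pow {N : M6 F} (h6 : N ^ 6 = 0) (h5 : N ^ 5 ≠ 0) :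
    IsRegNilp (Matrix.toLin' N) := by
  have hfin : Module.finrank F (Fin 3 ⊕ Fin 3 → F) = 6 := by
    rw [Module.finrank_fintype_fun_eq_card, Fintype.card_sum, Fintype.card_fin]
  set L : Module.End F (V6 F) := Matrix.toLin' N with hL
  have hL6 : L ^ 6 = 0 := by
    rw [hL, ← Matrix.toLin'_pow, h6, map_zero]
  have hL5 : L ^ 5 ≠ 0 := by
    rw [hL, ← Matrix.toLin'_pow]
    intro h
    apply h5
    apply Matrix.toLin'.injective
    rw [h, map_zero]
  refine ⟨by rw [hfin]; exact hL6, ?_⟩
  obtain ⟨v, hv⟩ : ∃ v, (L ^ 5) v ≠ 0 := by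
    by_contra hcon
    simp only [not_exists, not_not] at hcon
    exact hL5 (LinearMap.ext hcon)
  have hli := linearIndependent_pow_apply L 4 (L v)
    (by rw [← Module.End.mul_apply, ← pow_succ]; exact hv)
    (by rw [← Module.End.mul_apply, ← pow_succ, hL6]; rfl)
  have hmem : ∀ i : Fin (4 + 1), (L ^ (i : ℕ)) (L v) ∈ LinearMap.range L := by
    intro i
    refine ⟨(L ^ (i : ℕ)) v, ?_⟩
    rw [← Module.End.mul_apply, ← Module.End.mul_apply, ← pow_succ', ← pow_succ]
  have h5le : 5 ≤ Module.finrank F (LinearMap.range L) := by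
    have h1 := finrank_span_eq_card hli
    have h2 : Submodule.span F (Set.range fun i : Fin (4 + 1) => (L ^ (i : ℕ)) (L v)) ≤
        LinearMap.range L := by
      rw [Submodule.span_le]
      rintro _ ⟨i, rfl⟩
      exact hmem i
    have h3 := Submodule.finrank_mono h2
    rw [h1] at h3
    simpa using h3
  have h1 := LinearMap.finrank_range_add_finrank_ker L
  rw [hfin] at h1
  have h7 : Module.finrank F (LinearMap.ker L) ≤ 1 := by omega
  exact h7

end Cfsg.Agent.Helper87.Cov2.P7
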