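import Cfsg.Agent.Helper43.Cov2.P7Defs
import Cfsg.Agent.Helper43.SpRegSig

/-!
# (SIM) for helper41's sub-farm (U6) of helper43's S2500 part 7: `adj s * s = c • 1` makes `s` a similitude
-/

set_option autoImplicit false
set_option linter.unusedVariables false

namespace Cfsg.Agent.Helper87.Cov2.P7

open Matrix Cfsg.Agent.Helper43.Cov2.P7 Cfsg.Agent.Helper43.SpReg Cfsg.Agent.Helper43

variable {F : Type*} [Field F]

/-- (SIM) -/
theorem sympForm_of_adj {s : M6 F} {c : F} (h : adj s * s = c • 1) (x y : V6 F) :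
    Cfsg.sympForm 3 F (s *ᵥ x) (s *ᵥ y) = c * Cfsg.sympForm 3 F x y := by
  have hJ : Matrix.J (Fin 3) F * Matrix.J (Fin 3) F = -1 := Matrix.J_squared (Fin 3) F
  have h1 : sᵀ * Matrix.J (Fin 3) F * s = c • Matrix.J (Fin 3) F := by
    have h2 : Matrix.J (Fin 3) F * (-(Matrix.J (Fin 3) F) * sᵀ * Matrix.J (Fin 3) F * s) =
        Matrix.J (Fin 3) F * (c • 1) := by
      have h3 := h
      unfold adj at h3
      rw [h3]
    calc sᵀ * Matrix.J (Fin 3) F * s
        = -(Matrix.J (Fin 3) F * Matrix.J (Fin 3) F) * sᵀ * Matrix.J (Fin 3) F * s := by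
          rw [hJ, neg_neg, one_mul]
      _ = Matrix.J (Fin 3) F * (-(Matrix.J (Fin 3) F) * sᵀ * Matrix.J (Fin 3) F * s) := by
          simp only [neg_mul, mul_neg, mul_assoc]
      _ = Matrix.J (Fin 3) F * (c • 1) := h2
      _ = c • Matrix.J (Fin 3) F := by rw [Matrix.mul_smul, mul_one]
  rw [Cfsg.Agent.Helper13.sympForm_mulVec, h1, Matrix.smul_mulVec, dotProduct_smul, smul_eq_mul]
  rfl

end Cfsg.Agent.Helper87.Cov2.P7
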