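import Mathlib
import Cfsg.Prelude.Def_Solvable
import Cfsg.Prelude.Def_CaseTheorems

/-!
helper87, leaf (OCPR) `oddCore_prod_eq_bot` of helper42's GD farm (#14513, target S4385).
-/

set_option autoImplicit false

universe u

namespace Cfsg.Agent.Helper87.GD

open Pointwise Cfsg

/-- (OCPR) the image in `A` of a normal subgroup of odd order is one; so `N ≤ 1 × B`, a 2-group. -/
theorem oddCore_prod_eq_bot {A B : Type*} [Group A] [Group B] [Finite A] [Finite B]
    (hA : Cfsg.oddCore A = ⊥) (hB : IsPGroup 2 B) : Cfsg.oddCore (A × B) = ⊥ := by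
  rw [eq_bot_iff]
  show Cfsg.pPrimeCore 2 (A × B) ≤ ⊥
  unfold Cfsg.pPrimeCore
  apply sSup_le
  rintro N ⟨hNn, hNc⟩
  -- the projection to `A`
  have h1 : N.map (MonoidHom.fst A B) = ⊥ := by
    rw [eq_bot_iff, ← hA]
    show N.map (MonoidHom.fst A B) ≤ Cfsg.pPrimeCore 2 A
    unfold Cfsg.pPrimeCore
    apply le_sSup
    refine ⟨hNn.map _ (fun a => ⟨(a, 1), rfl⟩), ?_⟩
    exact Nat.Coprime.coprime_dvd_left (Subgroup.card_map_dvd N (MonoidHom.fst A B)) hNc
  -- the projection to `B`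
  have h2 : N.map (MonoidHom.snd A B) = ⊥ := by
    have hP : IsPGroup 2 (N.map (MonoidHom.snd A B)) := hB.to_subgroup _
    obtain ⟨k, hk⟩ := (IsPGroup.iff_card (p := 2)).mp hP
    have hco : (Nat.card (N.map (MonoidHom.snd A B))).Coprime 2 :=
      Nat.Coprime.coprime_dvd_left (Subgroup.card_map_dvd N (MonoidHom.snd A B)) hNc
    have hk0 : k = 0 := by
      by_contra hk0
      rw [hk] at hco
      have : (2 : ℕ) ∣ 2 ^ k := dvd_pow_self 2 hk0
      have h21 : (2 : ℕ) ∣ 1 := by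
        have := Nat.Coprime.eq_one_of_dvd hco.symm this
        omega
      omega
    rw [hk0, pow_zero] at hk
    exact (Subgroup.card_eq_one).mp hk
  intro x hx
  rw [Subgroup.mem_bot]
  have hx1 : x.1 ∈ N.map (MonoidHom.fst A B) := ⟨x, hx, rfl⟩
  have hx2 : x.2 ∈ N.map (MonoidHom.snd A B) := ⟨x, hx, rfl⟩
  rw [h1, Subgroup.mem_bot] at hx1
  rw [h2, Subgroup.mem_bot] at hx2
  exact Prod.ext hx1 hx2

end Cfsg.Agent.Helper87.GD
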