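import Cfsg.Agent.Helper43.Cov2.P7Defs
import Cfsg.Agent.Helper13.SympTrans

/-!
# (U5) for helper43's S2500 part 7: no element `u` of `Sp₆(F)` has `(u - 1)⁵ = 0 ≠ (u - 1)⁴`

`β(x, y) := B(x, N⁴ y)` (`N = u - 1`) is alternating when `N⁵ = 0` and `2 ≠ 0`.  If `N⁴ ≠ 0` there are `x`, `y` with
`β(x, y) ≠ 0`; then `N⁴ x`, `N⁴ y` are independent and the seven vectors `x, N x, N² x, N³ x, N⁴ x, N³ y, N⁴ y` are
linearly independent in a space of dimension six.
-/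

set_option autoImplicit false
set_option linter.unusedVariables false

namespace Cfsg.Agent.Helper87.Cov2.P7

open Matrix Cfsg.Agent.Helper43.Cov2.P7 Cfsg.Agent.Helper13

variable {F : Type*} [Field F]

theorem U5_inv (u : Sp6 F) (x y : V6 F) :
    Cfsg.sympForm 3 F ((u : M6 F) *ᵥ x) ((u : M6 F) *ᵥ y) = Cfsg.sympForm 3 F x y :=
  (mem_symplecticGroup_iff_preserves (u : M6 F)).1 u.2 x y

theorem U5_adj (u : Sp6 F) (a b : V6 F) :
    Cfsg.sympForm 3 F a (((u : M6 F) - 1) *ᵥ b) =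
      - Cfsg.sympForm 3 F (((u : M6 F) - 1) *ᵥ a) ((u : M6 F) *ᵥ b) := by
  rw [Matrix.sub_mulVec, Matrix.sub_mulVec, Matrix.one_mulVec, Matrix.one_mulVec,
    sympForm_sub_right, sympForm_sub_left, U5_inv]
  ring

theorem U5_adj_pow (u : Sp6 F) (k : ℕ) : ∀ a b : V6 F,
    Cfsg.sympForm 3 F a ((((u : M6 F) - 1) ^ k) *ᵥ b) =
      (-1) ^ k * Cfsg.sympForm 3 F ((((u : M6 F) - 1) ^ k) *ᵥ a) (((u : M6 F) ^ k) *ᵥ b) := by
  induction k with
  | zero => intro a b; simp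
  | succ k ih =>
    intro a b
    have hcomm : (u : M6 F) * ((u : M6 F) - 1) ^ k = ((u : M6 F) - 1) ^ k * (u : M6 F) :=
      (((Commute.refl (u : M6 F)).sub_right (Commute.one_right (u : M6 F))).pow_right k).eq
    have hc : (u : M6 F) *ᵥ ((((u : M6 F) - 1) ^ k) *ᵥ b) =
        (((u : M6 F) - 1) ^ k) *ᵥ ((u : M6 F) *ᵥ b) := by
      rw [Matrix.mulVec_mulVec, Matrix.mulVec_mulVec, hcomm]
    have e1 : (((u : M6 F) - 1) ^ (k + 1)) *ᵥ b =
        ((u : M6 F) - 1) *ᵥ ((((u : M6 F) - 1) ^ k) *ᵥ b) := by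
      rw [Matrix.mulVec_mulVec, ← pow_succ']
    have e2 : (((u : M6 F) - 1) ^ (k + 1)) *ᵥ a =
        (((u : M6 F) - 1) ^ k) *ᵥ (((u : M6 F) - 1) *ᵥ a) := by
      rw [Matrix.mulVec_mulVec, ← pow_succ]
    have e3 : ((u : M6 F) ^ (k + 1)) *ᵥ b = ((u : M6 F) ^ k) *ᵥ ((u : M6 F) *ᵥ b) := by
      rw [Matrix.mulVec_mulVec, ← pow_succ]
    rw [e1, U5_adj, hc, ih, e2, e3]
    ring

/-- `B(x, N⁴ y) = B(N⁴ x, y)` when `N⁵ = 0` -/
theorem U5_skew (u : Sp6 F) (h : ((u : M6 F) - 1) ^ 5 = 0) (x y : V6 F) :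
    Cfsg.sympForm 3 F x ((((u : M6 F) - 1) ^ 4) *ᵥ y) =
      Cfsg.sympForm 3 F ((((u : M6 F) - 1) ^ 4) *ᵥ x) y := by
  have hU4 : (u : M6 F) ^ 4 = 1 + ((u : M6 F) - 1) * ((u : M6 F) ^ 3 + (u : M6 F) ^ 2 + (u : M6 F) + 1) := by
    noncomm_ring
  have e1 : ((u : M6 F) ^ 4) *ᵥ y = y + ((u : M6 F) - 1) *ᵥ
      (((u : M6 F) ^ 3 + (u : M6 F) ^ 2 + (u : M6 F) + 1) *ᵥ y) := by
    rw [hU4, Matrix.add_mulVec, Matrix.one_mulVec, Matrix.mulVec_mulVec]
  have e2 : ((u : M6 F) - 1) *ᵥ ((((u : M6 F) - 1) ^ 4) *ᵥ x) = 0 := by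
    rw [Matrix.mulVec_mulVec, ← pow_succ', h, Matrix.zero_mulVec]
  rw [U5_adj_pow u 4 x y, e1, sympForm_add_right, U5_adj, e2, sympForm_zero_left]
  ring

/-- `B(z, N⁴ z) = 0` when `N⁵ = 0` and `2 ≠ 0` -/
theorem U5_alt (h2 : (2 : F) ≠ 0) (u : Sp6 F) (h : ((u : M6 F) - 1) ^ 5 = 0) (z : V6 F) :
    Cfsg.sympForm 3 F z ((((u : M6 F) - 1) ^ 4) *ᵥ z) = 0 := by
  have h1 := U5_skew u h z z
  rw [sympForm_swap ((((u : M6 F) - 1) ^ 4) *ᵥ z) z] at h1
  have h3 : (2 : F) * Cfsg.sympForm 3 F z ((((u : M6 F) - 1) ^ 4) *ᵥ z) = 0 := by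
    linear_combination h1
  exact (mul_eq_zero.1 h3).resolve_left h2

/-- (U5) -/
theorem not_pow_five (h2 : (2 : F) ≠ 0) (u : Sp6 F) (h : ((u : M6 F) - 1) ^ 5 = 0)
    (h4 : ((u : M6 F) - 1) ^ 4 ≠ 0) : False := by
  set N : M6 F := (u : M6 F) - 1 with hN
  -- a vector not killed by `N⁴`
  obtain ⟨y, hy⟩ : ∃ y : V6 F, (N ^ 4) *ᵥ y ≠ 0 := by
    by_contra hcon
    simp only [not_exists, not_not] at hcon
    apply h4
    ext i j
    have := congrFun (hcon (Pi.single j 1)) i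
    simpa using this
  obtain ⟨x, hxy⟩ := sympForm_nondeg_left hy
  have hxx := U5_alt h2 u h x
  have hyy := U5_alt h2 u h y
  have hyx : Cfsg.sympForm 3 F y ((N ^ 4) *ᵥ x) ≠ 0 := by
    rw [hN, U5_skew u h y x, sympForm_swap]
    exact neg_ne_zero.2 hxy
  -- independence of `N⁴ x`, `N⁴ y`
  have hind : ∀ a b : F, a • ((N ^ 4) *ᵥ x) + b • ((N ^ 4) *ᵥ y) = 0 → a = 0 ∧ b = 0 := by
    intro a b hab
    constructor
    · have := congrArg (fun t => Cfsg.sympForm 3 F y t) hab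
      simp only [sympForm_add_right, sympForm_smul_right, sympForm_zero_right] at this
      rw [hyy, mul_zero, add_zero] at this
      exact (mul_eq_zero.1 this).resolve_right hyx
    · have := congrArg (fun t => Cfsg.sympForm 3 F x t) hab
      simp only [sympForm_add_right, sympForm_smul_right, sympForm_zero_right] at this
      rw [hxx, mul_zero, zero_add] at this
      exact (mul_eq_zero.1 this).resolve_right hxy
  have hx4 : (N ^ 4) *ᵥ x ≠ 0 := by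
    intro h0
    rw [h0] at hyx
    simp at hyx
  have hpow : ∀ (i j : ℕ) (z : V6 F), (N ^ i) *ᵥ ((N ^ j) *ᵥ z) = (N ^ (i + j)) *ᵥ z := by
    intro i j z
    rw [Matrix.mulVec_mulVec, ← pow_add]
  have hbig : ∀ (j : ℕ) (z : V6 F), 5 ≤ j → (N ^ j) *ᵥ z = 0 := by
    intro j z hj
    obtain ⟨k, rfl⟩ := Nat.exists_eq_add_of_le hj
    rw [pow_add, h, zero_mul, Matrix.zero_mulVec]
  -- the seven vectors
  let f : Fin 7 → V6 F := ![(N ^ 0) *ᵥ x, (N ^ 1) *ᵥ x, (N ^ 2) *ᵥ x, (N ^ 3) *ᵥ x, (N ^ 4) *ᵥ x,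
    (N ^ 3) *ᵥ y, (N ^ 4) *ᵥ y]
  have hli : LinearIndependent F f := by
    rw [Fintype.linearIndependent_iff]
    intro g hg
    have R : g 0 • ((N ^ 0) *ᵥ x) + g 1 • ((N ^ 1) *ᵥ x) + g 2 • ((N ^ 2) *ᵥ x) + g 3 • ((N ^ 3) *ᵥ x)
        + g 4 • ((N ^ 4) *ᵥ x) + g 5 • ((N ^ 3) *ᵥ y) + g 6 • ((N ^ 4) *ᵥ y) = 0 := by
      rw [← hg]
      simp [Fin.sum_univ_succ, f]
      abel
    have ap : ∀ k : ℕ, g 0 • ((N ^ (k + 0)) *ᵥ x) + g 1 • ((N ^ (k + 1)) *ᵥ x)
        + g 2 • ((N ^ (k + 2)) *ᵥ x) + g 3 • ((N ^ (k + 3)) *ᵥ x)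
        + g 4 • ((N ^ (k + 4)) *ᵥ x) + g 5 • ((N ^ (k + 3)) *ᵥ y) + g 6 • ((N ^ (k + 4)) *ᵥ y) = 0 := by
      intro k
      have := congrArg (fun t => (N ^ k) *ᵥ t) R
      simpa only [Matrix.mulVec_add, Matrix.mulVec_smul, hpow, Matrix.mulVec_zero] using this
    have z0 : g 0 = 0 := by
      have := ap 4
      rw [hbig (4 + 1) x (by norm_num), hbig (4 + 2) x (by norm_num), hbig (4 + 3) x (by norm_num),
        hbig (4 + 4) x (by norm_num), hbig (4 + 3) y (by norm_num), hbig (4 + 4) y (by norm_num)] at this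
      simp only [smul_zero, add_zero] at this
      exact (smul_eq_zero.1 this).resolve_right hx4
    have z1 : g 1 = 0 := by
      have := ap 3
      rw [hbig (3 + 2) x (by norm_num), hbig (3 + 3) x (by norm_num),
        hbig (3 + 4) x (by norm_num), hbig (3 + 3) y (by norm_num), hbig (3 + 4) y (by norm_num), z0] at this
      simp only [smul_zero, add_zero, zero_smul, zero_add] at this
      exact (smul_eq_zero.1 this).resolve_right hx4
    have z2 : g 2 = 0 := by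
      have := ap 2
      rw [hbig (2 + 3) x (by norm_num),
        hbig (2 + 4) x (by norm_num), hbig (2 + 3) y (by norm_num), hbig (2 + 4) y (by norm_num), z0, z1] at this
      simp only [smul_zero, add_zero, zero_smul, zero_add] at this
      exact (smul_eq_zero.1 this).resolve_right hx4
    have z35 : g 3 = 0 ∧ g 5 = 0 := by
      have := ap 1
      rw [hbig (1 + 4) x (by norm_num), hbig (1 + 4) y (by norm_num), z0, z1, z2] at this
      simp only [smul_zero, add_zero, zero_smul, zero_add] at this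
      exact hind _ _ this
    have z46 : g 4 = 0 ∧ g 6 = 0 := by
      have := ap 0
      rw [z0, z1, z2, z35.1, z35.2] at this
      simp only [add_zero, zero_smul, zero_add] at this
      exact hind _ _ this
    intro i
    fin_cases i
    · exact z0
    · exact z1
    · exact z2
    · exact z35.1
    · exact z46.1
    · exact z35.2
    · exact z46.2
  have hle := hli.fintype_card_le_finrank
  simp at hle

end Cfsg.Agent.Helper87.Cov2.P7
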