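import Cfsg.Agent.Helper43.Cov2.P7Defs

/-!
# (UN) for helper43's S2500 part 7: a unipotent element of `Sp₆(3^a)` is nilpotent of index at most 6
-/

set_option autoImplicit false
set_option linter.style.haveILetI false
set_option linter.unusedVariables false

namespace Cfsg.Agent.Helper87.Cov2.P7

open Matrix Cfsg.Agent.Helper43.Cov2.P7

variable {F : Type*} [Field F]

theorem UN_char_three [Fintype F] (a : ℕ) (ha : 1 ≤ a) (hF : Fintype.card F = 3 ^ a) : CharP F 3 := by
  obtain ⟨p, hp⟩ := CharP.exists F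
  haveI := hp
  haveI : Fact p.Prime := ⟨CharP.char_is_prime F p⟩
  have h1 : p ∣ Fintype.card F := by
    have : ((Fintype.card F : ℕ) : F) = 0 := Nat.cast_card_eq_zero F
    exact (CharP.cast_eq_zero_iff F p _).1 this
  rw [hF] at h1
  have h2 : p ∣ 3 := (Fact.out : p.Prime).dvd_of_dvd_pow h1
  have h3 : p = 3 := (Nat.prime_dvd_prime_iff_eq Fact.out Nat.prime_three).1 h2
  exact h3 ▸ hp

/-- a nilpotent `6 × 6` matrix over a field has sixth power zero -/
theorem UN_pow_six_of_isNilpotent (N : M6 F) (hN : IsNilpotent N) : N ^ 6 = 0 := by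
  have hc := Matrix.isNilpotent_charpoly_sub_pow_of_isNilpotent hN
  have hc' : N.charpoly = Polynomial.X ^ 6 := by
    have h0 := hc.eq_zero
    have hcard : Fintype.card (Fin 3 ⊕ Fin 3) = 6 := by simp
    rw [hcard] at h0
    exact sub_eq_zero.1 h0
  have h1 := Matrix.aeval_self_charpoly N
  rw [hc'] at h1
  simpa using h1

/-- (UN) a unipotent element is nilpotent of index at most 6 -/
theorem pow_six_eq_zero [Fintype F] (a : ℕ) (ha : 1 ≤ a) (hF : Fintype.card F = 3 ^ a) (u : Sp6 F)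
    (e : ℕ) (hu : u ^ (3 ^ e) = 1) : ((u : M6 F) - 1) ^ 6 = 0 := by
  haveI : CharP F 3 := UN_char_three a ha hF
  haveI : Fact (Nat.Prime 3) := ⟨Nat.prime_three⟩
  haveI : CharP (M6 F) 3 := Matrix.charP 3
  have h2 : (u : M6 F) ^ (3 ^ e) = 1 := by
    have := congrArg (fun g : Sp6 F => (g : M6 F)) hu
    simpa using this
  have h1 : ((u : M6 F) - 1) ^ (3 ^ e) = 0 := by
    rw [sub_pow_char_pow_of_commute 3 e (Commute.one_right _), one_pow, h2, sub_self]
  exact UN_pow_six_of_isNilpotent _ ⟨3 ^ e, h1⟩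

end Cfsg.Agent.Helper87.Cov2.P7
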