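import Mathlib
import Cfsg.Agent.Helper43.XS.Defs

/-!
# (L2) for helper43's S6002: any two Clifford frames are conjugate in `GL_4(F)` (Skolem–Noether)

`exists_conj_frames_of_li` takes (L1) (linear independence of the sixteen products) as hypotheses
for both frames.
-/

set_option autoImplicit false
set_option linter.unusedSectionVars false
set_option linter.unusedVariables false

namespace Cfsg.Agent.Helper87.XS

open Matrix Cfsg Cfsg.Geo Cfsg.Agent.Helper43.XS Module

variable {F : Type*} [Field F]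

local notation "Mat" => Matrix (Fin 2 ⊕ Fin 2) (Fin 2 ⊕ Fin 2) F
local notation "GLn" => GL (Fin 2 ⊕ Fin 2) F
local notation "Vec" => (Fin 2 ⊕ Fin 2 → F)

/-- `s` or `1` -/
def pw (s : Mat) (a : Bool) : Mat := if a then s else 1

/-- the sign `-1` if both, else `1` -/
def sg (F : Type*) [Field F] (a b : Bool) : F := if a && b then -1 else 1

theorem comm_pw {s t : Mat} (hst : s * t = -(t * s)) (a b : Bool) :
    pw s a * pw t b = sg F a b • (pw t b * pw s a) := by
  cases a <;> cases b <;> simp [pw, sg, hst]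

theorem pw_mul_pw {s : Mat} (hs : s * s = 1) (a b : Bool) :
    pw s a * pw s b = pw s (xor a b) := by
  cases a <;> cases b <;> simp [pw, hs]

theorem reorder8 {R : Type*} [Ring R] [Algebra F R] (A0 A1 A2 A3 B0 B1 B2 B3 : R)
    (c10 c20 c30 c21 c31 c32 : F)
    (h10 : A1 * B0 = c10 • (B0 * A1)) (h20 : A2 * B0 = c20 • (B0 * A2))
    (h30 : A3 * B0 = c30 • (B0 * A3)) (h21 : A2 * B1 = c21 • (B1 * A2))
    (h31 : A3 * B1 = c31 • (B1 * A3)) (h32 : A3 * B2 = c32 • (B2 * A3)) :
    A0 * A1 * A2 * A3 * (B0 * B1 * B2 * B3) =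
      (c10 * c20 * c30 * c21 * c31 * c32) • (A0 * B0 * (A1 * B1) * (A2 * B2) * (A3 * B3)) := by
  have r10 : ∀ X, A1 * (B0 * X) = c10 • (B0 * (A1 * X)) := fun X => by
    rw [← mul_assoc, h10, smul_mul_assoc, mul_assoc]
  have r20 : ∀ X, A2 * (B0 * X) = c20 • (B0 * (A2 * X)) := fun X => by
    rw [← mul_assoc, h20, smul_mul_assoc, mul_assoc]
  have r30 : ∀ X, A3 * (B0 * X) = c30 • (B0 * (A3 * X)) := fun X => by
    rw [← mul_assoc, h30, smul_mul_assoc, mul_assoc]
  have r21 : ∀ X, A2 * (B1 * X) = c21 • (B1 * (A2 * X)) := fun X => by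
    rw [← mul_assoc, h21, smul_mul_assoc, mul_assoc]
  have r31 : ∀ X, A3 * (B1 * X) = c31 • (B1 * (A3 * X)) := fun X => by
    rw [← mul_assoc, h31, smul_mul_assoc, mul_assoc]
  have r32 : ∀ X, A3 * (B2 * X) = c32 • (B2 * (A3 * X)) := fun X => by
    rw [← mul_assoc, h32, smul_mul_assoc, mul_assoc]
  simp only [mul_assoc, r10, r20, r30, r21, r31, r32, mul_smul_comm, smul_mul_assoc, smul_smul]
  congr 1
  ring

/-- the universal sign -/
def sgn2 (F : Type*) [Field F] (w u : Fin 4 → Bool) : F :=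
  sg F (w 1) (u 0) * sg F (w 2) (u 0) * sg F (w 3) (u 0) * sg F (w 2) (u 1) * sg F (w 3) (u 1) *
    sg F (w 3) (u 2)

theorem coe_prodW (S : Fin 4 → GLn) (w : Fin 4 → Bool) :
    ((prodW S w : GLn) : Mat) =
      pw (S 0 : Mat) (w 0) * pw (S 1 : Mat) (w 1) * pw (S 2 : Mat) (w 2) * pw (S 3 : Mat) (w 3) := by
  unfold prodW pw
  simp only [Units.val_mul]
  congr 1
  · congr 1
    · congr 1
      · split_ifs <;> simp
      · split_ifs <;> simp
    · split_ifs <;> simp
  · split_ifs <;> simp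

theorem frame_sq {S : Fin 4 → GLn} (hS : IsFrame S) (i : Fin 4) :
    (S i : Mat) * (S i : Mat) = 1 := by
  rw [← Units.val_mul, hS.sq, Units.val_one]

theorem frame_anti {S : Fin 4 → GLn} (hS : IsFrame S) {i j : Fin 4} (hij : i ≠ j) :
    (S i : Mat) * (S j : Mat) = -((S j : Mat) * (S i : Mat)) := by
  rw [← Units.val_mul, hS.anti i j hij, val_neg_GL, Units.val_mul]

theorem prodW_mul_prodW {S : Fin 4 → GLn} (hS : IsFrame S) (w u : Fin 4 → Bool) :
    ((prodW S w : GLn) : Mat) * ((prodW S u : GLn) : Mat) =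
      sgn2 F w u • ((prodW S (fun i => xor (w i) (u i)) : GLn) : Mat) := by
  rw [coe_prodW, coe_prodW, coe_prodW]
  rw [reorder8 _ _ _ _ _ _ _ _ _ _ _ _ _ _
    (comm_pw (frame_anti hS (by decide : (1 : Fin 4) ≠ 0)) (w 1) (u 0))
    (comm_pw (frame_anti hS (by decide : (2 : Fin 4) ≠ 0)) (w 2) (u 0))
    (comm_pw (frame_anti hS (by decide : (3 : Fin 4) ≠ 0)) (w 3) (u 0))
    (comm_pw (frame_anti hS (by decide : (2 : Fin 4) ≠ 1)) (w 2) (u 1))
    (comm_pw (frame_anti hS (by decide : (3 : Fin 4) ≠ 1)) (w 3) (u 1))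
    (comm_pw (frame_anti hS (by decide : (3 : Fin 4) ≠ 2)) (w 3) (u 2))]
  rw [pw_mul_pw (frame_sq hS 0), pw_mul_pw (frame_sq hS 1), pw_mul_pw (frame_sq hS 2),
    pw_mul_pw (frame_sq hS 3)]
  rfl

theorem prodW_false (S : Fin 4 → GLn) : prodW S (fun _ => false) = 1 := by
  simp [prodW]

theorem prodW_single (S : Fin 4 → GLn) (i : Fin 4) :
    prodW S (fun j => decide (j = i)) = S i := by
  fin_cases i <;> simp [prodW]

theorem card_words : Fintype.card (Fin 4 → Bool) = finrank F Mat := by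
  rw [Module.finrank_matrix, Module.finrank_self]
  simp

/-- (L2) with (L1) as hypotheses -/
theorem exists_conj_frames_of_li {S S' : Fin 4 → GLn} (hS : IsFrame S) (hS' : IsFrame S')
    (hli : LinearIndependent F (fun w : Fin 4 → Bool => ((prodW S w : GLn) : Mat)))
    (hli' : LinearIndependent F (fun w : Fin 4 → Bool => ((prodW S' w : GLn) : Mat))) :
    ∃ g : GLn, ∀ i, g * S i * g⁻¹ = S' i := by
  classical
  set b : Basis (Fin 4 → Bool) F Mat := basisOfLinearIndependentOfCardEqFinrank hli card_words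
    with hb
  set b' : Basis (Fin 4 → Bool) F Mat := basisOfLinearIndependentOfCardEqFinrank hli' card_words
    with hb'
  have hbv : ∀ w, b w = ((prodW S w : GLn) : Mat) := fun w => by
    rw [hb, coe_basisOfLinearIndependentOfCardEqFinrank]
  have hbv' : ∀ w, b' w = ((prodW S' w : GLn) : Mat) := fun w => by
    rw [hb', coe_basisOfLinearIndependentOfCardEqFinrank]
  set α : Mat ≃ₗ[F] Mat := b.equiv b' (Equiv.refl _) with hαdef
  have hα : ∀ w, α ((prodW S w : GLn) : Mat) = ((prodW S' w : GLn) : Mat) := by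
    intro w
    rw [← hbv, hαdef, Basis.equiv_apply, hbv']
    rfl
  have hmul : ∀ A A' : Mat, α (A * A') = α A * α A' := by
    have hbil : (LinearMap.mul F Mat).compr₂ α.toLinearMap =
        (LinearMap.mul F Mat).compl₁₂ α.toLinearMap α.toLinearMap := by
      apply LinearMap.ext_basis b b
      intro w u
      rw [LinearMap.compr₂_apply, LinearMap.compl₁₂_apply, LinearMap.mul_apply',
        LinearMap.mul_apply', LinearEquiv.coe_coe, hbv, hbv, prodW_mul_prodW hS, map_smul, hα, hα,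
        hα, prodW_mul_prodW hS']
    intro A A'
    have h1 := LinearMap.congr_fun (LinearMap.congr_fun hbil A) A'
    rw [LinearMap.compr₂_apply, LinearMap.compl₁₂_apply, LinearMap.mul_apply',
      LinearMap.mul_apply'] at h1
    exact h1
  have hone : α 1 = 1 := by
    have := hα (fun _ => false)
    rwa [prodW_false, prodW_false, Units.val_one] at this
  set αa : Mat ≃ₐ[F] Mat := AlgEquiv.ofLinearEquiv α hone hmul with hαa
  set φ : Module.End F Vec ≃ₐ[F] Module.End F Vec :=
    (Matrix.toLinAlgEquiv' (R := F) (n := Fin 2 ⊕ Fin 2)).symm.trans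
      (αa.trans (Matrix.toLinAlgEquiv' (R := F) (n := Fin 2 ⊕ Fin 2))) with hφ
  obtain ⟨T, hT⟩ := φ.eq_linearEquivConjAlgEquiv
  -- the matrix of `T`
  set g : Mat := LinearMap.toMatrix' T.toLinearMap with hg
  set g' : Mat := LinearMap.toMatrix' T.symm.toLinearMap with hg'
  have hgg' : g * g' = 1 := by
    rw [hg, hg', ← LinearMap.toMatrix'_comp]
    have : T.toLinearMap ∘ₗ T.symm.toLinearMap = LinearMap.id := by
      ext x; simp
    rw [this, LinearMap.toMatrix'_id]
  have hg'g : g' * g = 1 := by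
    rw [hg, hg', ← LinearMap.toMatrix'_comp]
    have : T.symm.toLinearMap ∘ₗ T.toLinearMap = LinearMap.id := by
      ext x; simp
    rw [this, LinearMap.toMatrix'_id]
  have hconj : ∀ M : Mat, α M = g * M * g' := by
    intro M
    have h0 := congrArg (fun ψ : Module.End F Vec ≃ₐ[F] Module.End F Vec =>
      ψ (Matrix.toLinAlgEquiv' M)) hT
    simp only [hφ, AlgEquiv.trans_apply, AlgEquiv.symm_apply_apply,
      LinearEquiv.conjAlgEquiv_apply] at h0
    have h1 : αa M = α M := rfl
    rw [h1] at h0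
    have h2 := congrArg (Matrix.toLinAlgEquiv' (R := F) (n := Fin 2 ⊕ Fin 2)).symm h0
    rw [AlgEquiv.symm_apply_apply] at h2
    rw [h2]
    show LinearMap.toMatrix' (T.toLinearMap ∘ₗ Matrix.toLin' M ∘ₗ T.symm.toLinearMap) = _
    rw [LinearMap.toMatrix'_comp, LinearMap.toMatrix'_comp, LinearMap.toMatrix'_toLin', mul_assoc]
  refine ⟨⟨g, g', hgg', hg'g⟩, fun i => ?_⟩
  apply Units.ext
  have h3 := hα (fun j => decide (j = i))
  rw [prodW_single, prodW_single, hconj] at h3
  rw [Units.val_mul, Units.val_mul]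
  exact h3

end Cfsg.Agent.Helper87.XS
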