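import Mathlib
import Cfsg.Agent.Helper43.XS.Defs

/-!
# (CNT) for helper43's S6002: a group of order 32 containing a frame consists of the 32 signed
products.  `mem_iff_of_frame_of_li` takes (L1) as a hypothesis.
-/

set_option autoImplicit false
set_option linter.unusedSectionVars false
set_option linter.unusedVariables false

namespace Cfsg.Agent.Helper87.XS

open Matrix Cfsg Cfsg.Geo Cfsg.Agent.Helper43.XS Module

variable {F : Type*} [Field F]

local notation "Mat" => Matrix (Fin 2 ⊕ Fin 2) (Fin 2 ⊕ Fin 2) F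
local notation "GLn" => GL (Fin 2 ⊕ Fin 2) F
local notation "Vec" => (Fin 2 ⊕ Fin 2 → F)

theorem neg_one_eq_sq {S : Fin 4 → GLn} (hS : IsFrame S) :
    (-1 : GLn) = (S 0 * S 1) * (S 0 * S 1) := by
  have h01 := hS.anti 1 0 (by decide)
  have h0 := hS.sq 0
  have h1 := hS.sq 1
  calc (-1 : GLn) = -(S 0 * S 0 * (S 1 * S 1)) := by rw [h0, h1, mul_one]
    _ = S 0 * (-(S 0 * S 1)) * S 1 := by
      apply Units.ext
      simp only [val_neg_GL, Units.val_mul, mul_neg, neg_mul, mul_assoc]
    _ = S 0 * (S 1 * S 0) * S 1 := by rw [h01]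
    _ = (S 0 * S 1) * (S 0 * S 1) := by simp only [mul_assoc]

theorem prodW_mem {S : Fin 4 → GLn} (R : Subgroup GLn) (hSR : ∀ i, S i ∈ R) (w : Fin 4 → Bool) :
    prodW S w ∈ R := by
  unfold prodW
  refine R.mul_mem (R.mul_mem (R.mul_mem ?_ ?_) ?_) ?_ <;>
  · split_ifs
    · exact hSR _
    · exact R.one_mem

theorem neg_prodW_mem {S : Fin 4 → GLn} (hS : IsFrame S) (R : Subgroup GLn) (hSR : ∀ i, S i ∈ R)
    (w : Fin 4 → Bool) : -prodW S w ∈ R := by
  rw [← neg_one_mul_GL, neg_one_eq_sq hS]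
  exact R.mul_mem (R.mul_mem (R.mul_mem (hSR 0) (hSR 1)) (R.mul_mem (hSR 0) (hSR 1)))
    (prodW_mem R hSR w)

/-- (CNT) with (L1) as a hypothesis -/
theorem mem_iff_of_frame_of_li (h2 : (2 : F) ≠ 0) {S : Fin 4 → GLn} (hS : IsFrame S)
    (hli : LinearIndependent F (fun w : Fin 4 → Bool => ((prodW S w : GLn) : Mat)))
    (R : Subgroup GLn) (hSR : ∀ i, S i ∈ R) (hR5 : Nat.card R = 2 ^ 5) :
    ∀ g : GLn, g ∈ R ↔ ∃ w, g = prodW S w ∨ g = -prodW S w := by
  classical
  have hfin : Finite R := Nat.finite_of_card_ne_zero (by rw [hR5]; norm_num)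
  let f : Bool × (Fin 4 → Bool) → R := fun p =>
    if p.1 then ⟨-prodW S p.2, neg_prodW_mem hS R hSR p.2⟩ else ⟨prodW S p.2, prodW_mem R hSR p.2⟩
  have hfv : ∀ p : Bool × (Fin 4 → Bool), (((f p : R) : GLn) : Mat)
      = (if p.1 then (-1 : F) else 1) • ((prodW S p.2 : GLn) : Mat) := by
    rintro ⟨s, w⟩
    cases s <;> simp [f, val_neg_GL]
  have hne : ∀ s : Bool, (if s then (-1 : F) else 1) ≠ 0 := by
    intro s; cases s <;> simp
  have hinj : Function.Injective f := by
    rintro ⟨s, w⟩ ⟨s', w'⟩ h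
    have h1 : (((f (s, w) : R) : GLn) : Mat) = (((f (s', w') : R) : GLn) : Mat) := by rw [h]
    rw [hfv, hfv] at h1
    have hw : w = w' := hli.eq_of_smul_apply_eq_smul_apply _ _ w w' (hne s) h1
    subst hw
    have hs : s = s' := by
      by_contra hss
      have h3 : ((prodW S w : GLn) : Mat) = -((prodW S w : GLn) : Mat) := by
        cases s <;> cases s'
        · exact absurd rfl hss
        · simpa using h1
        · have := h1.symm
          simpa using this
        · exact absurd rfl hss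
      have h4 : (2 : F) • ((prodW S w : GLn) : Mat) = 0 := by
        rw [two_smul]
        nth_rewrite 1 [h3]
        exact neg_add_cancel _
      have h5 : ((prodW S w : GLn) : Mat) = 0 := by
        rcases smul_eq_zero.mp h4 with h | h
        · exact absurd h h2
        · exact h
      exact hli.ne_zero w h5
    rw [hs]
  have hcard : Nat.card R ≤ Nat.card (Bool × (Fin 4 → Bool)) := by
    rw [hR5, Nat.card_eq_fintype_card]
    simp
  have hbij := hinj.bijective_of_nat_card_le hcard
  intro g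
  constructor
  · intro hg
    obtain ⟨⟨s, w⟩, hp⟩ := hbij.2 ⟨g, hg⟩
    refine ⟨w, ?_⟩
    have h1 : ((f (s, w) : R) : GLn) = g := by rw [hp]
    cases s
    · left; rw [← h1]; rfl
    · right; rw [← h1]; rfl
  · rintro ⟨w, rfl | rfl⟩
    · exact prodW_mem R hSR w
    · exact neg_prodW_mem hS R hSR w

end Cfsg.Agent.Helper87.XS
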