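import Mathlib
import Cfsg.Agent.Helper43.XS.Defs
import Cfsg.Agent.Helper41.XSL1
import Cfsg.Agent.Helper87.XSL2
import Cfsg.Agent.Helper87.XSCNT

/-!
# (L2) and (CNT) for helper43's S6002, verbatim skeleton statements
-/

set_option autoImplicit false
set_option linter.unusedSectionVars false
set_option linter.unusedVariables false

namespace Cfsg.Agent.Helper87.XS

open Matrix Cfsg Cfsg.Geo Cfsg.Agent.Helper43.XS

variable {F : Type*} [Field F]

local notation "Mat" => Matrix (Fin 2 ⊕ Fin 2) (Fin 2 ⊕ Fin 2) F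
local notation "GLn" => GL (Fin 2 ⊕ Fin 2) F
local notation "Vec" => (Fin 2 ⊕ Fin 2 → F)

/-- (CNT) a group of order 32 containing a frame consists of the 32 signed products -/
theorem mem_iff_of_frame (h2 : (2 : F) ≠ 0) {S : Fin 4 → GLn} (hS : IsFrame S)
    (R : Subgroup GLn) (hSR : ∀ i, S i ∈ R) (hR5 : Nat.card R = 2 ^ 5) :
    ∀ g : GLn, g ∈ R ↔ ∃ w, g = prodW S w ∨ g = -prodW S w :=
  mem_iff_of_frame_of_li h2 hS (Cfsg.Agent.Helper41.XS.prodW_linearIndependent h2 hS) R hSR hR5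

/-- (L2) any two frames are conjugate in `GL_4(F)` (Skolem–Noether) -/
theorem exists_conj_frames (h2 : (2 : F) ≠ 0) {S S' : Fin 4 → GLn} (hS : IsFrame S)
    (hS' : IsFrame S') : ∃ g : GLn, ∀ i, g * S i * g⁻¹ = S' i :=
  exists_conj_frames_of_li hS hS' (Cfsg.Agent.Helper41.XS.prodW_linearIndependent h2 hS)
    (Cfsg.Agent.Helper41.XS.prodW_linearIndependent h2 hS')

end Cfsg.Agent.Helper87.XS
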