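import Mathlib
import Cfsg.Prelude.Def_Sz

/-!
Shared definitions for the `𝔏_G(Y_M)` statements S2861 / S2863: the root elements and the torus of
`SL₂(F)`.
-/

set_option autoImplicit false

namespace Cfsg.Agent.Helper87.FrakL

open Matrix

variable {F : Type*} [Field F]

/-- The upper unitriangular element `[[1, s], [0, 1]]`. -/
def uU (s : F) : SpecialLinearGroup (Fin 2) F :=
  ⟨!![1, s; 0, 1], by simp [Matrix.det_fin_two_of]⟩

/-- The lower unitriangular element `[[1, 0], [s, 1]]`. -/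
def uL (s : F) : SpecialLinearGroup (Fin 2) F :=
  ⟨!![1, 0; s, 1], by simp [Matrix.det_fin_two_of]⟩

/-- The torus element `diag(t, t⁻¹)`. -/
def hD (t : Fˣ) : SpecialLinearGroup (Fin 2) F :=
  ⟨!![(t : F), 0; 0, ((t⁻¹ : Fˣ) : F)], by simp [Matrix.det_fin_two_of]⟩

/-- `det (g - 1)` for `g ∈ SL₂(F)`, written out. -/
def detSubOne (g : SpecialLinearGroup (Fin 2) F) : F :=
  ((g : Matrix (Fin 2) (Fin 2) F) 0 0 - 1) * ((g : Matrix (Fin 2) (Fin 2) F) 1 1 - 1) -
    (g : Matrix (Fin 2) (Fin 2) F) 0 1 * (g : Matrix (Fin 2) (Fin 2) F) 1 0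

end Cfsg.Agent.Helper87.FrakL
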