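import Mathlib
import Cfsg.Agent.Helper45.OddBN.SgDefs
import Cfsg.Agent.Helper5.SuBN.Defs

/-!
# (SG2) of S2547 (helper45): the Siegel elements are commutators

`sgMat j w = 1 + A(w) - B(w) - q(w) E` with `A(w) = e_j ⊗ w`, `B(w) = (w ∘ rev) ⊗ e_J`, `E = e_j ⊗ e_J`
(`J = rev j`), `q(w) = 2⁻¹ ∑ w c w (rev c)`.  Product formula `S(v) S(v') = S(v + v')`, and
`D S(v) D = S(-v)` for `D = diag(-1 at j, J)`.  Hence `[h, ρ(-w/2)] = ρ(w)`.
-/

set_option autoImplicit false

namespace Cfsg.Agent.Helper87.OddStSG2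

open Matrix Cfsg Cfsg.Agent.Helper5.SuBN Cfsg.Agent.Helper45.OddBN

variable {F : Type*} [Field F] {n : ℕ}

/-- the pairing `∑ v c * v' (rev c)` -/
def pr (v v' : Fin n → F) : F := ∑ c, v c * v' (Fin.rev c)

/-- `w ∘ rev` -/
def wr (v : Fin n → F) : Fin n → F := fun a => v (Fin.rev a)

theorem pr_comm (v v' : Fin n → F) : pr v v' = pr v' v := by
  unfold pr
  rw [← Equiv.sum_comp (Fin.revPerm) (fun c => v' c * v (Fin.rev c))]
  apply Finset.sum_congr rfl
  intro c _
  rw [Fin.revPerm_apply, Fin.rev_rev, mul_comm]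

theorem pr_add_add (v v' : Fin n → F) :
    pr (v + v') (v + v') = pr v v + pr v' v' + 2 * pr v v' := by
  have h : pr (v + v') (v + v') = pr v v + pr v' v' + (pr v v' + pr v' v) := by
    unfold pr
    simp only [Pi.add_apply, add_mul, mul_add, Finset.sum_add_distrib]
    ring
  rw [h, pr_comm v' v]; ring

theorem sgMat_eq (j : Fin n) (w : Fin n → F) :
    sgMat j w = 1 + vecMulVec (Pi.single j 1) w - vecMulVec (wr w) (Pi.single (Fin.rev j) 1)
      - (2⁻¹ * pr w w) • vecMulVec (Pi.single j (1 : F)) (Pi.single (Fin.rev j) 1) := by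
  ext a b
  rw [sgMat_apply]
  simp only [Matrix.sub_apply, Matrix.add_apply, Matrix.one_apply, Matrix.smul_apply,
    vecMulVec_apply, Pi.single_apply, smul_eq_mul, wr, pr]
  by_cases ha : a = j <;> by_cases hb : b = Fin.rev j <;> simp [ha, hb]

section prod

variable (j : Fin n) (hj : j < Fin.rev j)

include hj

theorem single_dot_single : (Pi.single (Fin.rev j) (1 : F) : Fin n → F) ⬝ᵥ Pi.single j 1 = 0 := by
  rw [dotProduct_single, mul_one, Pi.single_apply, if_neg (ne_of_lt hj)]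

theorem sgMat_mul (v v' : Fin n → F) (hv : v j = 0) (hv' : v' j = 0) (h2 : (2 : F) ≠ 0) :
    sgMat j v * sgMat j v' = sgMat j (v + v') := by
  have hJ := single_dot_single (F := F) j hj
  have e1 : v ⬝ᵥ (Pi.single j (1 : F) : Fin n → F) = 0 := by
    rw [dotProduct_single, mul_one, hv]
  have e2 : (Pi.single (Fin.rev j) (1 : F) : Fin n → F) ⬝ᵥ wr v' = 0 := by
    rw [single_dotProduct, one_mul, wr, Fin.rev_rev, hv']
  have e3 : v ⬝ᵥ wr v' = pr v v' := rfl
  have hwr : wr (v + v') = wr v + wr v' := rfl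
  have hq : (2 : F)⁻¹ * pr (v + v') (v + v') = 2⁻¹ * pr v v + 2⁻¹ * pr v' v' + pr v v' := by
    rw [pr_add_add]; field_simp
  rw [sgMat_eq, sgMat_eq, sgMat_eq, hq, hwr, vecMulVec_add, add_vecMulVec]
  simp only [mul_add, add_mul, mul_sub, sub_mul, mul_one, one_mul, Matrix.smul_mul,
    Matrix.mul_smul, vecMulVec_mul_vecMulVec, e1, e2, e3, hJ, zero_smul, smul_zero,
    vecMulVec_zero, sub_zero, add_zero, vecMulVec_smul]
  module

end prod

/-- the diagonal entries of `h` -/
def dg (j : Fin n) : Fin n → F := fun a => if a = j ∨ a = Fin.rev j then -1 else 1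

theorem dg_mul_self (j a : Fin n) : (dg j a : F) * dg j a = 1 := by
  unfold dg; split_ifs <;> simp

theorem dg_rev (j a : Fin n) : (dg j (Fin.rev a) : F) = dg j a := by
  unfold dg
  have h1 : Fin.rev a = j ↔ a = Fin.rev j := by
    constructor
    · intro h; rw [← h, Fin.rev_rev]
    · intro h; rw [h, Fin.rev_rev]
  have h2 : Fin.rev a = Fin.rev j ↔ a = j := Fin.rev_inj
  simp only [h1, h2, or_comm]

theorem dg_of_ne (j a : Fin n) (h1 : a ≠ j) (h2 : a ≠ Fin.rev j) : (dg j a : F) = 1 := by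
  unfold dg; rw [if_neg]; push Not; exact ⟨h1, h2⟩

theorem diag_isUJ (j : Fin n) (hj : j < Fin.rev j) :
    IsUJ (RingHom.id F) (Matrix.diagonal (dg (F := F) j)) := by
  constructor
  · rw [Matrix.det_diagonal, Finset.prod_eq_mul j (Fin.rev j) (ne_of_lt hj)]
    · unfold dg; simp
    · intro c _ hc
      exact dg_of_ne j c hc.1 hc.2
    · intro h; exact absurd (Finset.mem_univ _) h
    · intro h; exact absurd (Finset.mem_univ _) h
  · intro a b
    rw [Finset.sum_eq_single a]
    · rw [Matrix.diagonal_apply_eq, RingHom.id_apply, Matrix.diagonal_apply]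
      by_cases hab : a = Fin.rev b
      · rw [if_pos hab, if_pos (by rw [hab, Fin.rev_rev]), dg_rev, dg_mul_self]
      · rw [if_neg hab, if_neg, mul_zero]
        intro h; apply hab; rw [← h, Fin.rev_rev]
    · intro i _ hi
      rw [Matrix.diagonal_apply_ne _ hi, zero_mul]
    · intro h; exact absurd (Finset.mem_univ _) h

theorem diag_conj_sgMat (j : Fin n) (hj : j < Fin.rev j) (v : Fin n → F)
    (hv1 : ∀ b : Fin n, b ≤ j → v b = 0) (hv2 : ∀ b : Fin n, Fin.rev j ≤ b → v b = 0) :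
    Matrix.diagonal (dg (F := F) j) * sgMat j v * Matrix.diagonal (dg (F := F) j) =
      sgMat j (-v) := by
  have hvj : v j = 0 := hv1 j le_rfl
  have hvJ : v (Fin.rev j) = 0 := hv2 _ le_rfl
  have hne : j ≠ Fin.rev j := ne_of_lt hj
  have hpr : pr (-v) (-v) = pr v v := by
    unfold pr; simp
  ext a b
  rw [Matrix.mul_diagonal, Matrix.diagonal_mul, sgMat_apply, sgMat_apply]
  change _ = _ - (if a = j ∧ b = Fin.rev j then 2⁻¹ * pr (-v) (-v) else 0)
  rw [hpr]
  change dg j a * (_ - (if a = j ∧ b = Fin.rev j then 2⁻¹ * pr v v else 0)) * dg j b = _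
  simp only [Pi.neg_apply]
  by_cases ha : a = j
  · subst ha
    by_cases hb : b = Fin.rev a
    · subst hb
      simp [dg, hne, hvJ, hvj]
    · by_cases hb' : b = a
      · subst hb'
        simp [dg, hne, hvj]
      · have : (dg a b : F) = 1 := dg_of_ne a b hb' hb
        simp [this, dg, hb, hb', Ne.symm hb']
  · by_cases ha' : a = Fin.rev j
    · subst ha'
      by_cases hb : b = Fin.rev j
      · subst hb
        simp [dg, ha, hvj, Fin.rev_rev]
      · simp [dg, ha, hb, Ne.symm hb]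
    · have hda : (dg j a : F) = 1 := dg_of_ne j a ha ha'
      by_cases hb : b = Fin.rev j
      · subst hb
        simp [hda, dg, ha, ha']
      · by_cases hab : a = b
        · subst hab
          simp [hda, ha, hb]
        · simp [hda, ha, hb, hab]

/-- (SG2), relative to the fact (SG1) that the Siegel matrices are special orthogonal -/
theorem sg_mem_commutator_of
    (H1 : ∀ w : Fin n → F, ∀ j : Fin n, j < Fin.rev j → (∀ b : Fin n, b ≤ j → w b = 0) →
      (∀ b : Fin n, Fin.rev j ≤ b → w b = 0) → IsUJ (RingHom.id F) (sgMat j w))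
    (h2 : (2 : F) ≠ 0) (j : Fin n) (hj : j < Fin.rev j) (w : Fin n → F)
    (hw1 : ∀ b : Fin n, b ≤ j → w b = 0) (hw2 : ∀ b : Fin n, Fin.rev j ≤ b → w b = 0)
    (r : SOJ n F) (hr : mat r = sgMat j w) : r ∈ commutator (SOJ n F) := by
  set u : Fin n → F := -((2 : F)⁻¹ • w) with hu
  have hu1 : ∀ b : Fin n, b ≤ j → u b = 0 := by
    intro b hb; simp [hu, hw1 b hb]
  have hu2 : ∀ b : Fin n, Fin.rev j ≤ b → u b = 0 := by
    intro b hb; simp [hu, hw2 b hb]
  obtain ⟨h, hh⟩ := exists_of_isUJ (diag_isUJ (F := F) j hj)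
  obtain ⟨ρ, hρ⟩ := exists_of_isUJ (H1 u j hj hu1 hu2)
  have hwu : w + u = -u := by
    funext b
    simp only [hu, Pi.add_apply, Pi.neg_apply, Pi.smul_apply, smul_eq_mul, neg_neg]
    field_simp
    ring
  have key : r * ρ * h = h * ρ := by
    apply mat_injective
    rw [mat_mul, mat_mul, mat_mul, hr, hρ, hh, sgMat_mul j hj w u (hw1 j le_rfl) (hu1 j le_rfl) h2,
      hwu, ← diag_conj_sgMat j hj u hu1 hu2, Matrix.mul_assoc, Matrix.diagonal_mul_diagonal]
    have : (fun i => dg (F := F) j i * dg j i) = fun _ => 1 := funext (dg_mul_self j)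
    rw [this, Matrix.diagonal_one, Matrix.mul_one]
  have hr' : r = h * ρ * h⁻¹ * ρ⁻¹ := by
    rw [← key]
    group
  have hmem := Subgroup.commutator_mem_commutator (Subgroup.mem_top h) (Subgroup.mem_top ρ)
  rw [commutatorElement_def, ← hr'] at hmem
  rw [commutator_def]
  exact hmem

end Cfsg.Agent.Helper87.OddStSG2
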