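import Mathlib

/-!
helper87 -> helper45 (BL3 of helper99's S2225/S2226, farm #15446), GENERIC leaves
(L) `exists_odd_two_decomp` and (M) `eq_one_of_pow_two_pow_of_odd` (Mathlib only).
-/

set_option autoImplicit false

namespace Cfsg.Agent.Helper87.Pron

/-- (L) `2`-part and odd part. -/
theorem exists_odd_two_decomp {G : Type*} [Group G] (g : G) (hg : IsOfFinOrder g) :
    ∃ (s t : ℤ) (o a : ℕ), Odd o ∧ g = g ^ s * g ^ t ∧ (g ^ s) ^ o = 1 ∧ (g ^ t) ^ (2 ^ a) = 1 := by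
  have hn : orderOf g ≠ 0 := (orderOf_pos_iff.mpr hg).ne'
  obtain ⟨a, o, ho, hno⟩ := Nat.exists_eq_two_pow_mul_odd hn
  have hcop : Nat.Coprime (2 ^ a) o := Nat.Coprime.pow_left a (Nat.coprime_two_left.mpr ho)
  have hbez : ((2 ^ a : ℕ) : ℤ) * Nat.gcdA (2 ^ a) o + (o : ℤ) * Nat.gcdB (2 ^ a) o = 1 := by
    rw [← Nat.gcd_eq_gcd_ab, hcop.gcd_eq_one, Nat.cast_one]
  have hpow : ∀ k : ℤ, g ^ (((2 ^ a * o : ℕ) : ℤ) * k) = 1 := by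
    intro k
    rw [zpow_mul, zpow_natCast, ← hno, pow_orderOf_eq_one, one_zpow]
  refine ⟨((2 ^ a : ℕ) : ℤ) * Nat.gcdA (2 ^ a) o, (o : ℤ) * Nat.gcdB (2 ^ a) o, o, a, ho, ?_, ?_, ?_⟩
  · rw [← zpow_add, hbez, zpow_one]
  · rw [← zpow_natCast, ← zpow_mul]
    have : ((2 ^ a : ℕ) : ℤ) * Nat.gcdA (2 ^ a) o * (o : ℤ) =
        ((2 ^ a * o : ℕ) : ℤ) * Nat.gcdA (2 ^ a) o := by
      push_cast; ring
    rw [this, hpow]
  · rw [← zpow_natCast, ← zpow_mul]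
    have : (o : ℤ) * Nat.gcdB (2 ^ a) o * ((2 ^ a : ℕ) : ℤ) =
        ((2 ^ a * o : ℕ) : ℤ) * Nat.gcdB (2 ^ a) o := by
      push_cast; ring
    rw [this, hpow]

/-- (M) `orderOf z ∣ gcd (2 ^ k) o = 1`. -/
theorem eq_one_of_pow_two_pow_of_odd {G : Type*} [Group G] (z : G) (k o : ℕ) (ho : Odd o)
    (h1 : z ^ (2 ^ k) = 1) (h2 : z ^ o = 1) : z = 1 := by
  have hcop : Nat.Coprime (2 ^ k) o := Nat.Coprime.pow_left k (Nat.coprime_two_left.mpr ho)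
  have h := Nat.dvd_gcd (orderOf_dvd_of_pow_eq_one h1) (orderOf_dvd_of_pow_eq_one h2)
  rw [hcop.gcd_eq_one] at h
  exact orderOf_eq_one_iff.mp (Nat.dvd_one.mp h)

end Cfsg.Agent.Helper87.Pron
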