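import Mathlib
import Cfsg.Agent.Helper45.TspDefs
import Cfsg.Agent.Helper94.TensorOrth2
import Cfsg.Agent.Helper13.SpMax1

/-!
# (MEM) for helper45's S5980: a Kronecker product of isometries of `f₁` and `f₂` is symplectic
-/

set_option autoImplicit false
open scoped MatrixGroups

namespace Cfsg.Agent.Helper87.Tsp

open Matrix Polynomial Cfsg.Geo
open Cfsg.Agent.Helper44.Tens Cfsg.Agent.Helper94 Cfsg.Agent.Helper45.Tsp
open Cfsg.Agent.Helper13
open scoped Kronecker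

universe u

variable {F : Type u} [Field F] {a b d : ℕ}

/-- (MEM) a Kronecker product of isometries of `f₁` and `f₂` is symplectic -/
theorem tconj_mem_spGL {f₁ : (Fin a → F) → (Fin a → F) → F} {f₂ : (Fin b → F) → (Fin b → F) → F}
    (hf₁ : Cfsg.Geo.IsSymplecticForm f₁) (hf₂ : Cfsg.Geo.IsSymmetricForm f₂)
    (e : (Fin d ⊕ Fin d) ≃ Fin a × Fin b) (P : GL (Fin d ⊕ Fin d) F)
    (hS : Cfsg.Geo.IsTensorFormStructure id (Cfsg.sympForm d F) f₁ f₂ e P)
    (A : GL (Fin a) F) (B : GL (Fin b) F)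
    (hA : ∀ u v : Fin a → F, f₁ ((A : Matrix (Fin a) (Fin a) F) *ᵥ u)
      ((A : Matrix (Fin a) (Fin a) F) *ᵥ v) = f₁ u v)
    (hB : ∀ u v : Fin b → F, f₂ ((B : Matrix (Fin b) (Fin b) F) *ᵥ u)
      ((B : Matrix (Fin b) (Fin b) F) *ᵥ v) = f₂ u v) :
    tconj e P (kronGL A B) ∈ Cfsg.spGL d F := by
  obtain ⟨c, -, hT⟩ := hS
  have hs₁ : IsSesq id f₁ := IsSesq.of_bilinear hf₁.bilinear
  have hs₂ : IsSesq id f₂ := IsSesq.of_bilinear hf₂.bilinear
  rw [mem_spGL_iff]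
  set g : GL (Fin d ⊕ Fin d) F := tconj e P (kronGL A B) with hg
  have hgpt : ∀ (x : Fin a → F) (y : Fin b → F),
      (g : Matrix (Fin d ⊕ Fin d) (Fin d ⊕ Fin d) F) *ᵥ tau e P (pt x y)
        = tau e P (pt ((A : Matrix (Fin a) (Fin a) F) *ᵥ x)
            ((B : Matrix (Fin b) (Fin b) F) *ᵥ y)) := by
    intro x y
    rw [hg, tconj_mulVec_tau, coe_kronGL, kronecker_mulVec_pt]
  intro u
  refine tau_induction e P (motive := fun u => ∀ v, Cfsg.sympForm d F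
      ((g : Matrix (Fin d ⊕ Fin d) (Fin d ⊕ Fin d) F) *ᵥ u)
      ((g : Matrix (Fin d ⊕ Fin d) (Fin d ⊕ Fin d) F) *ᵥ v) = Cfsg.sympForm d F u v) ?_ ?_ ?_ u
  · intro v
    rw [Matrix.mulVec_zero]
    have h0 : ∀ w : Fin d ⊕ Fin d → F, Cfsg.sympForm d F 0 w = 0 := by
      intro w
      have := sympForm_smul_left (0 : F) (0 : Fin d ⊕ Fin d → F) w
      simpa using this
    rw [h0, h0]
  · intro u₁ u₂ h₁ h₂ v
    rw [Matrix.mulVec_add, sympForm_add_left, sympForm_add_left, h₁, h₂]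
  · intro x y v
    refine tau_induction e P (motive := fun v => Cfsg.sympForm d F
      ((g : Matrix (Fin d ⊕ Fin d) (Fin d ⊕ Fin d) F) *ᵥ tau e P (pt x y))
      ((g : Matrix (Fin d ⊕ Fin d) (Fin d ⊕ Fin d) F) *ᵥ v)
        = Cfsg.sympForm d F (tau e P (pt x y)) v) ?_ ?_ ?_ v
    · rw [Matrix.mulVec_zero]
      have h0 : ∀ w : Fin d ⊕ Fin d → F, Cfsg.sympForm d F w 0 = 0 := by
        intro w
        have := sympForm_smul_right (0 : F) w (0 : Fin d ⊕ Fin d → F)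
        simpa using this
      rw [h0, h0]
    · intro v₁ v₂ h₁ h₂
      rw [Matrix.mulVec_add, sympForm_add_right, sympForm_add_right, h₁, h₂]
    · intro x' y'
      rw [hgpt, hgpt, tensorForm_pt e P (fun _ _ => rfl) hs₁ hs₂ hT,
        tensorForm_pt e P (fun _ _ => rfl) hs₁ hs₂ hT, hA, hB]

end Cfsg.Agent.Helper87.Tsp
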