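import Mathlib
import Cfsg.Prelude.Def_GeometricClasses

/-!
# (OI) for helper45's S5980: orthogonal involutions with a `(-1)`-eigenspace of any dimension
-/

set_option autoImplicit false
open scoped MatrixGroups

namespace Cfsg.Agent.Helper87.Tsp

open Matrix Polynomial Cfsg.Geo Module

universe u

variable {F : Type u} [Field F] {a b d : ℕ}

/-- (OI) orthogonal involutions with a `(-1)`-eigenspace of any dimension -/
theorem exists_orth_invol (h2 : (2 : F) ≠ 0) {f₂ : (Fin b → F) → (Fin b → F) → F}
    (hf₂ : Cfsg.Geo.IsSymmetricForm f₂) (t : ℕ) (ht : t ≤ b) :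
    ∃ B : GL (Fin b) F,
      (∀ u v : Fin b → F, f₂ ((B : Matrix (Fin b) (Fin b) F) *ᵥ u)
        ((B : Matrix (Fin b) (Fin b) F) *ᵥ v) = f₂ u v) ∧ B * B = 1 ∧
      ((B : Matrix (Fin b) (Fin b) F) + 1).rank = t := by
  classical
  have : Invertible (2 : F) := invertibleOfNonzero h2
  let Bf : LinearMap.BilinForm F (Fin b → F) :=
    LinearMap.mk₂ F f₂ hf₂.bilinear.add_left hf₂.bilinear.smul_left hf₂.bilinear.add_right
      hf₂.bilinear.smul_right
  have hBf : ∀ u v, Bf u v = f₂ u v := fun u v => rfl
  have hsymm : LinearMap.IsSymm Bf := LinearMap.isSymm_def.mpr (fun u v => by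
    rw [RingHom.id_apply, hBf, hBf]; exact hf₂.symm u v)
  obtain ⟨v₀, hv₀⟩ := LinearMap.BilinForm.exists_orthogonal_basis hsymm
  let v : Basis (Fin b) F (Fin b → F) := v₀.reindex (finCongr (Module.finrank_fin_fun F))
  have hv : ∀ i j, i ≠ j → Bf (v i) (v j) = 0 := by
    intro i j hij
    have h1 := LinearMap.isOrthoᵢ_def.mp hv₀ ((finCongr (Module.finrank_fin_fun F)).symm i)
      ((finCongr (Module.finrank_fin_fun F)).symm j)
      (fun h => hij ((finCongr (Module.finrank_fin_fun F)).symm.injective h))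
    simpa [v, Basis.reindex_apply] using h1
  let ε : Fin b → F := fun i => if (i : ℕ) < t then 1 else -1
  have hε : ∀ i, ε i * ε i = 1 := by
    intro i; simp only [ε]; split_ifs <;> simp
  let φ : (Fin b → F) →ₗ[F] (Fin b → F) := Matrix.toLin v v (Matrix.diagonal ε)
  have hφ : ∀ i, φ (v i) = ε i • v i := by
    intro i
    simp only [φ, Matrix.toLin_self]
    rw [Finset.sum_eq_single i]
    · rw [Matrix.diagonal_apply_eq]
    · intro j _ hji
      rw [Matrix.diagonal_apply_ne _ hji, zero_smul]
    · intro h; exact absurd (Finset.mem_univ i) h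
  have hφφ : φ ∘ₗ φ = LinearMap.id := by
    apply v.ext
    intro i
    rw [LinearMap.comp_apply, hφ, map_smul, hφ, smul_smul, hε, one_smul, LinearMap.id_apply]
  let M : Matrix (Fin b) (Fin b) F := LinearMap.toMatrix' φ
  have hMM : M * M = 1 := by
    rw [← LinearMap.toMatrix'_comp, hφφ, LinearMap.toMatrix'_id]
  have hMv : ∀ u, M *ᵥ u = φ u := fun u => LinearMap.toMatrix'_mulVec φ u
  refine ⟨⟨M, M, hMM, hMM⟩, ?_, ?_, ?_⟩
  · intro u w
    show f₂ (M *ᵥ u) (M *ᵥ w) = f₂ u w
    rw [hMv, hMv, ← hBf, ← hBf]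
    have key : Bf.compl₁₂ φ φ = Bf := by
      apply LinearMap.BilinForm.ext_basis v
      intro i j
      simp only [LinearMap.compl₁₂_apply, hφ, map_smul, LinearMap.smul_apply, smul_eq_mul]
      by_cases hij : i = j
      · subst hij
        rw [← mul_assoc, hε, one_mul]
      · rw [hv i j hij, mul_zero, mul_zero]
    have := congrArg (fun g : LinearMap.BilinForm F (Fin b → F) => g u w) key
    simpa [LinearMap.compl₁₂_apply] using this
  · apply Units.ext
    exact hMM
  · show (M + 1).rank = t
    have h1 : M + 1 = LinearMap.toMatrix' (Matrix.toLin v v (Matrix.diagonal (fun i => ε i + 1))) := by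
      have : (Matrix.diagonal (fun i => ε i + 1) : Matrix (Fin b) (Fin b) F)
          = Matrix.diagonal ε + 1 := by
        rw [← Matrix.diagonal_one, Matrix.diagonal_add]
      rw [this, map_add, Matrix.toLin_one, map_add, LinearMap.toMatrix'_id]
    have h2' : (M + 1).rank = (Matrix.diagonal (fun i => ε i + 1) : Matrix (Fin b) (Fin b) F).rank := by
      have hL : Matrix.toLin (Pi.basisFun F (Fin b)) (Pi.basisFun F (Fin b))
          (LinearMap.toMatrix' (Matrix.toLin v v (Matrix.diagonal (fun i => ε i + 1))))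
            = Matrix.toLin v v (Matrix.diagonal (fun i => ε i + 1)) := by
        rw [Matrix.toLin_eq_toLin', Matrix.toLin'_toMatrix']
      rw [h1, Matrix.rank_eq_finrank_range_toLin _ (Pi.basisFun F (Fin b)) (Pi.basisFun F (Fin b)),
        hL, ← Matrix.rank_eq_finrank_range_toLin (Matrix.diagonal (fun i => ε i + 1)) v v]
    rw [h2', Matrix.rank_diagonal]
    have hiff : ∀ i : Fin b, (ε i + 1 ≠ 0) ↔ (i : ℕ) < t := by
      intro i
      simp only [ε]
      split_ifs with h
      · simp only [h, iff_true]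
        rw [one_add_one_eq_two]; exact h2
      · simp [h]
    rw [Fintype.card_congr (Equiv.subtypeEquivRight hiff)]
    exact Fintype.card_fin_lt_of_le ht

end Cfsg.Agent.Helper87.Tsp
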