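import Mathlib

/-!
# (F2) for helper6's S2347: an anisotropic binary quadratic form over a finite field of odd
order is universal
-/

set_option autoImplicit false

namespace Cfsg.Agent.Helper87.SPrep

variable {F : Type*} [Field F]

section field

variable [Fintype F]

/-- (F2) an anisotropic binary quadratic form over a finite field of odd order is universal -/
theorem exists_binary_form_eq (hodd : Odd (Fintype.card F)) (a b c : F)
    (h : ∀ x y : F, a * x ^ 2 + b * x * y + c * y ^ 2 = 0 → x = 0 ∧ y = 0) (β : F) :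
    ∃ x y : F, a * x ^ 2 + b * x * y + c * y ^ 2 = β := by
  classical
  have hmod : Fintype.card F % 2 = 1 := Nat.odd_iff.mp hodd
  have h2 : (2 : F) ≠ 0 := by
    apply Ring.two_ne_zero
    intro hch
    have := (FiniteField.even_card_iff_char_two (F := F)).mp hch
    omega
  have ha : a ≠ 0 := by
    intro ha
    have := (h 1 0 (by rw [ha]; ring)).1
    exact one_ne_zero this
  have hD : 4 * a * c - b ^ 2 ≠ 0 := by
    intro hD
    have h1 := (h (-b) (2 * a) (by
      have : a * (-b) ^ 2 + b * (-b) * (2 * a) + c * (2 * a) ^ 2 = a * (4 * a * c - b ^ 2) := by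
        ring
      rw [this, hD, mul_zero])).2
    exact (mul_ne_zero h2 ha) h1
  have h4a : 4 * a ≠ 0 := by
    have : (4 : F) = 2 * 2 := by norm_num
    rw [this]
    exact mul_ne_zero (mul_ne_zero h2 h2) ha
  set D := 4 * a * c - b ^ 2 with hDdef
  have hf2 : (Polynomial.X ^ 2 : Polynomial F).degree = 2 := by
    rw [Polynomial.degree_X_pow]; rfl
  have hg2 : (Polynomial.C D * Polynomial.X ^ 2 - Polynomial.C (4 * a * β) : Polynomial F).degree
      = 2 := by
    rw [Polynomial.degree_sub_eq_left_of_degree_lt]
    · rw [Polynomial.degree_C_mul_X_pow 2 hD]; rfl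
    · rw [Polynomial.degree_C_mul_X_pow 2 hD]
      exact lt_of_le_of_lt Polynomial.degree_C_le (by norm_num)
  obtain ⟨s, t, hst⟩ := FiniteField.exists_root_sum_quadratic hf2 hg2 hmod
  simp only [Polynomial.eval_pow, Polynomial.eval_X, Polynomial.eval_sub, Polynomial.eval_mul,
    Polynomial.eval_C] at hst
  refine ⟨(s - b * t) / (2 * a), t, ?_⟩
  have h2a : 2 * a ≠ 0 := mul_ne_zero h2 ha
  apply mul_left_cancel₀ h4a
  have : 4 * a * (a * ((s - b * t) / (2 * a)) ^ 2 + b * ((s - b * t) / (2 * a)) * t + c * t ^ 2)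
      = s ^ 2 + D * t ^ 2 := by
    rw [hDdef]
    field_simp
    ring
  rw [this]
  linear_combination hst

end field

end Cfsg.Agent.Helper87.SPrep
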