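import Mathlib

/-!
# (F1) for helper6's S2347: the orbit of a non-trivial additive character of a finite field of odd
order under the multiplication by the non-zero squares has at least `(q - 1) / 2` elements
-/

set_option autoImplicit false

namespace Cfsg.Agent.Helper87.SPrep

variable {F : Type*} [Field F]

section field

variable [Fintype F]

/-- (F1) the orbit of a non-trivial character under the multiplication by the non-zero squares has
at least `(q - 1) / 2` elements -/
theorem card_sq_orbit (hodd : Odd (Fintype.card F)) (ψ₀ : AddChar F ℂ) (hψ₀ : ψ₀ ≠ 0) :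
    ∃ T : Finset (AddChar F ℂ), (Fintype.card F - 1) / 2 ≤ T.card ∧
      ∀ ψ ∈ T, ψ ≠ 0 ∧ ∃ κ : F, κ ≠ 0 ∧ ∀ c, ψ (c * κ ^ 2) = ψ₀ c := by
  classical
  have hprim : ψ₀.IsPrimitive := AddChar.IsPrimitive.of_ne_one hψ₀
  have hinj : Function.Injective ψ₀.mulShift := AddChar.to_mulShift_inj_of_isPrimitive hprim
  let f : Fˣ → AddChar F ℂ := fun κ => ψ₀.mulShift (((κ : F) ^ 2)⁻¹)
  refine ⟨Finset.univ.image f, ?_, ?_⟩
  · have hcard : (Finset.univ : Finset Fˣ).card = Fintype.card F - 1 := by
      rw [Finset.card_univ, Fintype.card_units]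
    have hle : (Finset.univ : Finset Fˣ).card ≤ 2 * (Finset.univ.image f).card := by
      apply Finset.card_le_mul_card_image
      intro ψ hψ
      obtain ⟨κ', -, rfl⟩ := Finset.mem_image.mp hψ
      have hsub : (Finset.univ.filter fun κ : Fˣ => f κ = f κ') ⊆ {κ', -κ'} := by
        intro κ hκ
        rw [Finset.mem_filter] at hκ
        have h1 : ((κ : F) ^ 2)⁻¹ = ((κ' : F) ^ 2)⁻¹ := hinj hκ.2
        have h2 : (κ : F) ^ 2 = (κ' : F) ^ 2 := inv_injective h1
        rcases sq_eq_sq_iff_eq_or_eq_neg.mp h2 with h3 | h3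
        · rw [Finset.mem_insert]; left; exact Units.ext h3
        · rw [Finset.mem_insert, Finset.mem_singleton]; right
          apply Units.ext; rw [Units.val_neg]; exact h3
      exact (Finset.card_le_card hsub).trans Finset.card_le_two
    rw [hcard] at hle
    omega
  · intro ψ hψ
    obtain ⟨κ, -, rfl⟩ := Finset.mem_image.mp hψ
    have hκ : (κ : F) ≠ 0 := κ.ne_zero
    have hκ2 : ((κ : F) ^ 2)⁻¹ ≠ 0 := inv_ne_zero (pow_ne_zero 2 hκ)
    refine ⟨hprim hκ2, κ, hκ, ?_⟩
    intro c
    show ψ₀.mulShift (((κ : F) ^ 2)⁻¹) (c * (κ : F) ^ 2) = ψ₀ c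
    rw [AddChar.mulShift_apply]
    congr 1
    field_simp

end field

end Cfsg.Agent.Helper87.SPrep
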