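import Cfsg.Agent.S0881
import Cfsg.Agent.Helper15.ConjChar

set_option autoImplicit false
open Cfsg

/-!
# (W2) Two linear characters of a point stabilizer of a simple Zassenhaus group, trivial on the Frobenius kernel,
with the same induced function, are equal or complex conjugate
-/

namespace Cfsg.Agent.Helper87

open MulAction
open Cfsg.Agent.Helper15
open Cfsg.Agent.Helper15.Zass
open Cfsg.Agent.Helper60.Zassenhaus
open scoped ComplexConjugate

/-- A function with zero norm (for `classInner`) vanishes. -/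
theorem eq_zero_of_classInner_self_eq_zero {G : Type*} [Group G] [Fintype G] (φ : G → ℂ)
    (h : classInner φ φ = 0) (g : G) : φ g = 0 := by
  unfold classInner at h
  have hG : (Nat.card G : ℂ) ≠ 0 := by exact_mod_cast Nat.card_pos.ne'
  have h1 : ∑ g : G, φ g * conj (φ g) = 0 := by
    rcases mul_eq_zero.mp h with h | h
    · exact absurd (inv_eq_zero.mp h) hG
    · exact h
  have h2 : ∑ g : G, ((Complex.normSq (φ g) : ℝ) : ℂ) = 0 := by
    rw [← h1]
    apply Finset.sum_congr rfl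
    intro g _
    rw [Complex.mul_conj]
  rw [← Complex.ofReal_sum] at h2
  have h3 : ∑ g : G, Complex.normSq (φ g) = 0 := by exact_mod_cast h2
  have h4 := (Finset.sum_eq_zero_iff_of_nonneg (fun g _ => Complex.normSq_nonneg (φ g))).mp h3 g
    (Finset.mem_univ g)
  exact Complex.normSq_eq_zero.mp h4

theorem ind_lin_eq_imp {G Ω : Type*} [Group G] [Fintype G] [MulAction G Ω] [Fintype Ω]
    (hZ : Cfsg.IsZassenhausGroup G Ω) {a b : Ω} (hab : a ≠ b) [IsSimpleGroup G]
    (hodd : Odd (Nat.card ↥(MulAction.stabilizer G a ⊓ MulAction.stabilizer G b : Subgroup G)))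
    (H : Subgroup G) (hHa : H ≤ MulAction.stabilizer G a) (hHcard : Nat.card H + 1 = Fintype.card Ω)
    (hHfix : ∀ u ∈ H, u ≠ 1 → ∀ c : Ω, u • c = c → c = a) (μ ν : MulAction.stabilizer G a → ℂ)
    (hμ : Cfsg.IsCharacter (MulAction.stabilizer G a) μ ∧ μ 1 = 1)
    (hν : Cfsg.IsCharacter (MulAction.stabilizer G a) ν ∧ ν 1 = 1)
    (hμH : ∀ u : MulAction.stabilizer G a, (u : G) ∈ H → μ u = 1)
    (hνH : ∀ u : MulAction.stabilizer G a, (u : G) ∈ H → ν u = 1)
    (heq : Cfsg.indFun (MulAction.stabilizer G a) μ = Cfsg.indFun (MulAction.stabilizer G a) ν) :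
    ν = μ ∨ ν = fun x => (starRingEnd ℂ) (μ x) := by
  classical
  by_contra hcon
  push Not at hcon
  obtain ⟨hne1, hne2⟩ := hcon
  have h2 := hZ.2.1
  let μ' : ↥(stabilizer G a) →* ℂ := linCharHom hμ.1 hμ.2
  have hμ' : ∀ x : ↥(stabilizer G a), μ' x = μ x := fun x => linCharHom_apply hμ.1 hμ.2 x
  let ν' : ↥(stabilizer G a) →* ℂ := linCharHom hν.1 hν.2
  have hν' : ∀ x : ↥(stabilizer G a), ν' x = ν x := fun x => linCharHom_apply hν.1 hν.2 x
  have hNa0 : (Nat.card ↥(stabilizer G a) : ℂ) ≠ 0 := by exact_mod_cast Nat.card_pos.ne'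
  have hsep : ∀ x : G, x ∉ (stabilizer G a) →
      ∃ b₀ : ↥(stabilizer G a), ∃ hb : x⁻¹ * (b₀ : G) * x ∈ (stabilizer G a),
        μ' b₀ ≠ ν' ⟨x⁻¹ * (b₀ : G) * x, hb⟩ := by
    intro x hx
    have hxa : x • a ≠ a := hx
    set c := x • a with hc
    -- an element of `E_{a,c}` on which `μ ν` is nontrivial
    have hex : ∃ y : ↥(stabilizer G a), (y : G) • c = c ∧ μ y * ν y ≠ 1 := by
      by_contra hcon
      push Not at hcon
      apply hne2
      funext g
      have hgc : (g : G) • c ≠ a := by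
        intro h
        have hga : (g : G) • a = a := g.2
        exact hxa (MulAction.injective (g : G) (h.trans hga.symm))
      obtain ⟨u, huH, huc⟩ :=
        Cfsg.Agent.S0881.exists_mem_kernel_smul_eq a H hHa hHcard hHfix hxa hgc
      have hy : u⁻¹ * (g : G) ∈ (stabilizer G a) :=
        (stabilizer G a).mul_mem ((stabilizer G a).inv_mem (hHa huH)) g.2
      have hyc : (u⁻¹ * (g : G)) • c = c := by
        rw [mul_smul, ← huc, inv_smul_smul]
      have h1 := hcon ⟨u⁻¹ * (g : G), hy⟩ hyc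
      have h3 : g = (⟨u, hHa huH⟩ : ↥(stabilizer G a)) * ⟨u⁻¹ * (g : G), hy⟩ := by
        apply Subtype.ext
        show (g : G) = u * (u⁻¹ * (g : G))
        group
      have hμg : μ g = μ ⟨u⁻¹ * (g : G), hy⟩ := by
        conv_lhs => rw [h3, linChar_mul hμ.1 hμ.2, hμH ⟨u, hHa huH⟩ huH, one_mul]
      have hνg : ν g = ν ⟨u⁻¹ * (g : G), hy⟩ := by
        conv_lhs => rw [h3, linChar_mul hν.1 hν.2, hνH ⟨u, hHa huH⟩ huH, one_mul]
      have h4 : μ g * ν g = 1 := by rw [hμg, hνg]; exact h1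
      have hμ0 : μ g ≠ 0 := linChar_ne_zero hμ.1 hμ.2 g
      rw [← linChar_inv_eq_conj hμ.1 hμ.2, linChar_inv hμ.1 hμ.2]
      exact eq_inv_of_mul_eq_one_right h4
    obtain ⟨y, hyc, hy1⟩ := hex
    have hya : (y : G) • a = a := y.2
    have hb : x⁻¹ * (y : G) * x ∈ (stabilizer G a) := by
      show (x⁻¹ * (y : G) * x) • a = a
      rw [mul_smul, mul_smul, ← hc, hyc, hc, inv_smul_smul]
    refine ⟨y, hb, ?_⟩
    have hda : x⁻¹ • a ≠ a := by
      intro h
      apply hxa
      rw [hc]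
      nth_rewrite 1 [← h]
      rw [smul_inv_smul]
    obtain ⟨k, hka, hkc⟩ := exists_map2 h2 (Ne.symm hxa) (Ne.symm hda)
    have hsa : (x * k) • a = c := by rw [mul_smul, hka]
    have hsc : (x * k) • c = a := by rw [mul_smul, hkc, smul_inv_smul]
    have hsa' : (x * k)⁻¹ • c = a := by rw [inv_smul_eq_iff, hsa]
    have hsc' : (x * k)⁻¹ • a = c := by rw [inv_smul_eq_iff, hsc]
    have hinv := swap_inverts hZ hab hodd (Ne.symm hxa) hsc' hsa' hya hyc
    rw [inv_inv] at hinv
    have hconj : x⁻¹ * (y : G) * x = k * (y : G)⁻¹ * k⁻¹ := by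
      rw [← hinv]; group
    have hkN : k ∈ (stabilizer G a) := hka
    have hval : ν' ⟨x⁻¹ * (y : G) * x, hb⟩ = (ν y)⁻¹ := by
      have : (⟨x⁻¹ * (y : G) * x, hb⟩ : ↥(stabilizer G a)) =
          (⟨k, hkN⟩ : ↥(stabilizer G a)) * y⁻¹ * (⟨k, hkN⟩ : ↥(stabilizer G a))⁻¹ :=
        Subtype.ext hconj
      rw [this, hν', linChar_conj hν.1 hν.2, linChar_inv hν.1 hν.2]
    rw [hval, hμ']
    intro heq'
    apply hy1
    have hν0 : ν y ≠ 0 := linChar_ne_zero hν.1 hν.2 y
    rw [heq']
    exact inv_mul_cancel₀ hν0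
  have key := Helper38.classInner_indFun_of_sep (stabilizer G a) μ' ν' hsep
  -- the inner product of two distinct linear characters vanishes
  have hsum0 : ∑ b : ↥(stabilizer G a), μ' b * conj (ν' b) = 0 := by
    have hex : ∃ b₀ : ↥(stabilizer G a), μ b₀ ≠ ν b₀ := by
      by_contra hcon
      push Not at hcon
      exact hne1 (funext fun b => (hcon b).symm)
    obtain ⟨b₀, hb₀⟩ := hex
    set f : ↥(stabilizer G a) → ℂ := fun b => μ' b * conj (ν' b) with hf
    have hshift : ∀ b, f (b₀ * b) = (μ' b₀ * conj (ν' b₀)) * f b := by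
      intro b
      simp only [hf, map_mul]
      ring
    have hsum : ∑ b, f b = (μ' b₀ * conj (ν' b₀)) * ∑ b, f b := by
      rw [Finset.mul_sum]
      rw [← Fintype.sum_equiv (Equiv.mulLeft b₀) (fun b => f (b₀ * b)) f (fun b => rfl)]
      exact Finset.sum_congr rfl (fun b _ => hshift b)
    have hl : μ' b₀ * conj (ν' b₀) ≠ 1 := by
      intro h1
      apply hb₀
      have hnorm := Helper38.monoidHomC_mul_conj ν' b₀
      have := congrArg (fun z => z * ν' b₀) h1
      simp only [one_mul] at this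
      rw [mul_assoc, mul_comm (conj _) _, hnorm, mul_one] at this
      rw [← hμ', ← hν']
      exact this
    have : (1 - μ' b₀ * conj (ν' b₀)) * ∑ b, f b = 0 := by
      rw [sub_mul, one_mul, ← hsum, sub_self]
    rcases mul_eq_zero.1 this with h | h
    · exact absurd (sub_eq_zero.1 h).symm hl
    · exact h
  rw [hsum0, mul_zero] at key
  have e1 : (fun b => μ' b) = μ := funext hμ'
  have e2 : (fun b => ν' b) = ν := funext hν'
  rw [e1, e2, ← heq] at key
  have h0 := eq_zero_of_classInner_self_eq_zero _ key 1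
  rw [indFun_apply_one, hμ.2, mul_one] at h0
  have hidx : ((stabilizer G a).index : ℂ) ≠ 0 := by
    have : (stabilizer G a).index ≠ 0 := Subgroup.index_ne_zero_of_finite
    exact_mod_cast this
  exact hidx h0

end Cfsg.Agent.Helper87
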