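import Cfsg.Agent.Helper87.FusionExtend
import Cfsg.Agent.Helper87.FusionRS
set_option autoImplicit false

namespace Cfsg.Agent.Helper87

open Cfsg Cfsg.FusionSystem

variable {Ω : Type*} [Group Ω]

/-- The restriction to `P ≤ T` of an automorphism of `T`, as a homomorphism into the ambient group. -/
def autRestrict {T P : Subgroup Ω} (hP : P ≤ T) (α : MulAut T) : P →* Ω :=
  T.subtype.comp ((α : T ≃* T).toMonoidHom.comp (Subgroup.inclusion hP))

theorem autRestrict_apply {T P : Subgroup Ω} (hP : P ≤ T) (α : MulAut T) (x : P) :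
    autRestrict hP α x = ((α ⟨x, hP x.2⟩ : T) : Ω) := rfl

/-- The fusion system over `T` of the restrictions of the automorphisms in a group `K` of automorphisms of `T` containing
the inner automorphisms. -/
def autSystem (T : Subgroup Ω) (K : Subgroup (MulAut T)) (hK : Inn T ≤ K) : FusionSystem T where
  Hom P := {φ | ∃ (hP : P ≤ T), ∃ α ∈ K, φ = autRestrict hP α}
  le_of_mem := by
    rintro P φ ⟨hP, α, -, rfl⟩
    exact ⟨hP, fun x => (α _).2⟩
  injective_of_mem := by
    rintro P φ ⟨hP, α, -, rfl⟩ a b hab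
    have h1 : α ⟨a, hP a.2⟩ = α ⟨b, hP b.2⟩ := Subtype.ext hab
    have h2 := α.injective h1
    exact Subtype.ext (Subtype.mk.inj h2)
  conj_mem := by
    intro P g hP hg
    exact ⟨hP, MulAut.conj ⟨g, hg⟩, hK ⟨⟨g, hg⟩, rfl⟩, MonoidHom.ext fun x => rfl⟩
  comp_mem := by
    rintro P Q φ ψ ⟨hP, α, hα, rfl⟩ ⟨hQ, β, hβ, rfl⟩ h
    exact ⟨hP, β * α, K.mul_mem hβ hα, MonoidHom.ext fun x => rfl⟩
  inv_mem := by
    rintro P φ ⟨hP, α, hα, rfl⟩
    have hle : (autRestrict hP α).range ≤ T := by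
      rintro _ ⟨x, rfl⟩
      exact (α _).2
    refine ⟨autRestrict hle α⁻¹, ⟨hle, α⁻¹, K.inv_mem hα, rfl⟩, fun x => ?_⟩
    rw [autRestrict_apply]
    have e : (⟨((⟨autRestrict hP α x, ⟨x, rfl⟩⟩ : (autRestrict hP α).range) : Ω), hle ⟨x, rfl⟩⟩ : T) =
        α ⟨x, hP x.2⟩ := Subtype.ext rfl
    rw [e, MulAut.inv_apply_self]

theorem mem_autSystem_iff (T : Subgroup Ω) (K : Subgroup (MulAut T)) (hK : Inn T ≤ K) {P : Subgroup Ω}
    (φ : P →* Ω) : φ ∈ (autSystem T K hK).Hom P ↔ ∃ (hP : P ≤ T), ∃ α ∈ K, φ = autRestrict hP α := Iff.rfl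

theorem mem_autGroup_autSystem_iff (T : Subgroup Ω) (K : Subgroup (MulAut T)) (hK : Inn T ≤ K) {P : Subgroup Ω}
    (hP : P ≤ T) (α' : MulAut P) :
    α' ∈ (autSystem T K hK).autGroup P ↔ ∃ α ∈ K, ∀ x : P, ((α' x : P) : Ω) = ((α ⟨x, hP x.2⟩ : T) : Ω) := by
  rw [mem_autGroup_iff _ hP]
  unfold IsIso
  rw [mem_autSystem_iff]
  constructor
  · rintro ⟨_, α, hα, h⟩
    exact ⟨α, hα, fun x => congrArg (fun f : P →* Ω => f x) h⟩
  · rintro ⟨α, hα, h⟩
    exact ⟨hP, α, hα, MonoidHom.ext fun x => h x⟩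

/-- The automorphism group of the system on `T` itself is `K`. -/
theorem autGroup_autSystem_self (T : Subgroup Ω) (K : Subgroup (MulAut T)) (hK : Inn T ≤ K) :
    (autSystem T K hK).autGroup T = K := by
  ext α'
  rw [mem_autGroup_autSystem_iff T K hK le_rfl]
  constructor
  · rintro ⟨α, hα, h⟩
    have : α' = α := by
      ext x
      exact h x
    rw [this]; exact hα
  · intro h
    exact ⟨α', h, fun x => rfl⟩

/-- If every element of `p`-power order of `K` is inner, the system of `K` is saturated: every subgroup is fully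
automized and receptive. -/
theorem isSaturated_autSystem {T : Subgroup Ω} [Finite T] {p : ℕ} [Fact p.Prime] (hT : IsPGroup p T)
    (K : Subgroup (MulAut T)) (hK : Inn T ≤ K)
    (hKp : ∀ κ ∈ K, (∃ k : ℕ, κ ^ p ^ k = 1) → κ ∈ Inn T) : (autSystem T K hK).IsSaturated p := by
  have hp : p.Prime := Fact.out
  intro P hP
  refine ⟨P, isConj_refl _ hP, ⟨hP, ?_⟩, hP, ?_⟩
  · -- fully automized
    set A := (autSystem T K hK).autGroup P with hA
    have hSyp : IsPGroup p ((autInducedBy T P).subgroupOf A) := (isPGroup_autInducedBy hT P).comap_subtype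
    refine ⟨⟨(autInducedBy T P).subgroupOf A, hSyp, ?_⟩, rfl⟩
    intro Q hQ hle
    apply le_antisymm _ hle
    intro x hxQ
    rw [Subgroup.mem_subgroupOf]
    obtain ⟨α, hα, hαx⟩ := (mem_autGroup_autSystem_iff T K hK hP (x : MulAut P)).mp x.2
    have : Finite (MulAut T) := MulEquiv.finite_left
    have hn : orderOf α ≠ 0 := (orderOf_pos α).ne'
    obtain ⟨a, m, hm, hnm⟩ := Nat.exists_eq_pow_mul_and_not_dvd hn p hp.ne_one
    -- `α ^ m` has `p`-power order, hence is inner
    have hαm : α ^ m ∈ Inn T := by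
      apply hKp _ (K.pow_mem hα m)
      refine ⟨a, ?_⟩
      rw [← pow_mul, mul_comm, ← hnm, pow_orderOf_eq_one]
    obtain ⟨t, ht⟩ := hαm
    -- powers of `x` are restrictions of powers of `α`
    have hpow : ∀ (j : ℕ) (y : P), ((((x : MulAut P) ^ j) y : P) : Ω) = (((α ^ j) ⟨y, hP y.2⟩ : T) : Ω) := by
      intro j
      induction j with
      | zero => intro y; rfl
      | succ j ih =>
        intro y
        rw [pow_succ, pow_succ, MulAut.mul_apply, MulAut.mul_apply, ih]
        have e : (⟨(((x : MulAut P) y : P) : Ω), hP ((x : MulAut P) y).2⟩ : T) = α ⟨y, hP y.2⟩ :=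
          Subtype.ext (hαx y)
        rw [e]
    -- so `x ^ m` is induced by `t`
    have hxm : ((x : MulAut P) ^ m) ∈ autInducedBy T P := by
      rw [mem_autInducedBy_iff]
      refine ⟨t, t.2, fun y => ?_⟩
      rw [hpow m y, ← ht]
      rfl
    -- and `x` is a power of `x ^ m`
    obtain ⟨b, hb⟩ := hQ ⟨x, hxQ⟩
    have hb' : x ^ p ^ b = 1 := by
      have := congrArg Subtype.val hb
      simpa using this
    have hcop : m.Coprime (orderOf x) := by
      have hdvd : orderOf x ∣ p ^ b := orderOf_dvd_of_pow_eq_one hb'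
      obtain ⟨c, -, hc⟩ := (Nat.dvd_prime_pow hp).mp hdvd
      rw [hc]
      exact Nat.Coprime.pow_right c ((Nat.Prime.coprime_iff_not_dvd hp).mpr hm).symm
    obtain ⟨u, hu⟩ := exists_pow_eq_self_of_coprime hcop
    have : (x : MulAut P) = (((x : MulAut P) ^ m) ^ u) := by
      have := congrArg Subtype.val hu
      rw [Subgroup.coe_pow, Subgroup.coe_pow] at this
      exact this.symm
    rw [this]
    exact Subgroup.pow_mem _ hxm u
  · -- receptive
    rintro R φ ⟨hR, α, hα, rfl⟩ -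
    have hN : extender T R (autRestrict hR α) ≤ T := by
      unfold extender
      rw [Subgroup.closure_le]
      rintro g ⟨hg, -⟩
      exact hg
    exact ⟨autRestrict hN α, ⟨hN, α, hα, rfl⟩, fun x hxR hxN => rfl⟩

end Cfsg.Agent.Helper87
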