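import Cfsg.Agent.Helper87.AutSystem
import Cfsg.Agent.Helper87.FusionAlperin
set_option autoImplicit false

namespace Cfsg.Agent.Helper87

open Cfsg Cfsg.FusionSystem

variable {Ω : Type*} [Group Ω] {S : Subgroup Ω}

theorem inn_normal (G : Type*) [Group G] : (Inn G).Normal := by
  refine ⟨fun n hn α => ?_⟩
  obtain ⟨g, rfl⟩ := hn
  refine ⟨α g, ?_⟩
  ext x
  simp [MulAut.conj_apply]

/-- In `Inn(T)⟨γ⟩` with `γ` of order prime to `p`, the elements of `p`-power order are inner. -/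
theorem mem_inn_of_mem_sup_zpowers {T : Type*} [Group T] {p : ℕ} [Fact p.Prime] (γ : MulAut T) (m : ℕ)
    (hm : m.Coprime p) (hγ : γ ^ m = 1) :
    ∀ κ ∈ Inn T ⊔ Subgroup.zpowers γ, (∃ k : ℕ, κ ^ p ^ k = 1) → κ ∈ Inn T := by
  haveI : (Inn T).Normal := inn_normal T
  intro κ hκ ⟨k, hk⟩
  have h1 : (QuotientGroup.mk' (Inn T)) κ ∈ Subgroup.zpowers ((QuotientGroup.mk' (Inn T)) γ) := by
    have h2 : (QuotientGroup.mk' (Inn T)) κ ∈ (Inn T ⊔ Subgroup.zpowers γ).map (QuotientGroup.mk' (Inn T)) :=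
      ⟨κ, hκ, rfl⟩
    rw [Subgroup.map_sup, MonoidHom.map_zpowers] at h2
    have h3 : (Inn T).map (QuotientGroup.mk' (Inn T)) = ⊥ := by
      rw [eq_bot_iff]
      rintro _ ⟨x, hx, rfl⟩
      rw [Subgroup.mem_bot]
      exact (QuotientGroup.eq_one_iff x).mpr hx
    rwa [h3, bot_sup_eq] at h2
  obtain ⟨i, hi⟩ := h1
  have h4 : ((QuotientGroup.mk' (Inn T)) κ) ^ m = 1 := by
    rw [← hi, ← zpow_natCast, ← zpow_mul, mul_comm, zpow_mul, zpow_natCast, ← map_pow, hγ, map_one, one_zpow]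
  have h5 : ((QuotientGroup.mk' (Inn T)) κ) ^ p ^ k = 1 := by rw [← map_pow, hk, map_one]
  have h6 := pow_gcd_eq_one.mpr ⟨h4, h5⟩
  have hcop : Nat.gcd m (p ^ k) = 1 := Nat.Coprime.pow_right k hm
  rw [hcop, pow_one] at h6
  exact (QuotientGroup.eq_one_iff κ).mp h6

theorem autInducedBy_self_eq_inn (S : Subgroup Ω) : autInducedBy S S = Inn S := by
  ext α
  rw [mem_autInducedBy_iff]
  constructor
  · rintro ⟨g, hg, h⟩
    refine ⟨⟨g, hg⟩, ?_⟩
    ext x
    rw [h x]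
    rfl
  · rintro ⟨g, rfl⟩
    exact ⟨g, g.2, fun x => rfl⟩

/-- The automorphism groups of two systems with the same maps on `P` coincide. -/
theorem autGroup_congr {T₁ T₂ : Subgroup Ω} (E₁ : FusionSystem T₁) (E₂ : FusionSystem T₂) (P : Subgroup Ω)
    (h : E₁.Hom P = E₂.Hom P) : E₁.autGroup P = E₂.autGroup P := by
  unfold autGroup
  rw [h]

/-- In an extremely sparse system, the automorphism group of every proper subgroup of `S` is a `p`-group. -/
theorem isPGroup_autGroup_of_sparse [Finite S] {p : ℕ} [Fact p.Prime] (hS : IsPGroup p S) (F : FusionSystem S)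
    (hx : ∀ (T : Subgroup Ω) (E : FusionSystem T), E.IsSaturated p → E.IsSubsystemOf F →
      (T = S ∧ ∀ P : Subgroup Ω, E.Hom P = F.Hom P) ∨
        (∀ P : Subgroup Ω, E.Hom P = (innerFusionSystem T).Hom P))
    {P : Subgroup Ω} (hPS : P ≤ S) (hne : P ≠ S) : IsPGroup p (F.autGroup P) := by
  have hp : p.Prime := Fact.out
  have hfinP : Finite P := finite_of_le hPS
  have hPp : IsPGroup p P := hS.to_le hPS
  have : Finite (MulAut P) := MulEquiv.finite_left
  intro g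
  have hn : orderOf g ≠ 0 := (orderOf_pos g).ne'
  obtain ⟨a, m, hm, hnm⟩ := Nat.exists_eq_pow_mul_and_not_dvd hn p hp.ne_one
  refine ⟨a, ?_⟩
  -- `γ = g ^ p ^ a` has order prime to `p`
  set γ : MulAut P := ((g ^ p ^ a : F.autGroup P) : MulAut P) with hγdef
  have hγA : γ ∈ F.autGroup P := (g ^ p ^ a).2
  have hγm : γ ^ m = 1 := by
    rw [hγdef, ← Subgroup.coe_pow, ← pow_mul, ← hnm, pow_orderOf_eq_one]
    rfl
  have hmcop : m.Coprime p := ((Nat.Prime.coprime_iff_not_dvd hp).mpr hm).symm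
  have hK : Inn P ≤ Inn P ⊔ Subgroup.zpowers γ := le_sup_left
  have hKA : Inn P ⊔ Subgroup.zpowers γ ≤ F.autGroup P :=
    sup_le (inn_le_autGroup F hPS) (by rw [Subgroup.zpowers_le]; exact hγA)
  have hsat := isSaturated_autSystem hPp (Inn P ⊔ Subgroup.zpowers γ) hK
    (mem_inn_of_mem_sup_zpowers γ m hmcop hγm)
  have hsub : (autSystem P (Inn P ⊔ Subgroup.zpowers γ) hK).IsSubsystemOf F := by
    rintro R φ ⟨hR, κ, hκ, rfl⟩
    have h1 := (mem_autGroup_iff F hPS κ).mp (hKA hκ)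
    exact restrict_mem F h1 hR
  rcases hx P _ hsat hsub with h | h
  · exact absurd h.1 hne
  · have h1 : γ ∈ (autSystem P (Inn P ⊔ Subgroup.zpowers γ) hK).autGroup P := by
      rw [autGroup_autSystem_self]
      exact Subgroup.mem_sup_right (Subgroup.mem_zpowers γ)
    rw [autGroup_congr _ (innerFusionSystem P) P (h P)] at h1
    have h2 := (mem_autGroup_iff (innerFusionSystem P) le_rfl γ).mp h1
    obtain ⟨-, c, hc, hcx⟩ := h2
    -- `γ` is conjugation by `c ∈ P`, so has `p`-power order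
    have hγc : γ = MulAut.conj ⟨c, hc⟩ := by
      ext x
      exact hcx x
    obtain ⟨j, hj⟩ := hPp ⟨c, hc⟩
    have hγp : γ ^ p ^ j = 1 := by rw [hγc, ← map_pow, hj, map_one]
    have h6 := pow_gcd_eq_one.mpr ⟨hγm, hγp⟩
    have hcop : Nat.gcd m (p ^ j) = 1 := Nat.Coprime.pow_right j hmcop
    rw [hcop, pow_one] at h6
    exact Subtype.ext h6

end Cfsg.Agent.Helper87
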