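import Cfsg.Agent.Helper61.DihDefs

/-!
# S3616 piece (CYC): an integer relation among the values of a nontrivial additive character of
`ZMod q`, `q` prime, has constant coefficients.
-/

set_option autoImplicit false

namespace Cfsg.Agent.Helper87.Dih

open Finset Polynomial

/-- (CYC) -/
theorem cyc_const {q : ℕ} [Fact q.Prime] (ψ : AddChar (ZMod q) ℂ) (hψ : ψ ≠ 1) (n : ZMod q → ℤ)
    (h : ∑ c, (n c : ℂ) * ψ c = 0) : ∀ c, n c = n 0 := by
  have hq : q.Prime := Fact.out
  have hq0 : 0 < q := hq.pos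
  set ζ : ℂ := ψ 1 with hζdef
  have hψc : ∀ c : ZMod q, ψ c = ζ ^ c.val := by
    intro c
    have h1 : c = c.val • (1 : ZMod q) := by
      rw [nsmul_eq_mul, mul_one, ZMod.natCast_zmod_val]
    conv_lhs => rw [h1]
    rw [AddChar.map_nsmul_eq_pow]
  have hζq : ζ ^ q = 1 := by
    rw [hζdef, ← AddChar.map_nsmul_eq_pow, nsmul_eq_mul, mul_one, ZMod.natCast_self,
      AddChar.map_zero_eq_one]
  have hζ1 : ζ ≠ 1 := by
    intro h1
    apply hψ
    ext c
    rw [hψc, h1, one_pow, AddChar.one_apply]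
  have hprim : IsPrimitiveRoot ζ q := by
    have hord : orderOf ζ ∣ q := orderOf_dvd_of_pow_eq_one hζq
    rcases (Nat.dvd_prime hq).mp hord with h1 | h1
    · exact absurd (orderOf_eq_one_iff.mp h1) hζ1
    · rw [← h1]; exact IsPrimitiveRoot.orderOf ζ
  -- the polynomial
  set P : ℤ[X] := ∑ c : ZMod q, C (n c) * X ^ c.val with hP
  have haeval : aeval ζ P = 0 := by
    rw [hP, map_sum, ← h]
    apply Finset.sum_congr rfl
    intro c _
    rw [map_mul, aeval_C, map_pow, aeval_X, hψc]
    simp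
  have hdvd : cyclotomic q ℤ ∣ P := by
    rw [cyclotomic_eq_minpoly hprim hq0]
    exact minpoly.isIntegrallyClosed_dvd (hprim.isIntegral hq0) haeval
  have hcoeff : ∀ c : ZMod q, P.coeff c.val = n c := by
    intro c
    rw [hP, finsetSum_coeff]
    rw [Finset.sum_eq_single c]
    · rw [coeff_C_mul, coeff_X_pow, if_pos rfl, mul_one]
    · intro b _ hb
      rw [coeff_C_mul, coeff_X_pow, if_neg, mul_zero]
      intro hval
      exact hb (ZMod.val_injective q hval.symm)
    · intro hc; exact absurd (Finset.mem_univ c) hc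
  have hdeg : P.natDegree ≤ q - 1 := by
    rw [hP]
    apply natDegree_sum_le_of_forall_le
    intro c _
    have hc : c.val < q := ZMod.val_lt c
    calc (C (n c) * X ^ c.val : ℤ[X]).natDegree ≤ c.val := natDegree_C_mul_X_pow_le _ _
      _ ≤ q - 1 := by omega
  obtain ⟨Q, hQ⟩ := hdvd
  have hcycdeg : (cyclotomic q ℤ).natDegree = q - 1 := by
    rw [natDegree_cyclotomic, Nat.totient_prime hq]
  by_cases hQ0 : Q = 0
  · rw [hQ0, mul_zero] at hQ
    intro c
    rw [← hcoeff c, ← hcoeff 0, hQ, coeff_zero, coeff_zero]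
  · have hcyc0 : cyclotomic q ℤ ≠ 0 := cyclotomic_ne_zero q ℤ
    have hdegQ : Q.natDegree = 0 := by
      have := natDegree_mul hcyc0 hQ0
      rw [← hQ, hcycdeg] at this
      omega
    obtain ⟨a, ha⟩ := natDegree_eq_zero.mp hdegQ
    have hPa : ∀ j, j < q → P.coeff j = a := by
      intro j hj
      rw [hQ, ← ha, cyclotomic_prime ℤ q, mul_comm, coeff_C_mul, finsetSum_coeff]
      rw [Finset.sum_eq_single j]
      · rw [coeff_X_pow, if_pos rfl, mul_one]
      · intro b _ hb
        rw [coeff_X_pow, if_neg (fun h => hb h.symm)]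
      · intro hj'; exact absurd (Finset.mem_range.mpr hj) hj'
    intro c
    rw [← hcoeff c, ← hcoeff 0, hPa _ (ZMod.val_lt c), hPa _ (ZMod.val_lt 0)]

end Cfsg.Agent.Helper87.Dih
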