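import Mathlib
import Cfsg.Agent.Helper60.PermKit

/-!
# S0679 piece (CT57): elements of order 5 and 7 in a transitive group of degree 11
not containing `A₁₁`.
-/

set_option autoImplicit false

namespace Cfsg.Agent.Helper87.D11

open Equiv MulAction

variable {α : Type*} [Fintype α] [DecidableEq α]

/-- No element of `G` is a `p`-cycle for a prime `p` with `p + 3 ≤ 11`. -/
theorem not_prime_cycle (hα : Fintype.card α = 11) (G : Subgroup (Perm α))
    [IsPretransitive G α] (hA : ¬ alternatingGroup α ≤ G) {g : Perm α} (hg : g ∈ G)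
    {p : ℕ} (hp : p.Prime) (hp8 : p + 3 ≤ 11) (ho : orderOf g = p) :
    Multiset.card g.cycleType ≠ 1 := by
  intro h1
  have hcyc : g.IsCycle := Perm.card_cycleType_eq_one.mp h1
  have hprim : IsPreprimitive G α := by
    apply IsPreprimitive.of_prime_card
    rw [Nat.card_eq_fintype_card, hα]; norm_num
  have hsupp : g.support.card = p := by
    rw [← ho, hcyc.orderOf]
  exact hA (Cfsg.Agent.Helper60.alternatingGroup_le_of_isPreprimitive_of_prime_cycle G hprim hp
    (by rw [hα]; exact hp8) hcyc hsupp hg)

/-- (CT5) -/
theorem support_of_order_five (hα : Fintype.card α = 11) (G : Subgroup (Perm α))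
    [IsPretransitive G α] (hA : ¬ alternatingGroup α ≤ G) {g : Perm α} (hg : g ∈ G)
    (ho : orderOf g = 5) : g.support.card = 10 := by
  have hp : (orderOf g).Prime := by rw [ho]; norm_num
  obtain ⟨n, hn⟩ := Perm.cycleType_prime_order hp
  rw [ho] at hn
  have hsum : g.support.card = (n + 1) * 5 := by
    rw [← Perm.sum_cycleType, hn, Multiset.sum_replicate, smul_eq_mul]
  have hle : g.support.card ≤ 11 := by
    rw [← hα]; exact Finset.card_le_univ _
  have hne := not_prime_cycle hα G hA hg (p := 5) (by norm_num) (by norm_num) ho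
  rw [hn, Multiset.card_replicate] at hne
  have : n = 1 := by omega
  rw [hsum, this]

/-- (CT7) -/
theorem orderOf_ne_seven (hα : Fintype.card α = 11) (G : Subgroup (Perm α))
    [IsPretransitive G α] (hA : ¬ alternatingGroup α ≤ G) {g : Perm α} (hg : g ∈ G) :
    orderOf g ≠ 7 := by
  intro ho
  have hp : (orderOf g).Prime := by rw [ho]; norm_num
  obtain ⟨n, hn⟩ := Perm.cycleType_prime_order hp
  rw [ho] at hn
  have hsum : g.support.card = (n + 1) * 7 := by
    rw [← Perm.sum_cycleType, hn, Multiset.sum_replicate, smul_eq_mul]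
  have hle : g.support.card ≤ 11 := by
    rw [← hα]; exact Finset.card_le_univ _
  have hne := not_prime_cycle hα G hA hg (p := 7) (by norm_num) (by norm_num) ho
  rw [hn, Multiset.card_replicate] at hne
  omega

end Cfsg.Agent.Helper87.D11
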