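import Mathlib

/-!
# S0679 piece (SH): a group of order 7920 on 11 points all of whose non-identity elements
move at least 8 points is sharply 4-transitive.
-/

set_option autoImplicit false

namespace Cfsg.Agent.Helper87.D11

open Equiv MulAction

variable {α : Type*} [Fintype α] [DecidableEq α]

/-- The stabilizer of an injective 4-tuple is trivial when every non-identity element moves
at least 8 of the 11 points. -/
theorem stabilizer_eq_bot_of_support (hα : Fintype.card α = 11) (G : Subgroup (Perm α))
    (h8 : ∀ g ∈ G, g ≠ 1 → 8 ≤ g.support.card) (x : Fin 4 ↪ α) : stabilizer G x = ⊥ := by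
  rw [eq_bot_iff]
  intro g hg
  rw [mem_stabilizer_iff] at hg
  rw [Subgroup.mem_bot]
  by_contra hne
  have hne' : (g : Perm α) ≠ 1 := fun h => hne (Subtype.ext h)
  have h8' := h8 g g.2 hne'
  -- the image of `x` is a 4-set of fixed points
  have hfix : ∀ i, (g : Perm α) (x i) = x i := by
    intro i
    have := DFunLike.congr_fun hg i
    exact this
  have hdisj : Disjoint (g : Perm α).support (Finset.univ.image x) := by
    rw [Finset.disjoint_left]
    intro a ha hb
    obtain ⟨i, -, rfl⟩ := Finset.mem_image.mp hb
    exact (Perm.mem_support.mp ha) (hfix i)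
  have hcard : (Finset.univ.image x).card = 4 := by
    rw [Finset.card_image_of_injective _ x.injective]; simp
  have := Finset.card_le_univ ((g : Perm α).support ∪ Finset.univ.image x)
  rw [Finset.card_union_of_disjoint hdisj, hcard, hα] at this
  omega

/-- (SH) -/
theorem sharply_four (hα : Fintype.card α = 11) (G : Subgroup (Perm α))
    (hcard : Nat.card G = 7920) (h8 : ∀ g ∈ G, g ≠ 1 → 8 ≤ g.support.card) :
    IsMultiplyPretransitive G α 4 ∧ ∀ x : Fin 4 ↪ α, stabilizer G x = ⊥ := by
  refine ⟨?_, stabilizer_eq_bot_of_support hα G h8⟩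
  classical
  have hemb : Nat.card (Fin 4 ↪ α) = 7920 := by
    rw [Nat.card_eq_fintype_card, Fintype.card_embedding_eq, hα]; simp [Nat.descFactorial]
  have horb : ∀ x : Fin 4 ↪ α, Nat.card (orbit G x) = 7920 := by
    intro x
    have h := card_orbit_mul_card_stabilizer_eq_card_group G x
    have hst : Nat.card (stabilizer G x) = 1 := by
      rw [stabilizer_eq_bot_of_support hα G h8 x]; simp
    simp only [← Nat.card_eq_fintype_card] at h
    rw [hst, mul_one, hcard] at h
    exact h
  have htop : ∀ x : Fin 4 ↪ α, orbit G x = Set.univ := by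
    intro x
    have hfin : (orbit G x).Finite := Set.toFinite _
    apply Set.eq_of_subset_of_ncard_le (Set.subset_univ _) _ Set.finite_univ
    rw [Set.ncard_univ, hemb, ← Nat.card_coe_set_eq, horb x]
  refine ⟨fun x y => ?_⟩
  have : y ∈ orbit G x := by rw [htop x]; trivial
  exact this
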