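import Cfsg.Agent.Helper48.StronglyEmbedded
import Cfsg.Agent.S5185
set_option autoImplicit false

namespace Cfsg.Agent.Helper87

open Cfsg
open scoped commutatorElement

/-- If `A / N` has a strongly `p`-embedded subgroup, every normal `p`-subgroup of `A` lies in `N`. -/
theorem normal_pSubgroup_le_of_stronglyPEmbedded {A : Type*} [Group A] [Finite A] {p : ℕ} [Fact p.Prime]
    (N : Subgroup A) [N.Normal] (Y : Subgroup (A ⧸ N)) (hY : IsStronglyPEmbedded p Y)
    (K : Subgroup A) [hKn : K.Normal] (hK : IsPGroup p K) : K ≤ N := by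
  have hπ : Function.Surjective (QuotientGroup.mk' N) := QuotientGroup.mk'_surjective N
  have hKbar_n : (K.map (QuotientGroup.mk' N)).Normal := hKn.map _ hπ
  have hKbar_p : IsPGroup p (K.map (QuotientGroup.mk' N)) := hK.map _
  by_cases hbot : K.map (QuotientGroup.mk' N) = ⊥
  · intro x hx
    have h1 : QuotientGroup.mk' N x ∈ K.map (QuotientGroup.mk' N) := ⟨x, hx, rfl⟩
    rw [hbot, Subgroup.mem_bot] at h1
    exact (QuotientGroup.eq_one_iff x).mp h1
  · exfalso
    obtain ⟨P, hPY, -⟩ := Cfsg.Agent.Helper48.exists_sylow_le_of_stronglyPEmbedded hY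
    have hKP : K.map (QuotientGroup.mk' N) ≤ (P : Subgroup (A ⧸ N)) := by
      have h1 : IsPGroup p (K.map (QuotientGroup.mk' N) ⊔ (P : Subgroup (A ⧸ N)) : Subgroup (A ⧸ N)) :=
        IsPGroup.to_sup_of_normal_left hKbar_p P.2
      have h2 := P.is_maximal' h1 le_sup_right
      rw [← h2]
      exact le_sup_left
    have h3 := Cfsg.Agent.Helper48.normalizer_le_of_stronglyPEmbedded hY (hKP.trans hPY) hKbar_p hbot
    rw [Subgroup.normalizer_eq_top] at h3
    exact hY.2.1 (top_le_iff.mp h3)

/-- If `A / N` has a strongly `p`-embedded subgroup, the commutators of `A` do not all lie in a `p`-subgroup. -/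
theorem false_of_commutator_mem_pGroup {A : Type*} [Group A] [Finite A] {p : ℕ} [Fact p.Prime]
    (N : Subgroup A) [N.Normal] (Y : Subgroup (A ⧸ N)) (hY : IsStronglyPEmbedded p Y)
    (K : Subgroup A) (hK : IsPGroup p K) (hc : ∀ a b : A, ⁅a, b⁆ ∈ K) : False := by
  have hle : commutator A ≤ K := by
    rw [commutator_def, Subgroup.commutator_le]
    exact fun a _ b _ => hc a b
  have h1 : commutator A ≤ N := normal_pSubgroup_le_of_stronglyPEmbedded N Y hY (commutator A) (hK.to_le hle)
  have hcomm : ∀ x y : A ⧸ N, x * y = y * x := by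
    intro x y
    obtain ⟨a, rfl⟩ := QuotientGroup.mk'_surjective N x
    obtain ⟨b, rfl⟩ := QuotientGroup.mk'_surjective N y
    have h2 : ⁅a, b⁆ ∈ N := h1 (by
      rw [commutator_def]
      exact Subgroup.commutator_mem_commutator (Subgroup.mem_top a) (Subgroup.mem_top b))
    have h3 : QuotientGroup.mk' N ⁅a, b⁆ = 1 := (QuotientGroup.eq_one_iff _).mpr h2
    rw [map_commutatorElement] at h3
    exact commutatorElement_eq_one_iff_mul_comm.mp h3
  obtain ⟨-, P, hP⟩ := Cfsg.Agent.S5185.sylow_not_normal_of_stronglyPEmbedded Y hY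
  exact hP (Cfsg.Agent.S5185.sylow_normal_of_comm hcomm P)

end Cfsg.Agent.Helper87
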