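import Cfsg.Agent.Helper87.LineStab
import Cfsg.Agent.Helper87.EssentialAut
import Cfsg.Agent.Helper87.FusionNormal
import Cfsg.Agent.Helper87.FusionExtend

set_option autoImplicit false

/-!
# Essential subgroups and stability groups

* `chainStab_subgroupOf_normal`: the stability group of an invariant chain is normal.
* `mem_of_conjAut_mem_chainStab`: an element of `S` normalizing the essential subgroup `E` and stabilizing a chain of
  `Aut_F(E)`-invariant subgroups of `E` lies in `E`.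
* `conjAutHom`: the conjugation action `Q → Aut(E)` of a subgroup normalizing `E`.
-/

namespace Cfsg.Agent.Helper87

open Cfsg Cfsg.FusionSystem

section general

variable {P : Type*} [Group P]

theorem chainStab_subgroupOf_normal [Finite P] (A : Subgroup (MulAut P)) (D : ℕ → Subgroup P) (hD : Antitone D)
    (hinv : ∀ α ∈ A, ∀ k, ∀ x ∈ D k, α x ∈ D k) : ((chainStab D hD).subgroupOf A).Normal := by
  refine ⟨fun n hn g => ?_⟩
  rw [Subgroup.mem_subgroupOf] at hn ⊢
  have h := conj_mem_chainStab D hD (g : MulAut P) (n : MulAut P) (hinv g g.2)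
    (hinv (g : MulAut P)⁻¹ (A.inv_mem g.2)) hn
  simpa using h

end general

variable {Ω : Type*} [Group Ω] {S : Subgroup Ω}

/-- If `Out_F(E)` has a strongly `p`-embedded subgroup and `C_S(E) ≤ E`, then every `c ∈ N_S(E)` whose conjugation action
stabilizes a chain of `Aut_F(E)`-invariant subgroups from `E` to `1` lies in `E`. -/
theorem mem_of_conjAut_mem_chainStab [Finite S] {p : ℕ} [Fact p.Prime] (hS : IsPGroup p S) (F : FusionSystem S)
    {E : Subgroup Ω} [Finite E] (hES : E ≤ S) (hcen : centralizerIn S E ≤ E)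
    [hn : ((Inn E).subgroupOf (F.autGroup E)).Normal]
    (Y : Subgroup (F.autGroup E ⧸ (Inn E).subgroupOf (F.autGroup E))) (hY : IsStronglyPEmbedded p Y)
    (D : ℕ → Subgroup E) (hD : Antitone D) (h0 : D 0 = ⊤) (N : ℕ) (hN : D N = ⊥)
    (hinv : ∀ α ∈ F.autGroup E, ∀ k, ∀ x ∈ D k, α x ∈ D k)
    {c : Ω} (hcS : c ∈ S) (hcN : c ∈ Subgroup.normalizer (E : Set Ω))
    (hc : conjAut E c hcN ∈ chainStab D hD) : c ∈ E := by
  have hfinA : Finite (MulAut E) := finite_mulAut_of_le hES
  have hEp : IsPGroup p E := hS.to_le hES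
  have hKn : ((chainStab D hD).subgroupOf (F.autGroup E)).Normal :=
    chainStab_subgroupOf_normal (F.autGroup E) D hD hinv
  have hKp : IsPGroup p ((chainStab D hD).subgroupOf (F.autGroup E)) :=
    (isPGroup_chainStab hEp D hD h0 N hN).comap_subtype
  have hle := normal_pSubgroup_le_of_stronglyPEmbedded ((Inn E).subgroupOf (F.autGroup E)) Y hY
    ((chainStab D hD).subgroupOf (F.autGroup E)) hKp
  have hcA : conjAut E c hcN ∈ F.autGroup E := (mem_autGroup_iff F hES _).mpr (isIso_conjAut F hES hcS hcN)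
  have h1 : (⟨conjAut E c hcN, hcA⟩ : F.autGroup E) ∈ (Inn E).subgroupOf (F.autGroup E) :=
    hle (Subgroup.mem_subgroupOf.mpr hc)
  rw [Subgroup.mem_subgroupOf] at h1
  obtain ⟨r, hr⟩ := h1
  refine mem_of_conj_eq_inner hcen hcS hES r (fun x => ?_)
  exact congrArg (fun β : MulAut E => ((β x : E) : Ω)) hr

section conjHom

/-- The conjugation action of a subgroup `Q` normalizing `E` on `E`. -/
def conjAutHom (E Q : Subgroup Ω) (h : Q ≤ Subgroup.normalizer (E : Set Ω)) : Q →* MulAut E :=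
  E.normalizerMonoidHom.comp (Subgroup.inclusion h)

theorem conjAutHom_apply (E Q : Subgroup Ω) (h : Q ≤ Subgroup.normalizer (E : Set Ω)) (q : Q) :
    conjAutHom E Q h q = conjAut E q (h q.2) := rfl

theorem conjAutHom_range (E Q : Subgroup Ω) (h : Q ≤ Subgroup.normalizer (E : Set Ω)) :
    (conjAutHom E Q h).range = autInducedBy Q E := by
  ext α
  rw [mem_autInducedBy_iff]
  constructor
  · rintro ⟨q, rfl⟩
    exact ⟨q, q.2, fun x => rfl⟩
  · rintro ⟨g, hg, hgx⟩
    refine ⟨⟨g, hg⟩, ?_⟩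
    ext x
    rw [hgx]
    rfl

theorem conjAutHom_ker (E Q : Subgroup Ω) (h : Q ≤ Subgroup.normalizer (E : Set Ω)) :
    (conjAutHom E Q h).ker = (Subgroup.centralizer (E : Set Ω)).subgroupOf Q := by
  ext q
  rw [MonoidHom.mem_ker, Subgroup.mem_subgroupOf, Subgroup.mem_centralizer_iff]
  constructor
  · intro hq y hy
    have := congrArg (fun β : MulAut E => ((β ⟨y, hy⟩ : E) : Ω)) hq
    simp only [conjAutHom_apply, conjAut_apply, MulAut.one_apply] at this
    calc y * (q : Ω) = ((q : Ω) * y * (q : Ω)⁻¹) * q := by rw [this]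
      _ = q * y := by group
  · intro hq
    ext x
    rw [conjAutHom_apply, conjAut_apply, MulAut.one_apply, ← hq x x.2]
    group

/-- `|Aut_Q(E)| = |Q : C_Q(E)|`. -/
theorem card_autInducedBy (E Q : Subgroup Ω) (h : Q ≤ Subgroup.normalizer (E : Set Ω)) :
    Nat.card (autInducedBy Q E) = ((Subgroup.centralizer (E : Set Ω)).subgroupOf Q).index := by
  rw [← conjAutHom_range E Q h, ← conjAutHom_ker E Q h, Subgroup.index_ker]

end conjHom

section lineFusion

/-- `Aut_N(E) ≤ Aut_F(E)` for `N ≤ S`. -/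
theorem autInducedBy_le_autGroup_of_le (F : FusionSystem S) {E N : Subgroup Ω} (hES : E ≤ S) (hNS : N ≤ S) :
    autInducedBy N E ≤ F.autGroup E := by
  intro γ hγ
  obtain ⟨g, hg, hgx⟩ := (mem_autInducedBy_iff N E γ).mp hγ
  rw [eq_conjAut_of_conj_eq γ g hgx, mem_autGroup_iff F hES]
  exact isIso_conjAut F hES (hNS hg) _

/-- **Line lemma for fusion systems.** Let `E ≤ S` with `C_S(E) ≤ E` be such that `Out_F(E)` has a strongly `p`-embedded
subgroup, let `P₀ ≤ E` be `Aut_F(E)`-invariant and `Z ≤ P₀` of order `p`. If `N ≤ N_S(E)` satisfies `[E, N] ≤ P₀`,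
`[P₀, N] ≤ Z` and `[Z, N] = 1`, then `|N : N ∩ E|` divides `p`. -/
theorem index_subgroupOf_dvd_of_line [Finite S] {p : ℕ} [hp : Fact p.Prime] (hS : IsPGroup p S) (F : FusionSystem S)
    {E : Subgroup Ω} [Finite E] (hES : E ≤ S) (hcen : centralizerIn S E ≤ E)
    [hn : ((Inn E).subgroupOf (F.autGroup E)).Normal]
    (M : Subgroup (F.autGroup E ⧸ (Inn E).subgroupOf (F.autGroup E))) (hM : IsStronglyPEmbedded p M)
    (P₀ : Subgroup Ω) (hP₀inv : ∀ α ∈ F.autGroup E, ∀ x : E, (x : Ω) ∈ P₀ → ((α x : E) : Ω) ∈ P₀)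
    (Z : Subgroup Ω) (hZP : Z ≤ P₀) (hZE : Z ≤ E) (hZ : Nat.card Z = p)
    (N : Subgroup Ω) (hNS : N ≤ S) (hNE : N ≤ Subgroup.normalizer (E : Set Ω))
    (h1 : ∀ n ∈ N, ∀ x ∈ E, x⁻¹ * (n * x * n⁻¹) ∈ P₀)
    (h2 : ∀ n ∈ N, ∀ x ∈ E, x ∈ P₀ → x⁻¹ * (n * x * n⁻¹) ∈ Z)
    (h3 : ∀ n ∈ N, ∀ z ∈ Z, n * z * n⁻¹ = z) :
    (E.subgroupOf N).index ∣ p := by
  have hfinA : Finite (MulAut E) := finite_mulAut_of_le hES
  have hEp : IsPGroup p E := hS.to_le hES
  have hNp : IsPGroup p N := hS.to_le hNS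
  haveI : Finite N := Finite.of_injective (Subgroup.inclusion hNS) (Subgroup.inclusion_injective hNS)
  set A := F.autGroup E with hA
  set I := (Inn E).subgroupOf A with hI
  set T := autInducedBy N E with hT
  have hTA : T ≤ A := autInducedBy_le_autGroup_of_le F hES hNS
  have hTp : IsPGroup p T := isPGroup_autInducedBy (S := N) hNp E
  have hZ₀card : Nat.card (Z.subgroupOf E) = p := by
    rw [← hZ]
    exact Nat.card_congr (Subgroup.subgroupOfEquivOfLe hZE).toEquiv
  have hlt := card_map_lt_sq_of_line hEp A I M hM (P₀.subgroupOf E)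
    (fun α hα x hx => Subgroup.mem_subgroupOf.mpr (hP₀inv α hα x (Subgroup.mem_subgroupOf.mp hx)))
    (Z.subgroupOf E) (fun x hx => Subgroup.mem_subgroupOf.mpr (hZP (Subgroup.mem_subgroupOf.mp hx))) hZ₀card
    T hTA hTp
    (by
      intro t ht x
      obtain ⟨g, hg, hgx⟩ := (mem_autInducedBy_iff N E t).mp ht
      rw [Subgroup.mem_subgroupOf]
      have := h1 g hg x x.2
      simpa [hgx] using this)
    (by
      intro t ht x hx
      obtain ⟨g, hg, hgx⟩ := (mem_autInducedBy_iff N E t).mp ht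
      rw [Subgroup.mem_subgroupOf] at hx ⊢
      have := h2 g hg x x.2 hx
      simpa [hgx] using this)
    (by
      intro t ht z hz
      obtain ⟨g, hg, hgx⟩ := (mem_autInducedBy_iff N E t).mp ht
      rw [Subgroup.mem_subgroupOf] at hz
      apply Subtype.ext
      rw [hgx]
      exact h3 g hg z hz)
  -- the homomorphism `N → A / I`
  let g₀ : N →* A := (conjAutHom E N hNE).codRestrict A (fun n => by
    rw [conjAutHom_apply]
    exact (mem_autGroup_iff F hES _).mpr (isIso_conjAut F hES (hNS n.2) _))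
  let f : N →* A ⧸ I := (QuotientGroup.mk' I).comp g₀
  have hfr : f.range ≤ (T.subgroupOf A).map (QuotientGroup.mk' I) := by
    rintro _ ⟨n, rfl⟩
    refine ⟨g₀ n, ?_, rfl⟩
    show g₀ n ∈ T.subgroupOf A
    rw [Subgroup.mem_subgroupOf]
    show conjAutHom E N hNE n ∈ T
    rw [conjAutHom_apply, hT, mem_autInducedBy_iff]
    exact ⟨n, n.2, fun x => rfl⟩
  have hker : f.ker ≤ E.subgroupOf N := by
    intro n hn'
    rw [MonoidHom.mem_ker] at hn'
    have h4 : g₀ n ∈ I := (QuotientGroup.eq_one_iff _).mp hn'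
    rw [hI, Subgroup.mem_subgroupOf] at h4
    obtain ⟨r, hr⟩ := h4
    rw [Subgroup.mem_subgroupOf]
    refine mem_of_conj_eq_inner hcen (hNS n.2) hES r (fun x => ?_)
    have := congrArg (fun β : MulAut E => ((β x : E) : Ω)) hr
    exact this
  have h5 : (E.subgroupOf N).index ∣ Nat.card f.range := by
    rw [← Subgroup.index_ker]
    exact Subgroup.index_dvd_of_le hker
  have h6 : Nat.card f.range ≤ Nat.card ((T.subgroupOf A).map (QuotientGroup.mk' I)) :=
    Subgroup.card_le_of_le hfr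
  have h7 : (E.subgroupOf N).index < p ^ 2 := by
    have hpos : 0 < Nat.card f.range := Nat.card_pos
    exact lt_of_le_of_lt ((Nat.le_of_dvd hpos h5).trans h6) hlt
  obtain ⟨k, hk⟩ := hNp.index (E.subgroupOf N)
  rw [hk] at h7 ⊢
  have hk1 : k < 2 := (Nat.pow_lt_pow_iff_right hp.out.one_lt).mp h7
  have : k ≤ 1 := by omega
  calc p ^ k ∣ p ^ 1 := pow_dvd_pow p this
    _ = p := pow_one p

end lineFusion

end Cfsg.Agent.Helper87
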