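import Mathlib

/-!
# (TRICK) of S3614 (helper58): in an `|S|`-transitive group a non-trivial element supported on
`S` yields a 3-cycle (the commutator trick)
-/

set_option autoImplicit false

namespace Cfsg.Agent.Helper87.N4

open MulAction
open scoped Pointwise

/-- an element moving `x1` to a point `y` outside `S` and fixing the rest of `S` pointwise -/
theorem exists_move_one {G Ω : Type*} [Group G] [MulAction G Ω] [DecidableEq Ω]
    (S : Finset Ω) (hk : IsMultiplyPretransitive G Ω S.card) (x1 y : Ω) (hy : y ∉ S) :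
    ∃ h : G, ∀ s ∈ S, h • s = if s = x1 then y else s := by
  classical
  let e : Fin S.card ↪ Ω := S.equivFin.symm.toEmbedding.trans (Function.Embedding.subtype _)
  have he_mem : ∀ i, e i ∈ S := fun i => (S.equivFin.symm i).2
  have he_surj : ∀ s ∈ S, ∃ i, e i = s := by
    intro s hs
    refine ⟨S.equivFin ⟨s, hs⟩, ?_⟩
    change ((S.equivFin.symm (S.equivFin ⟨s, hs⟩) : S) : Ω) = s
    rw [Equiv.symm_apply_apply]
  let e' : Fin S.card ↪ Ω := ⟨fun i => if e i = x1 then y else e i, by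
    intro i j hij
    dsimp only at hij
    by_cases hi : e i = x1 <;> by_cases hj : e j = x1
    · exact e.injective (hi.trans hj.symm)
    · rw [if_pos hi, if_neg hj] at hij
      exact absurd (hij ▸ he_mem j) hy
    · rw [if_neg hi, if_pos hj] at hij
      exact absurd (hij.symm ▸ he_mem i) hy
    · rw [if_neg hi, if_neg hj] at hij
      exact e.injective hij⟩
  have := hk
  obtain ⟨h, hh⟩ := exists_smul_eq G e e'
  refine ⟨h, ?_⟩
  intro s hs
  obtain ⟨i, rfl⟩ := he_surj s hs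
  have := congrArg (fun f : Fin S.card ↪ Ω => f i) hh
  exact this

/-- (TRICK) in an `|S|`-transitive group a non-trivial element supported on `S` yields a 3-cycle -/
theorem exists_three_cycle_of_support {G Ω : Type*} [Group G] [MulAction G Ω] [Fintype Ω]
    [DecidableEq Ω] (S : Finset Ω) (hk : IsMultiplyPretransitive G Ω S.card)
    (hS : S.card < Fintype.card Ω) (g : G) (hsupp : ∀ x : Ω, x ∉ S → g • x = x)
    (hg : ∃ x : Ω, g • x ≠ x) :
    ∃ (g' : G) (x y z : Ω), x ≠ y ∧ y ≠ z ∧ x ≠ z ∧ g' • x = y ∧ g' • y = z ∧ g' • z = x ∧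
      ∀ w : Ω, w ≠ x → w ≠ y → w ≠ z → g' • w = w := by
  obtain ⟨x1, hx1⟩ := hg
  have hx1S : x1 ∈ S := by
    by_contra h; exact hx1 (hsupp x1 h)
  -- a point outside `S`
  obtain ⟨y, hy⟩ : ∃ y : Ω, y ∉ S := by
    by_contra hcon
    push Not at hcon
    have : S = Finset.univ := Finset.eq_univ_iff_forall.mpr hcon
    rw [this, Finset.card_univ] at hS
    exact lt_irrefl _ hS
  -- facts on `g`
  have hginv : ∀ w : Ω, w ∉ S → g⁻¹ • w = w := by
    intro w hw
    rw [inv_smul_eq_iff, hsupp w hw]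
  have hgS : ∀ s ∈ S, g • s ∈ S := by
    intro s hs
    by_contra hns
    have h1 := hsupp _ hns
    have h2 : g • s = s := smul_left_cancel g h1
    exact hns (h2.symm ▸ hs)
  set x0 : Ω := g⁻¹ • x1 with hx0
  have hgx0 : g • x0 = x1 := smul_inv_smul g x1
  have hx01 : x0 ≠ x1 := by
    intro h
    apply hx1
    rw [← h] at hgx0 ⊢
    exact hgx0
  have hx0S : x0 ∈ S := by
    by_contra h
    have := hsupp x0 h
    rw [hgx0] at this
    exact hx01 this.symm
  have hyx1 : y ≠ x1 := fun h => hy (h ▸ hx1S)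
  have hyx0 : y ≠ x0 := fun h => hy (h ▸ hx0S)
  -- the element `h`
  obtain ⟨h, hh⟩ := exists_move_one S hk x1 y hy
  have hhS : ∀ s ∈ S, s ≠ x1 → h • s = s := by
    intro s hs hne
    rw [hh s hs, if_neg hne]
  have hhx1 : h • x1 = y := by rw [hh x1 hx1S, if_pos rfl]
  have hhinvS : ∀ s ∈ S, s ≠ x1 → h⁻¹ • s = s := by
    intro s hs hne
    rw [inv_smul_eq_iff, hhS s hs hne]
  have hhinvy : h⁻¹ • y = x1 := by rw [inv_smul_eq_iff, hhx1]
  have hhinv_out : ∀ w : Ω, (w ∉ S ∨ w = x1) → w ≠ y → h⁻¹ • w ∉ S := by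
    intro w hw hwy hmem
    have h1 : h • (h⁻¹ • w) = w := smul_inv_smul h w
    by_cases hc : h⁻¹ • w = x1
    · rw [hc, hhx1] at h1
      exact hwy h1.symm
    · rw [hhS _ hmem hc] at h1
      rcases hw with hw | hw
      · exact hw (h1 ▸ hmem)
      · exact hc (h1.trans hw)
  refine ⟨g⁻¹ * (h * g * h⁻¹), x0, y, x1, hyx0.symm, hyx1, hx01, ?_, ?_, ?_, ?_⟩
  · -- x0 ↦ y
    rw [mul_smul, mul_smul, mul_smul, hhinvS x0 hx0S hx01, hgx0, hhx1, hginv y hy]
  · -- y ↦ x1
    rw [mul_smul, mul_smul, mul_smul, hhinvy]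
    have h1 : g • x1 ∈ S := hgS x1 hx1S
    rw [hhS _ h1 hx1, inv_smul_smul]
  · -- x1 ↦ x0
    rw [mul_smul, mul_smul, mul_smul]
    have h1 : h⁻¹ • x1 ∉ S := hhinv_out x1 (Or.inr rfl) hyx1.symm
    rw [hsupp _ h1, smul_inv_smul]
  · intro w hw0 hwy hw1
    rw [mul_smul, mul_smul, mul_smul]
    by_cases hwS : w ∈ S
    · rw [hhinvS w hwS hw1]
      have h1 : g • w ∈ S := hgS w hwS
      have h2 : g • w ≠ x1 := by
        intro hc
        apply hw0
        rw [hx0, ← hc, inv_smul_smul]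
      rw [hhS _ h1 h2, inv_smul_smul]
    · have h1 : h⁻¹ • w ∉ S := hhinv_out w (Or.inl hwS) hwy
      rw [hsupp _ h1, smul_inv_smul, hginv w hwS]

end Cfsg.Agent.Helper87.N4
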