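import Mathlib

set_option autoImplicit false

/-!
(R3) of helper61's plan for S4707: Sylow counting in a finite group all of whose elements of even order are involutions.
-/

namespace Cfsg.Agent.Helper87.TwoP

section
variable {H : Type*} [Group H] [Finite H]

/-- elements of `2`-power order square to `1` -/
theorem sq_eq_one_of_two_pow (heven : ∀ g : H, 2 ∣ orderOf g → orderOf g = 2) (x : H)
    (hx : ∃ k, orderOf x = 2 ^ k) : x * x = 1 := by
  obtain ⟨k, hk⟩ := hx
  rcases Nat.eq_zero_or_pos k with rfl | hk0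
  · rw [pow_zero, orderOf_eq_one_iff] at hk
    rw [hk, one_mul]
  · have h2 : 2 ∣ orderOf x := by
      rw [hk]
      exact dvd_pow_self 2 hk0.ne'
    have := heven x h2
    rw [← pow_two, ← this]
    exact pow_orderOf_eq_one x

/-- elements of a Sylow `2`-subgroup square to `1` -/
theorem sq_eq_one_of_mem_sylow (heven : ∀ g : H, 2 ∣ orderOf g → orderOf g = 2) (T : Sylow 2 H) (x : H)
    (hx : x ∈ T) : x * x = 1 := by
  apply sq_eq_one_of_two_pow heven
  obtain ⟨k, hk⟩ := T.2 ⟨x, hx⟩
  have h1 : x ^ 2 ^ k = 1 := by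
    have := congrArg Subtype.val hk
    simpa using this
  have h2 : orderOf x ∣ 2 ^ k := orderOf_dvd_of_pow_eq_one h1
  obtain ⟨j, -, hj⟩ := (Nat.dvd_prime_pow Nat.prime_two).mp h2
  exact ⟨j, hj⟩

/-- elements commuting with an involution square to `1` -/
theorem sq_eq_one_of_commute (heven : ∀ g : H, 2 ∣ orderOf g → orderOf g = 2) (s u : H)
    (hs : orderOf s = 2) (hus : u * s = s * u) : u * u = 1 := by
  by_cases h2 : 2 ∣ orderOf u
  · have := heven u h2
    rw [← pow_two, ← this]
    exact pow_orderOf_eq_one u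
  · have hcop : Nat.Coprime (orderOf s) (orderOf u) := by
      rw [hs]
      exact (Nat.Prime.coprime_iff_not_dvd Nat.prime_two).mpr h2
    have hcomm : Commute s u := hus.symm
    have h3 : orderOf (s * u) = orderOf s * orderOf u := hcomm.orderOf_mul_eq_mul_orderOf_of_coprime hcop
    rw [hs] at h3
    have h4 : 2 ∣ orderOf (s * u) := ⟨_, h3⟩
    have h5 := heven _ h4
    rw [h5] at h3
    have h6 : orderOf u = 1 := by omega
    rw [orderOf_eq_one_iff] at h6
    rw [h6, one_mul]

/-- a Sylow `2`-subgroup containing the involution `s` is its centralizer -/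
theorem sylow_eq_centralizer (heven : ∀ g : H, 2 ∣ orderOf g → orderOf g = 2) (T : Sylow 2 H) (s : H)
    (hs : orderOf s = 2) (hsT : s ∈ T) : (T : Subgroup H) = Subgroup.centralizer {s} := by
  have hss : s * s = 1 := by
    rw [← pow_two, ← hs]
    exact pow_orderOf_eq_one s
  have hle : (T : Subgroup H) ≤ Subgroup.centralizer {s} := by
    intro x hx
    rw [Subgroup.mem_centralizer_singleton_iff]
    have hxx := sq_eq_one_of_mem_sylow heven T x hx
    have hxs := sq_eq_one_of_mem_sylow heven T (x * s) (T.mul_mem hx hsT)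
    have hx' : x⁻¹ = x := inv_eq_of_mul_eq_one_right hxx
    have hs' : s⁻¹ = s := inv_eq_of_mul_eq_one_right hss
    have h3 : (x * s)⁻¹ = x * s := inv_eq_of_mul_eq_one_right hxs
    calc x * s = (x * s)⁻¹ := h3.symm
      _ = s⁻¹ * x⁻¹ := mul_inv_rev x s
      _ = s * x := by rw [hx', hs']
  have hp : IsPGroup 2 (Subgroup.centralizer ({s} : Set H)) := by
    intro u
    refine ⟨1, ?_⟩
    apply Subtype.ext
    have hu : (u : H) * s = s * u := by
      have := u.2
      rw [Subgroup.mem_centralizer_singleton_iff] at this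
      exact this
    have := sq_eq_one_of_commute heven s u hs hu
    simpa [pow_two] using this
  exact (T.is_maximal' hp hle).symm

end

theorem sylow_two_sub_one_dvd {H : Type*} [Group H] [Finite H]
    (heven : ∀ g : H, 2 ∣ orderOf g → orderOf g = 2) (Q : Sylow 2 H) :
    (Nat.card Q - 1) ∣ Nat.card {s : H // orderOf s = 2} := by
  classical
  letI : Fintype (Sylow 2 H) := Fintype.ofFinite _
  have hF : ∀ s : H, orderOf s = 2 → ∃ T : Sylow 2 H, s ∈ T := by
    intro s hs
    have hz : IsPGroup 2 (Subgroup.zpowers s) := by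
      refine IsPGroup.of_card (n := 1) ?_
      rw [Nat.card_zpowers, hs, pow_one]
    obtain ⟨T, hT⟩ := hz.exists_le_sylow
    exact ⟨T, hT (Subgroup.mem_zpowers s)⟩
  let g : (Σ T : Sylow 2 H, {x : H // x ∈ T ∧ x ≠ 1}) → {s : H // orderOf s = 2} := fun y =>
    ⟨y.2.1, by
      have h1 := sq_eq_one_of_mem_sylow heven y.1 y.2.1 y.2.2.1
      have h2 : orderOf (y.2.1 : H) ∣ 2 := orderOf_dvd_of_pow_eq_one (by rw [pow_two]; exact h1)
      rcases (Nat.dvd_prime Nat.prime_two).mp h2 with h | h
      · exact absurd (orderOf_eq_one_iff.mp h) y.2.2.2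
      · exact h⟩
  have hginj : Function.Injective g := by
    rintro ⟨T, x, hxT, hx1⟩ ⟨T', x', hxT', hx1'⟩ h
    have hxx : x = x' := congrArg Subtype.val h
    subst hxx
    have hs : orderOf x = 2 := (g ⟨T, x, hxT, hx1⟩).2
    have hTT : T = T' := by
      apply Sylow.ext
      rw [sylow_eq_centralizer heven T x hs hxT, sylow_eq_centralizer heven T' x hs hxT']
    subst hTT
    rfl
  have hgsurj : Function.Surjective g := by
    rintro ⟨s, hs⟩
    obtain ⟨T, hT⟩ := hF s hs
    refine ⟨⟨T, s, hT, ?_⟩, rfl⟩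
    rintro rfl
    rw [orderOf_one] at hs
    omega
  have hcard : Nat.card {s : H // orderOf s = 2} =
      Nat.card (Σ T : Sylow 2 H, {x : H // x ∈ T ∧ x ≠ 1}) :=
    (Nat.card_congr (Equiv.ofBijective g ⟨hginj, hgsurj⟩)).symm
  have hfib : ∀ T : Sylow 2 H, Nat.card {x : H // x ∈ T ∧ x ≠ 1} = Nat.card Q - 1 := by
    intro T
    have h1 : Nat.card {x : H // x ∈ T ∧ x ≠ 1} = Set.ncard (((T : Subgroup H) : Set H) \ {1}) := by
      rw [← Nat.card_coe_set_eq]
      rfl
    rw [h1, Set.ncard_sdiff_singleton_of_mem (T : Subgroup H).one_mem]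
    have h2 : Set.ncard ((T : Subgroup H) : Set H) = Nat.card (T : Subgroup H) := by
      rw [← Nat.card_coe_set_eq]
      rfl
    rw [h2, Sylow.card_eq_multiplicity, Sylow.card_eq_multiplicity]
  rw [hcard, Nat.card_sigma, Finset.sum_congr rfl (fun T _ => hfib T), Finset.sum_const, smul_eq_mul]
  exact Dvd.intro_left _ rfl

end Cfsg.Agent.Helper87.TwoP
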