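import Cfsg.Agent.Helper87.GenExtra3
import Cfsg.Agent.Helper87.ExtraSub
import Cfsg.Agent.S5254

set_option autoImplicit false

/-!
# `p`-groups with an extraspecial subgroup of index `p`

Auxiliary results for the statement that `Z(S) = Z(Q)` when `O_p(F) = 1`.
-/

namespace Cfsg.Agent.Helper87

open Cfsg Cfsg.FusionSystem
open scoped commutatorElement

variable {Ω : Type*} [Group Ω] {S : Subgroup Ω}

/-- A subgroup of order `p` of the finite `p`-group `S` that is normalized by `S` is central in `S`. -/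
theorem central_of_normal_card_prime [Finite S] {p : ℕ} [hp : Fact p.Prime] (hS : IsPGroup p S) {Z : Subgroup Ω}
    (hZS : Z ≤ S) (hconj : ∀ s ∈ S, ∀ z ∈ Z, s * z * s⁻¹ ∈ Z) (hZcard : Nat.card Z = p) :
    ∀ z ∈ Z, ∀ s ∈ S, s * z = z * s := by
  haveI hn : (Z.subgroupOf S).Normal := by
    refine ⟨fun x hx g => ?_⟩
    rw [Subgroup.mem_subgroupOf] at hx ⊢
    simpa using hconj g g.2 x hx
  have hcard' : Nat.card (Z.subgroupOf S) = p := by
    rw [← hZcard]
    exact Nat.card_congr (Subgroup.subgroupOfEquivOfLe hZS).toEquiv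
  have hle := Cfsg.Agent.Helper63.le_center_of_normal_of_card_eq_prime hS (Z.subgroupOf S) hcard'
  intro z hz s hs
  have h1 : (⟨z, hZS hz⟩ : S) ∈ Subgroup.center S := hle (Subgroup.mem_subgroupOf.mpr hz)
  have h2 := Subgroup.mem_center_iff.mp h1 ⟨s, hs⟩
  exact congrArg Subtype.val h2

/-- For an abelian subgroup `R ⊇ Z` with `|S : R| = p` and `n ∈ S` not commuting with `w ∈ R`, the centralizer `C_S(n)` is an
abelian normal subgroup of index `p` not containing `w`. -/
theorem setup_centralizer [Finite S] {p : ℕ} [hp : Fact p.Prime] (hS : IsPGroup p S) {R Z : Subgroup Ω}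
    (hRS : R ≤ S) (hZS : Z ≤ S) (hZR : Z ≤ R) (hZcard : Nat.card Z = p)
    (hcomm : ∀ a ∈ S, ∀ b ∈ S, a * b * a⁻¹ * b⁻¹ ∈ Z) (hZc : ∀ z ∈ Z, ∀ s ∈ S, s * z = z * s)
    (hidx : (R.subgroupOf (S ⊓ Subgroup.normalizer (R : Set Ω))).index = p)
    (hab : ∀ a ∈ S ⊓ R, ∀ b ∈ S ⊓ R, a * b = b * a)
    {n w : Ω} (hnS : n ∈ S) (hwR : w ∈ R) (hnw : n * w ≠ w * n) :
    Cfsg.Agent.S5254.Setup p S (S ⊓ Subgroup.centralizer {n}) ∧ w ∉ S ⊓ Subgroup.centralizer {n} := by
  have hpp : p.Prime := hp.out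
  have hwS : w ∈ S := hRS hwR
  have hmemA : ∀ a, a ∈ S ⊓ Subgroup.centralizer {n} ↔ a ∈ S ∧ a * n = n * a := by
    intro a
    rw [Subgroup.mem_inf, Subgroup.mem_centralizer_singleton_iff]
  have hwA : w ∉ S ⊓ Subgroup.centralizer {n} := by
    intro h
    exact hnw ((hmemA w).mp h).2.symm
  refine ⟨?_, hwA⟩
  have hnR : n ∉ R := fun h => hnw (hab n ⟨hnS, h⟩ w ⟨hwS, hwR⟩)
  -- `S` normalizes `R`
  have hSNR : S ≤ Subgroup.normalizer (R : Set Ω) := by
    have key : ∀ s ∈ S, ∀ y ∈ R, s * y * s⁻¹ ∈ R := by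
      intro s hs y hy
      have h1 := hcomm s hs y (hRS hy)
      have e : s * y * s⁻¹ = (s * y * s⁻¹ * y⁻¹) * y := by group
      rw [e]
      exact R.mul_mem (hZR h1) hy
    intro s hs
    apply mem_normalizer_of_conj_mem_of_inv_conj_mem (key s hs)
    intro y hy
    have := key s⁻¹ (S.inv_mem hs) y hy
    rwa [inv_inv] at this
  -- decomposition `S = R ⟨n⟩`
  set N : Subgroup Ω := S ⊓ Subgroup.normalizer (R : Set Ω) with hN
  have hnorm : (R.subgroupOf N).Normal := by
    refine ⟨fun x hx g => ?_⟩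
    rw [Subgroup.mem_subgroupOf] at hx ⊢
    have hg : (g : Ω) ∈ Subgroup.normalizer (R : Set Ω) := g.2.2
    exact (Subgroup.mem_normalizer_iff.mp hg _).mp hx
  have hdec : ∀ s ∈ S, ∃ i : ℕ, s * n ^ i ∈ R := by
    intro s hs
    have hv : (⟨n, hnS, hSNR hnS⟩ : N) ∉ R.subgroupOf N := fun h => hnR (Subgroup.mem_subgroupOf.mp h)
    obtain ⟨i, hi⟩ := Cfsg.Agent.Helper86.exists_mul_pow_mem_of_index_prime hpp (R.subgroupOf N) hidx hv
      (⟨s, hs, hSNR hs⟩ : N)
    rw [Subgroup.mem_subgroupOf] at hi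
    exact ⟨i, by simpa using hi⟩
  -- the elements of `R` commuting with `n` are central in `S`
  have hcentral : ∀ r ∈ R, r * n = n * r → ∀ s ∈ S, s * r = r * s := by
    intro r hr hrn s hs
    obtain ⟨i, hi⟩ := hdec s hs
    have h1 : (s * n ^ i) * r = r * (s * n ^ i) :=
      hab _ ⟨S.mul_mem hs (S.pow_mem hnS i), hi⟩ _ ⟨hRS hr, hr⟩
    have h2 : n ^ i * r = r * n ^ i := by
      have : Commute n r := hrn.symm
      exact (this.pow_left i).eq
    calc s * r = s * (n ^ i * r) * (n ^ i)⁻¹ := by rw [h2]; group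
      _ = (s * n ^ i * r) * (n ^ i)⁻¹ := by group
      _ = r * s := by rw [h1]; group
  -- `A = C_S(n)` is abelian
  have hAcomm : ∀ a ∈ S ⊓ Subgroup.centralizer {n}, ∀ b ∈ S ⊓ Subgroup.centralizer {n}, a * b = b * a := by
    intro a ha b hb
    rw [hmemA] at ha hb
    obtain ⟨i, hi⟩ := hdec a ha.1
    have han : Commute a n := ha.2
    have hbn : Commute b n := hb.2
    have hvn : (a * n ^ i) * n = n * (a * n ^ i) := by
      have : Commute (a * n ^ i) n := han.mul_left ((Commute.refl n).pow_left i)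
      exact this.eq
    have hvb : b * (a * n ^ i) = (a * n ^ i) * b := hcentral _ hi hvn b hb.1
    have hbni : b * (n ^ i)⁻¹ = (n ^ i)⁻¹ * b := ((hbn.pow_right i).inv_right).eq
    calc a * b = (a * n ^ i) * ((n ^ i)⁻¹ * b) := by group
      _ = (a * n ^ i) * (b * (n ^ i)⁻¹) := by rw [hbni]
      _ = ((a * n ^ i) * b) * (n ^ i)⁻¹ := by group
      _ = (b * (a * n ^ i)) * (n ^ i)⁻¹ := by rw [hvb]
      _ = b * a := by group
  have hAc : IsMulCommutative ↥(S ⊓ Subgroup.centralizer {n}) := by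
    rw [isMulCommutative_iff]
    intro a b
    exact Subtype.ext (hAcomm a a.2 b b.2)
  -- the index of `A`
  have hAi : ((S ⊓ Subgroup.centralizer {n}).subgroupOf S).index = p := by
    have heq : (S ⊓ Subgroup.centralizer {n}).subgroupOf S = Subgroup.centralizer {(⟨n, hnS⟩ : S)} := by
      ext x
      rw [Subgroup.mem_subgroupOf, hmemA, Subgroup.mem_centralizer_singleton_iff]
      constructor
      · intro hx
        exact Subtype.ext hx.2
      · intro hx
        exact ⟨x.2, congrArg Subtype.val hx⟩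
    have hZ'card : Nat.card (Z.subgroupOf S) = p := by
      rw [← hZcard]
      exact Nat.card_congr (Subgroup.subgroupOfEquivOfLe hZS).toEquiv
    have hdvd : (Subgroup.centralizer {(⟨n, hnS⟩ : S)}).index ∣ Nat.card (Z.subgroupOf S) := by
      apply index_centralizer_dvd_card
      · intro z hz
        rw [Subgroup.mem_subgroupOf] at hz
        rw [Subgroup.mem_center_iff]
        intro g
        exact Subtype.ext (hZc z hz g g.2)
      · intro x
        rw [Subgroup.mem_subgroupOf]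
        have := hcomm x x.2 n hnS
        simpa [commutatorElement_def] using this
    rw [hZ'card, ← heq] at hdvd
    rcases (Nat.dvd_prime hpp).mp hdvd with h | h
    · exfalso
      rw [Subgroup.index_eq_one] at h
      have : (⟨w, hwS⟩ : S) ∈ (S ⊓ Subgroup.centralizer {n}).subgroupOf S := by rw [h]; exact Subgroup.mem_top _
      rw [Subgroup.mem_subgroupOf] at this
      exact hwA this
    · exact h
  exact Cfsg.Agent.S5254.setup_of hS inf_le_left hAc hAi

end Cfsg.Agent.Helper87
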