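import Mathlib
import Cfsg.Agent.Helper68.PronBU1.Defs

/-!
helper87 -> helper68 (block BU1 of helper99's S2225/S2226, farm #15487), leaf (FQ) `q_mod_four`.
-/

set_option autoImplicit false

namespace Cfsg.Agent.Helper87.PronBU1

open Matrix Cfsg.Agent.Helper99.Pron Cfsg.Agent.Helper68.PronBU1

variable {F : Type*} [Field F]

theorem FQ_odd [Fintype F] (q : ℕ) (hF : Fintype.card F = q ^ 2) (h2 : (2 : F) ≠ 0) :
    Odd q := by
  by_contra hne
  rw [Nat.not_odd_iff_even] at hne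
  obtain ⟨p, hp⟩ := CharP.exists F
  obtain ⟨m, hpp, hm⟩ := FiniteField.card F p
  have h2pm : 2 ∣ p ^ (m : ℕ) := by
    rw [← hm, hF]; exact (hne.two_dvd).trans (dvd_pow_self q two_ne_zero)
  have h2p : 2 ∣ p := Nat.Prime.dvd_of_dvd_pow Nat.prime_two h2pm
  have hp2 : 2 = p := (Nat.prime_dvd_prime_iff_eq Nat.prime_two hpp).1 h2p
  subst hp2
  apply h2
  have := CharP.cast_eq_zero F 2
  exact_mod_cast this

/-- (FQ) `hns` forces `q ≡ 1 (4)`. -/
theorem q_mod_four [Fintype F] (q : ℕ) (hF : Fintype.card F = q ^ 2) (h2 : (2 : F) ≠ 0)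
    (hns : ¬ ∃ i : F, i * i = -1 ∧ i ^ (q + 1) = 1) (hO4 : ∃ x : Fˣ, orderOf x = 4) :
    q % 4 = 1 := by
  have hodd := FQ_odd q hF h2
  by_contra hq
  have hq3 : q % 4 = 3 := by
    obtain ⟨k, hk⟩ := hodd
    omega
  obtain ⟨x, hx⟩ := hO4
  apply hns
  have hx4 : x ^ 4 = 1 := by rw [← hx]; exact pow_orderOf_eq_one x
  have hx2 : x ^ 2 ≠ 1 := by
    intro h
    have := orderOf_dvd_of_pow_eq_one h
    rw [hx] at this
    omega
  have hx4F : (x : F) ^ 4 = 1 := by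
    have := congrArg (fun u : Fˣ => (u : F)) hx4
    simpa using this
  have hx2F : (x : F) ^ 2 ≠ 1 := by
    intro h
    apply hx2
    apply Units.ext
    simpa using h
  have hfac : ((x : F) ^ 2 - 1) * ((x : F) ^ 2 + 1) = 0 := by
    have : ((x : F) ^ 2 - 1) * ((x : F) ^ 2 + 1) = (x : F) ^ 4 - 1 := by ring
    rw [this, hx4F, sub_self]
  have hneg : (x : F) ^ 2 = -1 := by
    rcases mul_eq_zero.mp hfac with h | h
    · exact absurd (sub_eq_zero.mp h) hx2F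
    · exact eq_neg_of_add_eq_zero_left h
  refine ⟨(x : F), by rw [← sq]; exact hneg, ?_⟩
  obtain ⟨t, ht⟩ : ∃ t, q + 1 = 4 * t := ⟨(q + 1) / 4, by omega⟩
  rw [ht, pow_mul, hx4F, one_pow]

end Cfsg.Agent.Helper87.PronBU1
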