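import Mathlib
import Cfsg.Agent.Helper68.PronBU1.Defs

/-!
helper87 -> helper68 (block BU1 of helper99's S2225/S2226, farm #15487), leaf (MT) `two_Pp`.
-/

set_option autoImplicit false

namespace Cfsg.Agent.Helper87.PronBU1

open Matrix Cfsg.Agent.Helper99.Pron Cfsg.Agent.Helper68.PronBU1

variable {F : Type*} [Field F]

theorem MT_pow_add {l : Fˣ} {j : ℕ} (h : l ^ (2 ^ j) = 1) (k : ℕ) : l ^ (2 ^ (j + k)) = 1 := by
  rw [pow_add, pow_mul, h, one_pow]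

theorem MT_dgl {l m : Fˣ} (hl : l ∈ Lam2 F) (hm : m ∈ Lam2 F) :
    ∃ k : ℕ, (dgl l m : GL (Fin 2) F) ^ (2 ^ k) = 1 := by
  obtain ⟨j, hj⟩ := hl
  obtain ⟨k, hk⟩ := hm
  refine ⟨j + k, ?_⟩
  rw [dgl_pow, MT_pow_add hj k, add_comm, MT_pow_add hk j, dgl_one]

/-- (MT) `Pp q` is a 2-group. -/
theorem two_Pp (q : ℕ) : ∀ a ∈ Pp (F := F) q, ∃ k : ℕ, a ^ (2 ^ k) = 1 := by
  rintro a ⟨l, m, h, rfl | rfl⟩
  · exact MT_dgl h.1 h.2.1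
  · have hsq : (tau * dgl l m : GL (Fin 2) F) ^ 2 = dgl (m * l) (l * m) := by
      rw [sq, mul_assoc, ← mul_assoc (dgl l m), dgl_mul_tau, mul_assoc, dgl_mul, ← mul_assoc,
        tau_mul_tau, one_mul]
    obtain ⟨k, hk⟩ := MT_dgl (F := F) ((Lam2 F).mul_mem h.2.1 h.1) ((Lam2 F).mul_mem h.1 h.2.1)
    refine ⟨k + 1, ?_⟩
    rw [pow_succ', pow_mul, hsq, hk]

end Cfsg.Agent.Helper87.PronBU1
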