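import Cfsg.Agent.Helper87.FusionClosed
import Cfsg.Agent.Helper85.Factor
set_option autoImplicit false

namespace Cfsg.Agent.Helper87

open Cfsg Cfsg.FusionSystem

variable {Ω : Type*} [Group Ω] {S : Subgroup Ω}

/-- General form of the main step for a strongly closed subgroup `T`: `Aut_F(R) ≤ Aut_E(R)` for a fully automized receptive `R`,
if this holds for the subgroups containing `T`, the automorphisms acting trivially modulo `T` are in `E`, and the maps
of `F` on larger subgroups are maps of `E`. -/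
theorem autGroup_le_of_stronglyClosed [Finite S] {p : ℕ} [Fact p.Prime] (hS : IsPGroup p S) (F E : FusionSystem S)
    {T : Subgroup Ω} (hT : F.StronglyClosed T)
    (hbig : ∀ R : Subgroup Ω, R ≤ S → T ≤ R → F.autGroup R ≤ E.autGroup R)
    (hmod : ∀ (R : Subgroup Ω) (hRS : R ≤ S) (n : F.autGroup R), n ∈ modStab F hT hRS →
      (n : MulAut R) ∈ E.autGroup R)
    {R : Subgroup Ω} (hRa : F.IsFullyAutomized p R) (hRr : F.IsReceptive R)
    (ih : ∀ (N : Subgroup Ω) (ψ : N →* Ω), R < N → ψ ∈ F.Hom N → ψ ∈ E.Hom N) :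
    F.autGroup R ≤ E.autGroup R := by
  have hRS := hRa.1
  by_cases hTR : T ≤ R
  · exact hbig R hRS hTR
  · have hTn : ∀ g ∈ S, ∀ x ∈ T, g * x * g⁻¹ ∈ T := fun g hg x hx => conj_mem_of_stronglyClosed F hT hg hx
    obtain ⟨t, htT, htN, htR⟩ := exists_mem_normalizer_not_mem hS hRS hT.1
      (hRS.trans (le_normalizer_of_stronglyClosed F hT)) hTR
    obtain ⟨Sy, hSy⟩ := hRa.2
    have : Finite (MulAut R) := finite_mulAut_of_le hRS
    have hKn : (modStab F hT hRS).Normal := modStab_normal F hT hRS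
    have hct : conjAut R t htN ∈ F.autGroup R :=
      (mem_autGroup_iff F hRS _).mpr (isIso_conjAut F hRS (hT.1 htT) htN)
    have hctSy : (⟨conjAut R t htN, hct⟩ : F.autGroup R) ∈ (Sy : Subgroup (F.autGroup R)) := by
      rw [hSy, Subgroup.mem_subgroupOf, mem_autInducedBy_iff]
      exact ⟨t, hT.1 htT, fun x => rfl⟩
    have hctK : (⟨conjAut R t htN, hct⟩ : F.autGroup R) ∈ modStab F hT hRS := by
      rw [mem_modStab_iff]
      intro x
      show (x : Ω)⁻¹ * (t * x * t⁻¹) ∈ T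
      have h1 : (x : Ω)⁻¹ * t * ((x : Ω)⁻¹)⁻¹ ∈ T := hTn _ (S.inv_mem (hRS x.2)) t htT
      have : (x : Ω)⁻¹ * (t * x * t⁻¹) = ((x : Ω)⁻¹ * t * ((x : Ω)⁻¹)⁻¹) * t⁻¹ := by group
      rw [this]
      exact T.mul_mem h1 (T.inv_mem htT)
    intro α hα
    obtain ⟨g, hg, n, hn, hgn⟩ := exists_mul_of_normal Sy (modStab F hT hRS) ⟨α, hα⟩
    have hα_eq : α = (g : MulAut R) * (n : MulAut R) := by
      have := congrArg Subtype.val hgn
      simpa using this
    rw [hα_eq]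
    apply Subgroup.mul_mem
    · rw [mem_autGroup_iff _ hRS]
      apply isIso_of_extender_gt F _ hRr (g : MulAut R) ((mem_autGroup_iff F hRS _).mp g.2) ih t _ htR
      rw [mem_extender_iff]
      refine ⟨hT.1 htT, htN, ?_⟩
      have h1 : g * ⟨conjAut R t htN, hct⟩ * g⁻¹ ∈ (Sy : Subgroup (F.autGroup R)) ⊓ modStab F hT hRS :=
        (Subgroup.mem_normalizer_iff.mp hg _).mp ⟨hctSy, hctK⟩
      have h2 : g * ⟨conjAut R t htN, hct⟩ * g⁻¹ ∈ (Sy : Subgroup (F.autGroup R)) := h1.1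
      rw [hSy, Subgroup.mem_subgroupOf, mem_autInducedBy_iff] at h2
      obtain ⟨h, hhS, hh⟩ := h2
      refine ⟨h, hhS, fun x hx => ?_⟩
      have := hh ((g : MulAut R) x)
      simp only [Subgroup.coe_mul, Subgroup.coe_inv, MulAut.mul_apply, MulAut.inv_apply_self] at this
      exact this
    · exact hmod R hRS n hn

/-- Induction principle for a strongly closed subgroup `T` of a saturated system: every map of `F` is a map of `E` as soon
as `Aut_F(R) ≤ Aut_E(R)` for the subgroups `R ≥ T` and the automorphisms acting trivially modulo `T` are in `E`. -/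
theorem hom_subset_of_stronglyClosed [Finite S] {p : ℕ} [Fact p.Prime] (hS : IsPGroup p S) (F E : FusionSystem S)
    (hF : F.IsSaturated p) {T : Subgroup Ω} (hT : F.StronglyClosed T)
    (hbig : ∀ R : Subgroup Ω, R ≤ S → T ≤ R → F.autGroup R ≤ E.autGroup R)
    (hmod : ∀ (R : Subgroup Ω) (hRS : R ≤ S) (n : F.autGroup R), n ∈ modStab F hT hRS →
      (n : MulAut R) ∈ E.autGroup R) :
    ∀ P : Subgroup Ω, F.Hom P ⊆ E.Hom P :=
  hom_subset_of_autGroup_le hS F E hF (fun R hRa hRr ih =>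
    autGroup_le_of_stronglyClosed hS F E hT hbig hmod hRa hRr (fun N ψ hlt hψ => by
      have hNS : N ≤ S := (F.le_of_mem hψ).1
      have : Finite N := finite_of_le hNS
      exact ih N ψ (card_lt_card_of_lt hlt) hψ))

/-- `φ` extends, modulo `T`, to a map of the system on `P T`. -/
def ExtMod (F : FusionSystem S) (T : Subgroup Ω) {P : Subgroup Ω} (φ : P →* Ω) : Prop :=
  ∃ ψ ∈ F.Hom (P ⊔ T), ∀ x : P, (φ x)⁻¹ * ψ (Subgroup.inclusion le_sup_left x) ∈ T

theorem map_mem_of_stronglyClosed_sup (F : FusionSystem S) {T : Subgroup Ω} (hT : F.StronglyClosed T)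
    {P : Subgroup Ω} {ψ : ↥(P ⊔ T) →* Ω} (hψ : ψ ∈ F.Hom (P ⊔ T)) (t : T) :
    ψ (Subgroup.inclusion le_sup_right t) ∈ T :=
  hT.2 T le_rfl _ (restrict_mem F hψ le_sup_right) t

/-- The subsystem of the maps that extend modulo the strongly closed subgroup `T`. -/
def extModSystem [Finite S] (F : FusionSystem S) {T : Subgroup Ω} (hT : F.StronglyClosed T) : FusionSystem S where
  Hom P := {φ | φ ∈ F.Hom P ∧ ExtMod F T φ}
  le_of_mem h := F.le_of_mem h.1
  injective_of_mem h := F.injective_of_mem h.1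
  conj_mem := by
    intro P g hP hg
    refine ⟨F.conj_mem hP hg, conjHom (P ⊔ T) g, F.conj_mem (sup_le hP hT.1) hg, fun x => ?_⟩
    show (g * (x : Ω) * g⁻¹)⁻¹ * (g * (x : Ω) * g⁻¹) ∈ T
    rw [inv_mul_cancel]
    exact T.one_mem
  comp_mem := by
    rintro P Q φ φ' ⟨hφ, ψ, hψ, hψφ⟩ ⟨hφ', ψ', hψ', hψφ'⟩ h
    refine ⟨F.comp_mem hφ hφ' h, ?_⟩
    have stepA : ∀ y : ↥(P ⊔ T), ψ y ∈ Q ⊔ T := by
      apply Helper85.forall_mem_of_sup ((Q ⊔ T).comap ψ)
      · intro x
        show ψ (Subgroup.inclusion le_sup_left x) ∈ Q ⊔ T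
        have e : ψ (Subgroup.inclusion le_sup_left x) =
            φ x * ((φ x)⁻¹ * ψ (Subgroup.inclusion le_sup_left x)) := by group
        rw [e]
        exact Subgroup.mul_mem _ (Subgroup.mem_sup_left (h x)) (Subgroup.mem_sup_right (hψφ x))
      · intro t
        exact Subgroup.mem_sup_right (map_mem_of_stronglyClosed_sup F hT hψ t)
    refine ⟨ψ'.comp (ψ.codRestrict (Q ⊔ T) stepA), F.comp_mem hψ hψ' stepA, fun x => ?_⟩
    have ht₁ := hψφ x
    have e : (ψ.codRestrict (Q ⊔ T) stepA) (Subgroup.inclusion le_sup_left x) =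
        Subgroup.inclusion le_sup_left (⟨φ x, h x⟩ : Q) *
          Subgroup.inclusion le_sup_right (⟨(φ x)⁻¹ * ψ (Subgroup.inclusion le_sup_left x), ht₁⟩ : T) := by
      apply Subtype.ext
      show ψ (Subgroup.inclusion le_sup_left x) = φ x * ((φ x)⁻¹ * ψ (Subgroup.inclusion le_sup_left x))
      group
    show (φ' ⟨φ x, h x⟩)⁻¹ * ψ' ((ψ.codRestrict (Q ⊔ T) stepA) (Subgroup.inclusion le_sup_left x)) ∈ T
    rw [e, map_mul, ← mul_assoc]
    exact T.mul_mem (hψφ' ⟨φ x, h x⟩) (map_mem_of_stronglyClosed_sup F hT hψ' _)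
  inv_mem := by
    rintro P φ ⟨hφ, ψ, hψ, hψφ⟩
    obtain ⟨χ, hχ, hχx⟩ := F.inv_mem hφ
    obtain ⟨χ', hχ', hχ'x⟩ := F.inv_mem hψ
    refine ⟨χ, ⟨hχ, ?_⟩, hχx⟩
    have hTψ : T ≤ ψ.range := Helper85.stronglyClosed_le_range F hT hψ le_sup_right
    have stepA : φ.range ⊔ T ≤ ψ.range := by
      refine sup_le ?_ hTψ
      rintro _ ⟨x, rfl⟩
      have e : φ x = ψ (Subgroup.inclusion le_sup_left x) *
          ((φ x)⁻¹ * ψ (Subgroup.inclusion le_sup_left x))⁻¹ := by group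
      rw [e]
      exact Subgroup.mul_mem _ ⟨_, rfl⟩ (Subgroup.inv_mem _ (hTψ (hψφ x)))
    refine ⟨χ'.comp (Subgroup.inclusion stepA), restrict_mem F hχ' stepA, ?_⟩
    rintro ⟨_, x, rfl⟩
    rw [hχx]
    obtain ⟨z, hz⟩ := hTψ (T.inv_mem (hψφ x))
    have hzT : (z : Ω) ∈ T := Helper85.mem_of_map_mem_stronglyClosed F hT hψ z (by rw [hz]; exact T.inv_mem (hψφ x))
    have e : φ x = ψ (Subgroup.inclusion le_sup_left x * z) := by
      rw [map_mul, hz]; group
    have e2 : (Subgroup.inclusion stepA) (Subgroup.inclusion le_sup_left (⟨φ x, ⟨x, rfl⟩⟩ : φ.range)) =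
        (⟨ψ (Subgroup.inclusion le_sup_left x * z), ⟨_, rfl⟩⟩ : ψ.range) := Subtype.ext e
    show (x : Ω)⁻¹ * χ' ((Subgroup.inclusion stepA) (Subgroup.inclusion le_sup_left ⟨φ x, ⟨x, rfl⟩⟩)) ∈ T
    rw [e2, hχ'x]
    show (x : Ω)⁻¹ * ((x : Ω) * (z : Ω)) ∈ T
    rw [inv_mul_cancel_left]
    exact hzT

/-- In a saturated fusion system, every map `φ` with source `P` extends modulo a strongly closed subgroup `T` to a map
with source `P T`: some map `ψ` of the system on `P T` has `ψ x ∈ φ(x) T` for all `x ∈ P`. -/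
theorem exists_extension_mod [Finite S] {p : ℕ} [Fact p.Prime] (hS : IsPGroup p S) (F : FusionSystem S)
    (hF : F.IsSaturated p) {T : Subgroup Ω} (hT : F.StronglyClosed T) {P : Subgroup Ω} {φ : P →* Ω}
    (hφ : φ ∈ F.Hom P) :
    ∃ ψ ∈ F.Hom (P ⊔ T), ∀ x : P, (φ x)⁻¹ * ψ (Subgroup.inclusion le_sup_left x) ∈ T := by
  have key := hom_subset_of_stronglyClosed hS F (extModSystem F hT) hF hT ?_ ?_ P hφ
  · exact key.2
  · intro R hRS hTR α hα
    rw [mem_autGroup_iff _ hRS]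
    have hα' := (mem_autGroup_iff F hRS α).mp hα
    refine ⟨hα', _, restrict_mem F hα' (sup_le le_rfl hTR : R ⊔ T ≤ R), fun x => ?_⟩
    show (((α x : R) : Ω))⁻¹ * ((α x : R) : Ω) ∈ T
    rw [inv_mul_cancel]
    exact T.one_mem
  · intro R hRS n hn
    rw [mem_autGroup_iff _ hRS]
    have hn' := (mem_autGroup_iff F hRS _).mp n.2
    refine ⟨hn', (R ⊔ T).subtype, subtype_mem F (sup_le hRS hT.1), fun x => ?_⟩
    have h1 := (mem_modStab_iff F hT hRS n).mp hn x
    show ((((n : MulAut R) x : R) : Ω))⁻¹ * (x : Ω) ∈ T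
    have e : ((((n : MulAut R) x : R) : Ω))⁻¹ * (x : Ω) = ((x : Ω)⁻¹ * (((n : MulAut R) x : R) : Ω))⁻¹ := by group
    rw [e]
    exact T.inv_mem h1

end Cfsg.Agent.Helper87
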