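import Cfsg.Agent.Helper77.Blk.Defs

/-!
helper87, piece (AL3) `alpha_descent` of helper77's S3888 (Blackburn) swarm (#13307).
-/

set_option autoImplicit false

universe u

namespace Cfsg.Agent.Helper87.Blk

open Subgroup Cfsg.Agent.Helper77.Blk

/-- if `e * d * e⁻¹ = d ^ j`, then `e ^ k * d * (e ^ k)⁻¹ = d ^ (j ^ k)` -/
theorem AL3_conj_pow {G : Type u} [Group G] (e d : G) (j : ℤ) (h : e * d * e⁻¹ = d ^ j) (k : ℕ) :
    e ^ k * d * (e ^ k)⁻¹ = d ^ (j ^ k) := by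
  induction k with
  | zero => simp
  | succ k ih =>
    have h1 : e ^ (k + 1) * d * (e ^ (k + 1))⁻¹ = e * (e ^ k * d * (e ^ k)⁻¹) * e⁻¹ := by
      rw [pow_succ']; group
    rw [h1, ih]
    have h2 : e * d ^ (j ^ k) * e⁻¹ = (e * d * e⁻¹) ^ (j ^ k) := by
      have := map_zpow (MulAut.conj e) d (j ^ k)
      simp only [MulAut.conj_apply] at this
      exact this
    rw [h2, h, ← zpow_mul, pow_succ']

/-- an element `e` with `e ^ p = 1` normalising `⟨d⟩`, `d ^ p = 1`, centralises `d` -/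
theorem AL3_comm_of_conj_zpow {G : Type u} [Group G] {p : ℕ} [hp : Fact p.Prime] (e d : G) (j : ℤ)
    (he : e ^ p = 1) (hd : d ^ p = 1) (h : e * d * e⁻¹ = d ^ j) : e * d = d * e := by
  have h1 := AL3_conj_pow e d j h p
  rw [he] at h1
  simp only [one_mul, inv_one, mul_one] at h1
  -- `d = d ^ (j ^ p)` and `j ^ p ≡ j mod p`
  have h2 : ((j ^ p : ℤ) : ZMod p) = ((j : ℤ) : ZMod p) := by
    push_cast
    exact ZMod.pow_card _
  have h3 : (p : ℤ) ∣ j ^ p - j := by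
    have := (ZMod.intCast_eq_intCast_iff_dvd_sub (j) (j ^ p) p).mp h2.symm
    exact this
  obtain ⟨t, ht⟩ := h3
  have h4 : j ^ p = j + p * t := by omega
  have h5 : d ^ (j ^ p) = d ^ j := by
    rw [h4, zpow_add, zpow_mul]
    have : d ^ (p : ℤ) = 1 := by exact_mod_cast hd
    rw [this, one_zpow, mul_one]
  have h6 : e * d * e⁻¹ = d := by rw [h, ← h5, ← h1]
  calc e * d = (e * d * e⁻¹) * e := by group
    _ = d * e := by rw [h6]

section alpha
variable {G : Type u} [Group G] [Finite G] {p : ℕ} [hp : Fact p.Prime]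

/-- (AL3) descent: `u ∈ C`, `u^p = b^p`, `(b⁻¹ u b) u⁻¹ ∈ E` ⇒ `(b u⁻¹)^p ∈ E`. -/
theorem alpha_descent (hp2 : p ≠ 2) (E : Subgroup G) [E.Normal]
    (hEexp : ∀ e ∈ E, e ^ p = 1) (b u : G) (hACT : TransvAct E b)
    (hNU : ∀ (b v e d : G), b⁻¹ * v * b = v * e → b⁻¹ * e * b = e * d → b⁻¹ * d * b = d →
      v * e = e * v → v * d = d * v → e * d = d * e → ∀ k : ℕ,
      (b * v) ^ k = b ^ k * v ^ k * e ^ (k.choose 2) * d ^ (k.choose 3))
    (hu : u ∈ centralizer (E : Set G)) (hup : u ^ p = b ^ p)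
    (he : (b⁻¹ * u * b) * u⁻¹ ∈ E) : (b * u⁻¹) ^ p ∈ E := by
  have hpp : p.Prime := hp.out
  -- notation
  set f : G := (b⁻¹ * u * b) * u⁻¹ with hf
  set e : G := f⁻¹ with he_def
  have heE : e ∈ E := E.inv_mem he
  have hvconj : b⁻¹ * u⁻¹ * b = u⁻¹ * e := by
    rw [he_def, hf]; group
  -- `u⁻¹` centralises `E`
  have hcomm : ∀ x ∈ E, u⁻¹ * x = x * u⁻¹ := by
    intro x hx
    have h1 : x * u = u * x := hu x hx
    calc u⁻¹ * x = u⁻¹ * (x * u) * u⁻¹ := by group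
      _ = u⁻¹ * (u * x) * u⁻¹ := by rw [h1]
      _ = x * u⁻¹ := by group
  -- `p ∣ C(p,2)`
  have h2p : 2 < p := by
    have := hpp.two_le
    omega
  have hdvd : p ∣ p.choose 2 := hpp.dvd_choose_self (by norm_num) h2p
  have hbu : b ^ p * (u⁻¹) ^ p = 1 := by
    rw [inv_pow, hup, mul_inv_cancel]
  by_cases hfix : b⁻¹ * e * b = e
  · -- `e` fixed: `d = 1`
    have key := hNU b u⁻¹ e 1 hvconj (by rw [hfix, mul_one]) (by group) (hcomm e heE)
      (by rw [mul_one, one_mul]) (by rw [mul_one, one_mul]) p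
    rw [key, hbu, one_pow, mul_one, one_mul]
    exact E.pow_mem heE _
  · -- `e` moved
    obtain ⟨hdfix, hfixed, -⟩ := hACT e heE hfix
    set d : G := e⁻¹ * (b⁻¹ * e * b) with hd
    have hconjE : b⁻¹ * e * b ∈ E := by
      have := (inferInstance : E.Normal).conj_mem e heE b⁻¹
      simpa using this
    have hdE : d ∈ E := E.mul_mem (E.inv_mem heE) hconjE
    have hebd : b⁻¹ * e * b = e * d := by rw [hd]; group
    -- `e * d * e⁻¹` is fixed by `b`
    have hwE : e * d * e⁻¹ ∈ E := E.mul_mem (E.mul_mem heE hdE) (E.inv_mem heE)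
    have hwfix : b⁻¹ * (e * d * e⁻¹) * b = e * d * e⁻¹ := by
      have h1 : b⁻¹ * (e * d * e⁻¹) * b = (b⁻¹ * e * b) * (b⁻¹ * d * b) * (b⁻¹ * e * b)⁻¹ := by group
      rw [h1, hdfix, hebd]; group
    obtain ⟨j, hj⟩ := Subgroup.mem_zpowers_iff.mp (hfixed _ hwE hwfix)
    have hed : e * d = d * e :=
      AL3_comm_of_conj_zpow (p := p) e d j (hEexp e heE) (hEexp d hdE) hj.symm
    have key := hNU b u⁻¹ e d hvconj hebd hdfix (hcomm e heE) (hcomm d hdE) hed p
    rw [key, hbu, one_mul]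
    obtain ⟨t, ht⟩ := hdvd
    have : e ^ p.choose 2 = 1 := by rw [ht, pow_mul, hEexp e heE, one_pow]
    rw [this, one_mul]
    exact E.pow_mem hdE _

end alpha

end Cfsg.Agent.Helper87.Blk
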