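import Mathlib

/-!
# (L2a) for helper77's S4588: a linear character of `p`-power order with a prescribed value at a
central `p`-element (transfer into an abelian Sylow subgroup)
-/

set_option autoImplicit false
set_option linter.style.haveILetI false
set_option linter.unusedSectionVars false

open scoped Pointwise

namespace Cfsg.Agent.Helper87.KW

universe u

section L

variable {H : Type u} [Group H] [Fintype H] {p : ℕ} [Fact p.Prime]
  (z : H) [(Subgroup.zpowers z).Normal] (n : ℕ)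

omit [Fintype H] [(Subgroup.zpowers z).Normal] in
/-- a central `p`-element lies in every Sylow `p`-subgroup -/
theorem mem_sylow_of_central [Finite H] (hz : z ∈ Subgroup.center H) (hzn : orderOf z = p ^ n)
    (Q : Sylow p H) : z ∈ (Q : Subgroup H) := by
  have hP : IsPGroup p (Subgroup.zpowers z) := IsPGroup.of_card (n := n) (by
    rw [Nat.card_zpowers, hzn])
  obtain ⟨Q₀, hQ₀⟩ := hP.exists_le_sylow
  have hz₀ : z ∈ (Q₀ : Subgroup H) := hQ₀ (Subgroup.mem_zpowers z)
  obtain ⟨g, rfl⟩ := MulAction.exists_smul_eq H Q₀ Q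
  rw [Sylow.coe_subgroup_smul] at *
  have h1 : MulAut.conj g • z ∈ MulAut.conj g • (Q₀ : Subgroup H) :=
    Subgroup.smul_mem_pointwise_smul z _ _ hz₀
  have h2 : MulAut.conj g • z = z := by
    rw [MulAut.smul_def, MulAut.conj_apply]
    have := Subgroup.mem_center_iff.mp hz g
    rw [this, mul_inv_cancel_right]
  rwa [h2] at h1

/-- (L2a) a linear character of `p`-power order with a prescribed value at the central element
`z` (transfer into an abelian Sylow subgroup). -/
theorem exists_hom_of_central (hz : z ∈ Subgroup.center H) (hzn : orderOf z = p ^ n)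
    (Q : Sylow p H) (hQ : ∀ a b : H, a ∈ (Q : Subgroup H) → b ∈ (Q : Subgroup H) → a * b = b * a)
    (ζ : ℂ) (hζ : ζ ^ (p ^ n) = 1) :
    ∃ l : H →* ℂˣ, ((l z : ℂˣ) : ℂ) = ζ ∧ ∃ m : ℕ, ∀ c : H, l c ^ (p ^ m) = 1 := by
  classical
  have hp : p.Prime := Fact.out
  have hzQ : z ∈ (Q : Subgroup H) := mem_sylow_of_central z n hz hzn Q
  letI : CommGroup ↥(Q : Subgroup H) :=
    { (inferInstance : Group ↥(Q : Subgroup H)) with
      mul_comm := fun a b => Subtype.ext (hQ a b a.2 b.2) }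
  set k := (Q : Subgroup H).index with hk
  have hcop : Nat.Coprime (p ^ n) k :=
    Nat.Coprime.pow_left n ((Nat.Prime.coprime_iff_not_dvd hp).mpr Q.not_dvd_index)
  set zQ : ↥(Q : Subgroup H) := ⟨z, hzQ⟩ with hzQdef
  set w : ↥(Q : Subgroup H) := zQ ^ k with hwdef
  have hzQo : orderOf zQ = p ^ n := by rw [← hzn]; exact Subgroup.orderOf_mk z hzQ
  have hwo : orderOf w = p ^ n := by
    rw [hwdef, Nat.Coprime.orderOf_pow (by rw [hzQo]; exact hcop), hzQo]
  have hpn : p ^ n ≠ 0 := pow_ne_zero n hp.ne_zero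
  set ζu : ℂˣ := Units.ofPowEqOne ζ (p ^ n) hζ hpn with hζudef
  have hζu : ζu ^ (p ^ n) = 1 := Units.pow_ofPowEqOne hζ hpn
  set C : Subgroup ↥(Q : Subgroup H) := Subgroup.zpowers w with hC
  set gen : ↥C := ⟨w, Subgroup.mem_zpowers w⟩ with hgendef
  have hgen : ∀ x : ↥C, x ∈ Subgroup.zpowers gen := by
    rintro ⟨x, hx⟩
    obtain ⟨j, rfl⟩ := Subgroup.mem_zpowers_iff.mp hx
    exact Subgroup.mem_zpowers_iff.mpr ⟨j, by ext; simp [gen]⟩
  have hgo : orderOf gen = p ^ n := by rw [← hwo]; exact Subgroup.orderOf_mk w _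
  set χ₀ : ↥C →* ℂˣ := monoidHomOfForallMemZpowers hgen (g' := ζu)
    (by rw [hgo]; exact orderOf_dvd_of_pow_eq_one hζu) with hχ₀def
  have hχ₀ : χ₀ gen = ζu := monoidHomOfForallMemZpowers_apply_gen hgen _
  haveI : NeZero ((Monoid.exponent ↥(Q : Subgroup H) : ℕ) : ℂ) :=
    ⟨Nat.cast_ne_zero.mpr Monoid.exponent_ne_zero_of_finite⟩
  obtain ⟨lam, hlam⟩ := MonoidHom.domRestrict_surjective (M := ℂ) C χ₀
  have hlamw : lam w = ζu := by
    have := DFunLike.congr_fun hlam gen
    rw [hχ₀] at this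
    exact this
  set N := Nat.card ↥(Q : Subgroup H) with hN
  set lam' : ↥(Q : Subgroup H) →* ↥(rootsOfUnity N ℂ) :=
    lam.codRestrict (rootsOfUnity N ℂ) (fun q => by
      rw [mem_rootsOfUnity, ← map_pow, hN, pow_card_eq_one', map_one]) with hlam'
  set l' : H →* ↥(rootsOfUnity N ℂ) := MonoidHom.transfer lam' with hl'
  refine ⟨(rootsOfUnity N ℂ).subtype.comp l', ?_, ?_⟩
  · have key : ∀ (j : ℕ) (g₀ : H), g₀⁻¹ * z ^ j * g₀ ∈ (Q : Subgroup H) →
        g₀⁻¹ * z ^ j * g₀ = z ^ j := by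
      intro j g₀ _
      have hzj : z ^ j ∈ Subgroup.center H := Subgroup.pow_mem _ hz j
      have := Subgroup.mem_center_iff.mp hzj g₀
      rw [mul_assoc, ← this, inv_mul_cancel_left]
    have h1 := MonoidHom.transfer_eq_pow lam' z key
    rw [MonoidHom.comp_apply, hl', h1]
    have h2 : (⟨z ^ (Q : Subgroup H).index, MonoidHom.transfer_eq_pow_aux z key⟩ :
        ↥(Q : Subgroup H)) = w := by
      apply Subtype.ext
      rw [hwdef, hzQdef, hk]
      rfl
    rw [h2]
    show ((lam w : ℂˣ) : ℂ) = ζ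
    rw [hlamw, hζudef, Units.val_ofPowEqOne]
  · obtain ⟨m, hm⟩ := IsPGroup.iff_card.mp Q.isPGroup'
    refine ⟨m, fun c => ?_⟩
    have h3 := (l' c).2
    rw [mem_rootsOfUnity] at h3
    rw [MonoidHom.comp_apply, ← hm]
    exact h3

end L

end Cfsg.Agent.Helper87.KW
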