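import Cfsg.Agent.Helper77.KW.Defs
import Cfsg.Agent.Helper16.Quotient
import Cfsg.Agent.Helper74.CharBasic
import Cfsg.Agent.Helper81.LinTwist
import Cfsg.Agent.Helper87.KWL2a
import Cfsg.Agent.Helper14.KWL2b

/-!
# (L2c) for helper77's S4588: integrality of the inner products of the PIM-type functions of `H`

`lift_int_of` takes the statement of (L2b) as a hypothesis.
-/

set_option autoImplicit false
set_option linter.unusedSectionVars false
set_option linter.unusedVariables false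

namespace Cfsg.Agent.Helper87.KW

open Cfsg Cfsg.Agent.Helper77.KW
open scoped ComplexConjugate
open Cfsg.Agent.S4426 (cut)

universe u

/-- being a rational integer -/
def IsInt (x : ℂ) : Prop := ∃ m : ℤ, x = (m : ℂ)

theorem isInt_intCast (m : ℤ) : IsInt (m : ℂ) := ⟨m, rfl⟩
theorem isInt_natCast (m : ℕ) : IsInt (m : ℂ) := ⟨m, by simp⟩
theorem IsInt.add {x y : ℂ} (hx : IsInt x) (hy : IsInt y) : IsInt (x + y) := by
  obtain ⟨a, rfl⟩ := hx; obtain ⟨b, rfl⟩ := hy; exact ⟨a + b, by push_cast; rfl⟩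
theorem IsInt.mul {x y : ℂ} (hx : IsInt x) (hy : IsInt y) : IsInt (x * y) := by
  obtain ⟨a, rfl⟩ := hx; obtain ⟨b, rfl⟩ := hy; exact ⟨a * b, by push_cast; rfl⟩
theorem isInt_sum {ι : Type*} (s : Finset ι) (f : ι → ℂ) (h : ∀ i ∈ s, IsInt (f i)) :
    IsInt (∑ i ∈ s, f i) := by
  classical
  induction s using Finset.induction_on with
  | empty => exact ⟨0, by simp⟩
  | insert a s ha ih =>
    rw [Finset.sum_insert ha]
    exact (h a (Finset.mem_insert_self a s)).add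
      (ih fun i hi => h i (Finset.mem_insert_of_mem hi))

section L

variable {H : Type u} [Group H] [Fintype H] {p : ℕ} [Fact p.Prime] {M : Ideal AlgInt}
  (z : H) [(Subgroup.zpowers z).Normal] (n : ℕ) (D : PimData p M (H ⧸ Subgroup.zpowers z))

/-- the twisted inflation `l^r · (χ ∘ mk)` -/
noncomputable def tw (l : H →* ℂˣ) (r : ℕ) (χ : IrrCharacter (H ⧸ Subgroup.zpowers z)) : H → ℂ :=
  fun c => ((l c : ℂˣ) : ℂ) ^ r * (χ : H ⧸ Subgroup.zpowers z → ℂ) (QuotientGroup.mk c)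

theorem isCharacter_tw (l : H →* ℂˣ) (r : ℕ) (χ : IrrCharacter (H ⧸ Subgroup.zpowers z)) :
    IsCharacter H (tw z l r χ) := by
  have h1 := Cfsg.Agent.Helper81.isIrrCharacter_twist (l ^ r)
    (Cfsg.Agent.Helper16.inflate (Subgroup.zpowers z) χ).2
  have h2 : (fun g : H => (((l ^ r) g : ℂˣ) : ℂ) *
      ((Cfsg.Agent.Helper16.inflate (Subgroup.zpowers z) χ : IrrCharacter H) : H → ℂ) g)
        = tw z l r χ := by
    funext g
    unfold tw
    rw [MonoidHom.pow_apply, Units.val_pow_eq_pow_val]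
    rfl
  rw [h2] at h1
  exact Cfsg.Agent.Helper74.isCharacter_of_isIrr h1

theorem isInt_inner_tw (l : H →* ℂˣ) (r : ℕ) (χ : IrrCharacter (H ⧸ Subgroup.zpowers z))
    (ξ : IrrCharacter H) : IsInt (classInner (tw z l r χ) (ξ : H → ℂ)) := by
  obtain ⟨m, hm⟩ := Cfsg.Agent.Helper74.isCharacter_inner_irr_nat (isCharacter_tw z l r χ) ξ
  rw [hm]
  exact isInt_natCast m

/-- (L2c) with (L2b) as a hypothesis -/
theorem lift_int_of
    (hL2b : ∀ (l : H →* ℂˣ), IsPrimitiveRoot ((l z : ℂˣ) : ℂ) (p ^ n) →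
      (∃ m : ℕ, ∀ c : H, l c ^ (p ^ m) = 1) →
      ∀ (f : H ⧸ Subgroup.zpowers z → ℂ),
        (∀ k : H ⧸ Subgroup.zpowers z, p ∣ orderOf k → f k = 0) → ∀ c : H,
      cut p 1 (fun c : H => (p : ℂ) ^ n * f (QuotientGroup.mk c)) c =
        ∑ r ∈ Finset.range (p ^ n), ((l c : ℂˣ) : ℂ) ^ r * f (QuotientGroup.mk c))
    (hz : z ∈ Subgroup.center H) (hzn : orderOf z = p ^ n)
    (Q : Sylow p H) (hQ : ∀ a b : H, a ∈ (Q : Subgroup H) → b ∈ (Q : Subgroup H) → a * b = b * a)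
    (i : Fin D.e) (ξ : IrrCharacter H) :
    ∃ m : ℤ, classInner (cut p 1 (lift z n D i)) (ξ : H → ℂ) = (m : ℂ) := by
  classical
  have hp : p.Prime := Fact.out
  have hpn : p ^ n ≠ 0 := pow_ne_zero n hp.ne_zero
  have hprim := Complex.isPrimitiveRoot_exp (p ^ n) hpn
  obtain ⟨l, hlz, hlm⟩ := exists_hom_of_central z n hz hzn Q hQ _ hprim.pow_eq_one
  have hl : IsPrimitiveRoot ((l z : ℂˣ) : ℂ) (p ^ n) := by rw [hlz]; exact hprim
  have hcut : ∀ c : H, cut p 1 (lift z n D i) c =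
      (D.ε i : ℂ) * ∑ r ∈ Finset.range (p ^ n),
        ((l c : ℂˣ) : ℂ) ^ r * D.pim i (QuotientGroup.mk c) := by
    intro c
    rw [← hL2b l hl hlm (D.pim i) (fun k hk => D.hvan i k hk) c]
    unfold cut lift
    split_ifs
    · rw [mul_zero]
    · ring
  have hεε : (D.ε i : ℂ) * (D.ε i : ℂ) = 1 := by
    rcases D.hε i with h | h <;> rw [h] <;> norm_num
  have hfun : cut p 1 (lift z n D i) =
      ∑ r ∈ Finset.range (p ^ n), ((D.ε i : ℂ) • tw z l r (D.θ i) +
        ∑ ψ ∈ D.Y, (D.δ : ℂ) • tw z l r ψ) := by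
    funext c
    rw [hcut c, Finset.sum_apply, Finset.mul_sum]
    refine Finset.sum_congr rfl fun r _ => ?_
    simp only [Pi.add_apply, Pi.smul_apply, Finset.sum_apply, smul_eq_mul, tw, PimData.pim]
    have hS : ∑ ψ ∈ D.Y, (D.δ : ℂ) * (((l c : ℂˣ) : ℂ) ^ r *
        (ψ : H ⧸ Subgroup.zpowers z → ℂ) (QuotientGroup.mk c))
        = (D.δ : ℂ) * ((l c : ℂˣ) : ℂ) ^ r *
          ∑ ψ ∈ D.Y, (ψ : H ⧸ Subgroup.zpowers z → ℂ) (QuotientGroup.mk c) := by
      rw [Finset.mul_sum]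
      exact Finset.sum_congr rfl fun ψ _ => by ring
    rw [hS]
    linear_combination ((D.δ : ℂ) * ((l c : ℂˣ) : ℂ) ^ r *
      ∑ ψ ∈ D.Y, (ψ : H ⧸ Subgroup.zpowers z → ℂ) (QuotientGroup.mk c)) * hεε
  have hint : IsInt (classInner (cut p 1 (lift z n D i)) (ξ : H → ℂ)) := by
    rw [hfun, Cfsg.Agent.Helper74.classInner_sum_left]
    refine isInt_sum _ _ fun r _ => ?_
    rw [Cfsg.Agent.Helper74.classInner_add_left, Cfsg.Agent.Helper74.classInner_smul_left,
      Cfsg.Agent.Helper74.classInner_sum_left]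
    refine ((isInt_intCast _).mul (isInt_inner_tw z l r _ ξ)).add (isInt_sum _ _ fun ψ _ => ?_)
    rw [Cfsg.Agent.Helper74.classInner_smul_left]
    exact (isInt_intCast _).mul (isInt_inner_tw z l r ψ ξ)
  exact hint

/-- (L2c) integrality of the inner products of the PIM-type functions of `H` -/
theorem lift_int (hM : IsPModular p M) (hz : z ∈ Subgroup.center H) (hzn : orderOf z = p ^ n)
    (Q : Sylow p H) (hQ : ∀ a b : H, a ∈ (Q : Subgroup H) → b ∈ (Q : Subgroup H) → a * b = b * a)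
    (i : Fin D.e) (ξ : IrrCharacter H) :
    ∃ m : ℤ, classInner (cut p 1 (lift z n D i)) (ξ : H → ℂ) = (m : ℂ) :=
  lift_int_of z n D
    (fun l hl hlm f hf c => Cfsg.Agent.Helper14.KW.cut_comp_mk_eq_sum z n hz hzn l hl hlm f hf c)
    hz hzn Q hQ i ξ

end L

end Cfsg.Agent.Helper87.KW
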