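import Mathlib
import Cfsg.Agent.Helper80.LS.Defs
import Cfsg.Agent.Helper5.SLn

/-!
# S2332 piece (ME): elements of determinant one lie in the normal closure of `t0`
(given that all transvections are conjugate to `t0`), plus the lift `SL_n → G`.
-/

set_option autoImplicit false
set_option linter.unusedSectionVars false
set_option linter.unusedVariables false

namespace Cfsg.Agent.Helper87.LS

open Matrix Cfsg.Agent.Helper80.LS

variable {F : Type*} [Field F] {m : ℕ} {G : Type*} [Group G]
  (D : MatGrp F (m + 2) G)

/-- the lift of `SL_n(F)` into `G` -/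
noncomputable def slLift : Matrix.SpecialLinearGroup (Fin (m + 2)) F →* G where
  toFun M := Classical.choose (D.surj M.1 M.2)
  map_one' := by
    apply D.inj
    rw [Classical.choose_spec (D.surj (1 : Matrix.SpecialLinearGroup (Fin (m + 2)) F).1
      (1 : Matrix.SpecialLinearGroup (Fin (m + 2)) F).2), map_one]
    rfl
  map_mul' a b := by
    apply D.inj
    rw [map_mul, Classical.choose_spec (D.surj (a * b).1 (a * b).2),
      Classical.choose_spec (D.surj a.1 a.2), Classical.choose_spec (D.surj b.1 b.2)]
    rfl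

theorem φ_slLift (M : Matrix.SpecialLinearGroup (Fin (m + 2)) F) : D.φ (slLift D M) = M.1 :=
  Classical.choose_spec (D.surj M.1 M.2)

theorem slLift_eq {g : G} (hg : (D.φ g).det = 1) : slLift D ⟨D.φ g, hg⟩ = g :=
  D.inj (φ_slLift D _)

theorem single_eq_vecMulVec (i j : Fin (m + 2)) (a : F) :
    Matrix.single i j a = vecMulVec (a • (Pi.single i 1 : Fin (m + 2) → F)) (Pi.single j 1) := by
  ext k l
  simp only [Matrix.single_apply, vecMulVec_apply, Pi.smul_apply, Pi.single_apply, smul_eq_mul]
  by_cases h1 : k = i <;> by_cases h2 : l = j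
  · subst h1; subst h2; simp
  · subst h1
    have : ¬ j = l := fun h => h2 h.symm
    simp [h2, this]
  · subst h2
    have : ¬ i = k := fun h => h1 h.symm
    simp [h1, this]
  · have : ¬ i = k := fun h => h1 h.symm
    simp [h1, h2, this]

/-- (M3) every element of determinant one lies in the normal closure of `t0`, provided every
transvection is conjugate to `t0` (piece (MC)). -/
theorem mem_normalClosure_of_det
    (hconj : ∀ (u ψ : Fin (m + 2) → F), u ≠ 0 → ψ ≠ 0 → ∀ h0 : ψ ⬝ᵥ u = 0,
      ∃ g : G, g * D.t0 * g⁻¹ = D.tv u ψ h0) :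
    ∀ g : G, (D.φ g).det = 1 → g ∈ Subgroup.normalClosure ({D.t0} : Set G) := by
  intro g hg
  rw [← slLift_eq D hg]
  refine Cfsg.Agent.Helper5.transvection_induction
    (fun M => slLift D M ∈ Subgroup.normalClosure ({D.t0} : Set G)) ?_ ?_ _
  · intro i j hij a
    by_cases ha : a = 0
    · subst ha
      rw [Matrix.SpecialLinearGroup.transvection_coeff_zero, map_one]
      exact one_mem _
    · have hu : a • (Pi.single i 1 : Fin (m + 2) → F) ≠ 0 := by
        intro h
        have := congrFun h i
        simp [ha] at this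
      have hψ : (Pi.single j 1 : Fin (m + 2) → F) ≠ 0 := by
        intro h
        have := congrFun h j
        simp at this
      have h0 : (Pi.single j 1 : Fin (m + 2) → F) ⬝ᵥ (a • (Pi.single i 1 : Fin (m + 2) → F)) = 0 := by
        rw [single_dotProduct, one_mul, Pi.smul_apply, Pi.single_apply, if_neg hij.symm, smul_zero]
      obtain ⟨x, hx⟩ := hconj _ _ hu hψ h0
      have heq : slLift D (Matrix.SpecialLinearGroup.transvection hij a) = D.tv _ _ h0 := by
        apply D.inj
        rw [φ_slLift, D.φ_tv, ← single_eq_vecMulVec]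
        rfl
      show slLift D (Matrix.SpecialLinearGroup.transvection hij a) ∈ _
      rw [heq, ← hx]
      exact Subgroup.normalClosure_normal.conj_mem _
        (Subgroup.subset_normalClosure (Set.mem_singleton _)) x
  · intro A B hA hB
    show slLift D (A * B) ∈ _
    rw [map_mul]
    exact mul_mem hA hB

/-- (M3), skeleton shape: with piece (MC) as hypothesis. -/
theorem mem_normalClosure_of_det' (h : 1 ≤ m ∨ D.Full)
    (hMC : (1 ≤ m ∨ D.Full) → ∀ (u ψ : Fin (m + 2) → F), u ≠ 0 → ψ ≠ 0 → ∀ h0 : ψ ⬝ᵥ u = 0,
      ∃ g : G, g * D.t0 * g⁻¹ = D.tv u ψ h0) :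
    ∀ g : G, (D.φ g).det = 1 → g ∈ Subgroup.normalClosure ({D.t0} : Set G) :=
  mem_normalClosure_of_det D (hMC h)

end Cfsg.Agent.Helper87.LS
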