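import Mathlib
import Cfsg.Agent.Helper80.LS.Defs
import Cfsg.Agent.Helper5.SLn
import Cfsg.Agent.Helper87.LS_ME

/-!
# S2332 piece (MD): `mem_P_of_conj_mem_Q`, `exists_P_mul_det_one`, `t0_mem_commutator`.
-/

set_option autoImplicit false
set_option linter.unusedSectionVars false
set_option linter.unusedVariables false

namespace Cfsg.Agent.Helper87.LS

open Matrix Cfsg.Agent.Helper80.LS
open scoped commutatorElement

variable {F : Type*} [Field F] [Fintype F] [DecidableEq F] {m : ℕ} {G : Type*} [Group G] [Fintype G]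
  (D : MatGrp F (m + 2) G)

omit [Fintype F] [DecidableEq F] [Fintype G] in
/-- conjugating a transvection -/
theorem φ_conj_tv (g : G) (u ψ : Fin (m + 2) → F) (h0 : ψ ⬝ᵥ u = 0) :
    D.φ (g * D.tv u ψ h0 * g⁻¹) = 1 + vecMulVec (D.φ g *ᵥ u) (ψ ᵥ* D.φ g⁻¹) := by
  rw [map_mul, map_mul, D.φ_tv,
    mul_one_add_vecMulVec (D.φ g) u ψ (ψ ᵥ* D.φ g⁻¹)
      (by rw [Matrix.vecMul_vecMul, D.φ_inv_mul, Matrix.vecMul_one]),
    Matrix.mul_assoc, D.φ_mul_inv, Matrix.mul_one]

omit [Fintype F] [DecidableEq F] [Fintype G] in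
/-- (M5) -/
theorem mem_P_of_conj_mem_Q : ∀ g : G, g * D.t0 * g⁻¹ ∈ D.Q → g ∈ D.P := by
  intro g hg
  obtain ⟨r, hr0, hφ⟩ := hg
  have h1 : D.φ (g * D.t0 * g⁻¹) =
      1 + vecMulVec (D.φ g *ᵥ e0 F m) (e1 F m ᵥ* D.φ g⁻¹) := φ_conj_tv D g _ _ _
  rw [h1] at hφ
  have h2 : vecMulVec (D.φ g *ᵥ e0 F m) (e1 F m ᵥ* D.φ g⁻¹) = vecMulVec (e0 F m) r :=
    add_left_cancel hφ
  -- the row vector is nonzero
  have hψ : e1 F m ᵥ* D.φ g⁻¹ ≠ 0 := by
    intro h
    have h3 : (e1 F m ᵥ* D.φ g⁻¹) ᵥ* D.φ g = e1 F m := by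
      rw [Matrix.vecMul_vecMul, D.φ_inv_mul, Matrix.vecMul_one]
    rw [h, Matrix.zero_vecMul] at h3
    exact e1_ne_zero h3.symm
  obtain ⟨j, hj⟩ : ∃ j, (e1 F m ᵥ* D.φ g⁻¹) j ≠ 0 := by
    by_contra hall
    exact hψ (funext fun j => by_contra fun h => hall ⟨j, h⟩)
  refine ⟨r j / (e1 F m ᵥ* D.φ g⁻¹) j, ?_⟩
  ext i
  have h4 := congrFun (congrFun h2 i) j
  rw [vecMulVec_apply, vecMulVec_apply] at h4
  rw [Pi.smul_apply, smul_eq_mul, div_mul_eq_mul_div, eq_div_iff hj, h4, mul_comm]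

omit [Fintype F] [DecidableEq F] [Fintype G] in
/-- (M4) `G = P · S` -/
theorem exists_P_mul_det_one :
    ∀ g : G, ∃ p ∈ D.P, ∃ s : G, (D.φ s).det = 1 ∧ g = p * s := by
  intro g
  set d := (D.φ g).det with hd
  have hd0 : d ≠ 0 := D.det_ne_zero g
  have hdet : (bd d⁻¹ (1 : Matrix (Fin (m + 1)) (Fin (m + 1)) F) * D.φ g).det = 1 := by
    rw [Matrix.det_mul, det_bd, Matrix.det_one, mul_one, ← hd, inv_mul_cancel₀ hd0]
  obtain ⟨s, hs⟩ := D.surj _ hdet
  refine ⟨g * s⁻¹, ?_, s, by rw [hs, hdet], by group⟩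
  -- `φ (g s⁻¹) = bd d 1`
  have h1 : bd d (1 : Matrix (Fin (m + 1)) (Fin (m + 1)) F) * D.φ s = D.φ g := by
    rw [hs, ← Matrix.mul_assoc, bd_mul, mul_inv_cancel₀ hd0, Matrix.mul_one, bd_one, Matrix.one_mul]
  have h2 : D.φ (g * s⁻¹) = bd d 1 := by
    rw [map_mul, ← h1, Matrix.mul_assoc, D.φ_mul_inv, Matrix.mul_one]
  refine ⟨d, ?_⟩
  rw [h2]
  ext i
  unfold e0
  rw [Matrix.mulVec_single_one, Pi.smul_apply, smul_eq_mul, Matrix.col_apply]
  refine Fin.cases ?_ (fun i' => ?_) i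
  · simp
  · simp [Fin.succ_ne_zero]

omit [Fintype G] in
/-- `t0` is a commutator in `GL_n(q)`, `(n,q) ≠ (2,2)`. -/
theorem t0_mem_commutator (hfull : D.Full) (h : ¬ (m = 0 ∧ Fintype.card F = 2)) :
    D.t0 ∈ commutator G := by
  by_cases hm : 1 ≤ m
  · -- `n ≥ 3`: `t0 = [1 + E₀₂, 1 + E₂₁]`
    have h01 : (0 : Fin (m + 2)) ≠ 1 := fin_zero_ne_one
    have hlt : 2 < m + 2 := by omega
    have h02 : (0 : Fin (m + 2)) ≠ ⟨2, hlt⟩ := by
      intro h; have := congrArg Fin.val h; simp at this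
    have h21 : (⟨2, hlt⟩ : Fin (m + 2)) ≠ 1 := by
      intro h; have := congrArg Fin.val h; simp at this
    have hc := Cfsg.Agent.Helper5.commutator_transvection (F := F) h01 h02 h21 1
    have heq : D.t0 = slLift D (Matrix.SpecialLinearGroup.transvection h01 (1 : F)) := by
      apply D.inj
      rw [φ_slLift, D.φ_t0, Matrix.SpecialLinearGroup.transvection_coe, single_eq_vecMulVec, one_smul]
      rfl
    rw [heq, ← hc, map_commutatorElement]
    exact Subgroup.commutator_mem_commutator (Subgroup.mem_top _) (Subgroup.mem_top _)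
  · -- `n = 2`, `q ≠ 2`: `t0 = [diag(a,1), 1 + (a-1)⁻¹ E₀₁]`
    have hm0 : m = 0 := by omega
    have hq : Fintype.card F ≠ 2 := fun hq => h ⟨hm0, hq⟩
    obtain ⟨a, ha0, ha1⟩ : ∃ a : F, a ≠ 0 ∧ a ≠ 1 := by
      by_contra hall
      apply hq
      have hsub : (Finset.univ : Finset F) ⊆ {0, 1} := by
        intro x _
        by_contra hx
        simp only [Finset.mem_insert, Finset.mem_singleton, not_or] at hx
        exact hall ⟨x, hx.1, hx.2⟩
      have h1 : Fintype.card F ≤ 2 := by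
        calc Fintype.card F = (Finset.univ : Finset F).card := rfl
          _ ≤ ({0, 1} : Finset F).card := Finset.card_le_card hsub
          _ ≤ 2 := Finset.card_le_two
      have h2 : 1 < Fintype.card F := Fintype.one_lt_card
      omega
    have hb : a - 1 ≠ 0 := sub_ne_zero_of_ne ha1
    obtain ⟨hh, hhφ⟩ := hfull (bd a 1) (by rw [det_bd, Matrix.det_one, mul_one]; exact ha0)
    have h0 : e1 F m ⬝ᵥ ((a - 1)⁻¹ • e0 F m) = 0 := by
      rw [dotProduct_smul, e1_dot, e0, Pi.single_apply, if_neg (Ne.symm fin_zero_ne_one), smul_zero]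
    set x := D.tv ((a - 1)⁻¹ • e0 F m) (e1 F m) h0 with hx
    have hcomm : D.t0 = ⁅hh, x⁆ := by
      apply D.inj
      rw [commutatorElement_def, map_mul, φ_conj_tv, D.φ_t0]
      -- the row vector `e1 (φ hh)⁻¹ = e1`
      have hrow : e1 F m ᵥ* D.φ hh = e1 F m := by
        rw [hhφ]
        have hrow1 : ∀ j : Fin (m + 2), bd a (1 : Matrix (Fin (m + 1)) (Fin (m + 1)) F)
            (Fin.succ 0) j = (Pi.single (Fin.succ 0) 1 : Fin (m + 2) → F) j := by
          intro j
          refine Fin.cases ?_ (fun j' => ?_) j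
          · rw [bd_succ_zero, Pi.single_apply, if_neg (Fin.succ_ne_zero _).symm]
          · rw [bd_succ_succ, Matrix.one_apply, Pi.single_apply]
            by_cases hj : j' = 0
            · subst hj; simp
            · have : ¬ (0 : Fin (m + 1)) = j' := fun h => hj h.symm
              rw [if_neg this, if_neg (fun h => hj (Fin.succ_injective _ h))]
        ext j
        unfold e1
        rw [Matrix.single_one_vecMul, Matrix.row_apply]
        exact hrow1 j
      have hrow' : e1 F m ᵥ* D.φ hh⁻¹ = e1 F m := by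
        conv_lhs => rw [← hrow]
        rw [Matrix.vecMul_vecMul, D.φ_mul_inv, Matrix.vecMul_one]
      have hcol : D.φ hh *ᵥ ((a - 1)⁻¹ • e0 F m) = (a * (a - 1)⁻¹) • e0 F m := by
        rw [hhφ, Matrix.mulVec_smul]
        have : bd a (1 : Matrix (Fin (m + 1)) (Fin (m + 1)) F) *ᵥ e0 F m = a • e0 F m := by
          ext i
          unfold e0
          rw [Matrix.mulVec_single_one, Pi.smul_apply, smul_eq_mul, Matrix.col_apply]
          refine Fin.cases ?_ (fun i' => ?_) i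
          · simp
          · simp [Fin.succ_ne_zero]
        rw [this, smul_smul, mul_comm]
      have hxinv : D.φ x⁻¹ = 1 + vecMulVec (-((a - 1)⁻¹ • e0 F m)) (e1 F m) := by
        apply D.φ_inv_eq
        rw [hx, D.φ_tv, one_add_vecMulVec_mul, dotProduct_neg, h0, neg_zero, zero_smul, add_zero,
          neg_vecMulVec, add_neg_cancel_right]
      rw [hrow', hcol, hxinv, one_add_vecMulVec_mul, dotProduct_neg, h0, neg_zero, zero_smul,
        add_zero, add_assoc, ← add_vecMulVec]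
      congr 2
      rw [← neg_smul, ← add_smul]
      have : a * (a - 1)⁻¹ + -(a - 1)⁻¹ = 1 := by
        field_simp
        ring
      rw [this, one_smul]
    rw [hcomm]
    exact Subgroup.commutator_mem_commutator (Subgroup.mem_top _) (Subgroup.mem_top _)

end Cfsg.Agent.Helper87.LS
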