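import Cfsg.Agent.Helper80.Tor.Defs

/-!
helper87, piece (ORDF4) `val_F4` of helper80's torus farm (#13336, S2372/S2375).
-/

set_option autoImplicit false
set_option linter.unusedVariables false

namespace Cfsg.Agent.Helper87.Tor

open Cfsg.Agent.Helper18 (zact)
open Polynomial

/-- local copy of (VAL): `r ∣ Q - 1`, `0 < i < r` ⟹ `v_r(Q^i - 1) = v_r(Q - 1)` -/
theorem ORDF4_val {r Q i : ℕ} (hr : r.Prime) (hQ : 2 ≤ Q) (hQr : r ∣ Q - 1) (hi : 0 < i)
    (hir : i < r) : (Q ^ i - 1).factorization r = (Q - 1).factorization r := by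
  have : Fact r.Prime := ⟨hr⟩
  set S : ℕ := ∑ j ∈ Finset.range i, Q ^ j with hS
  have hQi : 1 ≤ Q ^ i := Nat.one_le_pow _ _ (by omega)
  have key : (Q - 1) * S = Q ^ i - 1 := by
    have h1 : ((∑ j ∈ Finset.range i, (Q : ℤ) ^ j) * ((Q : ℤ) - 1)) = (Q : ℤ) ^ i - 1 := geom_sum_mul _ _
    have hSz : (S : ℤ) = ∑ j ∈ Finset.range i, (Q : ℤ) ^ j := by
      rw [hS]; push_cast; rfl
    zify
    rw [Nat.cast_sub (by omega : 1 ≤ Q), Nat.cast_sub hQi, hSz]
    push_cast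
    rw [← h1]; ring
  have hQ1 : (Q : ZMod r) = 1 := by
    have h0 : ((Q - 1 : ℕ) : ZMod r) = 0 := (ZMod.natCast_eq_zero_iff _ _).mpr hQr
    rw [Nat.cast_sub (by omega : 1 ≤ Q)] at h0
    have := sub_eq_zero.mp h0
    simpa using this
  have hSr : ¬ r ∣ S := by
    intro hd
    have h0 : ((S : ℕ) : ZMod r) = 0 := (ZMod.natCast_eq_zero_iff _ _).mpr hd
    rw [hS] at h0
    push_cast at h0
    rw [hQ1] at h0
    simp only [one_pow, Finset.sum_const, Finset.card_range, nsmul_eq_mul, mul_one] at h0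
    have := (ZMod.natCast_eq_zero_iff _ _).mp h0
    exact absurd (Nat.le_of_dvd hi this) (by omega)
  have hS0 : S ≠ 0 := by
    intro h; apply hSr; rw [h]; exact dvd_zero _
  have hQ10 : Q - 1 ≠ 0 := by omega
  rw [← key, Nat.factorization_mul hQ10 hS0]
  simp [Nat.factorization_eq_zero_of_not_dvd hSr]

/-- (ORDF4) -/
theorem val_F4 {r q : ℕ} (hr : r.Prime) (hq : 2 ≤ q) (hr17 : 17 ≤ r) (hrq : r ∣ q ^ 4 + 1) (cF cK : ℕ)
    (hcF : cF = q ^ 24 * (q ^ 2 - 1) * (q ^ 6 - 1) * (q ^ 8 - 1) * (q ^ 12 - 1))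
    (hcK : cK = (q ^ 8) ^ 24 * ((q ^ 8) ^ 2 - 1) * ((q ^ 8) ^ 6 - 1) * ((q ^ 8) ^ 8 - 1) *
      ((q ^ 8) ^ 12 - 1)) :
    r ∣ cF ∧ cK.factorization r = 4 * (q ^ 8 - 1).factorization r := by
  have h8 : q ^ 8 - 1 = (q ^ 4 + 1) * (q ^ 4 - 1) := by
    have := Nat.sq_sub_sq (q ^ 4) 1
    rw [← pow_mul] at this
    simpa using this
  have hr8 : r ∣ q ^ 8 - 1 := by rw [h8]; exact Dvd.dvd.mul_right hrq _
  have hQ : 2 ≤ q ^ 8 := by
    calc 2 ≤ q := hq
      _ = q ^ 1 := (pow_one q).symm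
      _ ≤ q ^ 8 := Nat.pow_le_pow_right (by omega) (by norm_num)
  have hrq' : ¬ r ∣ q := by
    intro h
    have h1 : r ∣ q ^ 8 := dvd_pow h (by norm_num)
    have h2 : r ∣ q ^ 8 - (q ^ 8 - 1) := Nat.dvd_sub h1 hr8
    have h3 : q ^ 8 - (q ^ 8 - 1) = 1 := by omega
    rw [h3] at h2
    exact hr.one_lt.ne' (Nat.dvd_one.mp h2)
  refine ⟨?_, ?_⟩
  · rw [hcF]
    exact Dvd.dvd.mul_right (Dvd.dvd.mul_left hr8 _) _
  · set Q : ℕ := q ^ 8 with hQdef
    have v2 := ORDF4_val (i := 2) hr hQ hr8 (by norm_num) (by omega)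
    have v6 := ORDF4_val (i := 6) hr hQ hr8 (by norm_num) (by omega)
    have v8 := ORDF4_val (i := 8) hr hQ hr8 (by norm_num) (by omega)
    have v12 := ORDF4_val (i := 12) hr hQ hr8 (by norm_num) (by omega)
    have hne : ∀ i : ℕ, 0 < i → Q ^ i - 1 ≠ 0 := by
      intro i hi
      have : 2 ≤ Q ^ i := by
        calc 2 ≤ Q := hQ
          _ = Q ^ 1 := (pow_one Q).symm
          _ ≤ Q ^ i := Nat.pow_le_pow_right (by omega) hi
      omega
    have hQ24 : Q ^ 24 ≠ 0 := pow_ne_zero _ (by omega)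
    have hrQ : ¬ r ∣ Q ^ 24 := by
      intro h
      exact hrq' (hr.dvd_of_dvd_pow (hr.dvd_of_dvd_pow h))
    have v0 : (Q ^ 24).factorization r = 0 := Nat.factorization_eq_zero_of_not_dvd hrQ
    rw [hcK, Nat.factorization_mul (by
        exact mul_ne_zero (mul_ne_zero (mul_ne_zero hQ24 (hne 2 (by norm_num))) (hne 6 (by norm_num)))
          (hne 8 (by norm_num))) (hne 12 (by norm_num)),
      Nat.factorization_mul (mul_ne_zero (mul_ne_zero hQ24 (hne 2 (by norm_num))) (hne 6 (by norm_num)))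
        (hne 8 (by norm_num)),
      Nat.factorization_mul (mul_ne_zero hQ24 (hne 2 (by norm_num))) (hne 6 (by norm_num)),
      Nat.factorization_mul hQ24 (hne 2 (by norm_num))]
    simp only [Finsupp.coe_add, Pi.add_apply, v0, v2, v6, v8, v12]
    ring

end Cfsg.Agent.Helper87.Tor
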