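import Mathlib
import Cfsg.Agent.Helper81.RO0
import Cfsg.Agent.Helper81.ConjIrr
import Cfsg.Agent.Helper74.DegP
import Cfsg.Agent.Helper74.FSCount
import Cfsg.Agent.Helper80.Linear

/-!
# (E1) of helper81's S4581 plan: a real character of odd degree restricted to a `2`-group has a
sign character as a constituent of odd multiplicity.
-/

set_option autoImplicit false

namespace Cfsg.Agent.Helper87.RO

open Cfsg Cfsg.Agent.Helper81.RO
open scoped ComplexConjugate

universe u

/-- Parity of a sum under an involution: modulo `2`, only the fixed points count. -/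
theorem sum_zmod_two_eq_sum_fixed {α : Type*} [Fintype α] [DecidableEq α] (σ : Equiv.Perm α)
    (hσ : ∀ a, σ (σ a) = a) (f : α → ZMod 2) (hf : ∀ a, f (σ a) = f a) :
    ∑ a, f a = ∑ a ∈ Finset.univ.filter (fun a => σ a = a), f a := by
  rw [← Finset.sum_filter_add_sum_filter_not Finset.univ (fun a => σ a = a) f]
  have h0 : ∑ a ∈ Finset.univ.filter (fun a => ¬ σ a = a), f a = 0 := by
    apply Finset.sum_involution (fun a _ => σ a)
    · intro a _
      rw [hf a]
      have : (2 : ZMod 2) = 0 := by decide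
      calc f a + f a = 2 * f a := by ring
        _ = 0 := by rw [this, zero_mul]
    · intro a ha _
      exact (Finset.mem_filter.mp ha).2
    · intro a ha
      rw [Finset.mem_filter] at ha ⊢
      refine ⟨Finset.mem_univ _, ?_⟩
      intro h
      exact ha.2 (σ.injective h)
    · intro a _
      exact hσ a
  rw [h0, add_zero]

theorem exists_sign_oddMult {S G : Type u} [Group S] [Fintype S] [Group G] [Fintype G]
    (hS : IsPGroup 2 S) (ι : S →* G)
    (χ : IrrCharacter G) (hχ : RealOdd (χ : G → ℂ)) :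
    ∃ ν : S →* ℂˣ, IsSign ν ∧ OddMult ι (χ : G → ℂ) ν := by
  classical
  letI := Helper74.irrFintype S
  have hθ : IsCharacter S (fun s => (χ : G → ℂ) (ι s)) :=
    Helper74.isCharacter_comp ι (Helper74.irr_isCharacter χ)
  have hθreal : ∀ s, conj ((χ : G → ℂ) (ι s)) = (χ : G → ℂ) (ι s) := fun s => hχ.1 (ι s)
  choose m hm using fun ψ : IrrCharacter S => Helper74.isCharacter_inner_irr_nat hθ ψ
  -- the degree equation
  have hdeg : charDegree (χ : G → ℂ) = ∑ ψ : IrrCharacter S, m ψ * charDegree (ψ : S → ℂ) := by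
    have h1 := congrFun (Helper74.isCharacter_eq_sum_irr hθ) 1
    simp only [map_one, Finset.sum_apply, Pi.smul_apply, smul_eq_mul] at h1
    have h2 : ((charDegree (χ : G → ℂ) : ℕ) : ℂ) =
        ((∑ ψ : IrrCharacter S, m ψ * charDegree (ψ : S → ℂ) : ℕ) : ℂ) := by
      rw [Helper74.charDegree_cast (Helper74.irr_isCharacter χ), h1]
      push_cast
      refine Finset.sum_congr rfl fun ψ _ => ?_
      rw [hm ψ, Helper74.charDegree_cast (Helper74.irr_isCharacter ψ)]
    exact_mod_cast h2
  -- invariance under conjugation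
  have hmconj : ∀ ψ : IrrCharacter S, m (Helper81.irrConj S ψ) = m ψ := by
    intro ψ
    have h1 : classInner (fun s => (χ : G → ℂ) (ι s)) ((Helper81.irrConj S ψ : IrrCharacter S) : S → ℂ) =
        conj (classInner (fun s => (χ : G → ℂ) (ι s)) (ψ : S → ℂ)) := by
      rw [← Helper74.classInner_conj_conj]
      congr 1
      funext s
      exact (hθreal s).symm
    rw [hm, hm, Complex.conj_natCast] at h1
    exact_mod_cast h1
  have hdconj : ∀ ψ : IrrCharacter S, charDegree ((Helper81.irrConj S ψ : IrrCharacter S) : S → ℂ) =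
      charDegree (ψ : S → ℂ) := by
    intro ψ
    unfold charDegree
    rw [Helper81.irrConj_apply, Complex.conj_re]
  have hpar := sum_zmod_two_eq_sum_fixed (Helper81.irrConj S)
    (fun ψ => by apply Subtype.ext; funext s; simp)
    (fun ψ => ((m ψ * charDegree (ψ : S → ℂ) : ℕ) : ZMod 2))
    (fun ψ => by rw [hmconj, hdconj])
  have hodd : ((charDegree (χ : G → ℂ) : ℕ) : ZMod 2) = 1 :=
    (ZMod.natCast_eq_one_iff_odd).mpr hχ.2
  rw [hdeg, Nat.cast_sum, hpar] at hodd
  -- some fixed point has odd `m ψ * ψ(1)`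
  have hex : ∃ ψ ∈ Finset.univ.filter (fun ψ : IrrCharacter S => Helper81.irrConj S ψ = ψ),
      ((m ψ * charDegree (ψ : S → ℂ) : ℕ) : ZMod 2) ≠ 0 := by
    by_contra hcon
    push Not at hcon
    rw [Finset.sum_eq_zero hcon] at hodd
    exact zero_ne_one hodd
  obtain ⟨ψ, hψ, hψodd⟩ := hex
  have hψreal : ∀ s : S, ((ψ : S → ℂ) s).im = 0 :=
    (Helper81.irrConj_eq_self_iff ψ).mp (Finset.mem_filter.mp hψ).2
  have hodd2 : Odd (m ψ * charDegree (ψ : S → ℂ)) := by
    rw [← Nat.not_even_iff_odd]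
    intro hev
    exact hψodd ((ZMod.natCast_eq_zero_iff_even).mpr hev)
  obtain ⟨hmodd, hdodd⟩ := Nat.odd_mul.mp hodd2
  -- the degree of `ψ` is an odd divisor of a power of two
  have hd1 : charDegree (ψ : S → ℂ) = 1 := by
    obtain ⟨k, hk⟩ := IsPGroup.iff_card.mp hS
    have hdvd := Helper74.charDegree_dvd_card ψ
    rw [hk] at hdvd
    obtain ⟨j, -, hj⟩ := (Nat.dvd_prime_pow Nat.prime_two).mp hdvd
    rcases Nat.eq_zero_or_pos j with h0 | hpos
    · rw [hj, h0, pow_zero]
    · exfalso
      rw [hj] at hdodd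
      exact (Nat.not_even_iff_odd.mpr hdodd) ((Nat.even_pow).mpr ⟨even_two, hpos.ne'⟩)
  have hψ1 : (ψ : S → ℂ) 1 = 1 := by
    rw [← Helper74.charDegree_cast (Helper74.irr_isCharacter ψ), hd1, Nat.cast_one]
  obtain ⟨ν, hν⟩ := Helper80.IsCharacter.exists_monoidHom (Helper74.irr_isCharacter ψ) hψ1
  have hψeq : (ψ : S → ℂ) = Helper74.linFun ν := by
    funext s; exact hν s
  refine ⟨ν, ?_, m ψ, hmodd, ?_⟩
  · intro s
    -- `ν s` is real of norm one
    have h1 := Helper74.monoidHom_mul_conj ν s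
    have h2 : conj ((ν s : ℂˣ) : ℂ) = ((ν s : ℂˣ) : ℂ) := by
      rw [← hν s]; exact Complex.conj_eq_iff_im.mpr (hψreal s)
    rw [h2] at h1
    apply Units.ext
    rw [Units.val_mul, Units.val_one]
    exact h1
  · rw [← hψeq]; exact hm ψ

end Cfsg.Agent.Helper87.RO
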