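import Cfsg.Agent.Helper82.PRB.Defs
import Cfsg.Agent.Helper16.DT.Defs
import Cfsg.Agent.Helper77.BlockRank

/-!
helper87, leaf (NORM) `exists_conjEquiv_centralizer` of helper82's PRB farm (#14265, target S4712).
-/

set_option autoImplicit false
set_option linter.unusedSectionVars false
set_option linter.unusedVariables false

namespace Cfsg.Agent.Helper87.PRB

open Cfsg Cfsg.Agent.Helper16 Cfsg.Agent.Helper16.DT Cfsg.Agent.Helper82.PRB
open scoped ComplexConjugate

universe u

section Sections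

variable {G : Type u} [Group G] [Fintype G] {M : Ideal AlgInt} {p : ℕ}

/-- conjugation by `t` maps the centralizer of `z` into itself when `t z t⁻¹ = z^m`, `m` prime to
`|G|`. -/
theorem NORM_conj_mem (m : ℕ) (hm : m.Coprime (Nat.card G)) (z t : G)
    (ht : t * z * t⁻¹ = z ^ m) (k : G) (hk : k ∈ Subgroup.centralizer ({z} : Set G)) :
    t * k * t⁻¹ ∈ Subgroup.centralizer ({z} : Set G) := by
  rw [Subgroup.mem_centralizer_singleton_iff] at hk ⊢
  have hco : Nat.Coprime m (orderOf z) :=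
    Nat.Coprime.coprime_dvd_right (orderOf_dvd_natCard z) hm
  obtain ⟨j, hj⟩ := exists_pow_eq_self_of_coprime hco
  have h1 : Commute (t * k * t⁻¹) (t * z * t⁻¹) := by
    have hkz : Commute k z := hk
    show t * k * t⁻¹ * (t * z * t⁻¹) = t * z * t⁻¹ * (t * k * t⁻¹)
    calc t * k * t⁻¹ * (t * z * t⁻¹) = t * (k * z) * t⁻¹ := by group
      _ = t * (z * k) * t⁻¹ := by rw [hkz.eq]
      _ = t * z * t⁻¹ * (t * k * t⁻¹) := by group
  rw [ht] at h1
  have h2 : Commute (t * k * t⁻¹) ((z ^ m) ^ j) := h1.pow_right j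
  rw [hj] at h2
  exact h2.eq

/-- conjugation by `t⁻¹` maps the centralizer of `z` into itself when `t z t⁻¹ = z^m`. -/
theorem NORM_conj_inv_mem (m : ℕ) (z t : G)
    (ht : t * z * t⁻¹ = z ^ m) (k : G) (hk : k ∈ Subgroup.centralizer ({z} : Set G)) :
    t⁻¹ * k * t ∈ Subgroup.centralizer ({z} : Set G) := by
  rw [Subgroup.mem_centralizer_singleton_iff] at hk ⊢
  have hkz : Commute k z := hk
  have h1 : Commute k (t * z * t⁻¹) := by
    rw [ht]; exact hkz.pow_right m
  have hz : z = t⁻¹ * (t * z * t⁻¹) * t := by group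
  have h2 : t⁻¹ * k * t * (t⁻¹ * (t * z * t⁻¹) * t) = t⁻¹ * (t * z * t⁻¹) * t * (t⁻¹ * k * t) := by
    calc t⁻¹ * k * t * (t⁻¹ * (t * z * t⁻¹) * t) = t⁻¹ * (k * (t * z * t⁻¹)) * t := by group
      _ = t⁻¹ * ((t * z * t⁻¹) * k) * t := by rw [h1.eq]
      _ = t⁻¹ * (t * z * t⁻¹) * t * (t⁻¹ * k * t) := by group
  rw [← hz] at h2
  exact h2

/-- (NORM) the conjugating element normalizes the centralizer. -/
theorem exists_conjEquiv_centralizer (m : ℕ) (hm : m.Coprime (Nat.card G)) (z t : G)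
    (ht : t * z * t⁻¹ = z ^ m) :
    ∃ σ : Subgroup.centralizer ({z} : Set G) ≃* Subgroup.centralizer ({z} : Set G),
      ∀ k : Subgroup.centralizer ({z} : Set G),
        ((σ k : Subgroup.centralizer ({z} : Set G)) : G) = t * (k : G) * t⁻¹ := by
  refine ⟨{ toFun := fun k => ⟨t * (k : G) * t⁻¹, NORM_conj_mem m hm z t ht k k.2⟩
            invFun := fun k => ⟨t⁻¹ * (k : G) * t, NORM_conj_inv_mem m z t ht k k.2⟩
            left_inv := ?_
            right_inv := ?_
            map_mul' := ?_ }, fun k => rfl⟩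
  · intro k
    apply Subtype.ext
    show t⁻¹ * (t * (k : G) * t⁻¹) * t = k
    group
  · intro k
    apply Subtype.ext
    show t * (t⁻¹ * (k : G) * t) * t⁻¹ = k
    group
  · intro a b
    apply Subtype.ext
    show t * ((a * b : Subgroup.centralizer ({z} : Set G)) : G) * t⁻¹ =
      (t * (a : G) * t⁻¹) * (t * (b : G) * t⁻¹)
    rw [Subgroup.coe_mul]
    group

end Sections

end Cfsg.Agent.Helper87.PRB
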