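import Cfsg.Agent.Helper82.PRB.Defs
import Cfsg.Agent.Helper16.DT.Defs
import Cfsg.Agent.Helper77.BlockRank

/-!
helper87, leaf (SEC0) `twN_eq_zero_of_not_isConj` of helper82's PRB farm (#14265, target S4712).
-/

set_option autoImplicit false
set_option linter.unusedSectionVars false
set_option linter.unusedVariables false

namespace Cfsg.Agent.Helper87.PRB

open Cfsg Cfsg.Agent.Helper16 Cfsg.Agent.Helper16.DT Cfsg.Agent.Helper82.PRB
open scoped ComplexConjugate

universe u

section Sections

variable {G : Type u} [Group G] [Fintype G] {M : Ideal AlgInt} {p : ℕ}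

/-- local copy of (POW): `(z y)^m = z^m y` for `y` `p`-regular commuting with `z` and `m = 1` modulo
the `p'`-part of `|G|`. -/
theorem SEC0_mul_pow [Fact p.Prime] (m : ℕ)
    (hm1 : m ≡ 1 [MOD Nat.card G / p ^ (Nat.card G).factorization p]) (z y : G)
    (hzy : Commute z y) (hy : ¬ p ∣ orderOf y) : (z * y) ^ m = z ^ m * y := by
  have hp : p.Prime := Fact.out
  have hdvd : orderOf y ∣ Nat.card G := orderOf_dvd_natCard y
  have hsplit : p ^ (Nat.card G).factorization p * (Nat.card G / p ^ (Nat.card G).factorization p) =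
      Nat.card G := Nat.ordProj_mul_ordCompl_eq_self (Nat.card G) p
  have hcop : Nat.Coprime (orderOf y) (p ^ (Nat.card G).factorization p) :=
    Nat.Coprime.pow_right _ ((Nat.Prime.coprime_iff_not_dvd hp).mpr hy).symm
  have hd : orderOf y ∣ Nat.card G / p ^ (Nat.card G).factorization p := by
    rw [← hsplit] at hdvd
    exact hcop.dvd_of_dvd_mul_left hdvd
  have hmy : m ≡ 1 [MOD orderOf y] := hm1.of_dvd hd
  have hym : y ^ m = y := by
    have := (pow_eq_pow_iff_modEq (x := y) (n := m) (m := 1)).mpr hmy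
    rwa [pow_one] at this
  rw [hzy.mul_pow, hym]

/-- (SEC0) a section whose `p`-element is not conjugate to its `m`-th power contributes nothing. -/
theorem twN_eq_zero_of_not_isConj [Fact p.Prime] (hM : IsPModular p M) {B : Set (IrrCharacter G)}
    (hB : IsPBlock M B) (m : ℕ)
    (hm1 : m ≡ 1 [MOD Nat.card G / p ^ (Nat.card G).factorization p])
    (z : G) (hz : ∃ k : ℕ, orderOf z = p ^ k) (hnc : ¬ IsConj z (z ^ m))
    (y : Subgroup.centralizer ({z} : Set G)) (hy : ¬ p ∣ orderOf y) :
    twN B m (z * (y : G)) = 0 := by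
  classical
  have hp : p.Prime := Fact.out
  have hzy : Commute z (y : G) := by
    have := y.2
    rw [Subgroup.mem_centralizer_singleton_iff] at this
    exact this.symm
  have hy' : ¬ p ∣ orderOf (y : G) := by rwa [Subgroup.orderOf_coe]
  have hpow : (z * (y : G)) ^ m = z ^ m * (y : G) := SEC0_mul_pow m hm1 z y hzy hy'
  -- the two p-parts
  have hzm : ∃ k : ℕ, orderOf (z ^ m) = p ^ k := by
    obtain ⟨k, hk⟩ := hz
    have hd : orderOf (z ^ m) ∣ p ^ k := by
      rw [← hk]; exact orderOf_pow_dvd m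
    obtain ⟨j, -, hj⟩ := (Nat.dvd_prime_pow hp).mp hd
    exact ⟨j, hj⟩
  have hgx : IsPPart p (z ^ m * (y : G)) (z ^ m) :=
    ⟨(y : G), rfl, hzy.pow_left m, hzm, hy'⟩
  have hhy : IsPPart p (z * (y : G)) z := ⟨(y : G), rfl, hzy, hz, hy'⟩
  have hne : ¬ IsConj (z ^ m) z := fun h => hnc h.symm
  have horth := block_orthogonality hM (z ^ m * (y : G)) (z * (y : G)) (z ^ m) z hgx hhy hne B hB
  rw [finsum_mem_eq_finite_toFinset_sum _ (Set.toFinite B)] at horth
  rw [twN_def, hpow]
  refine Eq.trans ?_ horth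
  simp only [ite_mul, one_mul, zero_mul]
  rw [← Finset.sum_filter]
  refine Finset.sum_congr ?_ (fun ζ _ => ?_)
  · ext ζ
    simp
  · rw [Helper79.irr_inv]

end Sections

end Cfsg.Agent.Helper87.PRB
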