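import Cfsg.Agent.Helper85.XDefs
import Cfsg.Agent.Helper85.KLMain
set_option autoImplicit false

/-!
The step of the induction for the extension condition: for a fully normalized `P ≤ T` with `C_T(P) ≤ P`, an element of
`𝔄_P` is, up to conjugation by an element of `C_S(P)`, an element of `𝔄_{N_T(P)}`.
-/

namespace Cfsg.Agent.Helper87.XD3

open Cfsg Cfsg.FusionSystem Cfsg.Agent.Helper85.KL Cfsg.Agent.Helper85.XT Cfsg.Agent.Helper87

variable {Ω : Type*} [Group Ω] {S T : Subgroup Ω}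

theorem exists_mul_of_mem_sup_comm {A B : Subgroup Ω} (h : ∀ a ∈ A, ∀ b ∈ B, a * b = b * a) {x : Ω}
    (hx : x ∈ A ⊔ B) : ∃ a ∈ A, ∃ b ∈ B, a * b = x := by
  let K : Subgroup Ω :=
    { carrier := {m | ∃ a ∈ A, ∃ b ∈ B, a * b = m}
      one_mem' := ⟨1, A.one_mem, 1, B.one_mem, by simp⟩
      mul_mem' := by
        rintro _ _ ⟨a, ha, b, hb, rfl⟩ ⟨a', ha', b', hb', rfl⟩
        refine ⟨a * a', A.mul_mem ha ha', b * b', B.mul_mem hb hb', ?_⟩
        calc a * a' * (b * b') = a * (a' * b) * b' := by group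
          _ = a * (b * a') * b' := by rw [h a' ha' b hb]
          _ = a * b * (a' * b') := by group
      inv_mem' := by
        rintro _ ⟨a, ha, b, hb, rfl⟩
        refine ⟨a⁻¹, A.inv_mem ha, b⁻¹, B.inv_mem hb, ?_⟩
        rw [h a ha b hb]
        group }
  have hle : A ⊔ B ≤ K := sup_le (fun a ha => ⟨a, ha, 1, B.one_mem, by simp⟩)
    (fun b hb => ⟨1, A.one_mem, b, hb, by simp⟩)
  exact hle hx

theorem exists_mul_of_mem_sup_centralizerIn {x : Ω} (hx : x ∈ T ⊔ centralizerIn S T) :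
    ∃ t ∈ T, ∃ c ∈ centralizerIn S T, t * c = x :=
  exists_mul_of_mem_sup_comm (A := T) (B := centralizerIn S T)
    (fun a ha _ hb => (Subgroup.mem_centralizer_iff.mp hb.2) a ha) hx

theorem conj_mem_of_stronglyClosed (F : FusionSystem S) (hT : F.StronglyClosed T) {g t : Ω} (hg : g ∈ S)
    (ht : t ∈ T) : g * t * g⁻¹ ∈ T :=
  hT.2 T le_rfl (conjHom T g) (F.conj_mem hT.1 hg) ⟨t, ht⟩

theorem conj_mem_centralizerIn (F : FusionSystem S) (hT : F.StronglyClosed T) {g c : Ω} (hg : g ∈ S)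
    (hc : c ∈ centralizerIn S T) : g * c * g⁻¹ ∈ centralizerIn S T := by
  refine ⟨S.mul_mem (S.mul_mem hg hc.1) (S.inv_mem hg), ?_⟩
  show g * c * g⁻¹ ∈ Subgroup.centralizer (T : Set Ω)
  rw [Subgroup.mem_centralizer_iff]
  intro t ht
  have h1 : g⁻¹ * t * g⁻¹⁻¹ ∈ T := conj_mem_of_stronglyClosed F hT (S.inv_mem hg) ht
  have h2 := (Subgroup.mem_centralizer_iff.mp hc.2) _ h1
  calc t * (g * c * g⁻¹) = g * ((g⁻¹ * t * g⁻¹⁻¹) * c) * g⁻¹ := by group
    _ = g * (c * (g⁻¹ * t * g⁻¹⁻¹)) * g⁻¹ := by rw [h2]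
    _ = g * c * g⁻¹ * t := by group

/-- A map of `F` on a subgroup `V ⊇ T`: it carries `T` onto `T` and `C_S(T) ∩ V` into `C_S(T)`. -/
theorem hom_facts [Finite S] (F : FusionSystem S) (hT : F.StronglyClosed T) {V : Subgroup Ω} (hTV : T ≤ V)
    (ψ : V →* Ω) (hψ : ψ ∈ F.Hom V) :
    (∀ x : V, (x : Ω) ∈ T → ψ x ∈ T) ∧ (∀ t ∈ T, ∃ x : V, (x : Ω) ∈ T ∧ ψ x = t) ∧
    (∀ x : V, (x : Ω) ∈ centralizerIn S T → ψ x ∈ centralizerIn S T) := by
  have hTS := hT.1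
  have hfinT : Finite T := finite_of_le hTS
  have h1 : ∀ x : V, (x : Ω) ∈ T → ψ x ∈ T := fun x hx =>
    hT.2 T le_rfl _ (restrict_mem F hψ hTV) ⟨x, hx⟩
  have h2 : ∀ t ∈ T, ∃ x : V, (x : Ω) ∈ T ∧ ψ x = t := by
    let f : T → T := fun x => ⟨ψ ⟨x, hTV x.2⟩, h1 ⟨x, hTV x.2⟩ x.2⟩
    have hinj : Function.Injective f := by
      intro a b hab
      have := F.injective_of_mem hψ (congrArg Subtype.val hab)
      exact Subtype.ext (congrArg (fun w : V => (w : Ω)) this)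
    have hsurj := Finite.surjective_of_injective hinj
    intro t ht
    obtain ⟨x, hx⟩ := hsurj ⟨t, ht⟩
    exact ⟨⟨x, hTV x.2⟩, x.2, congrArg Subtype.val hx⟩
  refine ⟨h1, h2, fun x hx => ⟨(F.le_of_mem hψ).2 x, ?_⟩⟩
  show ψ x ∈ Subgroup.centralizer (T : Set Ω)
  rw [Subgroup.mem_centralizer_iff]
  intro t ht
  obtain ⟨y, hy, rfl⟩ := h2 t ht
  rw [← map_mul, ← map_mul]
  congr 1
  apply Subtype.ext
  exact (Subgroup.mem_centralizer_iff.mp hx.2) _ hy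

/-- A map of `F` defined on a subgroup of `T C_S(T)` takes values in `T C_S(T)`. -/
theorem map_mem_sup [Finite S] (p : ℕ) [Fact p.Prime] (hS : IsPGroup p S) (F : FusionSystem S)
    (hF : F.IsSaturated p) (hT : F.StronglyClosed T) {V : Subgroup Ω} (hV : V ≤ T ⊔ centralizerIn S T)
    (ψ : V →* Ω) (hψ : ψ ∈ F.Hom V) (x : V) : ψ x ∈ T ⊔ centralizerIn S T := by
  obtain ⟨ψ', hψ', hx'⟩ := exists_extension_mod hS F hF hT hψ
  obtain ⟨h1, h2, h3⟩ := hom_facts F hT (le_sup_right : T ≤ V ⊔ T) ψ' hψ'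
  have hall : ∀ y : ↥(V ⊔ T), ψ' y ∈ T ⊔ centralizerIn S T := by
    intro y
    have hy : (y : Ω) ∈ T ⊔ centralizerIn S T := (sup_le hV le_sup_left) y.2
    obtain ⟨t, ht, c, hc, htc⟩ := exists_mul_of_mem_sup_centralizerIn hy
    have htV : t ∈ V ⊔ T := Subgroup.mem_sup_right ht
    have hcV : c ∈ V ⊔ T := by
      have : c = t⁻¹ * y := by rw [← htc]; group
      rw [this]
      exact Subgroup.mul_mem _ (Subgroup.inv_mem _ htV) y.2
    have : y = ⟨t, htV⟩ * ⟨c, hcV⟩ := Subtype.ext htc.symm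
    rw [this, map_mul]
    exact Subgroup.mul_mem _ (Subgroup.mem_sup_left (h1 _ ht)) (Subgroup.mem_sup_right (h3 _ hc))
  have := hx' x
  have e : ψ x = ψ' (Subgroup.inclusion le_sup_left x) *
      ((ψ x)⁻¹ * ψ' (Subgroup.inclusion le_sup_left x))⁻¹ := by group
  rw [e]
  exact Subgroup.mul_mem _ (hall _) (Subgroup.inv_mem _ (Subgroup.mem_sup_left this))

theorem centralizerIn_le_centralizer {P : Subgroup Ω} (hPT : P ≤ T) :
    centralizerIn S T ≤ Subgroup.centralizer (P : Set Ω) := fun _ hc =>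
  Subgroup.centralizer_le (fun _ hx => hPT hx) hc.2

/-- For `P` with `C_T(P) ≤ P`: an element of `T C_S(T)` centralizing `P` lies in `P C_S(T)`. -/
theorem mem_sup_of_centralizes {P : Subgroup Ω} (hPT : P ≤ T) (hPc : centralizerIn T P ≤ P) {x : Ω}
    (hx : x ∈ T ⊔ centralizerIn S T) (hxP : x ∈ Subgroup.centralizer (P : Set Ω)) :
    x ∈ P ⊔ centralizerIn S T := by
  obtain ⟨t, ht, c, hc, rfl⟩ := exists_mul_of_mem_sup_centralizerIn hx
  have hcP : c ∈ Subgroup.centralizer (P : Set Ω) := centralizerIn_le_centralizer hPT hc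
  have htP : t ∈ Subgroup.centralizer (P : Set Ω) := by
    have : t = (t * c) * c⁻¹ := by group
    rw [this]; exact Subgroup.mul_mem _ hxP (Subgroup.inv_mem _ hcP)
  exact Subgroup.mul_mem _ (Subgroup.mem_sup_left (hPc ⟨ht, htP⟩)) (Subgroup.mem_sup_right hc)

/-- An element of `T C_S(T)` normalizing `P ≤ T` lies in `N_T(P) C_S(T)`. -/
theorem mem_sup_of_normalizes {P : Subgroup Ω} (hPT : P ≤ T) {x : Ω}
    (hx : x ∈ T ⊔ centralizerIn S T) (hxP : x ∈ Subgroup.normalizer (P : Set Ω)) :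
    x ∈ normalizerIn T P ⊔ centralizerIn S T := by
  obtain ⟨t, ht, c, hc, rfl⟩ := exists_mul_of_mem_sup_centralizerIn hx
  have hcP : c ∈ Subgroup.normalizer (P : Set Ω) :=
    Subgroup.centralizer_le_normalizer _ (centralizerIn_le_centralizer hPT hc)
  have htP : t ∈ Subgroup.normalizer (P : Set Ω) := by
    have : t = (t * c) * c⁻¹ := by group
    rw [this]; exact Subgroup.mul_mem _ hxP (Subgroup.inv_mem _ hcP)
  exact Subgroup.mul_mem _ (Subgroup.mem_sup_left ⟨ht, htP⟩) (Subgroup.mem_sup_right hc)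


/-- An automorphism of `Y ⊇ P` fixing `P` pointwise and acting trivially modulo `P` has order dividing `|P|`. -/
theorem pow_card_eq_one_of_fix_mod {P Y : Subgroup Ω} [Finite P] (γ : MulAut Y)
    (hγ : ∀ x : Y, (x : Ω) ∈ P → γ x = x) (hz : ∀ y : Y, ((y⁻¹ * γ y : Y) : Ω) ∈ P) :
    γ ^ Nat.card P = 1 := by
  have hfix : ∀ r : Y, γ (r⁻¹ * γ r) = r⁻¹ * γ r := fun r => hγ _ (hz r)
  have hpow : ∀ (m : ℕ) (r : Y), (γ ^ m) r = r * (r⁻¹ * γ r) ^ m := by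
    intro m
    induction m with
    | zero => intro r; simp
    | succ m ih =>
      intro r
      rw [pow_succ', MulAut.mul_apply, ih r, map_mul, map_pow, hfix r, pow_succ']
      have : γ r = r * (r⁻¹ * γ r) := by group
      rw [← mul_assoc, ← this]
  apply MulEquiv.ext
  intro r
  rw [hpow, MulAut.one_apply]
  have h1 : (⟨((r⁻¹ * γ r : Y) : Ω), hz r⟩ : P) ^ Nat.card P = 1 := pow_card_eq_one'
  have h2 : ((r⁻¹ * γ r : Y) : Ω) ^ Nat.card P = 1 := by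
    have := congrArg (fun w : P => (w : Ω)) h1
    rw [Subgroup.coe_one] at this
    rw [← this]
    rfl
  have h3 : (r⁻¹ * γ r) ^ Nat.card P = 1 := by
    apply Subtype.ext
    rw [Subgroup.coe_pow]
    exact h2
  rw [h3, mul_one]

theorem Aset_step [Finite S] (p : ℕ) [Fact p.Prime] (hS : IsPGroup p S) (F : FusionSystem S)
    (hF : F.IsSaturated p) (hT : F.StronglyClosed T) {P : Subgroup Ω} (hPT : P ≤ T)
    (hPn : F.IsFullyNormalized P) (hPc : centralizerIn T P ≤ P)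
    (β : MulAut ↥(T ⊔ centralizerIn S T)) (hβ : β ∈ Aset F T P) :
    ∃ s ∈ centralizerIn S P, ∃ σ ∈ F.autGroup (T ⊔ centralizerIn S T),
      (∀ u : ↥(T ⊔ centralizerIn S T), ((σ u : ↥(T ⊔ centralizerIn S T)) : Ω) = s * (u : Ω) * s⁻¹) ∧
      β * σ⁻¹ ∈ Aset F T (normalizerIn T P) := by
  have hTS : T ≤ S := hT.1
  have hPS : P ≤ S := hPT.trans hTS
  have hCS : centralizerIn S T ≤ S := inf_le_left
  have hUS : T ⊔ centralizerIn S T ≤ S := sup_le hTS hCS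
  have hCcP : centralizerIn S T ≤ Subgroup.centralizer (P : Set Ω) := centralizerIn_le_centralizer hPT
  have hCnP : centralizerIn S T ≤ Subgroup.normalizer (P : Set Ω) :=
    hCcP.trans (Subgroup.centralizer_le_normalizer _)
  have hCNS : centralizerIn S T ≤ normalizerIn S P := le_inf hCS hCnP
  have hPNS : P ≤ normalizerIn S P := le_inf hPS Subgroup.le_normalizer
  have hYNS : P ⊔ centralizerIn S T ≤ normalizerIn S P := sup_le hPNS hCNS
  have hYU : P ⊔ centralizerIn S T ≤ T ⊔ centralizerIn S T := sup_le_sup_right hPT _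
  have hPY : P ≤ P ⊔ centralizerIn S T := le_sup_left
  have hCY : centralizerIn S T ≤ P ⊔ centralizerIn S T := le_sup_right
  have hRT : normalizerIn T P ≤ T := inf_le_left
  have hRNS : normalizerIn T P ≤ normalizerIn S P := inf_le_inf_right _ hTS
  have hPR : P ≤ normalizerIn T P := le_inf hPT Subgroup.le_normalizer
  have hR'NS : normalizerIn T P ⊔ centralizerIn S T ≤ normalizerIn S P := sup_le hRNS hCNS
  have hR'U : normalizerIn T P ⊔ centralizerIn S T ≤ T ⊔ centralizerIn S T := sup_le_sup_right hRT _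
  have hYR' : P ⊔ centralizerIn S T ≤ normalizerIn T P ⊔ centralizerIn S T := sup_le_sup_right hPR _
  have hfinNS : Finite (normalizerIn S P) := finite_of_le inf_le_left
  have hNSp : IsPGroup p (normalizerIn S P) := hS.to_le inf_le_left
  have hfinP : Finite P := finite_of_le hPS
  have hPp : IsPGroup p P := hS.to_le hPS
  set 𝒩 : FusionSystem (normalizerIn S P) := Cfsg.Agent.S5096.normalizerSystem F P hPS with h𝒩def
  have h𝒩 : F.IsNormalizerSystem P 𝒩 := fun _ => rfl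
  have h𝒩sat : 𝒩.IsSaturated p := Cfsg.Agent.S5098.result p hS F hF P hPn 𝒩 h𝒩
  have h𝒩F : ∀ (A : Subgroup Ω) (φ : A →* Ω), φ ∈ 𝒩.Hom A → φ ∈ F.Hom A := by
    intro A φ hφ
    have hφ' : φ ∈ F.normalizerHom P A := hφ
    exact hφ'.1
  -- `Y = P C_S(T)` is weakly closed in `𝒩`
  have hYwc : ∀ (ψ : ↥(P ⊔ centralizerIn S T) →* Ω), ψ ∈ 𝒩.Hom (P ⊔ centralizerIn S T) →
      ∀ y : ↥(P ⊔ centralizerIn S T), ψ y ∈ P ⊔ centralizerIn S T := by
    intro ψ hψ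
    have hψ' : ψ ∈ F.normalizerHom P (P ⊔ centralizerIn S T) := hψ
    obtain ⟨hψF, -, -, ψ', hψ', hext, hmap⟩ := hψ'
    obtain ⟨hin, hsurj⟩ := (Cfsg.Agent.Helper85.map_subgroupOf_eq_iff ψ').mp hmap
    have hψP : ∀ x : ↥(P ⊔ centralizerIn S T), (x : Ω) ∈ P → ψ x ∈ P := by
      intro x hx
      have h1 := hin (Subgroup.inclusion le_sup_left x) hx
      rwa [hext x] at h1
    have hψPs : ∀ y ∈ P, ∃ x : ↥(P ⊔ centralizerIn S T), (x : Ω) ∈ P ∧ ψ x = y := by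
      intro y hy
      obtain ⟨w, hw, hwy⟩ := hsurj y hy
      refine ⟨⟨(w : Ω), hPY hw⟩, hw, ?_⟩
      rw [← hext, ← hwy]
      rfl
    have hψC : ∀ x : ↥(P ⊔ centralizerIn S T), (x : Ω) ∈ centralizerIn S T → ψ x ∈ P ⊔ centralizerIn S T := by
      intro x hx
      apply mem_sup_of_centralizes hPT hPc (map_mem_sup p hS F hF hT hYU ψ hψF x)
      rw [Subgroup.mem_centralizer_iff]
      intro y hy
      obtain ⟨w, hw, rfl⟩ := hψPs y hy
      rw [← map_mul, ← map_mul]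
      congr 1
      apply Subtype.ext
      exact (Subgroup.mem_centralizer_iff.mp (hCcP hx)) _ hw
    intro y
    obtain ⟨a, ha, c, hc, hac⟩ := exists_mul_of_mem_sup_comm (A := P) (B := centralizerIn S T)
      (fun a ha b hb => (Subgroup.mem_centralizer_iff.mp (hCcP hb)) a ha) y.2
    have : y = ⟨a, hPY ha⟩ * ⟨c, hCY hc⟩ := Subtype.ext hac.symm
    rw [this, map_mul]
    exact Subgroup.mul_mem _ (Subgroup.mem_sup_left (hψP _ ha)) (hψC _ hc)
  have hYrange : ∀ (ψ : ↥(P ⊔ centralizerIn S T) →* Ω), ψ ∈ 𝒩.Hom (P ⊔ centralizerIn S T) →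
      ψ.range = P ⊔ centralizerIn S T := fun ψ hψ =>
    range_eq_of_forall_mem F (h𝒩F _ ψ hψ) (hYwc ψ hψ)
  have hYn : 𝒩.IsFullyNormalized (P ⊔ centralizerIn S T) := by
    refine ⟨hYNS, fun Q hQ => ?_⟩
    obtain ⟨φ, hφ, rfl⟩ := hQ
    rw [hYrange φ hφ]
  obtain ⟨hYc, hYa⟩ := fullyAutomized_fullyCentralized_of_fullyNormalized hNSp 𝒩 h𝒩sat hYn
  have hYr : 𝒩.IsReceptive (P ⊔ centralizerIn S T) := receptive_of_fullyCentralized hNSp 𝒩 h𝒩sat hYc
  obtain ⟨-, Q, hQ⟩ := hYa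
  have hmem := Cfsg.Agent.Helper84.mem_autGroup_normalizerSystem_iff F hPY hYNS 𝒩 h𝒩
  have hmemP : ∀ g : ↥(𝒩.autGroup (P ⊔ centralizerIn S T)), ∀ x : ↥(P ⊔ centralizerIn S T), (x : Ω) ∈ P →
      (((g : MulAut ↥(P ⊔ centralizerIn S T)) x : ↥(P ⊔ centralizerIn S T)) : Ω) ∈ P :=
    fun g x hx => ((hmem _).mp g.2).2 x hx
  -- the automorphisms in `Aut_𝒩(Y)` fixing `P` pointwise
  let K1 : Subgroup ↥(𝒩.autGroup (P ⊔ centralizerIn S T)) :=
    { carrier := {γ | ∀ x : ↥(P ⊔ centralizerIn S T), (x : Ω) ∈ P →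
        (γ : MulAut ↥(P ⊔ centralizerIn S T)) x = x}
      one_mem' := fun x _ => rfl
      mul_mem' := by
        intro a b ha hb x hx
        show (a : MulAut ↥(P ⊔ centralizerIn S T)) ((b : MulAut ↥(P ⊔ centralizerIn S T)) x) = x
        rw [hb x hx, ha x hx]
      inv_mem' := by
        intro a ha x hx
        show (a : MulAut ↥(P ⊔ centralizerIn S T))⁻¹ x = x
        have h1 : (a : MulAut ↥(P ⊔ centralizerIn S T)) x = x := ha x hx
        calc (a : MulAut ↥(P ⊔ centralizerIn S T))⁻¹ x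
            = (a : MulAut ↥(P ⊔ centralizerIn S T))⁻¹ ((a : MulAut ↥(P ⊔ centralizerIn S T)) x) := by rw [h1]
          _ = x := MulAut.inv_apply_self _ _ _ }
  have hK1n : K1.Normal := by
    constructor
    intro γ hγ g x hx
    show (g : MulAut ↥(P ⊔ centralizerIn S T)) ((γ : MulAut ↥(P ⊔ centralizerIn S T))
      ((g : MulAut ↥(P ⊔ centralizerIn S T))⁻¹ x)) = x
    have h2 : (((g : MulAut ↥(P ⊔ centralizerIn S T))⁻¹ x : ↥(P ⊔ centralizerIn S T)) : Ω) ∈ P :=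
      hmemP g⁻¹ x hx
    rw [hγ _ h2]
    exact MulAut.apply_inv_self _ _ _
  -- the automorphisms in `Aut_𝒩(Y)` acting trivially modulo `P`
  let K2 : Subgroup ↥(𝒩.autGroup (P ⊔ centralizerIn S T)) :=
    { carrier := {γ | ∀ y : ↥(P ⊔ centralizerIn S T),
        ((y⁻¹ * (γ : MulAut ↥(P ⊔ centralizerIn S T)) y : ↥(P ⊔ centralizerIn S T)) : Ω) ∈ P}
      one_mem' := fun y => by
        show ((y⁻¹ * y : ↥(P ⊔ centralizerIn S T)) : Ω) ∈ P
        rw [inv_mul_cancel]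
        exact P.one_mem
      mul_mem' := by
        intro a b ha hb y
        show ((y⁻¹ * (a : MulAut ↥(P ⊔ centralizerIn S T)) ((b : MulAut ↥(P ⊔ centralizerIn S T)) y) :
          ↥(P ⊔ centralizerIn S T)) : Ω) ∈ P
        have e : (b : MulAut ↥(P ⊔ centralizerIn S T)) y =
            y * (y⁻¹ * (b : MulAut ↥(P ⊔ centralizerIn S T)) y) := by group
        rw [e, map_mul]
        have h1 := hmemP a _ (hb y)
        have h2 := ha y
        have e2 : y⁻¹ * ((a : MulAut ↥(P ⊔ centralizerIn S T)) y *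
            (a : MulAut ↥(P ⊔ centralizerIn S T)) (y⁻¹ * (b : MulAut ↥(P ⊔ centralizerIn S T)) y)) =
            (y⁻¹ * (a : MulAut ↥(P ⊔ centralizerIn S T)) y) *
            (a : MulAut ↥(P ⊔ centralizerIn S T)) (y⁻¹ * (b : MulAut ↥(P ⊔ centralizerIn S T)) y) := by group
        rw [e2, Subgroup.coe_mul]
        exact P.mul_mem h2 h1
      inv_mem' := by
        intro a ha y
        show ((y⁻¹ * (a : MulAut ↥(P ⊔ centralizerIn S T))⁻¹ y : ↥(P ⊔ centralizerIn S T)) : Ω) ∈ P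
        have h1 := ha ((a : MulAut ↥(P ⊔ centralizerIn S T))⁻¹ y)
        rw [MulAut.apply_inv_self] at h1
        have e : y⁻¹ * (a : MulAut ↥(P ⊔ centralizerIn S T))⁻¹ y =
            (((a : MulAut ↥(P ⊔ centralizerIn S T))⁻¹ y)⁻¹ * y)⁻¹ := by group
        rw [e, Subgroup.coe_inv]
        exact P.inv_mem h1 }
  have hK2n : K2.Normal := by
    constructor
    intro γ hγ g y
    show ((y⁻¹ * (g : MulAut ↥(P ⊔ centralizerIn S T)) ((γ : MulAut ↥(P ⊔ centralizerIn S T))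
      ((g : MulAut ↥(P ⊔ centralizerIn S T))⁻¹ y)) : ↥(P ⊔ centralizerIn S T)) : Ω) ∈ P
    set w := (g : MulAut ↥(P ⊔ centralizerIn S T))⁻¹ y with hw
    have hgw : (g : MulAut ↥(P ⊔ centralizerIn S T)) w = y := MulAut.apply_inv_self _ _ _
    have e : (γ : MulAut ↥(P ⊔ centralizerIn S T)) w =
        w * (w⁻¹ * (γ : MulAut ↥(P ⊔ centralizerIn S T)) w) := by group
    rw [e, map_mul, hgw, inv_mul_cancel_left]
    exact hmemP g _ (hγ w)
  have hKn : (K1 ⊓ K2).Normal := inferInstance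
  have hKp : IsPGroup p ↥(K1 ⊓ K2) := by
    obtain ⟨k, hk⟩ := hPp.exists_card_eq
    intro γ
    refine ⟨k, ?_⟩
    have h1 := pow_card_eq_one_of_fix_mod (P := P)
      ((γ : ↥(𝒩.autGroup (P ⊔ centralizerIn S T))) : MulAut ↥(P ⊔ centralizerIn S T)) γ.2.1 γ.2.2
    rw [hk] at h1
    apply Subtype.ext
    apply Subtype.ext
    rw [Subgroup.coe_pow, Subgroup.coe_pow]
    exact h1
  have hKQ : K1 ⊓ K2 ≤ Q := hKp.le_sylow_of_normal Q
  -- the data of `β`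
  obtain ⟨hβF, δ, hδF, hδP, hδβ⟩ := hβ
  have hδ𝒩 : δ ∈ 𝒩.autGroup (P ⊔ centralizerIn S T) := by
    rw [hmem]
    refine ⟨hδF, fun x hx => ?_⟩
    rw [hδP x hx]
    exact hx
  have hδK1 : (⟨δ, hδ𝒩⟩ : ↥(𝒩.autGroup (P ⊔ centralizerIn S T))) ∈ K1 := fun x hx => hδP x hx
  -- conjugation by `r ∈ N_T(P)` on `Y`
  have hYS : P ⊔ centralizerIn S T ≤ S := hYNS.trans inf_le_left
  have hfinY : Finite ↥(P ⊔ centralizerIn S T) := finite_of_le hYS
  have hconjY : ∀ r ∈ normalizerIn T P, ∀ y ∈ P ⊔ centralizerIn S T,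
      r * y * r⁻¹ ∈ P ⊔ centralizerIn S T ∧ y⁻¹ * (r * y * r⁻¹) ∈ P := by
    intro r hr y hy
    obtain ⟨a, ha, c, hc, rfl⟩ := exists_mul_of_mem_sup_comm (A := P) (B := centralizerIn S T)
      (fun a ha b hb => (Subgroup.mem_centralizer_iff.mp (hCcP hb)) a ha) hy
    have hrc : r * c = c * r := (Subgroup.mem_centralizer_iff.mp hc.2) r hr.1
    have hrc' : c * r⁻¹ = r⁻¹ * c := ((Commute.inv_left (show Commute r c from hrc)).eq).symm
    have hra : r * a * r⁻¹ ∈ P := (Subgroup.mem_normalizer_iff.mp hr.2 a).mp ha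
    have e1 : r * (a * c) * r⁻¹ = (r * a * r⁻¹) * c := by
      calc r * (a * c) * r⁻¹ = r * a * (c * r⁻¹) := by group
        _ = r * a * (r⁻¹ * c) := by rw [hrc']
        _ = (r * a * r⁻¹) * c := by group
    have hq : a⁻¹ * (r * a * r⁻¹) ∈ P := P.mul_mem (P.inv_mem ha) hra
    have hqc : a⁻¹ * (r * a * r⁻¹) * c = c * (a⁻¹ * (r * a * r⁻¹)) :=
      (Subgroup.mem_centralizer_iff.mp hc.2) _ (hPT hq)
    have e2 : (a * c)⁻¹ * (r * (a * c) * r⁻¹) = a⁻¹ * (r * a * r⁻¹) := by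
      rw [e1]
      calc (a * c)⁻¹ * (r * a * r⁻¹ * c) = c⁻¹ * (a⁻¹ * (r * a * r⁻¹) * c) := by group
        _ = c⁻¹ * (c * (a⁻¹ * (r * a * r⁻¹))) := by rw [hqc]
        _ = a⁻¹ * (r * a * r⁻¹) := by group
    refine ⟨?_, ?_⟩
    · rw [e1]
      exact Subgroup.mul_mem _ (Subgroup.mem_sup_left hra) (Subgroup.mem_sup_right hc)
    · rw [e2]
      exact hq
  have hrNY : ∀ r ∈ normalizerIn T P, r ∈ Subgroup.normalizer ((P ⊔ centralizerIn S T : Subgroup Ω) : Set Ω) := by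
    intro r hr
    have : Finite ((P ⊔ centralizerIn S T : Subgroup Ω) : Set Ω) := hfinY
    apply Subgroup.mem_normalizer_fintype
    intro n hn
    exact (hconjY r hr n hn).1
  set δhom : ↥(P ⊔ centralizerIn S T) →* Ω := (P ⊔ centralizerIn S T).subtype.comp δ.toMonoidHom with hδhomdef
  have hδhom𝒩 : δhom ∈ 𝒩.Hom (P ⊔ centralizerIn S T) := (mem_autGroup_iff 𝒩 hYNS δ).mp hδ𝒩
  have hδhomx : ∀ y, δhom y = ((δ y : ↥(P ⊔ centralizerIn S T)) : Ω) := fun y => rfl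
  have hRext : normalizerIn T P ≤ extender (normalizerIn S P) (P ⊔ centralizerIn S T) δhom := by
    intro r hr
    set cr : MulAut ↥(P ⊔ centralizerIn S T) := conjAut (P ⊔ centralizerIn S T) r (hrNY r hr) with hcrdef
    have hcr𝒩 : cr ∈ 𝒩.autGroup (P ⊔ centralizerIn S T) := by
      rw [hmem]
      refine ⟨(mem_autGroup_iff F hYS _).mpr (isIso_conjAut F hYS (hTS hr.1) (hrNY r hr)), fun x hx => ?_⟩
      exact (Subgroup.mem_normalizer_iff.mp hr.2 x).mp hx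
    have hcrK2 : (⟨cr, hcr𝒩⟩ : ↥(𝒩.autGroup (P ⊔ centralizerIn S T))) ∈ K2 := fun y => (hconjY r hr y y.2).2
    have hcomm1 : (⟨δ, hδ𝒩⟩ * ⟨cr, hcr𝒩⟩ * ⟨δ, hδ𝒩⟩⁻¹ * ⟨cr, hcr𝒩⟩⁻¹ :
        ↥(𝒩.autGroup (P ⊔ centralizerIn S T))) ∈ K1 := by
      have e : (⟨δ, hδ𝒩⟩ * ⟨cr, hcr𝒩⟩ * ⟨δ, hδ𝒩⟩⁻¹ * ⟨cr, hcr𝒩⟩⁻¹ : ↥(𝒩.autGroup (P ⊔ centralizerIn S T))) =
          ⟨δ, hδ𝒩⟩ * (⟨cr, hcr𝒩⟩ * ⟨δ, hδ𝒩⟩⁻¹ * ⟨cr, hcr𝒩⟩⁻¹) := by group
      rw [e]
      exact K1.mul_mem hδK1 (hK1n.conj_mem _ (K1.inv_mem hδK1) _)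
    have hcomm2 : (⟨δ, hδ𝒩⟩ * ⟨cr, hcr𝒩⟩ * ⟨δ, hδ𝒩⟩⁻¹ * ⟨cr, hcr𝒩⟩⁻¹ :
        ↥(𝒩.autGroup (P ⊔ centralizerIn S T))) ∈ K2 :=
      K2.mul_mem (hK2n.conj_mem _ hcrK2 _) (K2.inv_mem hcrK2)
    have hcommQ := hKQ (Subgroup.mem_inf.mpr ⟨hcomm1, hcomm2⟩)
    rw [hQ, Subgroup.mem_subgroupOf] at hcommQ
    have hcommQ' : δ * cr * δ⁻¹ * cr⁻¹ ∈ autInducedBy (normalizerIn S P) (P ⊔ centralizerIn S T) := hcommQ
    obtain ⟨k, hk, hkx⟩ := (mem_autInducedBy_iff _ _ _).mp hcommQ'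
    rw [mem_extender_iff]
    refine ⟨hRNS hr, hrNY r hr, k * r, Subgroup.mul_mem _ hk (hRNS hr), fun x hx => ?_⟩
    have e1 : (⟨r * (x : Ω) * r⁻¹, hx⟩ : ↥(P ⊔ centralizerIn S T)) = cr x := Subtype.ext rfl
    have e2 : (δ * cr * δ⁻¹ * cr⁻¹) (cr (δ x)) = δ (cr x) := by
      simp only [MulAut.mul_apply, MulAut.inv_apply_self]
    have h3 := hkx (cr (δ x))
    rw [e2] at h3
    rw [e1, hδhomx, hδhomx, h3]
    show k * (r * ((δ x : ↥(P ⊔ centralizerIn S T)) : Ω) * r⁻¹) * k⁻¹ = _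
    group
  have hR'ext : normalizerIn T P ⊔ centralizerIn S T ≤
      extender (normalizerIn S P) (P ⊔ centralizerIn S T) δhom :=
    sup_le hRext (hCY.trans (le_extender_of_mem 𝒩 hδhom𝒩))
  -- the extension `δ̃` of `δ` to `R⁺ = N_T(P) C_S(T)`
  obtain ⟨ψ, hψ, hψx⟩ := hYr.2 (P ⊔ centralizerIn S T) δhom hδhom𝒩 (hYrange δhom hδhom𝒩)
  have hδt𝒩 : ψ.comp (Subgroup.inclusion hR'ext) ∈ 𝒩.Hom (normalizerIn T P ⊔ centralizerIn S T) :=
    restrict_mem 𝒩 hψ hR'ext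
  set δt : ↥(normalizerIn T P ⊔ centralizerIn S T) →* Ω := ψ.comp (Subgroup.inclusion hR'ext) with hδtdef
  have hδtF : δt ∈ F.Hom (normalizerIn T P ⊔ centralizerIn S T) := h𝒩F _ _ hδt𝒩
  have hδtY : ∀ y : ↥(P ⊔ centralizerIn S T), δt ⟨(y : Ω), hYR' y.2⟩ = ((δ y : ↥(P ⊔ centralizerIn S T)) : Ω) :=
    fun y => hψx y y.2 (hR'ext (hYR' y.2))
  have hδtNS : ∀ x : ↥(normalizerIn T P ⊔ centralizerIn S T), δt x ∈ normalizerIn S P :=
    (𝒩.le_of_mem hδt𝒩).2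
  have hδtR' : ∀ x : ↥(normalizerIn T P ⊔ centralizerIn S T), δt x ∈ normalizerIn T P ⊔ centralizerIn S T :=
    fun x => mem_sup_of_normalizes hPT (map_mem_sup p hS F hF hT hR'U δt hδtF x) (hδtNS x).2
  have hrange : δt.range = normalizerIn T P ⊔ centralizerIn S T := range_eq_of_forall_mem F hδtF hδtR'
  have hR'S : normalizerIn T P ⊔ centralizerIn S T ≤ S := hR'NS.trans inf_le_left
  have hRS : normalizerIn T P ≤ S := hRT.trans hTS
  set e : MulAut ↥(normalizerIn T P ⊔ centralizerIn S T) := isoOfRange F hδtF hrange with hedef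
  have heF : IsIso F (e : ↥(normalizerIn T P ⊔ centralizerIn S T) ≃* ↥(normalizerIn T P ⊔ centralizerIn S T)) :=
    isIso_isoOfRange F hδtF hrange
  have hex : ∀ x, ((e x : ↥(normalizerIn T P ⊔ centralizerIn S T)) : Ω) = δt x := fun x => rfl
  -- the restriction `θ` of `δ̃` to `R = N_T(P)`
  have hRR' : normalizerIn T P ≤ normalizerIn T P ⊔ centralizerIn S T := le_sup_left
  have hδtRF : δt.comp (Subgroup.inclusion hRR') ∈ F.Hom (normalizerIn T P) := restrict_mem F hδtF hRR'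
  have hδtRR : ∀ x : ↥(normalizerIn T P), (δt.comp (Subgroup.inclusion hRR')) x ∈ normalizerIn T P :=
    fun x => ⟨hT.2 _ hRT _ hδtRF x, (hδtNS _).2⟩
  have hrangeR : (δt.comp (Subgroup.inclusion hRR')).range = normalizerIn T P :=
    range_eq_of_forall_mem F hδtRF hδtRR
  set θ : MulAut ↥(normalizerIn T P) := isoOfRange F hδtRF hrangeR with hθdef
  have hθx : ∀ x : ↥(normalizerIn T P), ((θ x : ↥(normalizerIn T P)) : Ω) = δt ⟨(x : Ω), hRR' x.2⟩ := fun x => rfl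
  have hθF : θ ∈ F.autGroup (normalizerIn T P) :=
    (mem_autGroup_iff F hRS θ).mpr (isIso_isoOfRange F hδtRF hrangeR)
  have hθP : ∀ x : ↥(normalizerIn T P), (x : Ω) ∈ P → θ x = x := by
    intro x hx
    apply Subtype.ext
    rw [hθx]
    have h1 := hδtY ⟨(x : Ω), hPY hx⟩
    rw [hδP _ hx] at h1
    exact h1
  obtain ⟨s, hs, hsx⟩ := exists_conj_of_fix p hS F hF hT hPT hPn hPc θ hθF hθP
  have hsS : s ∈ S := hs.1
  have hsnP : s ∈ Subgroup.normalizer (P : Set Ω) := Subgroup.centralizer_le_normalizer _ hs.2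
  have hfinU : Finite ↥(T ⊔ centralizerIn S T) := finite_of_le hUS
  have hfinR' : Finite ↥(normalizerIn T P ⊔ centralizerIn S T) := finite_of_le hR'S
  -- `s` normalizes `U = T C_S(T)`
  have hsU : s ∈ Subgroup.normalizer ((T ⊔ centralizerIn S T : Subgroup Ω) : Set Ω) := by
    have : Finite ((T ⊔ centralizerIn S T : Subgroup Ω) : Set Ω) := hfinU
    apply Subgroup.mem_normalizer_fintype
    intro n hn
    obtain ⟨t, ht, c, hc, rfl⟩ := exists_mul_of_mem_sup_centralizerIn hn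
    have e : s * (t * c) * s⁻¹ = (s * t * s⁻¹) * (s * c * s⁻¹) := by group
    show s * (t * c) * s⁻¹ ∈ T ⊔ centralizerIn S T
    rw [e]
    exact Subgroup.mul_mem _ (Subgroup.mem_sup_left (conj_mem_of_stronglyClosed F hT hsS ht))
      (Subgroup.mem_sup_right (conj_mem_centralizerIn F hT hsS hc))
  -- `s` normalizes `R⁺ = N_T(P) C_S(T)`
  have hsR' : s ∈ Subgroup.normalizer ((normalizerIn T P ⊔ centralizerIn S T : Subgroup Ω) : Set Ω) := by
    have : Finite ((normalizerIn T P ⊔ centralizerIn S T : Subgroup Ω) : Set Ω) := hfinR'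
    apply Subgroup.mem_normalizer_fintype
    intro n hn
    obtain ⟨a, ha, c, hc, rfl⟩ := exists_mul_of_mem_sup_comm (A := normalizerIn T P) (B := centralizerIn S T)
      (fun a ha b hb => (Subgroup.mem_centralizer_iff.mp hb.2) a ha.1) hn
    have e : s * (a * c) * s⁻¹ = (s * a * s⁻¹) * (s * c * s⁻¹) := by group
    show s * (a * c) * s⁻¹ ∈ normalizerIn T P ⊔ centralizerIn S T
    rw [e]
    refine Subgroup.mul_mem _ (Subgroup.mem_sup_left ⟨conj_mem_of_stronglyClosed F hT hsS ha.1, ?_⟩)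
      (Subgroup.mem_sup_right (conj_mem_centralizerIn F hT hsS hc))
    exact Subgroup.mul_mem _ (Subgroup.mul_mem _ hsnP ha.2) (Subgroup.inv_mem _ hsnP)
  set σ : MulAut ↥(T ⊔ centralizerIn S T) := conjAut (T ⊔ centralizerIn S T) s hsU with hσdef
  have hσF : σ ∈ F.autGroup (T ⊔ centralizerIn S T) :=
    (mem_autGroup_iff F hUS _).mpr (isIso_conjAut F hUS hsS hsU)
  set τ : MulAut ↥(normalizerIn T P ⊔ centralizerIn S T) :=
    conjAut (normalizerIn T P ⊔ centralizerIn S T) s hsR' with hτdef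
  have hτF : τ ∈ F.autGroup (normalizerIn T P ⊔ centralizerIn S T) :=
    (mem_autGroup_iff F hR'S _).mpr (isIso_conjAut F hR'S hsS hsR')
  refine ⟨s, hs, σ, hσF, fun u => rfl, ?_⟩
  refine ⟨Subgroup.mul_mem _ hβF (Subgroup.inv_mem _ hσF), e * τ⁻¹,
    Subgroup.mul_mem _ ((mem_autGroup_iff F hR'S e).mpr heF) (Subgroup.inv_mem _ hτF), ?_, ?_⟩
  · -- `δ' = δ̃ c_s⁻¹` fixes `R` pointwise
    intro x hx
    set w₀ : ↥(normalizerIn T P) := θ.symm ⟨(x : Ω), hx⟩ with hw₀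
    have hθw₀ : θ w₀ = ⟨(x : Ω), hx⟩ := θ.apply_symm_apply _
    have h1 : τ ⟨(w₀ : Ω), hRR' w₀.2⟩ = x := by
      apply Subtype.ext
      show s * (w₀ : Ω) * s⁻¹ = (x : Ω)
      rw [← hsx w₀, hθw₀]
    have h2 : τ⁻¹ x = ⟨(w₀ : Ω), hRR' w₀.2⟩ := by
      rw [← h1]
      exact MulAut.inv_apply_self _ _ _
    rw [MulAut.mul_apply, h2]
    apply Subtype.ext
    rw [hex, ← hθx w₀, hθw₀]
  · intro c hc
    have hc' : s⁻¹ * (c : Ω) * s ∈ centralizerIn S T := by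
      have := conj_mem_centralizerIn F hT (S.inv_mem hsS) hc
      rwa [inv_inv] at this
    have h1 : σ ⟨s⁻¹ * (c : Ω) * s, Subgroup.mem_sup_right hc'⟩ = c := by
      apply Subtype.ext
      show s * (s⁻¹ * (c : Ω) * s) * s⁻¹ = (c : Ω)
      group
    have h2 : σ⁻¹ c = ⟨s⁻¹ * (c : Ω) * s, Subgroup.mem_sup_right hc'⟩ := by
      have h := congrArg (fun w => σ⁻¹ w) h1
      simp only [MulAut.inv_apply_self] at h
      exact h.symm
    have h3 : τ ⟨s⁻¹ * (c : Ω) * s, Subgroup.mem_sup_right hc'⟩ =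
        ⟨(c : Ω), (le_sup_right : centralizerIn S T ≤ normalizerIn T P ⊔ centralizerIn S T) hc⟩ := by
      apply Subtype.ext
      show s * (s⁻¹ * (c : Ω) * s) * s⁻¹ = (c : Ω)
      group
    have h4 : τ⁻¹ ⟨(c : Ω), (le_sup_right : centralizerIn S T ≤ normalizerIn T P ⊔ centralizerIn S T) hc⟩ =
        ⟨s⁻¹ * (c : Ω) * s, Subgroup.mem_sup_right hc'⟩ := by
      have h := congrArg (fun w => τ⁻¹ w) h3
      simp only [MulAut.inv_apply_self] at h
      exact h.symm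
    rw [MulAut.mul_apply, MulAut.mul_apply, h2, h4, hex]
    have h5 := hδtY ⟨s⁻¹ * (c : Ω) * s, hCY hc'⟩
    have h6 := hδβ ⟨s⁻¹ * (c : Ω) * s, Subgroup.mem_sup_right hc'⟩ hc'
    rw [← h5] at h6
    exact h6

end Cfsg.Agent.Helper87.XD3
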