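import Cfsg.Agent.Helper87.FusionQuot3
import Cfsg.Agent.Helper87.FusionRadical
set_option autoImplicit false

namespace Cfsg.Agent.Helper87

open Cfsg Cfsg.FusionSystem

/-- If the image of `f` lies in the image of `g`, the image of `O^p` under `f` lies in the image of `O^p` under `g`. -/
theorem map_pResidual_le_of_range_le {A A' G : Type*} [Group A] [Group A'] [Group G] [Finite A'] {p : ℕ}
    [Fact p.Prime] (f : A →* G) (g : A' →* G) (h : f.range ≤ g.range) :
    (Cfsg.pResidual p A).map f ≤ (Cfsg.pResidual p A').map g := by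
  have h1 : (Cfsg.pResidual p A).map f.rangeRestrict ≤ Cfsg.pResidual p f.range := pResidual_map_le _
  have h2 : (Cfsg.pResidual p f.range).map (Subgroup.inclusion h) ≤ Cfsg.pResidual p g.range :=
    pResidual_map_le _
  have h3 : (Cfsg.pResidual p A').map g.rangeRestrict = Cfsg.pResidual p g.range :=
    pResidual_map_eq g.rangeRestrict_surjective
  rintro _ ⟨a, ha, rfl⟩
  have h4 : Subgroup.inclusion h (f.rangeRestrict a) ∈ Cfsg.pResidual p g.range :=
    h2 (Subgroup.mem_map_of_mem _ (h1 (Subgroup.mem_map_of_mem _ ha)))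
  rw [← h3] at h4
  obtain ⟨a', ha', ha'eq⟩ := h4
  refine ⟨a', ha', ?_⟩
  have := congrArg Subtype.val ha'eq
  exact this

variable {Ω : Type*} [Group Ω] {S : Subgroup Ω}

/-- Lifting modulo a strongly closed subgroup `T`: every element of `O^p(Aut_F(P))` agrees modulo `T` on `P` with an
element of `O^p(Aut_F(P T))`. -/
theorem exists_pResidual_lift_mod [Finite S] {p : ℕ} [Fact p.Prime] (hS : IsPGroup p S) (F : FusionSystem S)
    (hF : F.IsSaturated p) {T : Subgroup Ω} (hT : F.StronglyClosed T) {P : Subgroup Ω} (hPS : P ≤ S)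
    (α : F.autGroup P) (hα : α ∈ pResidual p (F.autGroup P)) :
    ∃ α' : F.autGroup (P ⊔ T), α' ∈ pResidual p (F.autGroup (P ⊔ T)) ∧
      ∀ x : P, (((α : MulAut P) x : P) : Ω)⁻¹ *
        (((α' : MulAut ↥(P ⊔ T)) (Subgroup.inclusion le_sup_left x) : ↥(P ⊔ T)) : Ω) ∈ T := by
  have hSN : S ≤ Subgroup.normalizer (T : Set Ω) := le_normalizer_of_stronglyClosed F hT
  have hTn : (T.subgroupOf S).Normal := by
    refine ⟨fun n hn g => ?_⟩
    rw [Subgroup.mem_subgroupOf] at hn ⊢
    exact (Subgroup.mem_normalizer_iff.mp (hSN g.2) _).mp hn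
  let θ : S →* S ⧸ T.subgroupOf S := QuotientGroup.mk' (T.subgroupOf S)
  have hker : ∀ s : S, θ s = 1 ↔ (s : Ω) ∈ T := by
    intro s
    show (QuotientGroup.mk s : S ⧸ T.subgroupOf S) = 1 ↔ _
    rw [QuotientGroup.eq_one_iff, Subgroup.mem_subgroupOf]
  have hRS : P ⊔ T ≤ S := sup_le hPS hT.1
  set R := P ⊔ T with hR
  set P' := imageAlong θ R with hP'
  have hmapR : ∀ x : R, θ ⟨x, hRS x.2⟩ ∈ P' := fun x => ⟨⟨x, hRS x.2⟩, x.2, rfl⟩
  have hsurjR : Function.Surjective (restrictHom θ hRS hmapR) := by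
    rintro ⟨_, s, hs, rfl⟩
    exact ⟨⟨s, hs⟩, Subtype.ext rfl⟩
  have hmapP : ∀ x : P, θ ⟨x, hPS x.2⟩ ∈ P' := fun x => hmapR (Subgroup.inclusion le_sup_left x)
  have hsurjP : Function.Surjective (restrictHom θ hPS hmapP) := by
    intro y
    obtain ⟨r, rfl⟩ := hsurjR y
    -- `r = x t`
    have hle : P ≤ Subgroup.normalizer (T : Set Ω) := hPS.trans hSN
    have hr : (r : Ω) ∈ ((P ⊔ T : Subgroup Ω) : Set Ω) := r.2
    rw [Subgroup.coe_mul_of_left_le_normalizer_right P T hle] at hr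
    obtain ⟨x, hx, t, ht, hxt⟩ := hr
    refine ⟨⟨x, hx⟩, ?_⟩
    apply Subtype.ext
    show θ ⟨x, hPS hx⟩ = θ ⟨r, hRS r.2⟩
    have e : (⟨r, hRS r.2⟩ : S) = ⟨x, hPS hx⟩ * ⟨t, hT.1 ht⟩ := Subtype.ext hxt.symm
    rw [e, map_mul, (hker ⟨t, hT.1 ht⟩).mpr ht, mul_one]
  let ρP := quotAutHom F hT θ hker hPS hmapP hsurjP
  let ρR := quotAutHom F hT θ hker hRS hmapR hsurjR
  have hfinR : Finite R := finite_of_le hRS
  have hrange : ρP.range ≤ ρR.range := by
    rintro _ ⟨β, rfl⟩
    have hβ := (mem_autGroup_iff F hPS _).mp β.2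
    obtain ⟨ψ, hψ, hψβ⟩ := exists_extension_mod hS F hF hT hβ
    have hψR : ∀ y : R, ψ y ∈ R := by
      apply Helper85.forall_mem_of_sup (R.comap ψ)
      · intro x
        show ψ (Subgroup.inclusion le_sup_left x) ∈ R
        have e : ψ (Subgroup.inclusion le_sup_left x) = (((β : MulAut P) x : P) : Ω) *
            ((((β : MulAut P) x : P) : Ω)⁻¹ * ψ (Subgroup.inclusion le_sup_left x)) := by group
        rw [e]
        exact Subgroup.mul_mem _ (Subgroup.mem_sup_left ((β : MulAut P) x).2) (Subgroup.mem_sup_right (hψβ x))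
      · intro t
        exact Subgroup.mem_sup_right (map_mem_of_stronglyClosed_sup F hT hψ t)
    have hinj : Function.Injective (ψ.codRestrict R hψR) := by
      intro a b hab
      exact F.injective_of_mem hψ (congrArg Subtype.val hab)
    have hbij : Function.Bijective (ψ.codRestrict R hψR) := ⟨hinj, Finite.injective_iff_surjective.mp hinj⟩
    let γ : MulAut R := MulEquiv.ofBijective (ψ.codRestrict R hψR) hbij
    have hγF : γ ∈ F.autGroup R := by
      rw [mem_autGroup_iff F hRS]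
      exact mem_of_eq F hψ (fun x => rfl)
    refine ⟨⟨γ, hγF⟩, ?_⟩
    ext y
    obtain ⟨x, rfl⟩ := hsurjP y
    have h1 := quotAutHom_apply F hT θ hker hPS hmapP hsurjP β x
    have h2 := quotAutHom_apply F hT θ hker hRS hmapR hsurjR ⟨γ, hγF⟩ (Subgroup.inclusion le_sup_left x)
    have e0 : restrictHom θ hRS hmapR (Subgroup.inclusion le_sup_left x) = restrictHom θ hPS hmapP x := rfl
    rw [e0] at h2
    show ((ρR ⟨γ, hγF⟩ (restrictHom θ hPS hmapP x) : P') : S ⧸ T.subgroupOf S) =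
      ((ρP β (restrictHom θ hPS hmapP x) : P') : S ⧸ T.subgroupOf S)
    rw [show ρR ⟨γ, hγF⟩ (restrictHom θ hPS hmapP x) = _ from h2, show ρP β (restrictHom θ hPS hmapP x) = _ from h1]
    rw [restrictHom_apply, restrictHom_apply]
    have hψS : ψ (Subgroup.inclusion le_sup_left x) ∈ S := (F.le_of_mem hψ).2 _
    have h3 : θ ((⟨((β : MulAut P) x : P), hPS ((β : MulAut P) x).2⟩ : S)⁻¹ *
        ⟨ψ (Subgroup.inclusion le_sup_left x), hψS⟩) = 1 := (hker _).mpr (hψβ x)
    rw [map_mul, map_inv, inv_mul_eq_one] at h3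
    exact h3.symm
  have hfinA : Finite (MulAut R) := finite_mulAut_of_le hRS
  have hle := map_pResidual_le_of_range_le (p := p) ρP ρR hrange
  obtain ⟨α', hα', hα'eq⟩ := hle (Subgroup.mem_map_of_mem _ hα)
  refine ⟨α', hα', fun x => ?_⟩
  have h1 := quotAutHom_apply F hT θ hker hPS hmapP hsurjP α x
  have h2 := quotAutHom_apply F hT θ hker hRS hmapR hsurjR α' (Subgroup.inclusion le_sup_left x)
  have e0 : restrictHom θ hRS hmapR (Subgroup.inclusion le_sup_left x) = restrictHom θ hPS hmapP x := rfl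
  rw [e0] at h2
  have h3 : ρR α' (restrictHom θ hPS hmapP x) = ρP α (restrictHom θ hPS hmapP x) := by
    rw [show ρR α' = ρP α from hα'eq]
  have h4 : restrictHom θ hRS hmapR ((α' : MulAut R) (Subgroup.inclusion le_sup_left x)) =
      restrictHom θ hPS hmapP ((α : MulAut P) x) := by
    rw [← show ρR α' (restrictHom θ hPS hmapP x) = _ from h2, ← show ρP α (restrictHom θ hPS hmapP x) = _ from h1]
    exact h3
  have h5 := congrArg Subtype.val h4
  rw [restrictHom_apply, restrictHom_apply] at h5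
  have hS1 : ((((α' : MulAut R) (Subgroup.inclusion le_sup_left x) : R)) : Ω) ∈ S := hRS (Subtype.property _)
  have h6 : θ ((⟨((α : MulAut P) x : P), hPS ((α : MulAut P) x).2⟩ : S)⁻¹ *
      ⟨(((α' : MulAut R) (Subgroup.inclusion le_sup_left x) : R) : Ω), hS1⟩) = 1 := by
    rw [map_mul, map_inv, inv_mul_eq_one]
    exact h5.symm
  exact (hker _).mp h6

end Cfsg.Agent.Helper87
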