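import Cfsg.Agent.Helper87.EssentialChain
set_option autoImplicit false

namespace Cfsg.Agent.Helper87

open Cfsg
open scoped commutatorElement

/-- A subgroup invariant under all automorphisms. -/
def IsChar {T : Type*} [Group T] (C : Subgroup T) : Prop := ∀ α : MulAut T, ∀ x ∈ C, α x ∈ C

theorem IsChar.normal {T : Type*} [Group T] {C : Subgroup T} (h : IsChar C) : C.Normal :=
  ⟨fun x hx g => h (MulAut.conj g) x hx⟩

theorem isChar_center (T : Type*) [Group T] : IsChar (Subgroup.center T) := by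
  intro α x hx
  rw [Subgroup.mem_center_iff] at hx ⊢
  intro g
  have h := hx (α.symm g)
  have h2 := congrArg α h
  rw [map_mul, map_mul, MulEquiv.apply_symm_apply] at h2
  exact h2

theorem isChar_commutator (T : Type*) [Group T] : IsChar (commutator T) := by
  intro α x hx
  have h : (commutator T).map α.toMonoidHom ≤ commutator T := by
    rw [commutator_def, Subgroup.map_commutator]
    exact Subgroup.commutator_mono le_top le_top
  exact h ⟨x, hx, rfl⟩

theorem isChar_ker_of_comm {T : Type*} [Group T] (φ : T →* T) (h : ∀ (α : MulAut T) (x : T), φ (α x) = α (φ x)) :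
    IsChar φ.ker := by
  intro α x hx
  rw [MonoidHom.mem_ker] at hx ⊢
  rw [h, hx, map_one]

theorem isChar_range_of_comm {T : Type*} [Group T] (φ : T →* T) (h : ∀ (α : MulAut T) (x : T), φ (α x) = α (φ x)) :
    IsChar φ.range := by
  rintro α _ ⟨x, rfl⟩
  exact ⟨α x, h α x⟩

theorem isChar_comap_of_comm {T : Type*} [Group T] (φ : T →* T) (h : ∀ (α : MulAut T) (x : T), φ (α x) = α (φ x))
    {C : Subgroup T} (hC : IsChar C) : IsChar (C.comap φ) := by
  intro α x hx
  rw [Subgroup.mem_comap] at hx ⊢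
  rw [h]
  exact hC α _ hx

theorem isChar_centralizer {T : Type*} [Group T] {C : Subgroup T} (hC : IsChar C) :
    IsChar (Subgroup.centralizer (C : Set T)) := by
  intro α x hx
  rw [Subgroup.mem_centralizer_iff] at hx ⊢
  intro g hg
  have hg' : α.symm g ∈ C := hC α.symm g hg
  have h := hx (α.symm g) hg'
  have h2 := congrArg α h
  rw [map_mul, map_mul, MulEquiv.apply_symm_apply] at h2
  exact h2

/-- A chain of characteristic subgroups from `1` to `T` with cyclic steps. -/
def HasCharChain (T : Type*) [Group T] : Prop :=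
  ∃ (m : ℕ) (c : Fin (m + 1) → Subgroup T), c 0 = ⊥ ∧ c (Fin.last m) = ⊤ ∧ (∀ i, IsChar (c i)) ∧
    ∀ i : Fin m, c i.castSucc ≤ c i.succ ∧ ∃ x : T, c i.succ = c i.castSucc ⊔ Subgroup.zpowers x

theorem false_of_hasCharChain {T : Type*} [Group T] [Finite T] {p : ℕ} [Fact p.Prime] (hT : IsPGroup p T)
    (A : Subgroup (MulAut T)) (N : Subgroup A) [N.Normal] (Y : Subgroup (A ⧸ N)) (hY : IsStronglyPEmbedded p Y)
    (h : HasCharChain T) : False := by
  obtain ⟨m, c, h0, hl, hchar, hstep⟩ := h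
  exact false_of_invariant_chain hT A N Y hY m c h0 hl (fun α i x hx => hchar i α x hx) hstep

/-- Three characteristic subgroups of orders `p`, `p ^ 2`, `p ^ 3` in a group of order `p ^ 4` forming a chain. -/
theorem hasCharChain_of_three {T : Type*} [Group T] [Finite T] {p : ℕ} [Fact p.Prime] (hcard : Nat.card T = p ^ 4)
    (C1 C2 C3 : Subgroup T) (h12 : C1 ≤ C2) (h23 : C2 ≤ C3) (hc1 : Nat.card C1 = p) (hc2 : Nat.card C2 = p ^ 2)
    (hc3 : Nat.card C3 = p ^ 3) (h1 : IsChar C1) (h2 : IsChar C2) (h3 : IsChar C3) : HasCharChain T := by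
  have hp : p.Prime := Fact.out
  obtain ⟨y1, hy1⟩ := exists_sup_zpowers_of_card hp ⊥ C1 bot_le (by rw [hc1, Subgroup.card_bot, mul_one])
  obtain ⟨y2, hy2⟩ := exists_sup_zpowers_of_card hp C1 C2 h12 (by rw [hc1, hc2]; ring)
  obtain ⟨y3, hy3⟩ := exists_sup_zpowers_of_card hp C2 C3 h23 (by rw [hc2, hc3]; ring)
  obtain ⟨y4, hy4⟩ := exists_sup_zpowers_of_card hp C3 ⊤ le_top (by rw [Subgroup.card_top, hcard, hc3]; ring)
  refine ⟨4, ![⊥, C1, C2, C3, ⊤], rfl, rfl, ?_, ?_⟩
  · intro i
    fin_cases i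
    · intro α x hx
      have hx' : x ∈ (⊥ : Subgroup T) := hx
      rw [Subgroup.mem_bot] at hx'
      show α x ∈ (⊥ : Subgroup T)
      rw [hx', map_one]
      exact Subgroup.one_mem _
    · exact h1
    · exact h2
    · exact h3
    · intro α x _
      exact Subgroup.mem_top _
  · intro i
    fin_cases i
    · exact ⟨bot_le, y1, hy1⟩
    · exact ⟨h12, y2, hy2⟩
    · exact ⟨h23, y3, hy3⟩
    · exact ⟨le_top, y4, hy4⟩

end Cfsg.Agent.Helper87
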