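import Mathlib.GroupTheory.FiniteAbelian.Basic
import Mathlib.GroupTheory.PGroup
import Mathlib.Data.ZMod.Basic
import Mathlib.GroupTheory.SpecificGroups.Cyclic
import Mathlib.Algebra.Group.PUnit
set_option autoImplicit false

namespace Cfsg.Agent.Helper87

/-- `Ω₁(G) ∩ ℧^b(G)` for a commutative group `G` (commutativity given as a hypothesis): the elements of order dividing `p`
that are `p^b`-th powers. -/
def omegaAgemo (G : Type*) [Group G] (hG : ∀ a b : G, a * b = b * a) (p b : ℕ) : Subgroup G where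
  carrier := {x | x ^ p = 1 ∧ ∃ y, x = y ^ (p ^ b)}
  one_mem' := ⟨one_pow p, 1, (one_pow _).symm⟩
  mul_mem' := by
    rintro x x' ⟨hx, y, rfl⟩ ⟨hx', y', rfl⟩
    refine ⟨?_, y * y', ?_⟩
    · rw [(show Commute (y ^ p ^ b) (y' ^ p ^ b) from hG _ _).mul_pow, hx, hx', one_mul]
    · rw [(show Commute y y' from hG _ _).mul_pow]
  inv_mem' := by
    rintro x ⟨hx, y, rfl⟩
    exact ⟨by rw [inv_pow, hx, inv_one], y⁻¹, (inv_pow y _).symm⟩

theorem mem_omegaAgemo_iff {G : Type*} [Group G] (hG : ∀ a b : G, a * b = b * a) (p b : ℕ) (x : G) :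
    x ∈ omegaAgemo G hG p b ↔ x ^ p = 1 ∧ ∃ y, x = y ^ (p ^ b) := Iff.rfl

theorem omegaAgemo_antitone {G : Type*} [Group G] (hG : ∀ a b : G, a * b = b * a) (p : ℕ) {b b' : ℕ} (h : b ≤ b') :
    omegaAgemo G hG p b' ≤ omegaAgemo G hG p b := by
  rintro x ⟨hx, y, rfl⟩
  refine ⟨hx, y ^ (p ^ (b' - b)), ?_⟩
  rw [← pow_mul, ← pow_add, Nat.sub_add_cancel h]

/-- Isomorphisms carry `omegaAgemo` to `omegaAgemo`. -/
theorem map_mem_omegaAgemo_iff {G G' : Type*} [Group G] [Group G'] (hG : ∀ a b : G, a * b = b * a)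
    (hG' : ∀ a b : G', a * b = b * a) (ψ : G ≃* G') (p b : ℕ) (x : G) :
    ψ x ∈ omegaAgemo G' hG' p b ↔ x ∈ omegaAgemo G hG p b := by
  constructor
  · rintro ⟨hx, y, hy⟩
    refine ⟨?_, ψ.symm y, ?_⟩
    · apply ψ.injective
      rw [map_pow, hx, map_one]
    · apply ψ.injective
      rw [map_pow, hy, MulEquiv.apply_symm_apply]
  · rintro ⟨hx, y, rfl⟩
    exact ⟨by rw [← map_pow, hx, map_one], ψ y, map_pow ψ y _⟩

/-- In a group of order `p ^ N`, the `p ^ N`-th powers are trivial. -/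
theorem omegaAgemo_eq_bot {G : Type*} [Group G] [Finite G] (hG : ∀ a b : G, a * b = b * a) (p N : ℕ)
    (hN : Nat.card G = p ^ N) : omegaAgemo G hG p N = ⊥ := by
  rw [eq_bot_iff]
  rintro x ⟨-, y, rfl⟩
  rw [Subgroup.mem_bot, ← hN, pow_card_eq_one']

/-! ### Cyclic groups `ZMod (p ^ e)` -/

theorem zmod_pow_eq_one_of_dvd {n k : ℕ} (h : n ∣ k) (a : Multiplicative (ZMod n)) : a ^ k = 1 := by
  obtain ⟨c, rfl⟩ := h
  apply Multiplicative.toAdd.injective
  rw [toAdd_pow, toAdd_one, nsmul_eq_mul, Nat.cast_mul, ZMod.natCast_self, zero_mul, zero_mul]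

/-- In `ZMod (p ^ e)`, written multiplicatively, the elements of order dividing `p` are `p ^ (e - 1)`-th powers. -/
theorem zmod_exists_of_pow_eq_one (p e : ℕ) [Fact p.Prime] (he : 0 < e) (a : Multiplicative (ZMod (p ^ e)))
    (ha : a ^ p = 1) : ∃ t : Multiplicative (ZMod (p ^ e)), a = t ^ (p ^ (e - 1)) := by
  have hp : p.Prime := Fact.out
  haveI : NeZero (p ^ e) := ⟨(pow_pos hp.pos e).ne'⟩
  have h1 : p • (Multiplicative.toAdd a) = 0 := by
    have := congrArg Multiplicative.toAdd ha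
    rwa [toAdd_pow, toAdd_one] at this
  have h2 : ((p * (Multiplicative.toAdd a).val : ℕ) : ZMod (p ^ e)) = 0 := by
    rw [Nat.cast_mul, ZMod.natCast_zmod_val, ← nsmul_eq_mul]
    exact h1
  rw [ZMod.natCast_eq_zero_iff] at h2
  have hpe : p ^ e = p * p ^ (e - 1) := by
    rw [← pow_succ', Nat.sub_add_cancel he]
  have h3 : p * p ^ (e - 1) ∣ p * (Multiplicative.toAdd a).val := hpe ▸ h2
  obtain ⟨s, hs⟩ := Nat.dvd_of_mul_dvd_mul_left hp.pos h3
  refine ⟨Multiplicative.ofAdd (s : ZMod (p ^ e)), ?_⟩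
  apply Multiplicative.toAdd.injective
  rw [toAdd_pow, toAdd_ofAdd, nsmul_eq_mul, ← Nat.cast_mul, ← hs, ZMod.natCast_zmod_val]

theorem zmod_exists_of_pow_eq_one' (p e n : ℕ) [Fact p.Prime] (hn : n = p ^ e) (he : 0 < e)
    (a : Multiplicative (ZMod n)) (ha : a ^ p = 1) : ∃ t : Multiplicative (ZMod n), a = t ^ (p ^ (e - 1)) := by
  subst hn
  exact zmod_exists_of_pow_eq_one p e he a ha

/-! ### Products of cyclic `p`-groups -/

section Pi

variable {ι : Type*} (m : ι → ℕ)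

theorem pi_comm (a b : (i : ι) → Multiplicative (ZMod (m i))) : a * b = b * a := mul_comm a b

/-- In a product of cyclic groups of orders `p ^ e i`: an element of `Ω₁ ∩ ℧^b` whose coordinates at the factors of order
exactly `p ^ (b + 1)` vanish lies in `Ω₁ ∩ ℧^(b+1)`. -/
theorem pi_mem_omegaAgemo_succ (p : ℕ) [Fact p.Prime] (e : ι → ℕ) (hm : ∀ i, m i = p ^ e i) (he : ∀ i, 0 < e i)
    (b : ℕ) (y : (i : ι) → Multiplicative (ZMod (m i))) (hy : y ∈ omegaAgemo _ (pi_comm m) p b)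
    (h0 : ∀ i, e i = b + 1 → y i = 1) : y ∈ omegaAgemo _ (pi_comm m) p (b + 1) := by
  obtain ⟨hyp, w, hw⟩ := hy
  have key : ∀ i, ∃ zi : Multiplicative (ZMod (m i)), y i = zi ^ (p ^ (b + 1)) := by
    intro i
    rcases lt_trichotomy (e i) (b + 1) with h | h | h
    · refine ⟨1, ?_⟩
      rw [one_pow, hw, Pi.pow_apply]
      apply zmod_pow_eq_one_of_dvd
      rw [hm i]
      exact pow_dvd_pow p (Nat.lt_succ_iff.mp h)
    · exact ⟨1, by rw [one_pow]; exact h0 i h⟩
    · have hyi : (y i) ^ p = 1 := by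
        have := congrFun hyp i
        rwa [Pi.pow_apply] at this
      obtain ⟨t, ht⟩ := zmod_exists_of_pow_eq_one' p (e i) (m i) (hm i) (he i) (y i) hyi
      refine ⟨t ^ (p ^ (e i - 1 - (b + 1))), ?_⟩
      rw [ht, ← pow_mul, ← pow_add]
      congr 2
      omega
  choose z hz using key
  refine ⟨hyp, z, ?_⟩
  funext i
  rw [Pi.pow_apply]
  exact hz i

theorem pi_apply_eq_one_of_mem_omegaAgemo_succ (p : ℕ) (e : ι → ℕ) (hm : ∀ i, m i = p ^ e i) (b : ℕ)
    (y : (i : ι) → Multiplicative (ZMod (m i))) (hy : y ∈ omegaAgemo _ (pi_comm m) p (b + 1)) (i : ι)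
    (hi : e i = b + 1) : y i = 1 := by
  obtain ⟨-, z, rfl⟩ := hy
  rw [Pi.pow_apply]
  apply zmod_pow_eq_one_of_dvd
  rw [hm i, hi]

end Pi

/-- In a product of cyclic groups of pairwise distinct orders `p ^ e i`, each section `(Ω₁ ∩ ℧^b) / (Ω₁ ∩ ℧^(b+1))` embeds
in a cyclic group. -/
theorem pi_exists_cyclic_section {ι : Type} (m : ι → ℕ) (p : ℕ) [Fact p.Prime] (e : ι → ℕ)
    (hm : ∀ i, m i = p ^ e i) (he : ∀ i, 0 < e i) (hinj : Function.Injective e) (b : ℕ) :
    ∃ (C : Type) (_ : Group C) (_ : IsCyclic C)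
      (f : ↥(omegaAgemo ((i : ι) → Multiplicative (ZMod (m i))) (pi_comm m) p b) →* C),
      ∀ y, f y = 1 ↔ (y : (i : ι) → Multiplicative (ZMod (m i))) ∈ omegaAgemo _ (pi_comm m) p (b + 1) := by
  by_cases h : ∃ i₀, e i₀ = b + 1
  · obtain ⟨i₀, hi₀⟩ := h
    refine ⟨Multiplicative (ZMod (m i₀)), inferInstance, inferInstance,
      (Pi.evalMonoidHom (fun i => Multiplicative (ZMod (m i))) i₀).comp (Subgroup.subtype _), fun y => ?_⟩
    constructor
    · intro hy
      apply pi_mem_omegaAgemo_succ m p e hm he b y y.2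
      intro i hi
      have : i = i₀ := hinj (hi.trans hi₀.symm)
      rw [this]
      exact hy
    · intro hy
      exact pi_apply_eq_one_of_mem_omegaAgemo_succ m p e hm b y hy i₀ hi₀
  · refine ⟨PUnit, inferInstance, isCyclic_of_subsingleton, 1, fun y => ?_⟩
    constructor
    · intro _
      apply pi_mem_omegaAgemo_succ m p e hm he b y y.2
      intro i hi
      exact absurd ⟨i, hi⟩ h
    · intro _
      rfl

/-- Transport of the cyclic section data along an isomorphism. -/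
theorem exists_cyclic_section_of_equiv {G G' : Type*} [Group G] [Group G'] (hG : ∀ a b : G, a * b = b * a)
    (hG' : ∀ a b : G', a * b = b * a) (ψ : G ≃* G') (p b : ℕ)
    (h : ∃ (C : Type) (_ : Group C) (_ : IsCyclic C) (f : ↥(omegaAgemo G' hG' p b) →* C),
      ∀ y, f y = 1 ↔ (y : G') ∈ omegaAgemo G' hG' p (b + 1)) :
    ∃ (C : Type) (_ : Group C) (_ : IsCyclic C) (f : ↥(omegaAgemo G hG p b) →* C),
      ∀ y, f y = 1 ↔ (y : G) ∈ omegaAgemo G hG p (b + 1) := by
  obtain ⟨C, instC, hC, f, hf⟩ := h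
  refine ⟨C, instC, hC, f.comp ((ψ.toMonoidHom.comp (Subgroup.subtype _)).codRestrict (omegaAgemo G' hG' p b)
    (fun x => (map_mem_omegaAgemo_iff hG hG' ψ p b x).mpr x.2)), fun y => ?_⟩
  rw [MonoidHom.comp_apply, hf]
  exact map_mem_omegaAgemo_iff hG hG' ψ p (b + 1) y

end Cfsg.Agent.Helper87
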