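import Cfsg.Agent.Helper87.InducedAut
import Cfsg.Agent.Helper88.OmegaAut
import Mathlib.GroupTheory.SpecificGroups.Cyclic
import Mathlib.GroupTheory.PGroup
set_option autoImplicit false

namespace Cfsg.Agent.Helper87

/-- Two endomorphisms preserving the kernel of a homomorphism into a cyclic group commute modulo that kernel. -/
theorem comm_of_cyclic_image {N C : Type*} [Group N] [Group C] [IsCyclic C] (f : N →* C) (α β : N →* N)
    (hα : ∀ x, f x = 1 → f (α x) = 1) (hβ : ∀ x, f x = 1 → f (β x) = 1) (x : N) :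
    f (α (β x)) = f (β (α x)) := by
  have hg : Function.Surjective f.rangeRestrict := f.rangeRestrict_surjective
  have hker : ∀ y : N, f.rangeRestrict y = 1 ↔ f y = 1 := by
    intro y
    rw [Subtype.ext_iff]
    rfl
  have hα' : ∀ y, f.rangeRestrict y = 1 → f.rangeRestrict (α y) = 1 := fun y hy => (hker _).mpr (hα y ((hker y).mp hy))
  have hβ' : ∀ y, f.rangeRestrict y = 1 → f.rangeRestrict (β y) = 1 := fun y hy => (hker _).mpr (hβ y ((hker y).mp hy))
  obtain ⟨m, hm⟩ := MonoidHom.map_cyclic (inducedHom f.rangeRestrict hg α hα')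
  obtain ⟨n, hn⟩ := MonoidHom.map_cyclic (inducedHom f.rangeRestrict hg β hβ')
  have h1 : f.rangeRestrict (α (β x)) = ((f.rangeRestrict x) ^ n) ^ m := by
    rw [← inducedHom_apply f.rangeRestrict hg α hα', ← inducedHom_apply f.rangeRestrict hg β hβ', hn, hm]
  have h2 : f.rangeRestrict (β (α x)) = ((f.rangeRestrict x) ^ m) ^ n := by
    rw [← inducedHom_apply f.rangeRestrict hg β hβ', ← inducedHom_apply f.rangeRestrict hg α hα', hm, hn]
  have h3 : f.rangeRestrict (α (β x)) = f.rangeRestrict (β (α x)) := by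
    rw [h1, h2, ← zpow_mul, ← zpow_mul, mul_comm]
  exact congrArg Subtype.val h3

/-- An automorphism of a finite cyclic `p`-group of order prime to `p` has order dividing `p - 1`. -/
theorem pow_pred_eq_one_of_cyclic {C : Type*} [Group C] [Finite C] [IsCyclic C] {p : ℕ} [Fact p.Prime]
    (hC : IsPGroup p C) (γ : MulAut C) (r : ℕ) (hr : r.Coprime p) (hγ : γ ^ r = 1) : γ ^ (p - 1) = 1 := by
  have hp : p.Prime := Fact.out
  have : Finite (MulAut C) := MulEquiv.finite_left
  obtain ⟨k, hk⟩ := IsPGroup.iff_card.mp hC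
  have h2 : γ ^ Nat.card (MulAut C) = 1 := pow_card_eq_one'
  rw [IsCyclic.card_mulAut, hk] at h2
  rcases Nat.eq_zero_or_pos k with h0 | h0
  · rw [h0, pow_zero] at hk
    have : Subsingleton C := (Nat.card_eq_one_iff_unique.mp hk).1
    have : γ = 1 := by
      ext x
      exact Subsingleton.elim _ _
    rw [this, one_pow]
  · rw [Nat.totient_prime_pow hp h0] at h2
    have h4 := pow_gcd_eq_one.mpr ⟨hγ, h2⟩
    have hcop : Nat.Coprime (Nat.gcd r (p ^ (k - 1) * (p - 1))) (p ^ (k - 1)) :=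
      Nat.Coprime.coprime_dvd_left (Nat.gcd_dvd_left _ _) (Nat.Coprime.pow_right _ hr)
    have hdvd : Nat.gcd r (p ^ (k - 1) * (p - 1)) ∣ p - 1 := by
      apply Nat.Coprime.dvd_of_dvd_mul_left hcop
      exact Nat.gcd_dvd_right _ _
    obtain ⟨q, hq⟩ := hdvd
    rw [hq, pow_mul, h4, one_pow]

/-- An automorphism of order prime to `p` of a finite `p`-group, preserving the kernel of a homomorphism into a cyclic
group: its `(p - 1)`-th power acts trivially modulo the kernel. -/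
theorem pow_pred_of_cyclic_image {N C : Type*} [Group N] [Finite N] [Group C] [IsCyclic C] {p : ℕ} [Fact p.Prime]
    (hN : IsPGroup p N) (f : N →* C) (α : MulAut N) (hα : ∀ x, f x = 1 → f (α x) = 1)
    (hα' : ∀ x, f x = 1 → f (α⁻¹ x) = 1) (r : ℕ) (hr : r.Coprime p) (hαr : α ^ r = 1) (x : N) :
    f ((α ^ (p - 1)) x) = f x := by
  have hg : Function.Surjective f.rangeRestrict := f.rangeRestrict_surjective
  have hker : ∀ y : N, f.rangeRestrict y = 1 ↔ f y = 1 := by
    intro y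
    rw [Subtype.ext_iff]
    rfl
  have h1 : ∀ y, f.rangeRestrict y = 1 → f.rangeRestrict (α y) = 1 := fun y hy => (hker _).mpr (hα y ((hker y).mp hy))
  have h2 : ∀ y, f.rangeRestrict y = 1 → f.rangeRestrict (α⁻¹ y) = 1 :=
    fun y hy => (hker _).mpr (hα' y ((hker y).mp hy))
  have hfin : Finite f.range := Finite.of_surjective _ hg
  have hpg : IsPGroup p f.range := hN.of_surjective _ hg
  set γ := inducedAut f.rangeRestrict hg α h1 h2 with hγdef
  have hγ : ∀ y, γ (f.rangeRestrict y) = f.rangeRestrict (α y) := fun y => inducedAut_apply _ hg α h1 h2 y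
  have hpow : ∀ (j : ℕ) (y : N), (γ ^ j) (f.rangeRestrict y) = f.rangeRestrict ((α ^ j) y) := by
    intro j
    induction j with
    | zero => intro y; rfl
    | succ j ih =>
      intro y
      rw [pow_succ', MulAut.mul_apply, ih, hγ, pow_succ', MulAut.mul_apply]
  have hγr : γ ^ r = 1 := by
    ext q
    obtain ⟨y, rfl⟩ := hg q
    rw [hpow, hαr]
    rfl
  have hγp := pow_pred_eq_one_of_cyclic hpg γ r hr hγr
  have h3 := hpow (p - 1) x
  rw [hγp] at h3
  exact (congrArg Subtype.val h3).symm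

/-- Section form of `comm_of_cyclic_image`: two automorphisms of `T` preserving subgroups `A` and `B`, where `A` is the
kernel of a homomorphism from `B` into a cyclic group, commute on `B` modulo `A`. -/
theorem comm_mod_of_cyclic_section {T C : Type*} [Group T] [Group C] [IsCyclic C] (A B : Subgroup T) (f : B →* C)
    (hf : ∀ y : B, f y = 1 ↔ (y : T) ∈ A) (α β : MulAut T)
    (hαA : ∀ y ∈ A, α y ∈ A) (hαB : ∀ y, α y ∈ B ↔ y ∈ B)
    (hβA : ∀ y ∈ A, β y ∈ A) (hβB : ∀ y, β y ∈ B ↔ y ∈ B) (y : T) (hy : y ∈ B) :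
    (β (α y))⁻¹ * α (β y) ∈ A := by
  have h := comm_of_cyclic_image f (Cfsg.Agent.Helper88.restrictAut α B hαB).toMonoidHom
    (Cfsg.Agent.Helper88.restrictAut β B hβB).toMonoidHom
    (fun x hx => (hf _).mpr (hαA _ ((hf x).mp hx))) (fun x hx => (hf _).mpr (hβA _ ((hf x).mp hx))) ⟨y, hy⟩
  have h2 : f (((Cfsg.Agent.Helper88.restrictAut β B hβB) ((Cfsg.Agent.Helper88.restrictAut α B hαB) ⟨y, hy⟩))⁻¹ *
      (Cfsg.Agent.Helper88.restrictAut α B hαB) ((Cfsg.Agent.Helper88.restrictAut β B hβB) ⟨y, hy⟩)) = 1 := by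
    rw [map_mul, map_inv, inv_mul_eq_one]
    exact h.symm
  exact (hf _).mp h2

/-- Section form of `pow_pred_of_cyclic_image`. -/
theorem pow_pred_mod_of_cyclic_section {T C : Type*} [Group T] [Finite T] [Group C] [IsCyclic C] {p : ℕ}
    [Fact p.Prime] (hT : IsPGroup p T) (A B : Subgroup T) (f : B →* C)
    (hf : ∀ y : B, f y = 1 ↔ (y : T) ∈ A) (α : MulAut T)
    (hαA : ∀ y, α y ∈ A ↔ y ∈ A) (hαB : ∀ y, α y ∈ B ↔ y ∈ B) (r : ℕ) (hr : r.Coprime p) (hαr : α ^ r = 1)
    (y : T) (hy : y ∈ B) : y⁻¹ * (α ^ (p - 1)) y ∈ A := by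
  have hαr' : (Cfsg.Agent.Helper88.restrictAut α B hαB) ^ r = 1 := by
    ext x
    rw [Cfsg.Agent.Helper88.restrictAut_pow, hαr]
    rfl
  have h := pow_pred_of_cyclic_image (hT.to_subgroup B) f (Cfsg.Agent.Helper88.restrictAut α B hαB)
    (fun x hx => (hf _).mpr ((hαA _).mpr ((hf x).mp hx)))
    (fun x hx => (hf _).mpr (by
      have h0 := (hf x).mp hx
      have : α (α⁻¹ (x : T)) ∈ A := by rw [MulAut.apply_inv_self]; exact h0
      exact (hαA _).mp this)) r hr hαr' ⟨y, hy⟩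
  have h2 : f ((⟨y, hy⟩ : B)⁻¹ * ((Cfsg.Agent.Helper88.restrictAut α B hαB) ^ (p - 1)) ⟨y, hy⟩) = 1 := by
    rw [map_mul, map_inv, inv_mul_eq_one]
    exact h.symm
  have h3 := (hf _).mp h2
  rw [Subgroup.coe_mul, Cfsg.Agent.Helper88.restrictAut_pow] at h3
  exact h3

/-- The quotient of `A ⊔ ⟨x⟩` by `A` is cyclic. -/
theorem isCyclic_quotient_of_sup_zpowers {G : Type*} [Group G] (A B : Subgroup G) [hn : (A.subgroupOf B).Normal]
    (x : G) (hB : B = A ⊔ Subgroup.zpowers x) : IsCyclic (B ⧸ A.subgroupOf B) := by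
  have hAB : A ≤ B := hB ▸ le_sup_left
  have hZB : Subgroup.zpowers x ≤ B := hB ▸ le_sup_right
  have hxB : x ∈ B := hZB (Subgroup.mem_zpowers x)
  have h1 : A.subgroupOf B ⊔ (Subgroup.zpowers x).subgroupOf B = ⊤ := by
    rw [← Subgroup.subgroupOf_sup hAB hZB, ← hB, Subgroup.subgroupOf_self]
  have h2 : (Subgroup.zpowers x).subgroupOf B = Subgroup.zpowers (⟨x, hxB⟩ : B) := by
    ext y
    rw [Subgroup.mem_subgroupOf, Subgroup.mem_zpowers_iff, Subgroup.mem_zpowers_iff]
    constructor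
    · rintro ⟨k, hk⟩
      exact ⟨k, Subtype.ext (by rw [Subgroup.coe_zpow]; exact hk)⟩
    · rintro ⟨k, hk⟩
      refine ⟨k, ?_⟩
      have := congrArg Subtype.val hk
      rwa [Subgroup.coe_zpow] at this
  have h3 : Subgroup.zpowers (QuotientGroup.mk' (A.subgroupOf B) ⟨x, hxB⟩) = ⊤ := by
    have h4 : (A.subgroupOf B ⊔ (Subgroup.zpowers x).subgroupOf B).map (QuotientGroup.mk' (A.subgroupOf B)) = ⊤ := by
      rw [h1]
      exact Subgroup.map_top_of_surjective _ (QuotientGroup.mk'_surjective _)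
    rw [Subgroup.map_sup, QuotientGroup.map_mk'_self, bot_sup_eq, h2, MonoidHom.map_zpowers] at h4
    exact h4
  exact isCyclic_iff_exists_zpowers_eq_top.mpr ⟨_, h3⟩

end Cfsg.Agent.Helper87
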