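import Cfsg.Agent.Helper87.AbelianInv
import Cfsg.Agent.Helper87.CyclicSection
set_option autoImplicit false

namespace Cfsg.Agent.Helper87

open scoped commutatorElement

theorem eq_one_of_apply_eq_mul {G : Type*} [Group G] {p : ℕ} (γ : MulAut G) (r : ℕ) (hr : r.Coprime p)
    (hγ : γ ^ r = 1) (x u : G) (hx : γ x = x * u) (hu : γ u = u) (j : ℕ) (huj : u ^ (p ^ j) = 1) : u = 1 := by
  have key : ∀ i : ℕ, (γ ^ i) x = x * u ^ i := by
    intro i
    induction i with
    | zero => simp
    | succ i ih =>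
      rw [pow_succ', MulAut.mul_apply, ih, map_mul, map_pow, hx, hu, pow_succ', mul_assoc]
  have h1 := key r
  rw [hγ, MulAut.one_apply] at h1
  have h2 : u ^ r = 1 := by
    have : x * 1 = x * u ^ r := by rw [mul_one]; exact h1
    exact (mul_left_cancel this).symm
  have h3 := pow_gcd_eq_one.mpr ⟨h2, huj⟩
  have hcop : Nat.gcd r (p ^ j) = 1 := Nat.Coprime.pow_right j hr
  rwa [hcop, pow_one] at h3

/-- An automorphism of order prime to `p` of a finite commutative `p`-group fixing the elements of order dividing `p` is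
trivial. -/
theorem aut_eq_one_of_fix_omega_comm {G : Type*} [Group G] [Finite G] (hG : ∀ a b : G, a * b = b * a) {p : ℕ}
    [Fact p.Prime] (hp : IsPGroup p G) (γ : MulAut G) (r : ℕ) (hr : r.Coprime p) (hγ : γ ^ r = 1)
    (hfix : ∀ x : G, x ^ p = 1 → γ x = x) : γ = 1 := by
  have key : ∀ (j : ℕ) (x : G), x ^ (p ^ j) = 1 → γ x = x := by
    intro j
    induction j with
    | zero =>
      intro x hx
      rw [pow_zero, pow_one] at hx
      rw [hx, map_one]
    | succ j ih =>
      intro x hx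
      have h1 : γ (x ^ p) = x ^ p := by
        apply ih
        rw [← pow_mul, ← pow_succ']
        exact hx
      have hu : (x⁻¹ * γ x) ^ p = 1 := by
        rw [(show Commute x⁻¹ (γ x) from hG _ _).mul_pow, ← map_pow, h1, inv_pow, inv_mul_cancel]
      have h2 : γ x = x * (x⁻¹ * γ x) := by group
      have h3 := eq_one_of_apply_eq_mul γ r hr hγ x (x⁻¹ * γ x) h2 (hfix _ hu) 1 (by rw [pow_one]; exact hu)
      rw [h3, mul_one] at h2
      exact h2
  ext x
  obtain ⟨j, hj⟩ := hp x
  exact key j x hj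

/-- An automorphism of order prime to `p` of a finite commutative `p`-group stabilizing the chain `Ω₁ ∩ ℧^b` is
trivial. -/
theorem aut_eq_one_of_stabilizes_omegaAgemo {G : Type*} [Group G] [Finite G] (hG : ∀ a b : G, a * b = b * a) {p : ℕ}
    [Fact p.Prime] (hp : IsPGroup p G) (γ : MulAut G) (r : ℕ) (hr : r.Coprime p) (hγ : γ ^ r = 1)
    (hstab : ∀ b : ℕ, ∀ x ∈ omegaAgemo G hG p b, x⁻¹ * γ x ∈ omegaAgemo G hG p (b + 1)) : γ = 1 := by
  obtain ⟨N, hN⟩ := IsPGroup.iff_card.mp hp
  have key : ∀ d b : ℕ, N ≤ b + d → ∀ x ∈ omegaAgemo G hG p b, γ x = x := by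
    intro d
    induction d with
    | zero =>
      intro b hb x hx
      have h1 := omegaAgemo_antitone hG p hb hx
      rw [omegaAgemo_eq_bot hG p N hN, Subgroup.mem_bot] at h1
      rw [h1, map_one]
    | succ d ih =>
      intro b hb x hx
      have hu := hstab b x hx
      have hfixu := ih (b + 1) (by omega) _ hu
      have h2 : γ x = x * (x⁻¹ * γ x) := by group
      have h3 := eq_one_of_apply_eq_mul γ r hr hγ x (x⁻¹ * γ x) h2 hfixu 1 (by rw [pow_one]; exact hu.1)
      rw [h3, mul_one] at h2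
      exact h2
  apply aut_eq_one_of_fix_omega_comm hG hp γ r hr hγ
  intro x hx
  exact key N 0 (by omega) x ⟨hx, x, by rw [pow_zero, pow_one]⟩

theorem pow_card_subgroup_eq_one' {G : Type*} [Group G] (H : Subgroup G) [Finite H] {g : G} (hg : g ∈ H) :
    g ^ Nat.card H = 1 := by
  have h1 : (⟨g, hg⟩ : H) ^ Nat.card H = 1 := pow_card_eq_one'
  have h2 := congrArg Subtype.val h1
  rw [Subgroup.coe_pow] at h2
  exact h2

/-- In a finite commutative `p`-group whose sections `(Ω₁ ∩ ℧^b) / (Ω₁ ∩ ℧^(b+1))` embed in cyclic groups, the groups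
of automorphisms of order prime to `p` are commutative of exponent dividing `p - 1`. -/
theorem comm_and_exp_of_cyclic_sections {G : Type*} [Group G] [Finite G] (hG : ∀ a b : G, a * b = b * a) {p : ℕ}
    [Fact p.Prime] (hp : IsPGroup p G)
    (hsec : ∀ b : ℕ, ∃ (C : Type) (_ : Group C) (_ : IsCyclic C) (f : ↥(omegaAgemo G hG p b) →* C),
      ∀ y, f y = 1 ↔ (y : G) ∈ omegaAgemo G hG p (b + 1))
    (H : Subgroup (MulAut G)) (hH : (Nat.card H).Coprime p) :
    (∀ a ∈ H, ∀ b ∈ H, a * b = b * a) ∧ ∀ h ∈ H, h ^ (p - 1) = 1 := by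
  have : Finite (MulAut G) := MulEquiv.finite_left
  have hinv : ∀ (α : MulAut G) (b : ℕ) (y : G), α y ∈ omegaAgemo G hG p b ↔ y ∈ omegaAgemo G hG p b :=
    fun α b y => map_mem_omegaAgemo_iff hG hG α p b y
  constructor
  · intro α hα β hβ
    have hγH : ⁅α, β⁆ ∈ H := H.mul_mem (H.mul_mem (H.mul_mem hα hβ) (H.inv_mem hα)) (H.inv_mem hβ)
    have h1 : ⁅α, β⁆ = 1 := by
      apply aut_eq_one_of_stabilizes_omegaAgemo hG hp _ (Nat.card H) hH (pow_card_subgroup_eq_one' H hγH)
      intro b x hx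
      obtain ⟨C, instC, hC, f, hf⟩ := hsec b
      have hy : α⁻¹ (β⁻¹ x) ∈ omegaAgemo G hG p b := (hinv _ _ _).mpr ((hinv _ _ _).mpr hx)
      have key := comm_mod_of_cyclic_section (omegaAgemo G hG p (b + 1)) (omegaAgemo G hG p b) f hf α β
        (fun y hy => (hinv α _ y).mpr hy) (hinv α b) (fun y hy => (hinv β _ y).mpr hy) (hinv β b)
        (α⁻¹ (β⁻¹ x)) hy
      have e : x⁻¹ * ⁅α, β⁆ x = (β (α (α⁻¹ (β⁻¹ x))))⁻¹ * α (β (α⁻¹ (β⁻¹ x))) := by
        rw [commutatorElement_def]
        simp [MulAut.mul_apply]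
      rw [e]
      exact key
    exact commutatorElement_eq_one_iff_mul_comm.mp h1
  · intro α hα
    apply aut_eq_one_of_stabilizes_omegaAgemo hG hp _ (Nat.card H) hH (pow_card_subgroup_eq_one' H (H.pow_mem hα _))
    intro b x hx
    obtain ⟨C, instC, hC, f, hf⟩ := hsec b
    exact pow_pred_mod_of_cyclic_section hp (omegaAgemo G hG p (b + 1)) (omegaAgemo G hG p b) f hf α
      (hinv α _) (hinv α b) (Nat.card H) hH (pow_card_subgroup_eq_one' H hα) x hx

end Cfsg.Agent.Helper87
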