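import Cfsg.Agent.Helper87.AbelianInv2
set_option autoImplicit false

namespace Cfsg.Agent.Helper87

/-- Splitting off one factor of a product of groups, as a multiplicative equivalence. -/
def mulEquivPiSplitAt {ι : Type*} [DecidableEq ι] (i : ι) (M : ι → Type*) [∀ j, Group (M j)] :
    (∀ j, M j) ≃* M i × ∀ j : { j // j ≠ i }, M j :=
  { Equiv.piSplitAt i M with map_mul' := fun _ _ => rfl }

/-- A finite commutative `p`-group that is not of the form `(Z/pⁿ × Z/pⁿ) × H` has cyclic sections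
`(Ω₁ ∩ ℧^b) / (Ω₁ ∩ ℧^(b+1))`. -/
theorem exists_cyclic_sections_of_no_repeat {G : Type*} [Group G] [Finite G] (hG : ∀ a b : G, a * b = b * a)
    {p : ℕ} [Fact p.Prime] (hp : IsPGroup p G)
    (hno : ¬ ∃ (n : ℕ) (H : Type) (_ : CommGroup H), 0 < n ∧
      Nonempty (G ≃* (Multiplicative (ZMod (p ^ n)) × Multiplicative (ZMod (p ^ n))) × H)) :
    ∀ b : ℕ, ∃ (C : Type) (_ : Group C) (_ : IsCyclic C) (f : ↥(omegaAgemo G hG p b) →* C),
      ∀ y, f y = 1 ↔ (y : G) ∈ omegaAgemo G hG p (b + 1) := by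
  classical
  have hpp : p.Prime := Fact.out
  letI cg : CommGroup G := { (inferInstance : Group G) with mul_comm := hG }
  obtain ⟨ι, fι, m, hm1, ⟨ψ⟩⟩ := CommGroup.equiv_prod_multiplicative_zmod_of_finite G
  obtain ⟨N, hN⟩ := IsPGroup.iff_card.mp hp
  -- the orders are powers of `p`
  have hcard : Nat.card G = ∏ i, m i := by
    rw [Nat.card_congr ψ.toEquiv, Nat.card_pi]
    apply Finset.prod_congr rfl
    intro i _
    rw [Nat.card_congr Multiplicative.toAdd, Nat.card_zmod]
  have hpow : ∀ i, ∃ e : ℕ, 0 < e ∧ m i = p ^ e := by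
    intro i
    have hdvd : m i ∣ p ^ N := by
      rw [← hN, hcard]
      exact Finset.dvd_prod_of_mem m (Finset.mem_univ i)
    obtain ⟨e, -, he⟩ := (Nat.dvd_prime_pow hpp).mp hdvd
    refine ⟨e, ?_, he⟩
    rcases Nat.eq_zero_or_pos e with h0 | h0
    · rw [h0, pow_zero] at he
      have := hm1 i
      omega
    · exact h0
  choose e he0 hme using hpow
  -- the exponents are pairwise distinct
  have hinj : Function.Injective e := by
    intro i₁ i₂ h12
    by_contra hne
    apply hno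
    have hne' : i₂ ≠ i₁ := fun h => hne h.symm
    refine ⟨e i₁, ∀ k : { k : { j // j ≠ i₁ } // k ≠ ⟨i₂, hne'⟩ }, Multiplicative (ZMod (m k.1.1)), inferInstance,
      he0 i₁, ⟨?_⟩⟩
    have c₁ : Multiplicative (ZMod (m i₁)) ≃* Multiplicative (ZMod (p ^ e i₁)) :=
      (ZMod.ringEquivCongr (hme i₁)).toAddEquiv.toMultiplicative
    have c₂ : Multiplicative (ZMod (m i₂)) ≃* Multiplicative (ZMod (p ^ e i₁)) :=
      (ZMod.ringEquivCongr ((hme i₂).trans (by rw [h12]))).toAddEquiv.toMultiplicative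
    have E1 := mulEquivPiSplitAt i₁ (fun i => Multiplicative (ZMod (m i)))
    have E2 := mulEquivPiSplitAt (⟨i₂, hne'⟩ : { j // j ≠ i₁ }) (fun j => Multiplicative (ZMod (m j.1)))
    exact ((ψ.trans E1).trans ((MulEquiv.prodCongr (MulEquiv.refl _) E2).trans
      MulEquiv.prodAssoc.symm)).trans (MulEquiv.prodCongr (MulEquiv.prodCongr c₁ c₂) (MulEquiv.refl _))
  intro b
  exact exists_cyclic_section_of_equiv hG (pi_comm m) ψ p b (pi_exists_cyclic_section m p e hme he0 hinj b)

end Cfsg.Agent.Helper87
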