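import Mathlib.GroupTheory.PGroup
import Mathlib.Data.ZMod.Basic
import Mathlib.Algebra.Group.End
set_option autoImplicit false

namespace Cfsg.Agent.Helper87

/-- Automorphisms of a direct factor `X` of `G ≃ X × Y`, extended by the identity on `Y`. -/
def liftAutProd {G X Y : Type*} [Group G] [Group X] [Group Y] (φ : G ≃* X × Y) : MulAut X →* MulAut G where
  toFun θ := φ.trans ((MulEquiv.prodCongr θ (MulEquiv.refl Y)).trans φ.symm)
  map_one' := by
    ext x
    show φ.symm (((1 : MulAut X) (φ x).1), (φ x).2) = x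
    simp
  map_mul' θ θ' := by
    ext x
    show φ.symm (((θ * θ') (φ x).1), (φ x).2) = φ.symm (θ (φ (φ.symm (θ' (φ x).1, (φ x).2))).1,
      (φ (φ.symm (θ' (φ x).1, (φ x).2))).2)
    simp

theorem liftAutProd_apply {G X Y : Type*} [Group G] [Group X] [Group Y] (φ : G ≃* X × Y) (θ : MulAut X) (x : G) :
    liftAutProd φ θ x = φ.symm (θ (φ x).1, (φ x).2) := rfl

theorem liftAutProd_injective {G X Y : Type*} [Group G] [Group X] [Group Y] (φ : G ≃* X × Y) :
    Function.Injective (liftAutProd φ) := by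
  intro θ θ' h
  ext u
  have h1 := congrArg (fun α : MulAut G => φ (α (φ.symm (u, 1)))) h
  simp only [liftAutProd_apply, MulEquiv.apply_symm_apply] at h1
  exact congrArg Prod.fst h1

section Explicit

variable (M : Type*) [CommGroup M]

/-- `(a, b) ↦ (b⁻¹, a)` -/
def rotAut : MulAut (M × M) where
  toFun x := (x.2⁻¹, x.1)
  invFun x := (x.2, x.1⁻¹)
  left_inv x := by simp
  right_inv x := by simp
  map_mul' x y := by simp [mul_comm]

/-- `(a, b) ↦ (b, a)` -/
def swapAut : MulAut (M × M) where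
  toFun x := (x.2, x.1)
  invFun x := (x.2, x.1)
  left_inv x := by simp
  right_inv x := by simp
  map_mul' x y := by simp

/-- `(a, b) ↦ (b⁻¹, a b⁻¹)` -/
def tauAut : MulAut (M × M) where
  toFun x := (x.2⁻¹, x.1 * x.2⁻¹)
  invFun x := (x.1⁻¹ * x.2, x.1⁻¹)
  left_inv x := by simp
  right_inv x := by simp
  map_mul' x y := by
    ext
    · simp [mul_comm]
    · simp only [Prod.snd_mul, Prod.fst_mul, mul_inv_rev]
      simp only [mul_comm, mul_left_comm, mul_assoc]

theorem rotAut_apply (x : M × M) : rotAut M x = (x.2⁻¹, x.1) := rfl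
theorem swapAut_apply (x : M × M) : swapAut M x = (x.2, x.1) := rfl
theorem tauAut_apply (x : M × M) : tauAut M x = (x.2⁻¹, x.1 * x.2⁻¹) := rfl

theorem tauAut_pow_three : tauAut M ^ 3 = 1 := by
  ext x
  · simp [pow_succ, MulAut.mul_apply, tauAut_apply]
  · simp [pow_succ, MulAut.mul_apply, tauAut_apply]

theorem rotAut_pow_four : rotAut M ^ 4 = 1 := by
  ext x
  · simp [pow_succ, MulAut.mul_apply, rotAut_apply]
  · simp [pow_succ, MulAut.mul_apply, rotAut_apply]

theorem swapAut_pow_two : swapAut M ^ 2 = 1 := by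
  ext x
  · simp [pow_succ, MulAut.mul_apply, swapAut_apply]
  · simp [pow_succ, MulAut.mul_apply, swapAut_apply]

theorem swapAut_conj_rotAut : swapAut M * rotAut M * (swapAut M)⁻¹ = (rotAut M)⁻¹ := by
  rw [eq_inv_iff_mul_eq_one]
  ext x
  · simp [MulAut.mul_apply, MulAut.inv_apply, swapAut, rotAut]
  · simp [MulAut.mul_apply, MulAut.inv_apply, swapAut, rotAut]

end Explicit

end Cfsg.Agent.Helper87
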