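import Cfsg.Agent.Helper87.AbelianInv4
set_option autoImplicit false

namespace Cfsg.Agent.Helper87

theorem isPGroup_zpowers_of_pow_eq_one {G : Type*} [Group G] {p : ℕ} (g : G) (j : ℕ) (hg : g ^ (p ^ j) = 1) :
    IsPGroup p (Subgroup.zpowers g) := by
  rintro ⟨x, hx⟩
  refine ⟨j, Subtype.ext ?_⟩
  obtain ⟨k, rfl⟩ := Subgroup.mem_zpowers_iff.mp hx
  rw [Subgroup.coe_pow, Subgroup.coe_one, ← zpow_natCast, ← zpow_mul, mul_comm, zpow_mul, zpow_natCast, hg, one_zpow]

theorem mem_normalizer_zpowers_of_conj_eq_inv {G : Type*} [Group G] (g r : G) (h : g * r * g⁻¹ = r⁻¹) :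
    g ∈ Subgroup.normalizer (Subgroup.zpowers r : Set G) := by
  have h' : g⁻¹ * r * g = r⁻¹ := by
    have h1 : r = g⁻¹ * r⁻¹ * g := by rw [← h]; group
    calc g⁻¹ * r * g = g⁻¹ * (g⁻¹ * r⁻¹ * g) * g := by rw [← h1]
      _ = (g⁻¹ * (g⁻¹ * r⁻¹ * g) * g) := rfl
      _ = (g⁻¹ * r * g)⁻¹⁻¹ := by rw [inv_inv]; rw [← h1]
      _ = r⁻¹ := by
        rw [inv_eq_iff_eq_inv, inv_inv]
        have : (g⁻¹ * r * g)⁻¹ = g⁻¹ * r⁻¹ * g := by group
        rw [this, ← h1]
  rw [Subgroup.mem_normalizer_iff]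
  intro x
  constructor
  · intro hx
    obtain ⟨k, rfl⟩ := Subgroup.mem_zpowers_iff.mp hx
    have : g * r ^ k * g⁻¹ = (g * r * g⁻¹) ^ k := by
      rw [← MulAut.conj_apply, ← MulAut.conj_apply, map_zpow]
    rw [this, h]
    exact Subgroup.zpow_mem _ (Subgroup.inv_mem _ (Subgroup.mem_zpowers r)) k
  · intro hx
    obtain ⟨k, hk⟩ := Subgroup.mem_zpowers_iff.mp hx
    have h2 : x = g⁻¹ * r ^ k * g := by rw [hk]; group
    have h3 : g⁻¹ * r ^ k * g = (g⁻¹ * r * g) ^ k := by
      have := map_zpow (MulAut.conj g⁻¹) r k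
      simpa [MulAut.conj_apply] using this
    rw [h2, h3, h']
    exact Subgroup.zpow_mem _ (Subgroup.inv_mem _ (Subgroup.mem_zpowers r)) k

/-- A finite group with a direct factor `Z/pⁿ × Z/pⁿ` (`n ≥ 1`) has a group of automorphisms of order prime to `p` that is
not commutative of exponent dividing `p - 1`. -/
theorem false_of_repeat {G : Type*} [Group G] [Finite G] {p : ℕ} [Fact p.Prime] (n : ℕ) (hn : 0 < n)
    (Y : Type*) [Group Y]
    (φ : G ≃* (Multiplicative (ZMod (p ^ n)) × Multiplicative (ZMod (p ^ n))) × Y)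
    (hpc : ∀ H : Subgroup (MulAut G), (Nat.card H).Coprime p → IsMulCommutative H ∧ ∀ h ∈ H, h ^ (p - 1) = 1) :
    False := by
  have hp : p.Prime := Fact.out
  have : Finite (MulAut G) := MulEquiv.finite_left
  have hq : 1 < p ^ n := Nat.one_lt_pow hn.ne' hp.one_lt
  set a : Multiplicative (ZMod (p ^ n)) := Multiplicative.ofAdd (1 : ZMod (p ^ n)) with ha
  have ha1 : a ≠ 1 := by
    intro h
    have h1 : ((1 : ℕ) : ZMod (p ^ n)) = 0 := by
      have := congrArg Multiplicative.toAdd h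
      rw [ha, toAdd_ofAdd, toAdd_one] at this
      rw [Nat.cast_one]
      exact this
    rw [ZMod.natCast_eq_zero_iff] at h1
    have := Nat.le_of_dvd one_pos h1
    omega
  rcases eq_or_ne p 2 with h2 | h2
  · -- `p = 2`: an automorphism of order three
    set g := liftAutProd φ (tauAut (Multiplicative (ZMod (p ^ n)))) with hg
    have hg3 : g ^ 3 = 1 := by rw [hg, ← map_pow, tauAut_pow_three, map_one]
    have hcop : (Nat.card (Subgroup.zpowers g)).Coprime p := by
      rw [Nat.card_zpowers, h2]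
      exact Nat.Coprime.coprime_dvd_left (orderOf_dvd_of_pow_eq_one hg3) (by norm_num)
    have h1 := (hpc _ hcop).2 g (Subgroup.mem_zpowers g)
    rw [h2, show 2 - 1 = 1 from rfl, pow_one] at h1
    have h3 : tauAut (Multiplicative (ZMod (p ^ n))) = 1 :=
      liftAutProd_injective φ (by rw [← hg, h1, map_one])
    have h4 := congrArg (fun θ : MulAut _ => (θ (a, 1)).1) h3
    simp only [tauAut_apply, MulAut.one_apply, inv_one] at h4
    exact ha1 h4.symm
  · -- `p` odd: a dihedral group of order eight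
    set ρ := liftAutProd φ (rotAut (Multiplicative (ZMod (p ^ n)))) with hρ
    set σ := liftAutProd φ (swapAut (Multiplicative (ZMod (p ^ n)))) with hσ
    have hρ4 : ρ ^ (2 ^ 2) = 1 := by
      rw [show (2 : ℕ) ^ 2 = 4 from rfl, hρ, ← map_pow, rotAut_pow_four, map_one]
    have hσ2 : σ ^ (2 ^ 1) = 1 := by
      rw [show (2 : ℕ) ^ 1 = 2 from rfl, hσ, ← map_pow, swapAut_pow_two, map_one]
    have hconj : σ * ρ * σ⁻¹ = ρ⁻¹ := by
      rw [hρ, hσ, ← map_inv, ← map_mul, ← map_mul, swapAut_conj_rotAut, map_inv]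
    have hP : IsPGroup 2 (Subgroup.zpowers ρ ⊔ Subgroup.zpowers σ : Subgroup (MulAut G)) := by
      apply IsPGroup.to_sup_of_normal_left' (isPGroup_zpowers_of_pow_eq_one ρ 2 hρ4)
        (isPGroup_zpowers_of_pow_eq_one σ 1 hσ2)
      rw [Subgroup.zpowers_le]
      exact mem_normalizer_zpowers_of_conj_eq_inv σ ρ hconj
    obtain ⟨k, hk⟩ := IsPGroup.iff_card.mp hP
    have hcop : (Nat.card (Subgroup.zpowers ρ ⊔ Subgroup.zpowers σ : Subgroup (MulAut G))).Coprime p := by
      rw [hk]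
      apply Nat.Coprime.pow_left
      exact (Nat.coprime_primes Nat.prime_two hp).mpr (Ne.symm h2)
    have hcomm := (hpc _ hcop).1
    have hρm : ρ ∈ Subgroup.zpowers ρ ⊔ Subgroup.zpowers σ := Subgroup.mem_sup_left (Subgroup.mem_zpowers ρ)
    have hσm : σ ∈ Subgroup.zpowers ρ ⊔ Subgroup.zpowers σ := Subgroup.mem_sup_right (Subgroup.mem_zpowers σ)
    have h1 : ρ * σ = σ * ρ := by
      have := hcomm.is_comm.comm ⟨ρ, hρm⟩ ⟨σ, hσm⟩
      exact congrArg Subtype.val this
    have h3 : rotAut (Multiplicative (ZMod (p ^ n))) * swapAut _ = swapAut _ * rotAut _ :=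
      liftAutProd_injective φ (by rw [map_mul, map_mul]; exact h1)
    have h4 := congrArg (fun θ : MulAut _ => (θ (a, 1)).1) h3
    simp only [MulAut.mul_apply, rotAut_apply, swapAut_apply, inv_one] at h4
    -- `a⁻¹ = a`
    have h5 : ((2 : ℕ) : ZMod (p ^ n)) = 0 := by
      have h6 : a * a = 1 := by
        have h10 := inv_mul_cancel a
        rwa [h4] at h10
      have := congrArg Multiplicative.toAdd h6
      rw [toAdd_mul, toAdd_one, ha, toAdd_ofAdd] at this
      rw [← this]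
      norm_num
    rw [ZMod.natCast_eq_zero_iff] at h5
    have h7 := Nat.le_of_dvd (by norm_num) h5
    have h8 : p ≤ p ^ n := Nat.le_self_pow hn.ne' p
    have h9 : 2 ≤ p := hp.two_le
    omega

end Cfsg.Agent.Helper87
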