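import Cfsg.Agent.Helper87.AbelianInv3
import Cfsg.Agent.Helper87.StableAut
set_option autoImplicit false

namespace Cfsg.Agent.Helper87

open scoped commutatorElement

/-- In a finite commutative `p`-group whose sections `(Ω₁ ∩ ℧^b) / (Ω₁ ∩ ℧^(b+1))` embed in cyclic groups, the commutators
of the automorphism group lie in a `p`-group of automorphisms. -/
theorem exists_pGroup_commutators_of_cyclic_sections {G : Type*} [Group G] [Finite G]
    (hG : ∀ a b : G, a * b = b * a) {p : ℕ} [Fact p.Prime] (hp : IsPGroup p G)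
    (hsec : ∀ b : ℕ, ∃ (C : Type) (_ : Group C) (_ : IsCyclic C) (f : ↥(omegaAgemo G hG p b) →* C),
      ∀ y, f y = 1 ↔ (y : G) ∈ omegaAgemo G hG p (b + 1)) :
    ∃ K : Subgroup (MulAut G), IsPGroup p K ∧ ∀ α β : MulAut G, ⁅α, β⁆ ∈ K := by
  have hpp : p.Prime := Fact.out
  have : Finite (MulAut G) := MulEquiv.finite_left
  have hD : Antitone (fun b => omegaAgemo G hG p b) := fun b b' h => omegaAgemo_antitone hG p h
  have hinv : ∀ (α : MulAut G) (b : ℕ) (y : G), α y ∈ omegaAgemo G hG p b ↔ y ∈ omegaAgemo G hG p b :=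
    fun α b y => map_mem_omegaAgemo_iff hG hG α p b y
  refine ⟨chainStab _ hD, ?_, ?_⟩
  · rintro ⟨γ, hγ⟩
    have hn : orderOf γ ≠ 0 := (orderOf_pos γ).ne'
    obtain ⟨a, m, hm, hnm⟩ := Nat.exists_eq_pow_mul_and_not_dvd hn p hpp.ne_one
    have hmcop : m.Coprime p := (Nat.coprime_comm.mp ((Nat.Prime.coprime_iff_not_dvd hpp).mpr hm))
    have h1 : (γ ^ p ^ a) ^ m = 1 := by rw [← pow_mul, ← hnm, pow_orderOf_eq_one]
    have h2 : γ ^ p ^ a ∈ chainStab _ hD := Subgroup.pow_mem _ hγ _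
    have h3 : γ ^ p ^ a = 1 :=
      aut_eq_one_of_stabilizes_omegaAgemo hG hp _ m hmcop h1 (fun b x hx => h2 b x hx)
    exact ⟨a, Subtype.ext h3⟩
  · intro α β b x hx
    obtain ⟨C, instC, hC, f, hf⟩ := hsec b
    have hy : α⁻¹ (β⁻¹ x) ∈ omegaAgemo G hG p b := (hinv _ _ _).mpr ((hinv _ _ _).mpr hx)
    have key := comm_mod_of_cyclic_section (omegaAgemo G hG p (b + 1)) (omegaAgemo G hG p b) f hf α β
      (fun y hy => (hinv α _ y).mpr hy) (hinv α b) (fun y hy => (hinv β _ y).mpr hy) (hinv β b)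
      (α⁻¹ (β⁻¹ x)) hy
    have e : x⁻¹ * ⁅α, β⁆ x = (β (α (α⁻¹ (β⁻¹ x))))⁻¹ * α (β (α⁻¹ (β⁻¹ x))) := by
      rw [commutatorElement_def]
      simp [MulAut.mul_apply]
    rw [e]
    exact key

/-- A finite commutative `p`-group that is not of the form `(Z/pⁿ × Z/pⁿ) × H`: the commutators of its automorphism
group lie in a `p`-group of automorphisms. -/
theorem exists_pGroup_commutators_of_no_repeat {G : Type*} [Group G] [Finite G]
    (hG : ∀ a b : G, a * b = b * a) {p : ℕ} [Fact p.Prime] (hp : IsPGroup p G)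
    (hno : ¬ ∃ (n : ℕ) (H : Type) (_ : CommGroup H), 0 < n ∧
      Nonempty (G ≃* (Multiplicative (ZMod (p ^ n)) × Multiplicative (ZMod (p ^ n))) × H)) :
    ∃ K : Subgroup (MulAut G), IsPGroup p K ∧ ∀ α β : MulAut G, ⁅α, β⁆ ∈ K :=
  exists_pGroup_commutators_of_cyclic_sections hG hp (exists_cyclic_sections_of_no_repeat hG hp hno)

end Cfsg.Agent.Helper87
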