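import Cfsg.Agent.Helper87.StableAut
set_option autoImplicit false

namespace Cfsg.Agent.Helper87

/-- The subgroup `℧^b(T)` of `p ^ b`-th powers of a commutative group. -/
def agemo (T : Type*) [CommGroup T] (p b : ℕ) : Subgroup T := (powMonoidHom (p ^ b) : T →* T).range

theorem mem_agemo {T : Type*} [CommGroup T] (p b : ℕ) (x : T) : x ∈ agemo T p b ↔ ∃ y : T, y ^ (p ^ b) = x :=
  Iff.rfl

theorem agemo_antitone (T : Type*) [CommGroup T] (p : ℕ) : Antitone (agemo T p) := by
  intro b b' h x hx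
  obtain ⟨y, rfl⟩ := (mem_agemo p b' x).mp hx
  refine (mem_agemo p b _).mpr ⟨y ^ (p ^ (b' - b)), ?_⟩
  rw [← pow_mul, ← pow_add, Nat.sub_add_cancel h]

theorem agemo_zero (T : Type*) [CommGroup T] (p : ℕ) : agemo T p 0 = ⊤ := by
  rw [eq_top_iff]
  intro x _
  exact (mem_agemo p 0 x).mpr ⟨x, by rw [pow_zero, pow_one]⟩

theorem agemo_eq_bot (T : Type*) [CommGroup T] [Finite T] (p N : ℕ) (hN : Nat.card T = p ^ N) :
    agemo T p N = ⊥ := by
  rw [eq_bot_iff]
  intro x hx
  obtain ⟨y, rfl⟩ := (mem_agemo p N x).mp hx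
  rw [Subgroup.mem_bot, ← hN, pow_card_eq_one']

theorem map_mem_agemo {T : Type*} [CommGroup T] (p b : ℕ) (α : MulAut T) {x : T} (hx : x ∈ agemo T p b) :
    α x ∈ agemo T p b := by
  obtain ⟨y, rfl⟩ := (mem_agemo p b x).mp hx
  exact (mem_agemo p b _).mpr ⟨α y, by rw [map_pow]⟩

/-- The stability group of the chain of the `℧^b(T)`. -/
def agemoStab (T : Type*) [CommGroup T] [Finite T] (p : ℕ) : Subgroup (MulAut T) :=
  chainStab (agemo T p) (agemo_antitone T p)

theorem isPGroup_agemoStab {T : Type*} [CommGroup T] [Finite T] {p : ℕ} [Fact p.Prime] (hT : IsPGroup p T) :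
    IsPGroup p (agemoStab T p) := by
  obtain ⟨N, hN⟩ := IsPGroup.iff_card.mp hT
  exact isPGroup_chainStab hT (agemo T p) (agemo_antitone T p) (agemo_zero T p) N (agemo_eq_bot T p N hN)

instance agemoStab_normal {T : Type*} [CommGroup T] [Finite T] (p : ℕ) : (agemoStab T p).Normal := by
  constructor
  intro β hβ α
  exact conj_mem_chainStab (agemo T p) (agemo_antitone T p) α β (fun k x hx => map_mem_agemo p k α hx)
    (fun k x hx => map_mem_agemo p k α⁻¹ hx) hβ

/-- An automorphism trivial modulo `p`-th powers lies in the stability group. -/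
theorem mem_agemoStab_of {T : Type*} [CommGroup T] [Finite T] (p : ℕ) (α : MulAut T)
    (h : ∀ x : T, ∃ y : T, x⁻¹ * α x = y ^ p) : α ∈ agemoStab T p := by
  intro k x hx
  obtain ⟨w, rfl⟩ := (mem_agemo p k x).mp hx
  obtain ⟨y, hy⟩ := h w
  refine (mem_agemo p (k + 1) _).mpr ⟨y, ?_⟩
  rw [map_pow, ← inv_pow, ← mul_pow, hy, ← pow_mul, pow_succ, mul_comm]

end Cfsg.Agent.Helper87
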