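import Mathlib
import Cfsg.Prelude.Def_LocalStructure
import Cfsg.Agent.Helper47.WeaklyClosed2
import Cfsg.Agent.Helper47.OpSubnormal
import Cfsg.Agent.Helper47.Comm
import Cfsg.Agent.Helper47.Comm2

/-!
# Factorization of the weak closure of a weakly closed subgroup (abstract part)

Generic lemmas for S2859: `opOf p L` is `O^p(L)` in ambient form, `wcY Q H` is the subgroup
generated by the `H Q`-conjugates of `Q`.
-/

set_option autoImplicit false

namespace Cfsg.Agent.Helper87.WCF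

open Cfsg Cfsg.Agent.Helper47 Cfsg.Agent.Helper48 Cfsg.Agent.Helper51
open scoped commutatorElement

variable {G : Type*} [Group G] {p : ℕ}

/-- `O^p(L)` in ambient form: generated by the `p'`-elements of `L`. -/
def opOf (p : ℕ) (L : Subgroup G) : Subgroup G :=
  Subgroup.closure {x : G | x ∈ L ∧ (orderOf x).Coprime p}

theorem opOf_le (L : Subgroup G) : opOf p L ≤ L :=
  (Subgroup.closure_le _).mpr fun _ hx => hx.1

theorem opOf_mono {L L' : Subgroup G} (h : L ≤ L') : opOf p L ≤ opOf p L' :=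
  Subgroup.closure_mono fun _ hx => ⟨h hx.1, hx.2⟩

theorem opOf_idem (L : Subgroup G) : opOf p (opOf p L) = opOf p L :=
  le_antisymm (opOf_le _) (Subgroup.closure_mono fun _ hx => ⟨Subgroup.subset_closure hx, hx.2⟩)

theorem opOf_eq_map (L : Subgroup G) : opOf p L = (Cfsg.pResidual p ↥L).map L.subtype :=
  (pResidual_map_subtype_eq_closure L).symm

theorem map_opOf {G' : Type*} [Group G'] (f : G →* G') (hf : Function.Injective f)
    (L : Subgroup G) : (opOf p L).map f = opOf p (L.map f) := by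
  unfold opOf
  rw [MonoidHom.map_closure]
  congr 1
  ext y
  constructor
  · rintro ⟨x, ⟨hxL, hx⟩, rfl⟩
    refine ⟨Subgroup.mem_map_of_mem f hxL, ?_⟩
    rw [orderOf_injective f hf x]; exact hx
  · rintro ⟨⟨x, hxL, rfl⟩, hy⟩
    refine ⟨x, ⟨hxL, ?_⟩, rfl⟩
    rwa [orderOf_injective f hf x] at hy

theorem conjSub_opOf (g : G) (L : Subgroup G) : conjSub g (opOf p L) = opOf p (conjSub g L) :=
  map_opOf _ (MulAut.conj g).injective L

theorem le_normalizer_opOf {X L : Subgroup G} (h : X ≤ Subgroup.normalizer (L : Set G)) :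
    X ≤ Subgroup.normalizer ((opOf p L : Subgroup G) : Set G) := by
  intro a ha
  rw [Subgroup.mem_normalizer_iff_map_conj_eq]
  have h1 : conjSub a L = L := Subgroup.mem_normalizer_iff_map_conj_eq.mp (h ha)
  show conjSub a (opOf p L) = opOf p L
  rw [conjSub_opOf, h1]

/-- `L0(c)`: if the `p`-group `P` normalizes `N` and `L ≤ P N`, then `O^p(L) ≤ N`. -/
theorem opOf_le_of_le_sup [Fact p.Prime] {N P L : Subgroup G} (hP : IsPGroup p P)
    (hPN : P ≤ Subgroup.normalizer (N : Set G)) (hL : L ≤ P ⊔ N) : opOf p L ≤ N := by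
  unfold opOf
  rw [Subgroup.closure_le]
  intro x hx
  obtain ⟨k, hk⟩ := forall_pow_mem_sup hPN (forall_pow_mem_of_isPGroup hP N) x (hL hx.1)
  have hc : (p ^ k).Coprime (orderOf x) := (Nat.Coprime.pow_right k hx.2).symm
  obtain ⟨m, hm⟩ := exists_pow_eq_self_of_coprime hc
  rw [← hm]
  exact N.pow_mem hk m

theorem normal_opOf {L : Subgroup G} [hL : L.Normal] : (opOf p L).Normal := by
  rw [← Subgroup.normalizer_eq_top_iff, eq_top_iff]
  apply le_normalizer_opOf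
  rw [Subgroup.normalizer_eq_top_iff.mpr hL]

/-- `O^p(L)` and a Sylow `p`-subgroup of `L` generate `L`. -/
theorem opOf_sup_sylow [Finite G] [Fact p.Prime] (L : Subgroup G) (S : Sylow p ↥L) :
    opOf p L ⊔ (S : Subgroup ↥L).map L.subtype = L := by
  have htop := Cfsg.Agent.Helper34.pResidual_sup_sylow p ↥L S
  have h1 : (Cfsg.pResidual p ↥L ⊔ (S : Subgroup ↥L)).map L.subtype = L := by
    rw [htop, ← MonoidHom.range_eq_map, Subgroup.range_subtype]
  rw [Subgroup.map_sup] at h1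
  rw [opOf_eq_map]; exact h1

/-! ### Normalizers of joins and meets -/

theorem le_normalizer_sup {X A B : Subgroup G} (hA : X ≤ Subgroup.normalizer (A : Set G))
    (hB : X ≤ Subgroup.normalizer (B : Set G)) :
    X ≤ Subgroup.normalizer ((A ⊔ B : Subgroup G) : Set G) := by
  intro x hx
  rw [Subgroup.mem_normalizer_iff_map_conj_eq, Subgroup.map_sup,
    Subgroup.mem_normalizer_iff_map_conj_eq.mp (hA hx),
    Subgroup.mem_normalizer_iff_map_conj_eq.mp (hB hx)]

theorem le_normalizer_inf {X A B : Subgroup G} (hA : X ≤ Subgroup.normalizer (A : Set G))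
    (hB : X ≤ Subgroup.normalizer (B : Set G)) :
    X ≤ Subgroup.normalizer ((A ⊓ B : Subgroup G) : Set G) := by
  intro x hx
  rw [Subgroup.mem_normalizer_iff_map_conj_eq,
    Subgroup.map_inf _ _ _ (MulAut.conj x).injective,
    Subgroup.mem_normalizer_iff_map_conj_eq.mp (hA hx),
    Subgroup.mem_normalizer_iff_map_conj_eq.mp (hB hx)]

theorem le_normalizer_of_normal (X N : Subgroup G) [hN : N.Normal] :
    X ≤ Subgroup.normalizer (N : Set G) := by
  rw [Subgroup.normalizer_eq_top_iff.mpr hN]; exact le_top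

/-! ### The subgroup generated by the `H Q`-conjugates of `Q` -/

/-- The subgroup generated by the `H Q`-conjugates of `Q`. -/
def wcY (Q H : Subgroup G) : Subgroup G := ⨆ h : ↥(H ⊔ Q), conjSub (h : G) Q

theorem conj_le_wcY {Q H : Subgroup G} {h : G} (hh : h ∈ H ⊔ Q) : conjSub h Q ≤ wcY Q H :=
  le_iSup (fun h : ↥(H ⊔ Q) => conjSub (h : G) Q) ⟨h, hh⟩

theorem le_wcY (Q H : Subgroup G) : Q ≤ wcY Q H := by
  have := conj_le_wcY (Q := Q) (H := H) (h := 1) (one_mem _)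
  rwa [conjSub_one] at this

theorem wcY_le (Q H : Subgroup G) : wcY Q H ≤ H ⊔ Q :=
  iSup_le fun h => conjSub_le_of_mem le_sup_right h.2

theorem le_normalizer_wcY [Finite G] (Q H : Subgroup G) :
    H ⊔ Q ≤ Subgroup.normalizer ((wcY Q H : Subgroup G) : Set G) := by
  intro a ha
  apply mem_normalizer_of_conjSub_le
  show (wcY Q H).map (MulAut.conj a).toMonoidHom ≤ wcY Q H
  unfold wcY
  rw [Subgroup.map_iSup]
  refine iSup_le fun h => ?_
  show conjSub a (conjSub (h : G) Q) ≤ _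
  rw [conjSub_conjSub]
  exact conj_le_wcY (mul_mem ha h.2)

theorem map_wcY {G' : Type*} [Group G'] (f : G →* G') (Q H : Subgroup G) :
    (wcY Q H).map f = wcY (Q.map f) (H.map f) := by
  unfold wcY
  rw [Subgroup.map_iSup]
  apply le_antisymm
  · refine iSup_le fun h => ?_
    have h1 : f (h : G) ∈ H.map f ⊔ Q.map f := by
      rw [← Subgroup.map_sup]; exact Subgroup.mem_map_of_mem f h.2
    have h2 : (conjSub (h : G) Q).map f = conjSub (f (h : G)) (Q.map f) :=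
      (map_map_conj f Q (h : G)).symm
    rw [h2]
    exact le_iSup (fun h : ↥(H.map f ⊔ Q.map f) => conjSub (h : G') (Q.map f)) ⟨_, h1⟩
  · refine iSup_le fun h' => ?_
    have h1 : (h' : G') ∈ (H ⊔ Q).map f := by
      rw [Subgroup.map_sup]; exact h'.2
    obtain ⟨h, hh, e⟩ := h1
    have h2 : (conjSub (h : G) Q).map f = conjSub (f (h : G)) (Q.map f) :=
      (map_map_conj f Q (h : G)).symm
    rw [← e, ← h2]
    exact le_iSup (fun h : ↥(H ⊔ Q) => (conjSub (h : G) Q).map f) ⟨h, hh⟩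

section WC

variable [Finite G] [Fact p.Prime] {Q : Subgroup G}

/-- Every `H Q`-conjugate of `Q` is a conjugate under `O^p(Y)`. -/
theorem exists_conj_opOf (hQp : IsPGroup p Q) (hwc : Cfsg.IsWeaklyClosedSubgroup p Q)
    (H : Subgroup G) {y : G} (hy : conjSub y Q ≤ wcY Q H) :
    ∃ k ∈ opOf p (wcY Q H), conjSub y Q = conjSub k Q := by
  obtain ⟨y', hy', e⟩ := wc_exists_conj_in hQp hwc (le_wcY Q H) hy
  obtain ⟨S, hS⟩ := exists_sylow_ge_in hQp (le_wcY Q H)
  have hPp : IsPGroup p ((S : Subgroup ↥(wcY Q H)).map (wcY Q H).subtype) := S.2.map _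
  have hPY : (S : Subgroup ↥(wcY Q H)).map (wcY Q H).subtype ≤ wcY Q H := by
    rintro _ ⟨x, -, rfl⟩; exact x.2
  have hnorm : (S : Subgroup ↥(wcY Q H)).map (wcY Q H).subtype ≤
      Subgroup.normalizer ((opOf p (wcY Q H) : Subgroup G) : Set G) :=
    hPY.trans (le_normalizer_opOf Subgroup.le_normalizer)
  have hsup := opOf_sup_sylow (p := p) (wcY Q H) S
  have hyi : y'⁻¹ ∈ (S : Subgroup ↥(wcY Q H)).map (wcY Q H).subtype ⊔ opOf p (wcY Q H) := by
    rw [sup_comm, hsup]; exact inv_mem hy'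
  obtain ⟨x, hx, k, hk, e2⟩ := exists_mul_of_mem_sup hnorm hyi
  have e3 : y' = k⁻¹ * x⁻¹ := by
    have : y' = (y'⁻¹)⁻¹ := (inv_inv y').symm
    rw [this, e2, mul_inv_rev]
  have e4 : conjSub x⁻¹ Q = Q := by
    apply wc_conj_eq_of_le hwc hPp hS
    exact conjSub_le_of_mem hS (inv_mem hx)
  refine ⟨k⁻¹, inv_mem hk, ?_⟩
  rw [e, e3, ← conjSub_conjSub, e4]

theorem wcY_le_opOf_sup (hQp : IsPGroup p Q) (hwc : Cfsg.IsWeaklyClosedSubgroup p Q)
    (H : Subgroup G) : wcY Q H ≤ opOf p (wcY Q H) ⊔ Q := by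
  refine iSup_le fun h => ?_
  obtain ⟨k, hk, e⟩ := exists_conj_opOf hQp hwc H (conj_le_wcY h.2)
  rw [e]
  exact conjSub_le_of_mem le_sup_right (le_sup_left (b := Q) hk)

theorem conjSub_le_comm_sup {K Q : Subgroup G} {k : G} (hk : k ∈ K) :
    conjSub k Q ≤ Q ⊔ ⁅K, Q⁆ := by
  rintro _ ⟨q, hq, rfl⟩
  have e : (MulAut.conj k).toMonoidHom q = ⁅k, q⁆ * q := by
    simp [commutatorElement_def]
  rw [e]
  exact mul_mem (le_sup_right (a := Q) (Subgroup.commutator_mem_commutator hk hq))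
    (le_sup_left (b := ⁅K, Q⁆) hq)

/-- `O^p(Y) = [O^p(Y), Q]`. -/
theorem comm_opOf_wcY (hQp : IsPGroup p Q) (hwc : Cfsg.IsWeaklyClosedSubgroup p Q)
    (H : Subgroup G) : ⁅opOf p (wcY Q H), Q⁆ = opOf p (wcY Q H) := by
  apply le_antisymm
  · rw [Subgroup.commutator_le]
    intro k hk q hq
    have hq' : q ∈ Subgroup.normalizer ((opOf p (wcY Q H) : Subgroup G) : Set G) :=
      le_normalizer_opOf Subgroup.le_normalizer (le_wcY Q H hq)
    have h1 : q * k⁻¹ * q⁻¹ ∈ opOf p (wcY Q H) :=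
      (Subgroup.mem_normalizer_iff.mp hq' _).mp (inv_mem hk)
    have e : ⁅k, q⁆ = k * (q * k⁻¹ * q⁻¹) := by simp [commutatorElement_def, mul_assoc]
    rw [e]; exact mul_mem hk h1
  · apply opOf_le_of_le_sup hQp (le_normalizer_commutator_right _ _)
    refine iSup_le fun h => ?_
    obtain ⟨k, hk, e⟩ := exists_conj_opOf hQp hwc H (conj_le_wcY h.2)
    rw [e]
    exact conjSub_le_comm_sup hk

end WC

/-! ### Commutator lemmas -/

/-- Commutators with a join, into a normal subgroup. -/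
theorem commutator_iSup_le {ι : Sort*} (H : Subgroup G) (K : ι → Subgroup G) (M : Subgroup G)
    [hM : M.Normal] (h : ∀ i, ⁅H, K i⁆ ≤ M) : ⁅H, ⨆ i, K i⁆ ≤ M := by
  rw [Subgroup.commutator_le]
  intro a ha x hx
  refine Subgroup.iSup_induction K (C := fun x => ⁅a, x⁆ ∈ M) hx ?_ ?_ ?_
  · intro i x hx
    exact h i (Subgroup.commutator_mem_commutator ha hx)
  · simp
  · intro x y hx hy
    rw [commutatorElement_mul_right_eq_mul_conj, mul_assoc, mul_assoc]
    refine mul_mem hx ?_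
    rw [← mul_assoc]
    exact hM.conj_mem _ hy x

theorem normal_pCore : (Cfsg.pCore p G).Normal := by
  have := Cfsg.Agent.Lib.pCore_characteristic (G := G) p
  infer_instance

/-- `L3`: if the normal subgroup `R` normalizes `Q`, then it centralizes the normal closure of `Q`
modulo `O_p(G)`. -/
theorem comm_top_le_pCore [Finite G] [Fact p.Prime] {Q R : Subgroup G} [hR : R.Normal]
    (hQp : IsPGroup p Q) (hRQ : R ≤ Subgroup.normalizer (Q : Set G))
    (htop : ⨆ g : G, conjSub g Q = ⊤) : ⁅R, (⊤ : Subgroup G)⁆ ≤ Cfsg.pCore p G := by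
  have hON : (Cfsg.pCore p G).Normal := normal_pCore
  rw [← htop]
  apply commutator_iSup_le
  intro g
  -- `R` normalizes `conjSub g Q`
  have hRg : R ≤ Subgroup.normalizer ((conjSub g Q : Subgroup G) : Set G) := by
    rw [normalizer_conjSub]
    intro r hr
    rw [mem_conjSub]
    exact hRQ (hR.conj_mem' r hr g)
  have h1 : ⁅R, conjSub g Q⁆ ≤ R ⊓ conjSub g Q := by
    rw [Subgroup.commutator_le]
    intro r hr x hx
    refine ⟨?_, ?_⟩
    · have e : ⁅r, x⁆ = r * (x * r⁻¹ * x⁻¹) := by simp [commutatorElement_def, mul_assoc]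
      rw [e]; exact mul_mem hr (hR.conj_mem _ (inv_mem hr) x)
    · have e : ⁅r, x⁆ = (r * x * r⁻¹) * x⁻¹ := by simp [commutatorElement_def]
      rw [e]
      exact Subgroup.mul_mem _ ((Subgroup.mem_normalizer_iff.mp (hRg hr) x).mp hx)
        (Subgroup.inv_mem _ hx)
  refine h1.trans ?_
  apply le_pCore_of_isSubnormal
  · refine Subgroup.IsSubnormal.step _ R inf_le_left hR.isSubnormal ?_
    rw [Subgroup.normal_subgroupOf_iff_le_normalizer inf_le_left]
    exact le_normalizer_inf Subgroup.le_normalizer hRg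
  · exact (isPGroup_conjSub hQp).to_le inf_le_right

/-- `L4`: three subgroups lemma modulo a normal subgroup. -/
theorem comm_derived_le {H₁ H₂ O : Subgroup G} [hO : O.Normal]
    (h : ⁅⁅H₁, H₂⁆, (⊤ : Subgroup G)⁆ ≤ O) : ⁅⁅H₁, H₁⁆, H₂⁆ ≤ O := by
  have hker : (QuotientGroup.mk' O).ker = O := QuotientGroup.ker_mk' O
  have hc : ∀ X : Subgroup G, ⁅(⁅H₁, H₂⁆).map (QuotientGroup.mk' O), X.map (QuotientGroup.mk' O)⁆ = ⊥ := by
    intro X
    rw [← Subgroup.map_commutator, Subgroup.map_eq_bot_iff, hker]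
    exact (Subgroup.commutator_mono le_rfl le_top).trans h
  have h1 : ⁅⁅H₁.map (QuotientGroup.mk' O), H₂.map (QuotientGroup.mk' O)⁆,
      H₁.map (QuotientGroup.mk' O)⁆ = ⊥ := by
    rw [← Subgroup.map_commutator]; exact hc H₁
  have h2 : ⁅⁅H₂.map (QuotientGroup.mk' O), H₁.map (QuotientGroup.mk' O)⁆,
      H₁.map (QuotientGroup.mk' O)⁆ = ⊥ := by
    rw [Subgroup.commutator_comm (H₂.map _)]; exact h1
  have h3 := Subgroup.commutator_commutator_eq_bot_of_rotate h1 h2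
  rw [← Subgroup.map_commutator, ← Subgroup.map_commutator, Subgroup.map_eq_bot_iff, hker] at h3
  exact h3

/-- Lemma X: a subgroup `K = [K, Q] = O^p(K)` inside `N R` lies in `N`, when `R` normalizes `Q`. -/
theorem le_of_le_sup_normal [Fact p.Prime] {Q N R K : Subgroup G} [hN : N.Normal] [hR : R.Normal]
    (hQp : IsPGroup p Q) (hRQ : R ≤ Subgroup.normalizer (Q : Set G)) (hKQ : K ≤ ⁅K, Q⁆)
    (hKop : opOf p K = K) (hK : K ≤ N ⊔ R) : K ≤ N := by
  have hM1 : ⁅Q, N ⊔ R⁆ ≤ (R ⊓ Q) ⊔ N := by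
    apply commutator_sup_right_le
    · exact (Subgroup.commutator_le_right Q N).trans le_sup_right
    · refine le_trans ?_ le_sup_left
      rw [Subgroup.commutator_le]
      intro q hq r hr
      refine Subgroup.mem_inf.mpr ⟨?_, ?_⟩
      · have e : ⁅q, r⁆ = (q * r * q⁻¹) * r⁻¹ := by simp [commutatorElement_def]
        rw [e]; exact R.mul_mem (hR.conj_mem _ hr q) (R.inv_mem hr)
      · have e : ⁅q, r⁆ = q * (r * q⁻¹ * r⁻¹) := by simp [commutatorElement_def, mul_assoc]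
        rw [e]
        exact Q.mul_mem hq ((Subgroup.mem_normalizer_iff.mp (hRQ hr) _).mp (Q.inv_mem hq))
    · exact le_sup_right.trans Subgroup.le_normalizer
    · exact le_normalizer_sup (le_normalizer_inf Subgroup.le_normalizer hRQ)
        (le_normalizer_of_normal R N)
  have h2 : K ≤ (R ⊓ Q) ⊔ N := by
    calc K ≤ ⁅K, Q⁆ := hKQ
      _ = ⁅Q, K⁆ := Subgroup.commutator_comm _ _
      _ ≤ ⁅Q, N ⊔ R⁆ := Subgroup.commutator_mono le_rfl hK
      _ ≤ _ := hM1
  rw [← hKop]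
  exact opOf_le_of_le_sup (hQp.to_le inf_le_right) (le_normalizer_of_normal _ N) h2

/-- Lemma A. -/
theorem comm_top_le {H₁ H₂ K N : Subgroup G} [H₁.Normal] [H₂.Normal] [hN : N.Normal]
    (hprod : H₁ ⊔ H₂ = ⊤) (hK : K ≤ H₁) (hKN : ⁅K, H₁⁆ ≤ N) :
    ⁅K, (⊤ : Subgroup G)⁆ ≤ N ⊔ ⁅H₁, H₂⁆ := by
  rw [← hprod]
  exact commutator_sup_right_le (hKN.trans le_sup_left)
    ((Subgroup.commutator_mono hK le_rfl).trans le_sup_right)
    (le_normalizer_of_normal _ _) (le_normalizer_of_normal _ _)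

theorem le_of_comm_le [Fact p.Prime] {Q H₁ H₂ K N : Subgroup G} [H₁.Normal] [H₂.Normal]
    [N.Normal] (hQp : IsPGroup p Q) (hprod : H₁ ⊔ H₂ = ⊤)
    (hcomm : ⁅H₁, H₂⁆ ≤ Subgroup.normalizer (Q : Set G)) (hK : K ≤ H₁) (hKQ : K ≤ ⁅K, Q⁆)
    (hKop : opOf p K = K) (hKN : ⁅K, H₁⁆ ≤ N) : K ≤ N := by
  apply le_of_le_sup_normal (R := ⁅H₁, H₂⁆) hQp hcomm hKQ hKop
  exact hKQ.trans ((Subgroup.commutator_mono le_rfl le_top).trans (comm_top_le hprod hK hKN))

/-! ### The main theorems in the group generated by the conjugates of `Q` -/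

section Main

variable [Finite G] [Fact p.Prime] {Q H₁ H₂ : Subgroup G}

theorem opOf_wcY_le (hQp : IsPGroup p Q) (H : Subgroup G) [H.Normal] :
    opOf p (wcY Q H) ≤ H :=
  opOf_le_of_le_sup hQp (le_normalizer_of_normal Q H) (by rw [sup_comm]; exact wcY_le Q H)

theorem one_sided [hH₁ : H₁.Normal] [hH₂ : H₂.Normal] (hQp : IsPGroup p Q)
    (hwc : Cfsg.IsWeaklyClosedSubgroup p Q) (htop : ⨆ g : G, conjSub g Q = ⊤)
    (hprod : H₁ ⊔ H₂ = ⊤) (hcomm : ⁅H₁, H₂⁆ ≤ Subgroup.normalizer (Q : Set G)) :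
    opOf p (wcY Q H₁) ≤ ⁅H₁, H₁⁆ ∧ (opOf p (wcY Q H₁)).Normal ∧
      ⁅opOf p (wcY Q H₁), H₁⁆ = opOf p (wcY Q H₁) := by
  have hKH : opOf p (wcY Q H₁) ≤ H₁ := opOf_wcY_le hQp H₁
  have hKQ : ⁅opOf p (wcY Q H₁), Q⁆ = opOf p (wcY Q H₁) := comm_opOf_wcY hQp hwc H₁
  have hKop : opOf p (opOf p (wcY Q H₁)) = opOf p (wcY Q H₁) := opOf_idem _
  have hKD : opOf p (wcY Q H₁) ≤ ⁅H₁, H₁⁆ :=
    le_of_comm_le hQp hprod hcomm hKH hKQ.ge hKop (Subgroup.commutator_mono hKH le_rfl)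
  have hON : (Cfsg.pCore p G).Normal := normal_pCore
  have hO : ⁅⁅H₁, H₁⁆, H₂⁆ ≤ Cfsg.pCore p G :=
    comm_derived_le (comm_top_le_pCore hQp hcomm htop)
  have hn1 : H₁ ≤ Subgroup.normalizer ((opOf p (wcY Q H₁) : Subgroup G) : Set G) :=
    (le_sup_left : H₁ ≤ H₁ ⊔ Q).trans (le_normalizer_opOf (le_normalizer_wcY Q H₁))
  have hn2 : H₂ ≤ Subgroup.normalizer ((opOf p (wcY Q H₁) : Subgroup G) : Set G) := by
    intro c hc
    apply mem_normalizer_of_conjSub_le
    have e1 : conjSub c (opOf p (wcY Q H₁)) = opOf p (conjSub c (opOf p (wcY Q H₁))) := by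
      rw [← conjSub_opOf, hKop]
    rw [e1]
    apply opOf_le_of_le_sup (P := ⁅H₁, H₂⁆ ⊓ Cfsg.pCore p G)
    · exact (Cfsg.Agent.Lib.isPGroup_pCore p).to_le inf_le_right
    · exact (inf_le_left.trans ((Subgroup.commutator_le_left H₁ H₂))).trans hn1
    · rintro _ ⟨k, hk, rfl⟩
      have e : (MulAut.conj c).toMonoidHom k = ⁅c, k⁆ * k := by
        simp [commutatorElement_def]
      rw [e]
      refine mul_mem (le_sup_left (b := opOf p (wcY Q H₁)) ⟨?_, ?_⟩)
        (le_sup_right (a := ⁅H₁, H₂⁆ ⊓ Cfsg.pCore p G) hk)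
      · rw [Subgroup.commutator_comm]
        exact Subgroup.commutator_mem_commutator hc (hKH hk)
      · apply hO
        rw [Subgroup.commutator_comm]
        exact Subgroup.commutator_mem_commutator hc (hKD hk)
  have hKn : (opOf p (wcY Q H₁)).Normal := by
    rw [← Subgroup.normalizer_eq_top_iff, eq_top_iff, ← hprod]
    exact sup_le hn1 hn2
  refine ⟨hKD, hKn, ?_⟩
  have := hKn
  apply le_antisymm (Subgroup.commutator_le_left _ _)
  exact le_of_comm_le hQp hprod hcomm hKH hKQ.ge hKop le_rfl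

theorem opOf_top : opOf p (⊤ : Subgroup G) = Cfsg.pResidual p G := by
  unfold opOf Cfsg.pResidual
  congr 1
  ext x
  simp

theorem two_sided [hH₁ : H₁.Normal] [hH₂ : H₂.Normal] (hQp : IsPGroup p Q)
    (hwc : Cfsg.IsWeaklyClosedSubgroup p Q) (htop : ⨆ g : G, conjSub g Q = ⊤)
    (hprod : H₁ ⊔ H₂ = ⊤) (hcomm : ⁅H₁, H₂⁆ ≤ Subgroup.normalizer (Q : Set G)) :
    ⁅opOf p (wcY Q H₁), opOf p (wcY Q H₂)⁆ ≤ Cfsg.pCore p G ∧
      opOf p (wcY Q H₁) ⊔ opOf p (wcY Q H₂) = Cfsg.pResidual p G := by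
  have hcomm' : ⁅H₂, H₁⁆ ≤ Subgroup.normalizer (Q : Set G) := by
    rw [Subgroup.commutator_comm]; exact hcomm
  have hprod' : H₂ ⊔ H₁ = ⊤ := by rw [sup_comm]; exact hprod
  obtain ⟨hD1, hN1, -⟩ := one_sided hQp hwc htop hprod hcomm
  obtain ⟨-, hN2, -⟩ := one_sided hQp hwc htop hprod' hcomm'
  have hON : (Cfsg.pCore p G).Normal := normal_pCore
  have hO : ⁅⁅H₁, H₁⁆, H₂⁆ ≤ Cfsg.pCore p G :=
    comm_derived_le (comm_top_le_pCore hQp hcomm htop)
  refine ⟨(Subgroup.commutator_mono hD1 (opOf_wcY_le hQp H₂)).trans hO, ?_⟩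
  rw [← opOf_top]
  apply le_antisymm (sup_le (opOf_mono le_top) (opOf_mono le_top))
  have := hN1
  have := hN2
  have hMn : (opOf p (wcY Q H₁) ⊔ opOf p (wcY Q H₂)).Normal := inferInstance
  -- `W = Q M` is normal
  have key : ∀ H : Subgroup G, opOf p (wcY Q H) ≤ opOf p (wcY Q H₁) ⊔ opOf p (wcY Q H₂) →
      H ≤ Subgroup.normalizer
        ((Q ⊔ (opOf p (wcY Q H₁) ⊔ opOf p (wcY Q H₂)) : Subgroup G) : Set G) := by
    intro H hH h hh
    apply mem_normalizer_of_conjSub_le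
    show (Q ⊔ (opOf p (wcY Q H₁) ⊔ opOf p (wcY Q H₂))).map (MulAut.conj h).toMonoidHom ≤ _
    rw [Subgroup.map_sup]
    apply sup_le
    · have h1 : conjSub h Q ≤ wcY Q H := conj_le_wcY (le_sup_left (b := Q) hh)
      refine h1.trans ((wcY_le_opOf_sup hQp hwc H).trans ?_)
      rw [sup_comm]
      exact sup_le_sup_left hH Q
    · have : conjSub h (opOf p (wcY Q H₁) ⊔ opOf p (wcY Q H₂)) =
          opOf p (wcY Q H₁) ⊔ opOf p (wcY Q H₂) :=
        conjSub_eq_self_iff.mpr (le_normalizer_of_normal ⊤ _ (Subgroup.mem_top h))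
      rw [show Subgroup.map (MulAut.conj h).toMonoidHom
        (opOf p (wcY Q H₁) ⊔ opOf p (wcY Q H₂)) = _ from this]
      exact le_sup_right
  have hWn : (⊤ : Subgroup G) ≤ Subgroup.normalizer
      ((Q ⊔ (opOf p (wcY Q H₁) ⊔ opOf p (wcY Q H₂)) : Subgroup G) : Set G) := by
    rw [← hprod]
    exact sup_le (key H₁ le_sup_left) (key H₂ le_sup_right)
  have hW : (⊤ : Subgroup G) ≤ Q ⊔ (opOf p (wcY Q H₁) ⊔ opOf p (wcY Q H₂)) := by
    rw [← htop]
    refine iSup_le fun g => ?_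
    have h1 : conjSub g (Q ⊔ (opOf p (wcY Q H₁) ⊔ opOf p (wcY Q H₂))) =
        Q ⊔ (opOf p (wcY Q H₁) ⊔ opOf p (wcY Q H₂)) :=
      conjSub_eq_self_iff.mpr (hWn (Subgroup.mem_top g))
    rw [← h1]
    exact Subgroup.map_mono le_sup_left
  exact opOf_le_of_le_sup hQp (le_normalizer_of_normal Q _) hW

end Main

/-! ### Transfer between `G` and the subgroup `Hc` generated by the conjugates of `Q` -/

section Transfer

variable [Finite G] [Fact p.Prime] {Q Hc : Subgroup G}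

theorem weakClosure_eq_wcY (hQp : IsPGroup p Q) (hwc : Cfsg.IsWeaklyClosedSubgroup p Q)
    (H : Subgroup G) : Cfsg.weakClosure Q (H ⊔ Q) = wcY Q H := by
  unfold Cfsg.weakClosure wcY
  apply le_antisymm
  · apply iSup_le
    rintro ⟨g, hg⟩
    obtain ⟨k, hk, hkQ⟩ := wc_exists_conj_in hQp hwc (le_sup_right : Q ≤ H ⊔ Q) hg
    show conjSub g Q ≤ _
    rw [hkQ]
    exact le_iSup (fun k : ↥(H ⊔ Q) => conjSub (k : G) Q) ⟨k, hk⟩
  · apply iSup_le
    intro k
    have hk : conjSub (k : G) Q ≤ H ⊔ Q := conjSub_le_of_mem le_sup_right k.2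
    exact le_iSup (fun g : {g : G // Q.map (MulAut.conj g).toMonoidHom ≤ H ⊔ Q} =>
      Q.map (MulAut.conj (g : G)).toMonoidHom) ⟨(k : G), hk⟩

omit [Finite G] [Fact p.Prime] in
theorem weakClosure_top (Q : Subgroup G) : Cfsg.weakClosure Q ⊤ = ⨆ g : G, conjSub g Q := by
  unfold Cfsg.weakClosure
  apply le_antisymm
  · apply iSup_le
    rintro ⟨g, hg⟩
    exact le_iSup (fun g : G => conjSub g Q) g
  · apply iSup_le
    intro g
    exact le_iSup (fun g : {g : G // Q.map (MulAut.conj g).toMonoidHom ≤ ⊤} =>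
      Q.map (MulAut.conj (g : G)).toMonoidHom) ⟨g, le_top⟩

omit [Finite G] [Fact p.Prime] in
theorem le_of_eq_iSup_conj (hHc : Hc = ⨆ g : G, conjSub g Q) : Q ≤ Hc := by
  rw [hHc]
  have := le_iSup (fun g : G => conjSub g Q) 1
  rwa [conjSub_one] at this

theorem iSup_conj_subgroupOf (hQp : IsPGroup p Q) (hwc : Cfsg.IsWeaklyClosedSubgroup p Q)
    (hHc : Hc = ⨆ g : G, conjSub g Q) :
    ⨆ γ : ↥Hc, conjSub γ (Q.subgroupOf Hc) = ⊤ := by
  have hQHc : Q ≤ Hc := le_of_eq_iSup_conj hHc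
  apply Subgroup.map_injective Hc.subtype_injective
  rw [Subgroup.map_iSup, ← MonoidHom.range_eq_map, Subgroup.range_subtype]
  apply le_antisymm
  · refine iSup_le fun γ => ?_
    rw [subgroupOf_map_conj hQHc]
    exact conjSub_le_of_mem hQHc γ.2
  · conv_lhs => rw [hHc]
    refine iSup_le fun g => ?_
    have hg : conjSub g Q ≤ Hc := by
      rw [hHc]; exact le_iSup (fun g : G => conjSub g Q) g
    obtain ⟨k, hk, e⟩ := wc_exists_conj_in hQp hwc hQHc hg
    rw [e, ← subgroupOf_map_conj hQHc ⟨k, hk⟩]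
    exact le_iSup (fun γ : ↥Hc =>
      ((Q.subgroupOf Hc).map (MulAut.conj γ).toMonoidHom).map Hc.subtype) ⟨k, hk⟩

theorem pResidual_weakClosure_eq_map (hQp : IsPGroup p Q)
    (hwc : Cfsg.IsWeaklyClosedSubgroup p Q) (hQHc : Q ≤ Hc) {H : Subgroup G} (hH : H ≤ Hc) :
    (Cfsg.pResidual p ↥(Cfsg.weakClosure Q (H ⊔ Q))).map (Cfsg.weakClosure Q (H ⊔ Q)).subtype =
      (opOf p (wcY (Q.subgroupOf Hc) (H.subgroupOf Hc))).map Hc.subtype := by
  rw [← opOf_eq_map, weakClosure_eq_wcY hQp hwc, map_opOf _ Hc.subtype_injective, map_wcY,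
    Subgroup.map_subgroupOf_eq_of_le hQHc, Subgroup.map_subgroupOf_eq_of_le hH]

omit [Finite G] [Fact p.Prime] in
theorem normalizer_subgroupOf_of_le {A B : Subgroup ↥Hc}
    (hAB : (⁅A, B⁆).map Hc.subtype ≤ Subgroup.normalizer (Q : Set G)) :
    ⁅A, B⁆ ≤ Subgroup.normalizer ((Q.subgroupOf Hc : Subgroup ↥Hc) : Set ↥Hc) := by
  intro x hx
  have h1 : (x : G) ∈ Subgroup.normalizer (Q : Set G) := hAB ⟨x, hx, rfl⟩
  rw [Subgroup.mem_normalizer_iff]
  intro y
  rw [Subgroup.mem_subgroupOf, Subgroup.mem_subgroupOf]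
  exact Subgroup.mem_normalizer_iff.mp h1 (y : G)

end Transfer

end Cfsg.Agent.Helper87.WCF
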