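import Mathlib
import Cfsg.Prelude.Def_LocalStructure
import Cfsg.Agent.S2848
import Cfsg.Agent.S2845
import Cfsg.Agent.Helper47.FrakM
import Cfsg.Agent.Helper87.WCFactor

/-!
# Asymmetric `Y_M` (abstract part of S2850)

`Reach M N k` is the set of alternating words `m₀ n₁ m₁ ⋯ n_k m_k`; `Ctx` packages the
consequences of `M ∈ 𝔐_G(S)` and of the large subgroup that are used.
-/

set_option autoImplicit false

namespace Cfsg.Agent.Helper87.AsymM

open Cfsg Cfsg.Agent.Helper46 Cfsg.Agent.Helper47 Cfsg.Agent.Helper48 Cfsg.Agent.Helper51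
open Cfsg.Agent.Helper87.WCF

variable {G : Type*} [Group G]

/-! ### Alternating words -/

/-- `Reach M N k z`: `z = m₀ n₁ m₁ ⋯ n_k m_k` with `mᵢ ∈ M`, `nᵢ ∈ N`. -/
inductive Reach (M N : Subgroup G) : ℕ → G → Prop
  | base {m : G} : m ∈ M → Reach M N 0 m
  | step {k : ℕ} {x n m : G} : Reach M N k x → n ∈ N → m ∈ M → Reach M N (k + 1) (x * n * m)

variable {M N : Subgroup G}

theorem Reach.mul_right {k : ℕ} {x m : G} (h : Reach M N k x) (hm : m ∈ M) :
    Reach M N k (x * m) := by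
  cases h with
  | base hm0 => exact Reach.base (M.mul_mem hm0 hm)
  | step hx hn hm' =>
    rw [mul_assoc]
    exact Reach.step hx hn (M.mul_mem hm' hm)

theorem Reach.mul_left {k : ℕ} {x m : G} (h : Reach M N k x) (hm : m ∈ M) :
    Reach M N k (m * x) := by
  induction h with
  | base hm0 => exact Reach.base (M.mul_mem hm hm0)
  | step hx hn hm' ih =>
    rw [← mul_assoc, ← mul_assoc]
    exact Reach.step ih hn hm'

theorem Reach.cons {k : ℕ} {x n m : G} (h : Reach M N k x) (hn : n ∈ N) (hm : m ∈ M) :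
    Reach M N (k + 1) (m * n * x) := by
  induction h with
  | base hm0 => exact Reach.step (Reach.base hm) hn hm0
  | step hx hn' hm' ih =>
    rw [← mul_assoc, ← mul_assoc]
    exact Reach.step ih hn' hm'

theorem Reach.inv {k : ℕ} {x : G} (h : Reach M N k x) : Reach M N k x⁻¹ := by
  induction h with
  | base hm0 => exact Reach.base (M.inv_mem hm0)
  | step hx hn hm ih =>
    rw [mul_inv_rev, mul_inv_rev, ← mul_assoc]
    exact Reach.cons ih (N.inv_mem hn) (M.inv_mem hm)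

theorem Reach.mul {j k : ℕ} {x y : G} (h₁ : Reach M N j x) (h₂ : Reach M N k y) :
    Reach M N (j + k) (x * y) := by
  induction h₂ with
  | base hm0 => exact h₁.mul_right hm0
  | step hy hn hm ih =>
    rw [← mul_assoc, ← mul_assoc, ← add_assoc]
    exact Reach.step ih hn hm

/-- Every element of `M ⊔ N` is an alternating word. -/
theorem exists_reach {h : G} (hh : h ∈ M ⊔ N) : ∃ k, Reach M N k h := by
  let K : Subgroup G :=
    { carrier := {h | ∃ k, Reach M N k h}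
      one_mem' := ⟨0, Reach.base M.one_mem⟩
      mul_mem' := by
        rintro a b ⟨j, ha⟩ ⟨k, hb⟩
        exact ⟨j + k, ha.mul hb⟩
      inv_mem' := by
        rintro a ⟨k, ha⟩
        exact ⟨k, ha.inv⟩ }
  have h1 : M ≤ K := fun m hm => ⟨0, Reach.base hm⟩
  have h2 : N ≤ K := fun n hn => ⟨1, by
    have := Reach.step (M := M) (N := N) (Reach.base M.one_mem) hn M.one_mem
    simpa using this⟩
  exact (sup_le h1 h2) hh

/-! ### Mutually normalizing subgroups -/

theorem commutator_le_inf_of_le_normalizer {A B : Subgroup G}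
    (hA : A ≤ Subgroup.normalizer (B : Set G)) (hB : B ≤ Subgroup.normalizer (A : Set G)) :
    ⁅A, B⁆ ≤ A ⊓ B := by
  rw [Subgroup.commutator_le]
  intro a ha b hb
  rw [commutatorElement_def]
  refine Subgroup.mem_inf.mpr ⟨?_, ?_⟩
  · have h1 : b * a⁻¹ * b⁻¹ ∈ A :=
      (Subgroup.mem_normalizer_iff.mp (hB hb) a⁻¹).mp (A.inv_mem ha)
    have e : a * b * a⁻¹ * b⁻¹ = a * (b * a⁻¹ * b⁻¹) := by group
    rw [e]; exact A.mul_mem ha h1
  · have h1 : a * b * a⁻¹ ∈ B := (Subgroup.mem_normalizer_iff.mp (hA ha) b).mp hb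
    exact B.mul_mem h1 (B.inv_mem hb)

/-! ### The context -/

/-- `M† = M C_G(Y)`. -/
abbrev Md (M Y : Subgroup G) : Subgroup G := M ⊔ Subgroup.centralizer (Y : Set G)

/-- What is used of `M ∈ 𝔐_G(S)`, of the large subgroup and of the asymmetry of `Y = Y_M`. -/
structure Ctx (p : ℕ) (S : Sylow p G) (M Y : Subgroup G) : Prop where
  hSM : (S : Subgroup G) ≤ M
  hY : IsPRedIn p Y M
  hR0 : Cfsg.pCoreOf p M = (S : Subgroup G) ⊓ Subgroup.centralizer (Y : Set G)
  hR0ne : Cfsg.pCoreOf p M ≠ ⊥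
  hasym : ¬ Cfsg.IsSymmetricIn Y
  hpar : ∀ R : Subgroup G, Cfsg.IsParabolic p R → Cfsg.pCoreOf p R ≠ ⊥ →
    Subgroup.centralizer ((Cfsg.pCoreOf p R : Subgroup G) : Set G) ≤ Cfsg.pCoreOf p R
  hmax : ∀ X ∈ Cfsg.charPSubgroups p G, M ≤ X → X ≤ Md M Y

variable [Finite G] {p : ℕ} [Fact p.Prime] {S : Sylow p G} {Y : Subgroup G}

namespace Ctx

theorem Md_le_normY (h : Ctx p S M Y) : Md M Y ≤ Subgroup.normalizer (Y : Set G) :=
  sup_le h.hY.le_normalizer (Subgroup.centralizer_le_normalizer _)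

theorem Md_le_normC (h : Ctx p S M Y) :
    Md M Y ≤ Subgroup.normalizer ((Subgroup.centralizer (Y : Set G) : Subgroup G) : Set G) :=
  h.Md_le_normY.trans (Cfsg.Agent.Helper49.normalizer_le_normalizer_centralizer Y)

theorem Y_le_R0 (h : Ctx p S M Y) : Y ≤ Cfsg.pCoreOf p M := h.hY.le_pCoreOf

theorem R0_le_C (h : Ctx p S M Y) : Cfsg.pCoreOf p M ≤ Subgroup.centralizer (Y : Set G) :=
  h.hY.pCoreOf_le_centralizer

theorem R0_le_Md (_h : Ctx p S M Y) : Cfsg.pCoreOf p M ≤ Md M Y :=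
  (pCoreOf_le M).trans le_sup_left

/-- Fact (2): `C_X(Y) = O_p(M)` for a `p`-subgroup `O_p(M) ≤ X ≤ M†`. -/
theorem inf_centralizer_eq (h : Ctx p S M Y) {X : Subgroup G} (hX : IsPGroup p X)
    (hRX : Cfsg.pCoreOf p M ≤ X) (hXM : X ≤ Md M Y) :
    X ⊓ Subgroup.centralizer (Y : Set G) = Cfsg.pCoreOf p M := by
  obtain ⟨t, ht, hle⟩ := exists_conj_le_sylow S (h.hSM.trans le_sup_left) hXM hX
  have htC : conjSub t (Subgroup.centralizer (Y : Set G)) = Subgroup.centralizer (Y : Set G) :=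
    conjSub_eq_self_iff.mpr (h.Md_le_normC ht)
  have h1 : conjSub t (X ⊓ Subgroup.centralizer (Y : Set G)) ≤ Cfsg.pCoreOf p M := by
    rw [h.hR0]
    exact le_inf ((Subgroup.map_mono inf_le_left).trans hle)
      ((Subgroup.map_mono inf_le_right).trans htC.le)
  have h2 : Cfsg.pCoreOf p M ≤ X ⊓ Subgroup.centralizer (Y : Set G) := le_inf hRX h.R0_le_C
  symm
  apply Subgroup.eq_of_le_of_card_ge h2
  calc Nat.card ↥(X ⊓ Subgroup.centralizer (Y : Set G))
      = Nat.card ↥(conjSub t (X ⊓ Subgroup.centralizer (Y : Set G))) := (card_conjSub t _).symm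
    _ ≤ Nat.card ↥(Cfsg.pCoreOf p M) := Subgroup.card_le_of_le h1

/-- `z` is good: `Y` lies in the `z`-conjugate of a `p`-subgroup between `O_p(M)` and `M†`. -/
def Good (p : ℕ) (M Y : Subgroup G) (z : G) : Prop :=
  ∃ L' : Subgroup G, IsPGroup p L' ∧ Cfsg.pCoreOf p M ≤ L' ∧ L' ≤ Md M Y ∧ Y ≤ conjSub z L'

theorem le_normalizer_of_good (h : Ctx p S M Y) {z : G} (hz : Good p M Y z) :
    Y ≤ Subgroup.normalizer ((conjSub z Y : Subgroup G) : Set G) := by
  obtain ⟨L', -, -, hLM, hYL⟩ := hz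
  rw [normalizer_conjSub]
  exact hYL.trans (Subgroup.map_mono (hLM.trans h.Md_le_normY))

theorem le_conj_of_good (h : Ctx p S M Y) {z : G} (hz : Good p M Y z) (hz' : Good p M Y z⁻¹) :
    Y ≤ conjSub z (Cfsg.pCoreOf p M) := by
  have h1 := h.le_normalizer_of_good hz
  have h2 : conjSub z Y ≤ Subgroup.normalizer (Y : Set G) := by
    have h3 := h.le_normalizer_of_good hz'
    have h4 := Subgroup.map_mono (f := (MulAut.conj z).toMonoidHom) h3
    change conjSub z Y ≤ conjSub z _ at h4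
    rw [← normalizer_conjSub, conjSub_conjSub, mul_inv_cancel, conjSub_one] at h4
    exact h4
  have h3 : ⁅Y, conjSub z Y⁆ = ⊥ := by
    by_contra hne
    exact h.hasym ⟨z, hne, commutator_le_inf_of_le_normalizer h1 h2⟩
  have h4 : Y ≤ Subgroup.centralizer ((conjSub z Y : Subgroup G) : Set G) :=
    Subgroup.commutator_eq_bot_iff_le_centralizer.mp h3
  obtain ⟨L', hLp, hRL, hLM, hYL⟩ := hz
  rw [← h.inf_centralizer_eq hLp hRL hLM]
  have e : conjSub z (L' ⊓ Subgroup.centralizer (Y : Set G)) =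
      conjSub z L' ⊓ Subgroup.centralizer ((conjSub z Y : Subgroup G) : Set G) := by
    rw [← cj_centralizer]; exact cj_inf z _ _
  rw [e]
  exact le_inf hYL h4

theorem good_step (h : Ctx p S M Y) {L : Subgroup G} (hLp : IsPGroup p L)
    (hRL : Cfsg.pCoreOf p M ≤ L) (hLM : L ≤ Md M Y) {x n m : G}
    (hx : Y ≤ conjSub x (Cfsg.pCoreOf p M)) (hn : n ∈ Subgroup.normalizer (L : Set G))
    (hm : m ∈ M) : Good p M Y (x * n * m) := by
  refine ⟨conjSub m⁻¹ L, isPGroup_conjSub hLp, ?_, ?_, ?_⟩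
  · have e : conjSub m⁻¹ (Cfsg.pCoreOf p M) = Cfsg.pCoreOf p M :=
      conjSub_eq_self_iff.mpr (pCoreOf_normalized M (M.inv_mem hm))
    rw [← e]; exact Subgroup.map_mono hRL
  · have e : conjSub m⁻¹ (Md M Y) = Md M Y :=
      conjSub_eq_self_iff.mpr (Subgroup.le_normalizer ((Md M Y).inv_mem (le_sup_left (a := M) hm)))
    rw [← e]; exact Subgroup.map_mono hLM
  · rw [conjSub_conjSub, mul_inv_cancel_right, ← conjSub_conjSub, conjSub_eq_self_iff.mpr hn]
    exact hx.trans (Subgroup.map_mono hRL)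

theorem le_conj_of_reach (h : Ctx p S M Y) {L : Subgroup G} (hLp : IsPGroup p L)
    (hRL : Cfsg.pCoreOf p M ≤ L) (hLM : L ≤ Md M Y) :
    ∀ k : ℕ, ∀ z : G, Reach M (Subgroup.normalizer (L : Set G)) k z →
      Y ≤ conjSub z (Cfsg.pCoreOf p M) := by
  intro k
  induction k with
  | zero =>
    intro z hz
    cases hz with
    | base hm =>
      rw [conjSub_eq_self_iff.mpr (pCoreOf_normalized M hm)]
      exact h.Y_le_R0
  | succ k ih =>
    intro z hz
    have good : ∀ w : G, Reach M (Subgroup.normalizer (L : Set G)) (k + 1) w → Good p M Y w := by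
      intro w hw
      cases hw with
      | step hx hn hm => exact h.good_step hLp hRL hLM (ih _ hx) hn hm
    exact h.le_conj_of_good (good z hz) (good z⁻¹ hz.inv)

/-- `N_G(L) ≤ M†` for a `p`-subgroup `O_p(M) ≤ L ≤ M†`. -/
theorem normalizer_le_Md (h : Ctx p S M Y) {L : Subgroup G} (hLp : IsPGroup p L)
    (hRL : Cfsg.pCoreOf p M ≤ L) (hLM : L ≤ Md M Y) :
    Subgroup.normalizer (L : Set G) ≤ Md M Y := by
  by_cases hY1 : Y = ⊥
  · have e : Md M Y = ⊤ := by
      rw [Md, hY1, Subgroup.coe_bot, Subgroup.centralizer_eq_top_iff_subset.mpr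
        (by simp), sup_top_eq]
    rw [e]; exact le_top
  set G₀ : Subgroup G := M ⊔ Subgroup.normalizer (L : Set G) with hG₀
  have key : ∀ g ∈ G₀, conjSub g Y ≤ Cfsg.pCoreOf p M := by
    intro g hg
    obtain ⟨k, hk⟩ := exists_reach (G₀.inv_mem hg)
    have h1 := h.le_conj_of_reach hLp hRL hLM k _ hk
    exact (cj_le_iff g Y _).mpr h1
  have hYG : Y ≤ G₀ := h.hY.le.trans le_sup_left
  have hsup : G₀ ⊔ Y = G₀ := sup_of_le_left hYG
  have hW : wcY Y G₀ ≤ Cfsg.pCoreOf p M :=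
    iSup_le fun g => key g (hsup.le g.2)
  have hWG : wcY Y G₀ ≤ G₀ := (wcY_le Y G₀).trans hsup.le
  have hWn : G₀ ≤ Subgroup.normalizer ((wcY Y G₀ : Subgroup G) : Set G) :=
    le_sup_left.trans (le_normalizer_wcY Y G₀)
  have hWp : wcY Y G₀ ≤ Cfsg.pCoreOf p G₀ :=
    le_pCoreOf hWG ((pCoreOf_isPGroup M).to_le hW) hWn
  have hne : Cfsg.pCoreOf p G₀ ≠ ⊥ := by
    intro hb
    apply hY1
    rw [eq_bot_iff, ← hb]
    exact (le_wcY Y G₀).trans hWp
  have hparG : Cfsg.IsParabolic p G₀ := ⟨S, h.hSM.trans le_sup_left⟩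
  have hmem : G₀ ∈ Cfsg.charPSubgroups p G :=
    mem_charPSubgroups_iff.mpr ⟨hne, h.hpar G₀ hparG hne⟩
  exact le_sup_right.trans (h.hmax G₀ hmem le_sup_left)

/-- `N_G(O_p(M)) ≤ M†`. -/
theorem normalizer_R0_le_Md (h : Ctx p S M Y) :
    Subgroup.normalizer ((Cfsg.pCoreOf p M : Subgroup G) : Set G) ≤ Md M Y := by
  set NR : Subgroup G := Subgroup.normalizer ((Cfsg.pCoreOf p M : Subgroup G) : Set G) with hNR
  have hMN : M ≤ NR := pCoreOf_normalized M
  have hRp : Cfsg.pCoreOf p M ≤ Cfsg.pCoreOf p NR :=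
    le_pCoreOf Subgroup.le_normalizer (pCoreOf_isPGroup M) le_rfl
  have hne : Cfsg.pCoreOf p NR ≠ ⊥ := by
    intro hb
    apply h.hR0ne
    rw [eq_bot_iff, ← hb]
    exact hRp
  have hpar : Cfsg.IsParabolic p NR := ⟨S, h.hSM.trans hMN⟩
  have hmem : NR ∈ Cfsg.charPSubgroups p G :=
    mem_charPSubgroups_iff.mpr ⟨hne, h.hpar NR hpar hne⟩
  exact h.hmax NR hmem hMN

/-- `N_G(L) ≤ N_G(O_p(M))` for a `p`-subgroup `O_p(M) ≤ L ≤ M†`. -/
theorem normalizer_le_normalizer_R0_of_le (h : Ctx p S M Y) {L : Subgroup G} (hLp : IsPGroup p L)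
    (hRL : Cfsg.pCoreOf p M ≤ L) (hLM : L ≤ Md M Y) :
    Subgroup.normalizer (L : Set G) ≤
      Subgroup.normalizer ((Cfsg.pCoreOf p M : Subgroup G) : Set G) := by
  have h1 : Subgroup.normalizer (L : Set G) ≤
      Subgroup.normalizer ((L ⊓ Subgroup.centralizer (Y : Set G) : Subgroup G) : Set G) :=
    le_normalizer_inf le_rfl ((h.normalizer_le_Md hLp hRL hLM).trans h.Md_le_normC)
  rwa [h.inf_centralizer_eq hLp hRL hLM] at h1

/-- Every `p`-subgroup containing `O_p(M)` normalizes it. -/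
theorem le_normalizer_R0 (h : Ctx p S M Y) {L : Subgroup G} (hLp : IsPGroup p L)
    (hRL : Cfsg.pCoreOf p M ≤ L) :
    L ≤ Subgroup.normalizer ((Cfsg.pCoreOf p M : Subgroup G) : Set G) := by
  apply le_of_inf_normalizer_le hLp
  have hL1p : IsPGroup p ↥(L ⊓ Subgroup.normalizer ((Cfsg.pCoreOf p M : Subgroup G) : Set G)) :=
    hLp.to_le inf_le_left
  have hRL1 : Cfsg.pCoreOf p M ≤
      L ⊓ Subgroup.normalizer ((Cfsg.pCoreOf p M : Subgroup G) : Set G) :=
    le_inf hRL Subgroup.le_normalizer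
  have hL1M : L ⊓ Subgroup.normalizer ((Cfsg.pCoreOf p M : Subgroup G) : Set G) ≤ Md M Y :=
    inf_le_right.trans h.normalizer_R0_le_Md
  exact inf_le_right.trans (h.normalizer_le_normalizer_R0_of_le hL1p hRL1 hL1M)

/-- Conclusion (1). -/
theorem normalizer_le_normalizer_R0 (h : Ctx p S M Y) {L : Subgroup G} (hLp : IsPGroup p L)
    (hRL : Cfsg.pCoreOf p M ≤ L) :
    Subgroup.normalizer (L : Set G) ≤
      Subgroup.normalizer ((Cfsg.pCoreOf p M : Subgroup G) : Set G) :=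
  h.normalizer_le_normalizer_R0_of_le hLp hRL
    ((h.le_normalizer_R0 hLp hRL).trans h.normalizer_R0_le_Md)

/-- Conclusion (2). -/
theorem weaklyClosed_R0 (h : Ctx p S M Y) :
    Cfsg.IsWeaklyClosedSubgroup p (Cfsg.pCoreOf p M) :=
  wc_of_normal_in_pgroups (pCoreOf_isPGroup M)
    (fun _ hRp hQR => h.le_normalizer_R0 hRp hQR)
    (fun T hQT => h.normalizer_le_normalizer_R0 T.2 hQT)

/-- Conclusion (3). -/
theorem parabolic_inf_Md (h : Ctx p S M Y) {L : Subgroup G} (hRL : Cfsg.pCoreOf p M ≤ L) :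
    Cfsg.IsParabolic p ((L ⊓ Md M Y).subgroupOf L) := by
  obtain ⟨T, hT⟩ := wc_parabolic (pCoreOf_isPGroup M) h.weaklyClosed_R0 hRL
  refine ⟨T, hT.trans ?_⟩
  intro x hx
  rw [Subgroup.mem_subgroupOf] at hx ⊢
  exact ⟨x.2, h.normalizer_R0_le_Md hx⟩

/-- Conclusion (4). -/
theorem fusion_in_Y (h : Ctx p S M Y) {x : G} (hx : x ∈ Y) {g : G} (hgx : g * x * g⁻¹ ∈ Y) :
    ∃ m ∈ M, m * x * m⁻¹ = g * x * g⁻¹ := by
  set y := g * x * g⁻¹ with hy
  set K : Subgroup G := Subgroup.centralizer ({y} : Set G) with hK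
  have hCK : Subgroup.centralizer (Y : Set G) ≤ K :=
    Subgroup.centralizer_le (Set.singleton_subset_iff.mpr hgx)
  have hRK : Cfsg.pCoreOf p M ≤ K := h.R0_le_C.trans hCK
  have hgRK : conjSub g (Cfsg.pCoreOf p M) ≤ K := by
    rintro _ ⟨r, hr, rfl⟩
    rw [hK, Subgroup.mem_centralizer_singleton_iff]
    have hrx : r * x = x * r := by
      have := Subgroup.mem_centralizer_iff.mp (h.R0_le_C hr) x hx
      exact this.symm
    simp only [MulEquiv.coe_toMonoidHom, MulAut.conj_apply]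
    rw [hy]
    have e1 : g * r * g⁻¹ * (g * x * g⁻¹) = g * (r * x) * g⁻¹ := by group
    have e2 : g * x * g⁻¹ * (g * r * g⁻¹) = g * (x * r) * g⁻¹ := by group
    rw [e1, e2, hrx]
  obtain ⟨c, hc, hcg⟩ := wc_exists_conj_in (pCoreOf_isPGroup M) h.weaklyClosed_R0 hRK hgRK
  -- `c⁻¹ g` normalizes `O_p(M)`
  have hn : c⁻¹ * g ∈ Subgroup.normalizer ((Cfsg.pCoreOf p M : Subgroup G) : Set G) := by
    rw [← conjSub_eq_self_iff, ← conjSub_conjSub, hcg, conjSub_conjSub, inv_mul_cancel,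
      conjSub_one]
  have hMd := h.normalizer_R0_le_Md hn
  have hMNC : M ≤ Subgroup.normalizer
      ((Subgroup.centralizer (Y : Set G) : Subgroup G) : Set G) :=
    le_sup_left.trans h.Md_le_normC
  have hMd' : c⁻¹ * g ∈ ((Subgroup.centralizer (Y : Set G) ⊔ M : Subgroup G) : Set G) := by
    rw [sup_comm]; exact hMd
  rw [Subgroup.coe_mul_of_right_le_normalizer_left _ M hMNC] at hMd'
  obtain ⟨c', hc', m, hm, e⟩ := Set.mem_mul.mp hMd'
  refine ⟨m, hm, ?_⟩
  have hmx : m * x * m⁻¹ ∈ Y :=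
    (Subgroup.mem_normalizer_iff.mp (h.hY.le_normalizer hm) x).mp hx
  have hc'x : c' * (m * x * m⁻¹) = (m * x * m⁻¹) * c' :=
    (Subgroup.mem_centralizer_iff.mp hc' _ hmx).symm
  have hcy : c * y = y * c := by
    rw [hK, Subgroup.mem_centralizer_singleton_iff] at hc
    exact hc
  have hg : g = c * (c' * m) := by rw [e]; group
  have e3 : y = c * (c' * (m * x * m⁻¹) * c'⁻¹) * c⁻¹ := by
    rw [hy]; conv_lhs => rw [hg]
    group
  rw [hc'x, mul_inv_cancel_right] at e3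
  -- `y = c (m x m⁻¹) c⁻¹` and `c` centralizes `y`
  have e4 : m * x * m⁻¹ = c⁻¹ * y * c := by rw [e3]; group
  rw [e4, mul_assoc, ← hcy, ← mul_assoc, inv_mul_cancel, one_mul]

end Ctx

/-! ### Every member of `𝓛_G` above `M` lies in `M†` -/

theorem le_Md_of_mem_charPSubgroups {X M Y : Subgroup G}
    (hMd : ∀ X ∈ Cfsg.maxCharPSubgroups p G, M ≤ X → X = Md M Y)
    (hX : X ∈ Cfsg.charPSubgroups p G) (hMX : M ≤ X) : X ≤ Md M Y := by
  obtain ⟨X', hXX', hmax⟩ :=
    (Set.toFinite (Cfsg.charPSubgroups p G)).exists_le_maximal hX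
  have hX' : X' ∈ Cfsg.maxCharPSubgroups p G :=
    ⟨hmax.prop, fun L hL hle => le_antisymm (hmax.le_of_ge hL hle) hle⟩
  rw [← hMd X' hX' (hMX.trans hXX')]
  exact hXX'

end Cfsg.Agent.Helper87.AsymM
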