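import Mathlib
import Cfsg.Prelude.Def_LocalStructure
import Cfsg.Agent.Helper87.AsymM
import Cfsg.Agent.Helper49.CharP
import Cfsg.Agent.Helper21.LargeSub

/-!
# The family `ℌ_G(O_p(M))` for asymmetric `Y_M` (abstract part of S2852, S2853)
-/

set_option autoImplicit false

namespace Cfsg.Agent.Helper87.AsymM

open Cfsg Cfsg.Agent.Helper46 Cfsg.Agent.Helper47 Cfsg.Agent.Helper48 Cfsg.Agent.Helper51
open Cfsg.Agent.Helper87.WCF

variable {G : Type*} [Group G] [Finite G] {p : ℕ} [Fact p.Prime] {S : Sylow p G}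
  {M Y : Subgroup G}

/-- Characteristic `p`, in the form used by the statements. -/
abbrev CharPc (p : ℕ) (H : Subgroup G) : Prop :=
  Subgroup.centralizer (Cfsg.pCore p ↥H : Set ↥H) ≤ Cfsg.pCore p ↥H

omit [Finite G] [Fact p.Prime] in
theorem coreIn_eq_pCoreOf (H : Subgroup G) :
    Cfsg.Agent.Helper49.coreIn p H = Cfsg.pCoreOf p H := rfl

/-- If `H` has characteristic `p` and `O_p(H)` normalizes `L ≤ H`, then `L` has
characteristic `p`. -/
theorem charPc_of_normalized {H L : Subgroup G} (hH : CharPc p H) (hLH : L ≤ H)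
    (hL : Cfsg.pCoreOf p H ≤ Subgroup.normalizer (L : Set G)) : CharPc p L :=
  (Cfsg.Agent.Helper49.charPIn_iff L).mp
    (Cfsg.Agent.Helper49.charPIn_of_normalized ((Cfsg.Agent.Helper49.charPIn_iff H).mpr hH) hLH hL)

/-- `O_p(N) ≤ O_p(H)` for `N ≤ H` normalized by `H`. -/
theorem pCoreOf_le_pCoreOf_of_normalized {H N : Subgroup G} (hNH : N ≤ H)
    (hn : H ≤ Subgroup.normalizer (N : Set G)) : Cfsg.pCoreOf p N ≤ Cfsg.pCoreOf p H :=
  le_pCoreOf ((pCoreOf_le N).trans hNH) (pCoreOf_isPGroup N)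
    (Cfsg.Agent.Helper21.le_normalizer_pCoreOf hn)

/-- `O_p(P₁) ∩ P ≤ O_p(P)` for `P ≤ P₁`. -/
theorem pCoreOf_inf_le {P P₁ : Subgroup G} (hPP : P ≤ P₁) :
    Cfsg.pCoreOf p P₁ ⊓ P ≤ Cfsg.pCoreOf p P :=
  le_pCoreOf inf_le_right ((pCoreOf_isPGroup P₁).to_le inf_le_left)
    (le_normalizer_inf (hPP.trans (pCoreOf_normalized P₁)) Subgroup.le_normalizer)

namespace Ctx

/-- For char-`p`-tall `Y`, some subgroup of characteristic `p` contains `O_p(M)` and does not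
have `Y` in its `p`-core. -/
theorem exists_charP_ge_R0 (h : Ctx p S M Y) (htall : Cfsg.IsCharPTall p Y) :
    ∃ L : Subgroup G, Cfsg.pCoreOf p M ≤ L ∧ CharPc p L ∧ ¬ Y ≤ Cfsg.pCoreOf p L := by
  set C := Subgroup.centralizer (Y : Set G) with hC
  obtain ⟨T, L₀, hTL, hch, hYL⟩ := htall
  have hSC : (S : Subgroup G) ≤ Subgroup.normalizer (C : Set G) :=
    (h.hSM.trans le_sup_left).trans h.Md_le_normC
  obtain ⟨P₀, hP₀⟩ := exists_sylow_inf_of_le_normalizer S hSC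
  obtain ⟨c, hc⟩ := MulAction.exists_smul_eq ↥C T P₀
  have e0 : ((c • T : Sylow p ↥C) : Subgroup ↥C) =
      (T : Subgroup ↥C).map (MulAut.conj c).toMonoidHom := rfl
  have e1 : conjSub (c : G) ((T : Subgroup ↥C).map C.subtype) = Cfsg.pCoreOf p M := by
    rw [← map_subtype_map_conj, ← e0, hc, hP₀, Subgroup.subgroupOf_map_subtype,
      inf_assoc, inf_idem, h.hR0]
  refine ⟨conjSub (c : G) L₀, ?_, ?_, ?_⟩
  · rw [← e1]; exact Subgroup.map_mono hTL
  · exact centralizer_pCore_le_of_ambient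
      ((isCharPIn_of_subtype hch).map_equiv (MulAut.conj (c : G)))
  · intro hle
    apply hYL
    have e2 : Cfsg.pCoreOf p (conjSub (c : G) L₀) = conjSub (c : G) (Cfsg.pCoreOf p L₀) :=
      pCoreOf_map_equiv (MulAut.conj (c : G)) L₀
    rw [e2] at hle
    have h1 := (cj_le_iff (c : G)⁻¹ Y (Cfsg.pCoreOf p L₀)).mpr (by rwa [inv_inv])
    have hcn : (c : G)⁻¹ ∈ Subgroup.normalizer (Y : Set G) :=
      Subgroup.centralizer_le_normalizer _ (C.inv_mem c.2)
    have e3 : cj (c : G)⁻¹ Y = Y := conjSub_eq_self_iff.mpr hcn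
    rw [e3] at h1
    exact h1

/-- `ℌ_G(O_p(M)) ≠ ∅` for char-`p`-tall asymmetric `Y`. -/
theorem exists_frakH (h : Ctx p S M Y) (htall : Cfsg.IsCharPTall p Y) :
    ∃ H : Subgroup G, CharPc p H ∧ Cfsg.pCoreOf p M ≤ H ∧ ¬ Y ≤ Cfsg.pCoreOf p H ∧
      ∀ P : Subgroup G, Cfsg.pCoreOf p M ≤ P → P < H → Y ≤ Cfsg.pCoreOf p P := by
  obtain ⟨L, hL⟩ := h.exists_charP_ge_R0 htall
  set 𝒞 : Set (Subgroup G) :=
    {H | Cfsg.pCoreOf p M ≤ H ∧ CharPc p H ∧ ¬ Y ≤ Cfsg.pCoreOf p H} with h𝒞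
  obtain ⟨H, -, hmin⟩ := (Set.toFinite 𝒞).exists_le_minimal (a := L) hL
  obtain ⟨hRH, hch, hYH⟩ := hmin.prop
  -- minimality, in usable form
  have hmin' : ∀ P : Subgroup G, Cfsg.pCoreOf p M ≤ P → CharPc p P → P < H →
      Y ≤ Cfsg.pCoreOf p P := by
    intro P hRP hPc hPH
    by_contra hY
    exact absurd (hmin.le_of_le (show P ∈ 𝒞 from ⟨hRP, hPc, hY⟩) hPH.le) (not_le_of_gt hPH)
  set D := Cfsg.pCoreOf p H with hD
  have hDH : D ≤ H := pCoreOf_le H
  have hHD : H ≤ Subgroup.normalizer (D : Set G) := pCoreOf_normalized H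
  -- `D` normalizes `O_p(M)`
  have hDR : D ≤ Subgroup.normalizer ((Cfsg.pCoreOf p M : Subgroup G) : Set G) := by
    have hp : IsPGroup p ↥(Cfsg.pCoreOf p M ⊔ D) :=
      (pCoreOf_isPGroup M).to_sup_of_normal_right' (pCoreOf_isPGroup H) (hRH.trans hHD)
    exact le_sup_right.trans (h.le_normalizer_R0 hp le_sup_left)
  -- `H` is the normal closure of `O_p(M)`
  have hsup : H ⊔ Cfsg.pCoreOf p M = H := sup_of_le_left hRH
  set N := wcY (Cfsg.pCoreOf p M) H with hN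
  have hNH : N ≤ H := (wcY_le _ H).trans hsup.le
  have hHN : H ≤ Subgroup.normalizer (N : Set G) := le_sup_left.trans (le_normalizer_wcY _ H)
  have hRN : Cfsg.pCoreOf p M ≤ N := le_wcY _ H
  have hNeq : N = H := by
    by_contra hne
    have hlt : N < H := lt_of_le_of_ne hNH hne
    have hNc : CharPc p N := charPc_of_normalized hch hNH (hDH.trans hHN)
    exact hYH ((hmin' N hRN hNc hlt).trans (pCoreOf_le_pCoreOf_of_normalized hNH hHN))
  refine ⟨H, hch, hRH, hYH, ?_⟩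
  intro P hRP hPH
  have hPD : P ≤ Subgroup.normalizer (D : Set G) := hPH.le.trans hHD
  by_cases hsupP : P ⊔ D = H
  · -- then every `H`-conjugate of `O_p(M)` lies in `P`
    exfalso
    apply not_le_of_gt hPH
    rw [← hNeq, hN]
    refine iSup_le fun g => ?_
    have hg : (g : G) ∈ P ⊔ D := by rw [hsupP]; exact hsup.le g.2
    obtain ⟨x, hx, d, hd, e⟩ := exists_mul_of_mem_sup hPD hg
    rw [e, ← conjSub_conjSub, conjSub_eq_self_iff.mpr (hDR hd)]
    exact conjSub_le_of_mem hRP hx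
  · have hP1H : P ⊔ D ≤ H := sup_le hPH.le hDH
    have hlt : P ⊔ D < H := lt_of_le_of_ne hP1H hsupP
    have hP1c : CharPc p (P ⊔ D) :=
      charPc_of_normalized hch hP1H (le_sup_right.trans Subgroup.le_normalizer)
    have hY1 := hmin' (P ⊔ D) (hRP.trans le_sup_left) hP1c hlt
    exact (le_inf hY1 (h.Y_le_R0.trans hRP)).trans (pCoreOf_inf_le le_sup_left)

end Ctx

/-- The context of the statements S2850–S2854, S2862. -/
theorem ctx_of_frakM (S : Sylow p G) {Q : Subgroup G} (hQp : IsPGroup p ↥Q) (hQ1 : Q ≠ ⊥)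
    (hQ : Cfsg.IsLarge Q) {M : Subgroup G} (hSM : (S : Subgroup G) ≤ M)
    (hM : Cfsg.IsInFrakM p M) (hasym : ¬ Cfsg.IsSymmetricIn (Cfsg.largestPReducedOf p M)) :
    Ctx p S M (Cfsg.largestPReducedOf p M) := by
  have hY : IsPRedIn p (Cfsg.largestPReducedOf p M) M := isPRedIn_largestPReducedOf M
  obtain ⟨hML, -, huniq, -, hcl, -⟩ := hM
  exact
    { hSM := hSM
      hY := hY
      hR0 := Cfsg.Agent.S2848.pCoreOf_eq_inf_centralizer S hSM hY hcl
      hR0ne := (mem_charPSubgroups_iff.mp hML).1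
      hasym := hasym
      hpar := fun R hR hP1 =>
        Cfsg.Agent.Helper21.IsLarge.centralizer_pCoreOf_le_of_isParabolic hQp hQ1 hQ hR hP1
      hmax := fun X hX hMX => le_Md_of_mem_charPSubgroups huniq hX hMX }

end Cfsg.Agent.Helper87.AsymM
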