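import Mathlib
import Cfsg.Prelude.Def_LocalStructure
import Cfsg.Agent.Helper87.AsymH
import Cfsg.Agent.S2840

/-!
# Members of `ℌ_G(O_p(M))` (abstract part of S2853)
-/

set_option autoImplicit false

namespace Cfsg.Agent.Helper87.AsymM

open Cfsg Cfsg.Agent.Helper46 Cfsg.Agent.Helper47 Cfsg.Agent.Helper48 Cfsg.Agent.Helper51
open Cfsg.Agent.Helper87.WCF
open scoped commutatorElement

section Ncl

variable {G : Type*} [Group G]

/-- The normal closure of `Q` in `H`, in ambient form. -/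
def nclIn (Q H : Subgroup G) : Subgroup G := ⨆ h : ↥H, conjSub (h : G) Q

theorem conj_le_nclIn {Q H : Subgroup G} {h : G} (hh : h ∈ H) : conjSub h Q ≤ nclIn Q H :=
  le_iSup (fun h : ↥H => conjSub (h : G) Q) ⟨h, hh⟩

theorem le_nclIn (Q H : Subgroup G) : Q ≤ nclIn Q H := by
  have := conj_le_nclIn (Q := Q) (H := H) (h := 1) (one_mem _)
  rwa [conjSub_one] at this

theorem nclIn_le {Q H : Subgroup G} (hQH : Q ≤ H) : nclIn Q H ≤ H :=
  iSup_le fun h => conjSub_le_of_mem hQH h.2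

theorem nclIn_le_of_normalized {Q H K : Subgroup G} (hQK : Q ≤ K)
    (hHK : H ≤ Subgroup.normalizer (K : Set G)) : nclIn Q H ≤ K := by
  refine iSup_le fun h => ?_
  rw [← conjSub_eq_self_iff.mpr (hHK h.2)]
  exact Subgroup.map_mono hQK

theorem le_normalizer_nclIn [Finite G] (Q H : Subgroup G) :
    H ≤ Subgroup.normalizer ((nclIn Q H : Subgroup G) : Set G) := by
  intro a ha
  apply mem_normalizer_of_conjSub_le
  show (nclIn Q H).map (MulAut.conj a).toMonoidHom ≤ nclIn Q H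
  unfold nclIn
  rw [Subgroup.map_iSup]
  refine iSup_le fun h => ?_
  show conjSub a (conjSub (h : G) Q) ≤ _
  rw [conjSub_conjSub]
  exact conj_le_nclIn (H.mul_mem ha h.2)

theorem normalClosure_eq_iSup_conj {K : Type*} [Group K] (A : Subgroup K) :
    Subgroup.normalClosure (A : Set K) = ⨆ g : K, conjSub g A := by
  apply le_antisymm
  · have hn : (⨆ g : K, conjSub g A).Normal := Cfsg.Agent.S2840.iSup_conj_normal A
    apply Subgroup.normalClosure_le_normal
    have := le_iSup (fun g : K => conjSub g A) 1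
    rw [conjSub_one] at this
    exact this
  · refine iSup_le fun g => ?_
    rintro _ ⟨a, ha, rfl⟩
    exact Subgroup.normalClosure_normal.conj_mem _ (Subgroup.subset_normalClosure ha) g

theorem map_normalClosure_subgroupOf {Q H : Subgroup G} (hQH : Q ≤ H) :
    (Subgroup.normalClosure ((Q.subgroupOf H : Subgroup ↥H) : Set ↥H)).map H.subtype =
      nclIn Q H := by
  rw [normalClosure_eq_iSup_conj, Subgroup.map_iSup]
  unfold nclIn
  exact iSup_congr fun h => subgroupOf_map_conj hQH h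

/-- `[A, B]` is normalized by whatever normalizes `A` and `B`. -/
theorem le_normalizer_commutator {X A B : Subgroup G}
    (hA : X ≤ Subgroup.normalizer (A : Set G)) (hB : X ≤ Subgroup.normalizer (B : Set G)) :
    X ≤ Subgroup.normalizer ((⁅A, B⁆ : Subgroup G) : Set G) := by
  intro x hx
  rw [Subgroup.mem_normalizer_iff_map_conj_eq, Subgroup.map_commutator,
    Subgroup.mem_normalizer_iff_map_conj_eq.mp (hA hx),
    Subgroup.mem_normalizer_iff_map_conj_eq.mp (hB hx)]

/-- `A` normalizes `[A, B]`. -/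
theorem le_normalizer_commutator_left (A B : Subgroup G) :
    A ≤ Subgroup.normalizer ((⁅A, B⁆ : Subgroup G) : Set G) := by
  intro a ha
  apply Subgroup.mem_normalizer_iff.mpr
  have key : ∀ a ∈ A, ∀ x ∈ ⁅A, B⁆, a * x * a⁻¹ ∈ ⁅A, B⁆ := by
    intro a ha x hx
    refine Subgroup.closure_induction (p := fun x _ => a * x * a⁻¹ ∈ ⁅A, B⁆) ?_ ?_ ?_ ?_ hx
    · rintro _ ⟨a', ha', b, hb, rfl⟩
      -- a [a', b] a⁻¹ = [a a', b] [a, b]⁻¹
      have e : a * ⁅a', b⁆ * a⁻¹ = ⁅a * a', b⁆ * ⁅a, b⁆⁻¹ := by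
        simp only [commutatorElement_def]; group
      rw [e]
      exact Subgroup.mul_mem _ (Subgroup.commutator_mem_commutator (A.mul_mem ha ha') hb)
        (Subgroup.inv_mem _ (Subgroup.commutator_mem_commutator ha hb))
    · simp
    · intro x y _ _ hx hy
      have e : a * (x * y) * a⁻¹ = (a * x * a⁻¹) * (a * y * a⁻¹) := by group
      rw [e]; exact Subgroup.mul_mem _ hx hy
    · intro x _ hx
      have e : a * x⁻¹ * a⁻¹ = (a * x * a⁻¹)⁻¹ := by group
      rw [e]; exact Subgroup.inv_mem _ hx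
  intro x
  refine ⟨key a ha x, fun hx => ?_⟩
  have := key a⁻¹ (A.inv_mem ha) _ hx
  simpa [mul_assoc] using this

end Ncl

variable {G : Type*} [Group G] [Finite G] {p : ℕ} [Fact p.Prime] {S : Sylow p G}
  {M Y : Subgroup G}

namespace Ctx

/-- Hypotheses on `H ∈ ℌ_G(O_p(M))` that are used (characteristic `p` is not). -/
structure InH (p : ℕ) (M Y H : Subgroup G) : Prop where
  hRH : Cfsg.pCoreOf p M ≤ H
  hYH : ¬ Y ≤ Cfsg.pCoreOf p H
  hmin : ∀ P : Subgroup G, Cfsg.pCoreOf p M ≤ P → P < H → Y ≤ Cfsg.pCoreOf p P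

variable {H : Subgroup G}

/-- `H` is the normal closure of `O_p(M)` in `H`. -/
theorem nclIn_R0_eq (_h : Ctx p S M Y) (hH : InH p M Y H) :
    nclIn (Cfsg.pCoreOf p M) H = H := by
  have hNH : nclIn (Cfsg.pCoreOf p M) H ≤ H := nclIn_le hH.hRH
  by_contra hne
  have hlt : nclIn (Cfsg.pCoreOf p M) H < H := lt_of_le_of_ne hNH hne
  exact hH.hYH ((hH.hmin _ (le_nclIn _ H) hlt).trans
    (pCoreOf_le_pCoreOf_of_normalized hNH (le_normalizer_nclIn _ H)))

/-- `O_p(H)` normalizes `O_p(M)`. -/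
theorem pCoreOf_le_normalizer_R0 (h : Ctx p S M Y) (hH : InH p M Y H) :
    Cfsg.pCoreOf p H ≤ Subgroup.normalizer ((Cfsg.pCoreOf p M : Subgroup G) : Set G) := by
  have hp : IsPGroup p ↥(Cfsg.pCoreOf p M ⊔ Cfsg.pCoreOf p H) :=
    (pCoreOf_isPGroup M).to_sup_of_normal_right' (pCoreOf_isPGroup H)
      (hH.hRH.trans (pCoreOf_normalized H))
  exact le_sup_right.trans (h.le_normalizer_R0 hp le_sup_left)

/-- `H = O^p(H) O_p(M)`. -/
theorem opOf_sup_R0_eq (h : Ctx p S M Y) (hH : InH p M Y H) :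
    opOf p H ⊔ Cfsg.pCoreOf p M = H := by
  apply le_antisymm (sup_le (opOf_le H) hH.hRH)
  obtain ⟨T, hT⟩ := exists_sylow_ge_in (pCoreOf_isPGroup M) hH.hRH
  set T' : Subgroup G := (T : Subgroup ↥H).map H.subtype with hT'
  have hT'p : IsPGroup p ↥T' := T.2.map _
  have hT'H : T' ≤ H := Subgroup.map_subtype_le _
  have hTR : T' ≤ Subgroup.normalizer ((Cfsg.pCoreOf p M : Subgroup G) : Set G) :=
    h.le_normalizer_R0 hT'p hT
  have hTn : T' ≤ Subgroup.normalizer ((opOf p H : Subgroup G) : Set G) :=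
    hT'H.trans (le_normalizer_opOf Subgroup.le_normalizer)
  conv_lhs => rw [← h.nclIn_R0_eq hH]
  refine iSup_le fun g => ?_
  have hg : (g : G) ∈ ((opOf p H ⊔ T' : Subgroup G) : Set G) := by
    rw [opOf_sup_sylow H T]; exact g.2
  rw [Subgroup.coe_mul_of_right_le_normalizer_left _ _ hTn] at hg
  obtain ⟨r, hr, t, ht, e⟩ := Set.mem_mul.mp hg
  rw [← e, ← conjSub_conjSub, conjSub_eq_self_iff.mpr (hTR ht)]
  exact conjSub_le_of_mem le_sup_right (le_sup_left (a := opOf p H) hr)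

/-- `O^p(H) = [O^p(H), Y]`. -/
theorem commutator_opOf_eq (h : Ctx p S M Y) (hH : InH p M Y H) :
    ⁅opOf p H, Y⁆ = opOf p H := by
  set R := opOf p H with hR
  set R₁ : Subgroup G := ⁅R, Y⁆ with hR₁
  have hYH' : Y ≤ H := h.Y_le_R0.trans hH.hRH
  have hHR : H ≤ Subgroup.normalizer (R : Set G) := le_normalizer_opOf Subgroup.le_normalizer
  have hR₁R : R₁ ≤ R := by
    rw [hR₁, Subgroup.commutator_comm]
    exact Subgroup.le_normalizer_iff_commutator_le_right.mp (hYH'.trans hHR)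
  apply le_antisymm hR₁R
  -- `R₀` normalizes `R`, `Y`, hence `R₁`
  have hR0Y : Cfsg.pCoreOf p M ≤ Subgroup.normalizer (Y : Set G) :=
    (pCoreOf_le M).trans h.hY.le_normalizer
  have hR0R₁ : Cfsg.pCoreOf p M ≤ Subgroup.normalizer (R₁ : Set G) :=
    le_normalizer_commutator (hH.hRH.trans hHR) hR0Y
  have hRR₁ : R ≤ Subgroup.normalizer (R₁ : Set G) := le_normalizer_commutator_left R Y
  have hHR₁ : H ≤ Subgroup.normalizer (R₁ : Set G) :=
    (h.opOf_sup_R0_eq hH).ge.trans (sup_le hRR₁ hR0R₁)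
  -- `P = R₁ O_p(M)`
  have hPeq : R₁ ⊔ Cfsg.pCoreOf p M = H := by
    by_contra hne
    have hPH : R₁ ⊔ Cfsg.pCoreOf p M ≤ H := sup_le (hR₁R.trans (opOf_le H)) hH.hRH
    have hlt : R₁ ⊔ Cfsg.pCoreOf p M < H := lt_of_le_of_ne hPH hne
    have hYP := hH.hmin _ le_sup_right hlt
    -- `Y R₁` is normal in `H`
    have hYR₁H : Y ⊔ R₁ ≤ H := sup_le hYH' (hR₁R.trans (opOf_le H))
    have hn : H ≤ Subgroup.normalizer ((Y ⊔ R₁ : Subgroup G) : Set G) := by
      refine (h.opOf_sup_R0_eq hH).ge.trans ?_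
      refine sup_le ?_ (le_normalizer_sup hR0Y hR0R₁)
      intro r hr
      apply mem_normalizer_of_conjSub_le
      show (Y ⊔ R₁).map (MulAut.conj r).toMonoidHom ≤ Y ⊔ R₁
      rw [Subgroup.map_sup]
      refine sup_le ?_ ?_
      · rintro _ ⟨y, hy, rfl⟩
        have e : (MulAut.conj r).toMonoidHom y = ⁅r, y⁆ * y := by
          simp [commutatorElement_def]
        rw [e]
        exact Subgroup.mul_mem _ (le_sup_right (a := Y)
          (Subgroup.commutator_mem_commutator hr hy)) (le_sup_left (b := R₁) hy)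
      · have : conjSub r R₁ = R₁ := conjSub_eq_self_iff.mpr (hRR₁ hr)
        exact this.le.trans le_sup_right
    have hle : Y ⊔ R₁ ≤ R₁ ⊔ Cfsg.pCoreOf p M := sup_le (h.Y_le_R0.trans le_sup_right) le_sup_left
    have h1 : Y ≤ Cfsg.pCoreOf p (Y ⊔ R₁) :=
      (le_inf hYP le_sup_left).trans (pCoreOf_inf_le hle)
    exact hH.hYH (h1.trans (pCoreOf_le_pCoreOf_of_normalized hYR₁H hn))
  exact opOf_le_of_le_sup (pCoreOf_isPGroup M) hR0R₁ (by rw [sup_comm, hPeq])

/-- `O^p(H) Y` is the normal closure of `Y` in `H`. -/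
theorem opOf_sup_Y_eq (h : Ctx p S M Y) (hH : InH p M Y H) :
    opOf p H ⊔ Y = nclIn Y H := by
  have hYH' : Y ≤ H := h.Y_le_R0.trans hH.hRH
  have hHR : H ≤ Subgroup.normalizer ((opOf p H : Subgroup G) : Set G) :=
    le_normalizer_opOf Subgroup.le_normalizer
  have hR0Y : Cfsg.pCoreOf p M ≤ Subgroup.normalizer (Y : Set G) :=
    (pCoreOf_le M).trans h.hY.le_normalizer
  apply le_antisymm
  · refine sup_le ?_ (le_nclIn Y H)
    rw [← h.commutator_opOf_eq hH, Subgroup.commutator_comm]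
    have h1 : opOf p H ≤ Subgroup.normalizer ((nclIn Y H : Subgroup G) : Set G) :=
      (opOf_le H).trans (le_normalizer_nclIn Y H)
    have h2 := Subgroup.le_normalizer_iff_commutator_le_right.mp h1
    rw [Subgroup.commutator_comm] at h2
    exact (Subgroup.commutator_mono (le_nclIn Y H) le_rfl).trans h2
  · apply nclIn_le_of_normalized le_sup_right
    refine (h.opOf_sup_R0_eq hH).ge.trans ?_
    refine sup_le ?_ (le_normalizer_sup (hH.hRH.trans hHR) hR0Y)
    intro r hr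
    apply mem_normalizer_of_conjSub_le
    show (opOf p H ⊔ Y).map (MulAut.conj r).toMonoidHom ≤ opOf p H ⊔ Y
    rw [Subgroup.map_sup]
    refine sup_le ?_ ?_
    · have : conjSub r (opOf p H) = opOf p H :=
        conjSub_eq_self_iff.mpr (hHR (opOf_le H hr))
      exact this.le.trans le_sup_left
    · rintro _ ⟨y, hy, rfl⟩
      have e : (MulAut.conj r).toMonoidHom y = (r * (y * r⁻¹ * y⁻¹)) * y := by
        simp [mul_assoc]
      rw [e]
      have hy' : y * r⁻¹ * y⁻¹ ∈ opOf p H :=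
        (Subgroup.mem_normalizer_iff.mp (hHR (hYH' hy)) r⁻¹).mp (Subgroup.inv_mem _ hr)
      exact Subgroup.mul_mem _ (le_sup_left (b := Y) (Subgroup.mul_mem _ hr hy'))
        (le_sup_right (a := opOf p H) hy)

/-- Every Sylow `p`-subgroup of `H ∩ M†` is a Sylow `p`-subgroup of `H`. -/
theorem isSylIn_of_inf_Md (h : Ctx p S M Y) (hH : InH p M Y H)
    (T : Sylow p ↥(H ⊓ Md M Y)) :
    IsSylIn p ((T : Subgroup ↥(H ⊓ Md M Y)).map (H ⊓ Md M Y).subtype) H := by
  obtain ⟨P₁, hP₁⟩ := h.parabolic_inf_Md hH.hRH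
  have hP₁le : (P₁ : Subgroup ↥H).map H.subtype ≤ H ⊓ Md M Y := by
    rintro _ ⟨x, hx, rfl⟩
    have := hP₁ hx
    rw [Subgroup.mem_subgroupOf] at this
    exact this
  have hc1 : Nat.card ↥((P₁ : Subgroup ↥H).map H.subtype) =
      p ^ (Nat.card ↥H).factorization p := by
    rw [Subgroup.card_map_of_injective H.subtype_injective]
    exact P₁.card_eq_multiplicity
  have hd1 : p ^ (Nat.card ↥H).factorization p ∣ Nat.card ↥(H ⊓ Md M Y) := by
    rw [← hc1]; exact Subgroup.card_dvd_of_le hP₁le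
  have hd2 : Nat.card ↥(H ⊓ Md M Y) ∣ Nat.card ↥H := Subgroup.card_dvd_of_le inf_le_left
  have hpp : p.Prime := Fact.out
  have hv : (Nat.card ↥(H ⊓ Md M Y)).factorization p = (Nat.card ↥H).factorization p := by
    apply le_antisymm
    · exact (Nat.factorization_le_iff_dvd Nat.card_pos.ne' Nat.card_pos.ne').mpr hd2 p
    · exact (hpp.pow_dvd_iff_le_factorization Nat.card_pos.ne').mp hd1
  exact IsSylIn.of_le inf_le_left hv ⟨T, rfl⟩

end Ctx

end Cfsg.Agent.Helper87.AsymM
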