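import Mathlib
import Cfsg.Prelude.Def_LocalStructure
import Cfsg.Agent.Helper64.Basic
import Cfsg.Agent.Helper87.WCFactor
import Cfsg.Agent.S2829

/-!
# Groups generated by a conjugacy class of `p`-minimal / strongly `p`-irreducible subgroups (S2855)

`H` finite, `𝒦` a conjugacy class of subgroups, `R = ⟨𝒦⟩ ≥ O^p(H)`, `P = O_p(H)`, and `E P ⊴ R P` for
all `E ∈ 𝒦`.
-/

set_option autoImplicit false

namespace Cfsg.Agent.Helper87.PMC

open Cfsg Cfsg.Agent.Helper47 Cfsg.Agent.Helper48 Cfsg.Agent.Helper51 Cfsg.Agent.Helper87.WCF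
open scoped commutatorElement

variable {H : Type*} [Group H]

/-! ### Index tools -/

/-- `|N : A ∩ N|` divides `|L : A ∩ L|` when `N ⊴ L`. -/
theorem relIndex_dvd_relIndex_of_normal_in [Finite H] (A : Subgroup H) {N L : Subgroup H}
    (hNL : N ≤ L) (hn : L ≤ Subgroup.normalizer (N : Set H)) :
    A.relIndex N ∣ A.relIndex L := by
  have hN : (N.subgroupOf L).Normal := (Subgroup.normal_subgroupOf_iff_le_normalizer hNL).mpr hn
  have h1 : (A.subgroupOf L).relIndex (N.subgroupOf L) = A.relIndex N :=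
    Subgroup.relIndex_subgroupOf hNL
  rw [← h1, Cfsg.Agent.Helper64.relIndex_eq_relIndex_sup_of_normal]
  exact Subgroup.relIndex_dvd_index_of_le le_sup_left

variable {p : ℕ}

/-- A `p`-subgroup `X` of `L` is `L`-conjugate into any subgroup `M` whose index in `L` is prime
to `p`. -/
theorem exists_conj_le_of_not_dvd_relIndex [Finite H] [Fact p.Prime] {X M L : Subgroup H}
    (hX : IsPGroup p X) (hXL : X ≤ L) (hML : M ≤ L) (hidx : ¬ p ∣ M.relIndex L) :
    ∃ g ∈ L, X ≤ conjSub g M := by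
  obtain ⟨g, hg⟩ := Cfsg.Agent.Helper64.exists_le_map_conj_of_not_dvd_index
    (X.subgroupOf L) hX.comap_subtype (M.subgroupOf L) hidx
  refine ⟨g, g.2, ?_⟩
  have h1 := Subgroup.map_mono (f := L.subtype) hg
  rw [Subgroup.map_subgroupOf_eq_of_le hXL, map_subtype_map_conj,
    Subgroup.map_subgroupOf_eq_of_le hML] at h1
  exact h1

/-! ### The setup -/

/-- The hypotheses of S2855. -/
structure Setup (p : ℕ) (𝒦 : Set (Subgroup H)) : Prop where
  ne : 𝒦.Nonempty
  inv : ∀ h : H, ∀ E ∈ 𝒦, conjSub h E ∈ 𝒦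
  tr : ∀ E ∈ 𝒦, ∀ K ∈ 𝒦, ∃ h : H, K = conjSub h E
  res : Cfsg.pResidual p H ≤ sSup 𝒦
  norm : ∀ E ∈ 𝒦, sSup 𝒦 ⊔ Cfsg.pCore p H ≤
    Subgroup.normalizer ((E ⊔ Cfsg.pCore p H : Subgroup H) : Set H)

namespace Setup

variable {𝒦 : Set (Subgroup H)}

theorem le_sSup (_hS : Setup p 𝒦) {E : Subgroup H} (hE : E ∈ 𝒦) : E ≤ sSup 𝒦 := _root_.le_sSup hE

theorem normal_sSup (hS : Setup p 𝒦) : (sSup 𝒦).Normal := by
  rw [← Subgroup.normalizer_eq_top_iff, eq_top_iff]
  intro h _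
  rw [Subgroup.mem_normalizer_iff_map_conj_eq]
  apply le_antisymm
  · rw [Subgroup.map_le_iff_le_comap]
    refine sSup_le fun E hE => ?_
    rw [← Subgroup.map_le_iff_le_comap]
    exact _root_.le_sSup (hS.inv h E hE)
  · refine sSup_le fun E hE => ?_
    have h1 : conjSub h (conjSub h⁻¹ E) = E := by rw [conjSub_conjSub, mul_inv_cancel, conjSub_one]
    rw [← h1]
    exact Subgroup.map_mono (_root_.le_sSup (hS.inv h⁻¹ E hE))

theorem normal_Rs (hS : Setup p 𝒦) : (sSup 𝒦 ⊔ Cfsg.pCore p H).Normal := by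
  have := hS.normal_sSup
  have : (Cfsg.pCore p H).Normal := normal_pCore
  infer_instance

theorem Es_le_Rs (_hS : Setup p 𝒦) {E : Subgroup H} (hE : E ∈ 𝒦) :
    E ⊔ Cfsg.pCore p H ≤ sSup 𝒦 ⊔ Cfsg.pCore p H :=
  sup_le_sup_right (_root_.le_sSup hE) _

theorem sSup_sup_sylow [Finite H] [Fact p.Prime] (hS : Setup p 𝒦) (T : Sylow p H) :
    sSup 𝒦 ⊔ (T : Subgroup H) = ⊤ := by
  rw [eq_top_iff, ← Cfsg.Agent.Helper34.pResidual_sup_sylow p H T]
  exact sup_le_sup_right hS.res _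

theorem pCore_le_sylow (T : Sylow p H) : Cfsg.pCore p H ≤ T := Cfsg.Agent.Lib.pCore_le_sylow T

/-- `T ∩ E P` has index prime to `p` in `E P`. -/
theorem not_dvd_relIndex_Es [Finite H] [Fact p.Prime] (hS : Setup p 𝒦) (T : Sylow p H)
    {E : Subgroup H} (hE : E ∈ 𝒦) :
    ¬ p ∣ (T : Subgroup H).relIndex (E ⊔ Cfsg.pCore p H) := by
  intro h
  have h1 := relIndex_dvd_relIndex_of_normal_in (T : Subgroup H) (hS.Es_le_Rs hE) (hS.norm E hE)
  have := hS.normal_Rs
  have h2 : (T : Subgroup H).relIndex (sSup 𝒦 ⊔ Cfsg.pCore p H) ∣ (T : Subgroup H).index := by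
    rw [Cfsg.Agent.Helper64.relIndex_eq_relIndex_sup_of_normal]
    exact Subgroup.relIndex_dvd_index_of_le le_sup_left
  exact T.not_dvd_index (h.trans (h1.trans h2))

/-- Every `p`-subgroup of `E` is `E`-conjugate into `T ∩ E`. -/
theorem exists_conj_le_inf [Finite H] [Fact p.Prime] (hS : Setup p 𝒦) (T : Sylow p H)
    {E : Subgroup H} (hE : E ∈ 𝒦) {X : Subgroup H} (hX : IsPGroup p X) (hXE : X ≤ E) :
    ∃ e ∈ E, conjSub e X ≤ (T : Subgroup H) ⊓ E := by
  have hPn : (Cfsg.pCore p H).Normal := normal_pCore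
  have hXP : IsPGroup p ↥(X ⊔ Cfsg.pCore p H) :=
    hX.to_sup_of_normal_right (Cfsg.Agent.Lib.isPGroup_pCore p)
  have hidx : ¬ p ∣ ((T : Subgroup H) ⊓ (E ⊔ Cfsg.pCore p H)).relIndex (E ⊔ Cfsg.pCore p H) := by
    rw [Subgroup.inf_relIndex_right]; exact hS.not_dvd_relIndex_Es T hE
  obtain ⟨g, hg, hXg⟩ := exists_conj_le_of_not_dvd_relIndex hXP
    (sup_le_sup_right hXE _) inf_le_right hidx
  obtain ⟨e, he, u, hu, rfl⟩ := Subgroup.mem_sup_of_normal_right.mp hg
  have hu' : u ∈ (T : Subgroup H) ⊓ (E ⊔ Cfsg.pCore p H) :=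
    ⟨pCore_le_sylow T hu, le_sup_right (a := E) hu⟩
  have e1 : conjSub u ((T : Subgroup H) ⊓ (E ⊔ Cfsg.pCore p H)) =
      (T : Subgroup H) ⊓ (E ⊔ Cfsg.pCore p H) :=
    conjSub_eq_self_iff.mpr (Subgroup.le_normalizer hu')
  rw [← conjSub_conjSub, e1] at hXg
  refine ⟨e⁻¹, E.inv_mem he, ?_⟩
  apply le_inf
  · have h2 : conjSub e⁻¹ X ≤ conjSub e⁻¹ (conjSub e ((T : Subgroup H) ⊓ (E ⊔ Cfsg.pCore p H))) :=
      Subgroup.map_mono (le_sup_left.trans hXg)
    rw [conjSub_conjSub, inv_mul_cancel, conjSub_one] at h2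
    exact h2.trans inf_le_left
  · exact conjSub_le_of_mem hXE (E.inv_mem he)

/-- `T ∩ E` is a Sylow `p`-subgroup of `E`. -/
theorem exists_sylow_inf [Finite H] [Fact p.Prime] (hS : Setup p 𝒦) (T : Sylow p H)
    {E : Subgroup H} (hE : E ∈ 𝒦) :
    ∃ S : Sylow p ↥E, (S : Subgroup ↥E) = ((T : Subgroup H) ⊓ E).subgroupOf E := by
  obtain ⟨S₀⟩ : Nonempty (Sylow p ↥E) := inferInstance
  have hX : IsPGroup p ↥((S₀ : Subgroup ↥E).map E.subtype) := S₀.2.map _
  have hXE : (S₀ : Subgroup ↥E).map E.subtype ≤ E := Subgroup.map_subtype_le _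
  obtain ⟨e, he, hle⟩ := hS.exists_conj_le_inf T hE hX hXE
  have hp : IsPGroup p ↥(((T : Subgroup H) ⊓ E).subgroupOf E) :=
    (T.2.to_le inf_le_left).comap_subtype
  refine ⟨(⟨e, he⟩ : ↥E) • S₀, ?_⟩
  have hle' : (((⟨e, he⟩ : ↥E) • S₀ : Sylow p ↥E) : Subgroup ↥E) ≤
      ((T : Subgroup H) ⊓ E).subgroupOf E := by
    intro x hx
    rw [Subgroup.mem_subgroupOf]
    apply hle
    have hx' : x ∈ (S₀ : Subgroup ↥E).map (MulAut.conj (⟨e, he⟩ : ↥E)).toMonoidHom := hx
    have := Subgroup.mem_map_of_mem E.subtype hx'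
    rw [map_subtype_map_conj] at this
    exact this
  exact ((((⟨e, he⟩ : ↥E) • S₀ : Sylow p ↥E)).is_maximal' hp hle').symm

end Setup

/-! ### `Y`-minimality in ambient form -/

/-- `M` is the largest proper subgroup of `E` containing `A`. -/
def IsTopProper (A M E : Subgroup H) : Prop :=
  M < E ∧ A ≤ M ∧ ∀ X : Subgroup H, A ≤ X → X ≤ E → X ≠ E → X ≤ M

theorem minimalOver_ambient [Finite H] {E A : Subgroup H}
    (h : Cfsg.IsMinimalOver (A.subgroupOf E)) (hAE : A ≤ E) :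
    (∀ N : Subgroup H, N ≤ E → E ≤ Subgroup.normalizer (N : Set H) → A ≤ N → N = E) ∧
      ∃ M : Subgroup H, IsTopProper A M E := by
  obtain ⟨hnc, M₀, ⟨hM₀, hAM₀⟩, huniq⟩ := h
  refine ⟨?_, M₀.map E.subtype, ?_, ?_, ?_⟩
  · intro N hNE hn hAN
    have hN : (N.subgroupOf E).Normal := (Subgroup.normal_subgroupOf_iff_le_normalizer hNE).mpr hn
    have h1 : Subgroup.normalClosure ((A.subgroupOf E : Subgroup ↥E) : Set ↥E) ≤ N.subgroupOf E :=
      Subgroup.normalClosure_le_normal (fun x hx => by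
        rw [SetLike.mem_coe, Subgroup.mem_subgroupOf] at hx ⊢; exact hAN hx)
    rw [hnc, top_le_iff, Subgroup.subgroupOf_eq_top] at h1
    exact le_antisymm hNE h1
  · refine lt_of_le_of_ne (Subgroup.map_subtype_le _) ?_
    intro heq
    apply hM₀.1
    rw [eq_top_iff]
    intro x _
    have : (x : H) ∈ M₀.map E.subtype := by rw [heq]; exact x.2
    obtain ⟨y, hy, hyx⟩ := this
    have : y = x := Subtype.ext hyx
    rwa [← this]
  · intro a ha
    exact ⟨⟨a, hAE ha⟩, hAM₀ (by rw [Subgroup.mem_subgroupOf]; exact ha), rfl⟩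
  · intro X hAX hXE hne
    have hXne : X.subgroupOf E ≠ ⊤ := by
      intro h1
      rw [Subgroup.subgroupOf_eq_top] at h1
      exact hne (le_antisymm hXE h1)
    obtain ⟨M', hM', hXM'⟩ := Cfsg.Agent.Helper64.exists_coatom_ge _ hXne
    have hAM' : A.subgroupOf E ≤ M' := le_trans (fun x hx => by
      rw [Subgroup.mem_subgroupOf] at hx ⊢; exact hAX hx) hXM'
    have := huniq M' ⟨hM', hAM'⟩
    rw [this] at hXM'
    intro x hx
    exact ⟨⟨x, hXE hx⟩, hXM' (by rw [Subgroup.mem_subgroupOf]; exact hx), rfl⟩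

theorem IsTopProper.conj {A M E : Subgroup H} (h : IsTopProper A M E) (g : H) :
    IsTopProper (conjSub g A) (conjSub g M) (conjSub g E) := by
  obtain ⟨h1, h2, h3⟩ := h
  refine ⟨?_, Subgroup.map_mono h2, ?_⟩
  · refine lt_of_le_of_ne (Subgroup.map_mono h1.le) ?_
    intro heq
    exact h1.ne (Subgroup.map_injective (MulAut.conj g).injective heq)
  · intro X hAX hXE hne
    have e : conjSub g (conjSub g⁻¹ X) = X := by
      rw [conjSub_conjSub, mul_inv_cancel, conjSub_one]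
    have hA' : A ≤ conjSub g⁻¹ X := by
      have := Subgroup.map_mono (f := (MulAut.conj g⁻¹).toMonoidHom) hAX
      rwa [show Subgroup.map (MulAut.conj g⁻¹).toMonoidHom (conjSub g A) = conjSub g⁻¹ (conjSub g A)
        from rfl, conjSub_conjSub, inv_mul_cancel, conjSub_one] at this
    have hE' : conjSub g⁻¹ X ≤ E := by
      have := Subgroup.map_mono (f := (MulAut.conj g⁻¹).toMonoidHom) hXE
      rwa [show Subgroup.map (MulAut.conj g⁻¹).toMonoidHom (conjSub g E) = conjSub g⁻¹ (conjSub g E)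
        from rfl, conjSub_conjSub, inv_mul_cancel, conjSub_one] at this
    have hne' : conjSub g⁻¹ X ≠ E := by
      intro heq
      apply hne
      rw [← e, heq]
    rw [← e]
    exact Subgroup.map_mono (h3 _ hA' hE' hne')

/-! ### Part 1: `p`-minimality -/

section Part1

variable [Finite H] [Fact p.Prime] {𝒦 : Set (Subgroup H)}

/-- A proper overgroup of `T` contains no member of `𝒦`. -/
theorem Setup.not_le_of_proper (hS : Setup p 𝒦) (T : Sylow p H) {U : Subgroup H}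
    (hTU : (T : Subgroup H) ≤ U) (hU : U ≠ ⊤) {E : Subgroup H} (hE : E ∈ 𝒦) : ¬ E ≤ U := by
  intro hEU
  apply hU
  rw [eq_top_iff, ← hS.sSup_sup_sylow T]
  refine sup_le (sSup_le fun K hK => ?_) hTU
  obtain ⟨h, rfl⟩ := hS.tr E hE K hK
  have hRn := hS.normal_sSup
  have hh : h ∈ (T : Subgroup H) ⊔ sSup 𝒦 := by
    rw [sup_comm, hS.sSup_sup_sylow T]; exact Subgroup.mem_top h
  obtain ⟨t, ht, r, hr, rfl⟩ := Subgroup.mem_sup_of_normal_right.mp hh
  rw [← conjSub_conjSub]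
  have hEs : E ⊔ Cfsg.pCore p H ≤ U := sup_le hEU ((Setup.pCore_le_sylow T).trans hTU)
  have h1 : conjSub r E ≤ U := by
    have h2 : conjSub r (E ⊔ Cfsg.pCore p H) = E ⊔ Cfsg.pCore p H :=
      conjSub_eq_self_iff.mpr (hS.norm E hE (le_sup_left (b := Cfsg.pCore p H) hr))
    calc conjSub r E ≤ conjSub r (E ⊔ Cfsg.pCore p H) := Subgroup.map_mono le_sup_left
      _ = E ⊔ Cfsg.pCore p H := h2
      _ ≤ U := hEs
  exact conjSub_le_of_mem h1 (hTU ht)

theorem part1 (hS : Setup p 𝒦)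
    (hmin : ∀ E ∈ 𝒦, ∀ T : Sylow p ↥E, Cfsg.IsMinimalOver (T : Subgroup ↥E)) (T : Sylow p H) :
    Cfsg.IsMinimalOver (T : Subgroup H) := by
  -- ambient data for each `E ∈ 𝒦`
  have hamb : ∀ E ∈ 𝒦,
      (∀ N : Subgroup H, N ≤ E → E ≤ Subgroup.normalizer (N : Set H) →
        (T : Subgroup H) ⊓ E ≤ N → N = E) ∧
      ∃ M : Subgroup H, IsTopProper ((T : Subgroup H) ⊓ E) M E := by
    intro E hE
    obtain ⟨S, hSe⟩ := hS.exists_sylow_inf T hE
    have h1 := hmin E hE S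
    rw [hSe] at h1
    exact minimalOver_ambient h1 inf_le_right
  have hnc : ∀ E ∈ 𝒦, ∀ N : Subgroup H, N ≤ E → E ≤ Subgroup.normalizer (N : Set H) →
      (T : Subgroup H) ⊓ E ≤ N → N = E := fun E hE => (hamb E hE).1
  have hex : ∀ E, E ∈ 𝒦 → ∃ M : Subgroup H, IsTopProper ((T : Subgroup H) ⊓ E) M E :=
    fun E hE => (hamb E hE).2
  choose! Mx hMx using hex
  refine ⟨?_, ?_⟩
  · -- normal closure
    rw [eq_top_iff, ← hS.sSup_sup_sylow T]
    refine sup_le (sSup_le fun E hE => ?_) Subgroup.le_normalClosure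
    have hNn : (Subgroup.normalClosure ((T : Subgroup H) : Set H)).Normal :=
      Subgroup.normalClosure_normal
    have h1 := hnc E hE (Subgroup.normalClosure ((T : Subgroup H) : Set H) ⊓ E) inf_le_right
      (le_normalizer_inf (le_normalizer_of_normal E _) Subgroup.le_normalizer)
      (inf_le_inf_right E Subgroup.le_normalClosure)
    exact inf_eq_right.mp h1
  · -- unique maximal subgroup
    obtain ⟨E₀, hE₀⟩ := hS.ne
    have hTtop : (T : Subgroup H) ≠ ⊤ := by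
      intro h
      have h1 := (hMx E₀ hE₀)
      have h2 : (T : Subgroup H) ⊓ E₀ = E₀ := by rw [h, top_inf_eq]
      rw [h2] at h1
      exact absurd h1.2.1 (not_le_of_gt h1.1)
    -- the join of all proper overgroups
    let U₀ : Subgroup H := ⨆ U : {U : Subgroup H // (T : Subgroup H) ≤ U ∧ U ≠ ⊤}, U.1
    have key : ∀ u ∈ U₀, ∀ E ∈ 𝒦, conjSub u (Mx E) = Mx (conjSub u E) := by
      intro u hu
      refine Subgroup.iSup_induction (fun U : {U : Subgroup H // (T : Subgroup H) ≤ U ∧ U ≠ ⊤} => U.1)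
        (C := fun u => ∀ E ∈ 𝒦, conjSub u (Mx E) = Mx (conjSub u E)) hu ?_ ?_ ?_
      · rintro ⟨U, hTU, hUtop⟩ u hu
        -- one inclusion, for any element of `U`
        have half : ∀ v ∈ U, ∀ E ∈ 𝒦, conjSub v (Mx E) ≤ Mx (conjSub v E) := by
          intro v hv E hE
          have hE' : conjSub v E ∈ 𝒦 := hS.inv v E hE
          obtain ⟨h1, h2, h3⟩ := hMx E hE
          obtain ⟨h1', h2', h3'⟩ := hMx (conjSub v E) hE'
          apply h3'
          · -- `T ∩ E' ≤ v (Mx E) v⁻¹`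
            have hUE : U ⊓ E ≤ Mx E := by
              apply h3 _ (inf_le_inf_right E hTU) inf_le_right
              intro heq
              exact hS.not_le_of_proper T hTU hUtop hE (inf_eq_right.mp heq)
            intro x hx
            rw [mem_conjSub]
            apply hUE
            refine ⟨U.mul_mem (U.mul_mem (U.inv_mem hv) (hTU hx.1)) hv, ?_⟩
            exact mem_conjSub.mp hx.2
          · exact Subgroup.map_mono h1.le
          · intro heq
            exact h1.ne (Subgroup.map_injective (MulAut.conj v).injective heq)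
        intro E hE
        apply le_antisymm (half u hu E hE)
        have h4 := half u⁻¹ (U.inv_mem hu) (conjSub u E) (hS.inv u E hE)
        rw [conjSub_conjSub, inv_mul_cancel, conjSub_one] at h4
        have h5 := Subgroup.map_mono (f := (MulAut.conj u).toMonoidHom) h4
        rwa [show Subgroup.map (MulAut.conj u).toMonoidHom (conjSub u⁻¹ (Mx (conjSub u E))) =
          conjSub u (conjSub u⁻¹ (Mx (conjSub u E))) from rfl, conjSub_conjSub, mul_inv_cancel,
          conjSub_one] at h5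
      · intro E _
        rw [conjSub_one, conjSub_one]
      · intro x y hx hy E hE
        rw [← conjSub_conjSub, hy E hE, hx _ (hS.inv y E hE), conjSub_conjSub]
    have hU₀ : U₀ ≠ ⊤ := by
      intro htop
      have h1 : E₀ ≤ Subgroup.normalizer ((Mx E₀ : Subgroup H) : Set H) := by
        intro e he
        rw [← conjSub_eq_self_iff, key e (by rw [htop]; exact Subgroup.mem_top e) E₀ hE₀]
        congr 1
        exact conjSub_eq_self_iff.mpr (Subgroup.le_normalizer he)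
      obtain ⟨h2, h3, -⟩ := hMx E₀ hE₀
      exact h2.ne (hnc E₀ hE₀ (Mx E₀) h2.le h1 h3)
    obtain ⟨M, hM, hTM⟩ := Cfsg.Agent.Helper64.exists_coatom_ge _ hTtop
    have huniq : ∀ M' : Subgroup H, IsCoatom M' ∧ (T : Subgroup H) ≤ M' → M' = U₀ := by
      rintro M' ⟨hM', hTM'⟩
      have hle : M' ≤ U₀ :=
        le_iSup (fun U : {U : Subgroup H // (T : Subgroup H) ≤ U ∧ U ≠ ⊤} => U.1) ⟨M', hTM', hM'.1⟩
      by_contra hne
      exact hU₀ (hM'.2 U₀ (lt_of_le_of_ne hle hne))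
    refine ⟨M, ⟨hM, hTM⟩, fun M' hM' => ?_⟩
    rw [huniq M' hM', huniq M ⟨hM, hTM⟩]

end Part1

/-! ### General tools for Part 2 -/

section Tools

/-- The centralizer of `A` modulo the normal subgroup `P`. -/
def centMod (P A : Subgroup H) [hP : P.Normal] : Subgroup H where
  carrier := {h | ∀ a ∈ A, ⁅a, h⁆ ∈ P}
  one_mem' := by intro a _; simp
  mul_mem' := by
    intro x y hx hy a ha
    show ⁅a, x * y⁆ ∈ P
    rw [commutatorElement_mul_right_eq_mul_conj, mul_assoc, mul_assoc]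
    refine P.mul_mem (hx a ha) ?_
    rw [← mul_assoc]
    exact hP.conj_mem _ (hy a ha) x
  inv_mem' := by
    intro x hx a ha
    show ⁅a, x⁻¹⁆ ∈ P
    have e : ⁅a, x⁻¹⁆ = x⁻¹ * (⁅a, x⁆)⁻¹ * x⁻¹⁻¹ := by
      simp [commutatorElement_def, mul_assoc]
    rw [e]
    exact hP.conj_mem _ (P.inv_mem (hx a ha)) x⁻¹

theorem mem_centMod {P A : Subgroup H} [P.Normal] {h : H} :
    h ∈ centMod P A ↔ ∀ a ∈ A, ⁅a, h⁆ ∈ P := Iff.rfl

theorem le_centMod_iff {P A X : Subgroup H} [P.Normal] : X ≤ centMod P A ↔ ⁅A, X⁆ ≤ P := by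
  rw [Subgroup.commutator_le]
  constructor
  · intro h a ha x hx; exact h hx a ha
  · intro h x hx a ha; exact h a ha x hx

/-- If `e ^ n ∈ P` and `e` commutes with `[x, e]` modulo `P`, then `[x, e] ^ n ∈ P`. -/
theorem pow_commutator_mem {P : Subgroup H} [hP : P.Normal] {x e : H} {n : ℕ} (he : e ^ n ∈ P)
    (hc : ⁅e, ⁅x, e⁆⁆ ∈ P) : ⁅x, e⁆ ^ n ∈ P := by
  have hmk : ∀ y : H, (QuotientGroup.mk' P) y = 1 ↔ y ∈ P := fun y => by
    rw [← MonoidHom.mem_ker, QuotientGroup.ker_mk']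
  rw [← hmk, map_pow]
  have hcomm : Commute ((QuotientGroup.mk' P) ⁅x, e⁆) ((QuotientGroup.mk' P) e) := by
    have h1 := (hmk _).mpr hc
    rw [map_commutatorElement, commutatorElement_eq_one_iff_commute] at h1
    exact h1.symm
  have he1 : (QuotientGroup.mk' P) e ^ n = 1 := by rw [← map_pow]; exact (hmk _).mpr he
  have e1 : (QuotientGroup.mk' P) ⁅x, e⁆ * (QuotientGroup.mk' P) e =
      (QuotientGroup.mk' P) x * (QuotientGroup.mk' P) e * ((QuotientGroup.mk' P) x)⁻¹ := by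
    rw [map_commutatorElement, commutatorElement_def]; group
  have e2 := hcomm.mul_pow n
  rw [e1, conj_pow, he1, mul_one, mul_one, mul_inv_cancel] at e2
  exact e2.symm

variable [Finite H] [hp : Fact p.Prime]

/-- A `p`-element modulo `O_p(H)` which is central modulo `O_p(H)` in a subnormal subgroup lies
in `O_p(H)`. -/
theorem mem_pCore_of_central_mod {L : Subgroup H} (hL : L.IsSubnormal)
    (hPL : Cfsg.pCore p H ≤ L) {z : H} (hzL : z ∈ L) (hc : ∀ l ∈ L, ⁅l, z⁆ ∈ Cfsg.pCore p H)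
    (hz : ∃ k : ℕ, z ^ p ^ k ∈ Cfsg.pCore p H) : z ∈ Cfsg.pCore p H := by
  have hPn : (Cfsg.pCore p H).Normal := normal_pCore
  obtain ⟨k, hk⟩ := hz
  obtain ⟨j, hj⟩ := (Cfsg.Agent.Lib.isPGroup_pCore p) ⟨_, hk⟩
  have hj' : z ^ p ^ (k + j) = 1 := by
    have := congrArg Subtype.val hj
    simp only [Subgroup.coe_pow, Subgroup.coe_one] at this
    rw [pow_add, pow_mul]; exact this
  have hzp : IsPGroup p ↥(Subgroup.zpowers z) := by
    rintro ⟨y, hy⟩
    obtain ⟨n, rfl⟩ := Subgroup.mem_zpowers_iff.mp hy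
    refine ⟨k + j, Subtype.ext ?_⟩
    simp only [Subgroup.coe_pow, Subgroup.coe_one]
    rw [← zpow_natCast, ← zpow_mul, mul_comm, zpow_mul, zpow_natCast, hj', one_zpow]
  have hAp : IsPGroup p ↥(Cfsg.pCore p H ⊔ Subgroup.zpowers z) :=
    (Cfsg.Agent.Lib.isPGroup_pCore p).to_sup_of_normal_left hzp
  have hAL : Cfsg.pCore p H ⊔ Subgroup.zpowers z ≤ L :=
    sup_le hPL (by rw [Subgroup.zpowers_le]; exact hzL)
  have hn : L ≤ Subgroup.normalizer
      ((Cfsg.pCore p H ⊔ Subgroup.zpowers z : Subgroup H) : Set H) := by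
    intro l hl
    apply mem_normalizer_of_conjSub_le
    show (Cfsg.pCore p H ⊔ Subgroup.zpowers z).map (MulAut.conj l).toMonoidHom ≤ _
    rw [Subgroup.map_sup, MonoidHom.map_zpowers]
    apply sup_le
    · have : conjSub l (Cfsg.pCore p H) = Cfsg.pCore p H :=
        conjSub_eq_self_iff.mpr (le_normalizer_of_normal ⊤ _ (Subgroup.mem_top l))
      rw [show Subgroup.map (MulAut.conj l).toMonoidHom (Cfsg.pCore p H) = _ from this]
      exact le_sup_left
    · rw [Subgroup.zpowers_le]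
      have e : (MulAut.conj l).toMonoidHom z = ⁅l, z⁆ * z := by simp [commutatorElement_def]
      rw [e]
      exact mul_mem (le_sup_left (b := Subgroup.zpowers z) (hc l hl))
        (le_sup_right (a := Cfsg.pCore p H) (Subgroup.mem_zpowers z))
  have hsub : (Cfsg.pCore p H ⊔ Subgroup.zpowers z).IsSubnormal :=
    Subgroup.IsSubnormal.step _ L hAL hL
      ((Subgroup.normal_subgroupOf_iff_le_normalizer hAL).mpr hn)
  exact le_pCore_of_isSubnormal hsub hAp (le_sup_right (a := Cfsg.pCore p H)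
    (Subgroup.mem_zpowers z))

/-- Key lemma: a commutator `[x, e]` with `e` a `p`-element modulo `O_p(H)`, lying in a subnormal
subgroup `L ∋ e` and central in `L` modulo `O_p(H)`, lies in `O_p(H)`. -/
theorem commutator_mem_pCore {L : Subgroup H} (hL : L.IsSubnormal)
    (hPL : Cfsg.pCore p H ≤ L) {x e : H} (he : ∃ k : ℕ, e ^ p ^ k ∈ Cfsg.pCore p H)
    (heL : e ∈ L) (hzL : ⁅x, e⁆ ∈ L) (hc : ∀ l ∈ L, ⁅l, ⁅x, e⁆⁆ ∈ Cfsg.pCore p H) :
    ⁅x, e⁆ ∈ Cfsg.pCore p H := by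
  have hPn : (Cfsg.pCore p H).Normal := normal_pCore
  obtain ⟨k, hk⟩ := he
  exact mem_pCore_of_central_mod hL hPL hzL hc ⟨k, pow_commutator_mem hk (hc e heL)⟩

omit [Finite H] in
/-- A join of `p`-subgroups, each normalized by the join, is a `p`-group. -/
theorem isPGroup_iSup_of_normalized {ι : Type*} [Finite ι] (A : ι → Subgroup H)
    (hA : ∀ i, IsPGroup p ↥(A i))
    (hn : ∀ i, (⨆ j, A j) ≤ Subgroup.normalizer ((A i : Subgroup H) : Set H)) :
    IsPGroup p ↥(⨆ i, A i) := by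
  classical
  have := Fintype.ofFinite ι
  have key : ∀ s : Finset ι, IsPGroup p ↥(s.sup A) := by
    intro s
    induction s using Finset.induction_on with
    | empty => rw [Finset.sup_empty]; exact IsPGroup.of_bot
    | insert a s _ ih =>
      rw [Finset.sup_insert]
      apply (hA a).to_sup_of_normal_left' ih
      refine le_trans ?_ (hn a)
      exact Finset.sup_le fun i _ => le_iSup A i
  have : (⨆ i, A i) = Finset.univ.sup A := by
    rw [Finset.sup_eq_iSup]; simp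
  rw [this]; exact key _

/-- If `[O^p(G), G] ≤ O_p(G)` then `G` is `p`-closed. -/
theorem isPClosed_of_residual_comm {G : Type*} [Group G] [Finite G]
    (h : ⁅Cfsg.pResidual p G, (⊤ : Subgroup G)⁆ ≤ Cfsg.pCore p G) : Cfsg.IsPClosed p G := by
  intro S
  rw [← Subgroup.normalizer_eq_top_iff, eq_top_iff,
    ← Cfsg.Agent.Helper34.pResidual_sup_sylow p G S]
  refine sup_le ?_ Subgroup.le_normalizer
  intro c hc
  apply mem_normalizer_of_conjSub_le
  rintro _ ⟨s, hs, rfl⟩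
  have e : (MulAut.conj c).toMonoidHom s = ⁅c, s⁆ * s := by simp [commutatorElement_def]
  rw [e]
  refine (S : Subgroup G).mul_mem ?_ hs
  exact Cfsg.Agent.Lib.pCore_le_sylow S
    (h (Subgroup.commutator_mem_commutator hc (Subgroup.mem_top s)))

end Tools

section Tools2

variable [hp : Fact p.Prime]

/-- The subgroup generated by the `p`-elements. -/
def pElts (p : ℕ) (G : Type*) [Group G] : Subgroup G :=
  Subgroup.closure {g : G | ∃ k : ℕ, g ^ p ^ k = 1}

theorem normal_pElts (G : Type*) [Group G] : (pElts p G).Normal := by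
  unfold pElts
  rw [← Subgroup.normalizer_eq_top_iff, eq_top_iff]
  refine le_trans ?_ (Subgroup.normalizer_le_normalizer_closure _)
  intro g _
  rw [Subgroup.mem_normalizer_iff_conj_image_eq]
  ext x
  simp only [Set.mem_image, Set.mem_ofPred_eq, MulAut.conj_apply]
  constructor
  · rintro ⟨y, ⟨k, hk⟩, rfl⟩
    exact ⟨k, by rw [conj_pow, hk, mul_one, mul_inv_cancel]⟩
  · rintro ⟨k, hk⟩
    refine ⟨g⁻¹ * x * g, ⟨k, ?_⟩, by group⟩
    have := conj_pow (i := p ^ k) (a := g⁻¹) (b := x)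
    rw [inv_inv] at this
    rw [this, hk, mul_one, inv_mul_cancel]

theorem sylow_le_pElts {G : Type*} [Group G] (S : Sylow p G) : (S : Subgroup G) ≤ pElts p G := by
  intro x hx
  apply Subgroup.subset_closure
  obtain ⟨k, hk⟩ := S.2 ⟨x, hx⟩
  refine ⟨k, ?_⟩
  have := congrArg Subtype.val hk
  simpa using this

/-- A strongly `p`-irreducible finite group is generated by its `p`-elements. -/
theorem pElts_eq_top_of_strong {G : Type*} [Group G] [Finite G]
    (hG : Cfsg.IsStronglyPIrreducible p G) : pElts p G = ⊤ := by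
  have hn : (pElts p G).Normal := normal_pElts G
  by_cases hc : ⁅pElts p G, (⊤ : Subgroup G)⁆ ≤ Cfsg.pCore p G
  · exfalso
    apply hG.1
    have hcl : Cfsg.IsPClosed p ↥(pElts p G) :=
      Cfsg.Agent.S2829.isPClosed_of_commutator_le_pCore _ hc
    obtain ⟨S⟩ : Nonempty (Sylow p G) := inferInstance
    have hSn : ((S.subtype (sylow_le_pElts S) : Sylow p ↥(pElts p G)) :
        Subgroup ↥(pElts p G)).Normal := hcl _
    have hch := Sylow.characteristic_of_normal _ hSn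
    have hmap : ((S.subtype (sylow_le_pElts S) : Sylow p ↥(pElts p G)) :
        Subgroup ↥(pElts p G)).map (pElts p G).subtype = (S : Subgroup G) := by
      rw [Sylow.coe_subtype, Subgroup.map_subgroupOf_eq_of_le (sylow_le_pElts S)]
    have hSnorm : (S : Subgroup G).Normal := by
      rw [← hmap]
      exact ConjAct.normal_of_characteristic_of_normal
    intro S'
    obtain ⟨g, rfl⟩ := MulAction.exists_smul_eq G S S'
    rw [Sylow.smul_eq_of_normal]
    exact hSnorm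
  · have h1 := hG.2 _ hn hc
    obtain ⟨S⟩ : Nonempty (Sylow p G) := inferInstance
    rw [eq_top_iff, ← Cfsg.Agent.Helper34.pResidual_sup_sylow p G S]
    exact sup_le h1 (sylow_le_pElts S)

omit hp in
/-- Ambient form: a subgroup containing all `p`-elements of `E` contains `E`. -/
theorem le_of_pElts_eq_top {E X : Subgroup H} (h : pElts p ↥E = ⊤)
    (hX : ∀ e ∈ E, (∃ k : ℕ, e ^ p ^ k = 1) → e ∈ X) : E ≤ X := by
  have h1 : pElts p ↥E ≤ X.subgroupOf E := by
    unfold pElts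
    rw [Subgroup.closure_le]
    rintro e ⟨k, hk⟩
    rw [SetLike.mem_coe, Subgroup.mem_subgroupOf]
    apply hX _ e.2
    refine ⟨k, ?_⟩
    have := congrArg Subtype.val hk
    simpa using this
  rw [h, top_le_iff, Subgroup.subgroupOf_eq_top] at h1
  exact h1

omit hp in
/-- `[E P, A P] ≤ P` when `[A, E] ≤ P` and `P` is normal. -/
theorem comm_sup_le {P A E : Subgroup H} [hP : P.Normal] (h : ⁅A, E⁆ ≤ P) :
    ⁅E ⊔ P, A ⊔ P⁆ ≤ P := by
  have h1 : ⁅A, E ⊔ P⁆ ≤ P :=
    commutator_sup_right_le h (Subgroup.commutator_le_right A P)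
      (le_normalizer_of_normal _ _) (le_normalizer_of_normal _ _)
  apply commutator_sup_right_le _ (Subgroup.commutator_le_right _ P)
    (le_normalizer_of_normal _ _) (le_normalizer_of_normal _ _)
  rw [Subgroup.commutator_comm]; exact h1

omit hp in
/-- Dedekind's modular law in the form needed here. -/
theorem modular_sup {P D E : Subgroup H} [hP : P.Normal] (hPD : P ≤ D) (hD : D ≤ E ⊔ P) :
    D = (D ⊓ E) ⊔ P := by
  apply le_antisymm
  · intro d hd
    obtain ⟨e, he, u, hu, rfl⟩ := Subgroup.mem_sup_of_normal_right.mp (hD hd)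
    have heD : e ∈ D := by
      have := D.mul_mem hd (D.inv_mem (hPD hu))
      simpa using this
    exact Subgroup.mul_mem _ (le_sup_left (b := P) ⟨heD, he⟩) (le_sup_right (a := D ⊓ E) hu)
  · exact sup_le inf_le_left hPD

end Tools2

/-! ### Part 2: `p`-irreducibility -/

section Part2

variable [Finite H] [hp : Fact p.Prime] {𝒦 : Set (Subgroup H)}

theorem Setup.subnormal_Es (hS : Setup p 𝒦) {E : Subgroup H} (hE : E ∈ 𝒦) :
    (E ⊔ Cfsg.pCore p H).IsSubnormal :=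
  Subgroup.IsSubnormal.step _ _ (hS.Es_le_Rs hE) hS.normal_Rs.isSubnormal
    ((Subgroup.normal_subgroupOf_iff_le_normalizer (hS.Es_le_Rs hE)).mpr (hS.norm E hE))

/-- `O_p(E) ≤ O_p(H)`. -/
theorem Setup.pCoreOf_le (hS : Setup p 𝒦) {E : Subgroup H} (hE : E ∈ 𝒦) :
    (Cfsg.pCore p ↥E).map E.subtype ≤ Cfsg.pCore p H := by
  have hPn : (Cfsg.pCore p H).Normal := normal_pCore
  have hAp : IsPGroup p ↥((Cfsg.pCore p ↥E).map E.subtype) := (isPGroup_pCore p ↥E).map _
  have hEn : E ≤ Subgroup.normalizer (((Cfsg.pCore p ↥E).map E.subtype : Subgroup H) : Set H) := by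
    intro e he
    rw [← conjSub_eq_self_iff, ← map_subtype_map_conj E _ ⟨e, he⟩]
    congr 1
    have hn : (Cfsg.pCore p ↥E).Normal := normal_pCore
    exact conjSub_eq_self_iff.mpr (le_normalizer_of_normal ⊤ _ (Subgroup.mem_top _))
  have hsup : IsPGroup p ↥((Cfsg.pCore p ↥E).map E.subtype ⊔ Cfsg.pCore p H) :=
    hAp.to_sup_of_normal_right (Cfsg.Agent.Lib.isPGroup_pCore p)
  have hle : (Cfsg.pCore p ↥E).map E.subtype ⊔ Cfsg.pCore p H ≤ E ⊔ Cfsg.pCore p H :=
    sup_le_sup_right (Subgroup.map_subtype_le _) _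
  have hn : E ⊔ Cfsg.pCore p H ≤ Subgroup.normalizer
      (((Cfsg.pCore p ↥E).map E.subtype ⊔ Cfsg.pCore p H : Subgroup H) : Set H) :=
    sup_le (le_normalizer_sup hEn (le_normalizer_of_normal _ _))
      (le_sup_right.trans Subgroup.le_normalizer)
  have hsub : ((Cfsg.pCore p ↥E).map E.subtype ⊔ Cfsg.pCore p H).IsSubnormal :=
    Subgroup.IsSubnormal.step _ _ hle (hS.subnormal_Es hE)
      ((Subgroup.normal_subgroupOf_iff_le_normalizer hle).mpr hn)
  exact le_sup_left.trans (le_pCore_of_isSubnormal hsub hsup)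

omit [Finite H] hp in
/-- Strong `p`-irreducibility of `E` in ambient form. -/
theorem strong_ambient {E : Subgroup H} (hE : Cfsg.IsStronglyPIrreducible p ↥E) (D : Subgroup H)
    (hD : E ≤ Subgroup.normalizer (D : Set H)) :
    ⁅D ⊓ E, E⁆ ≤ (Cfsg.pCore p ↥E).map E.subtype ∨ opOf p E ≤ D := by
  have hn : ((D ⊓ E).subgroupOf E).Normal :=
    (Subgroup.normal_subgroupOf_iff_le_normalizer inf_le_right).mpr
      (le_normalizer_inf hD Subgroup.le_normalizer)
  by_cases hc : ⁅(D ⊓ E).subgroupOf E, (⊤ : Subgroup ↥E)⁆ ≤ Cfsg.pCore p ↥E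
  · left
    have h1 := Subgroup.map_mono (f := E.subtype) hc
    rw [Subgroup.map_commutator, Subgroup.map_subgroupOf_eq_of_le inf_le_right,
      ← MonoidHom.range_eq_map, Subgroup.range_subtype] at h1
    exact h1
  · right
    have h1 := Subgroup.map_mono (f := E.subtype) (hE.2 _ hn hc)
    rw [← opOf_eq_map, Subgroup.map_subgroupOf_eq_of_le inf_le_right] at h1
    exact h1.trans inf_le_left

/-- `H` is not `p`-closed. -/
theorem Setup.not_isPClosed (hS : Setup p 𝒦)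
    (hirr : ∀ E ∈ 𝒦, Cfsg.IsStronglyPIrreducible p ↥E) : ¬ Cfsg.IsPClosed p H := by
  intro hcl
  obtain ⟨E, hE⟩ := hS.ne
  apply (hirr E hE).1
  obtain ⟨T⟩ : Nonempty (Sylow p H) := inferInstance
  have hTn : (T : Subgroup H).Normal := hcl T
  obtain ⟨S, hSe⟩ := hS.exists_sylow_inf T hE
  have hSn : (S : Subgroup ↥E).Normal := by
    rw [hSe, Subgroup.inf_subgroupOf_right]
    infer_instance
  intro S'
  obtain ⟨g, rfl⟩ := MulAction.exists_smul_eq ↥E S S'
  rw [Sylow.smul_eq_of_normal]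
  exact hSn

/-- Case 1: if `O^p(E) ≤ N` for all `E ∈ 𝒦` and `N` is normal, then `O^p(H) ≤ N`. -/
theorem Setup.residual_le_of_opOf_le (hS : Setup p 𝒦) (N : Subgroup H) [hN : N.Normal]
    (h : ∀ E ∈ 𝒦, opOf p E ≤ N) : Cfsg.pResidual p H ≤ N := by
  have hPn : (Cfsg.pCore p H).Normal := normal_pCore
  -- the images of `E P` in `H ⧸ N`
  let A : ↥𝒦 → Subgroup (H ⧸ N) := fun E => ((E : Subgroup H) ⊔ Cfsg.pCore p H).map (QuotientGroup.mk' N)
  have hA : ∀ E : ↥𝒦, IsPGroup p ↥(A E) := by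
    intro E
    have h1 : IsPGroup p ↥((E : Subgroup H).map (QuotientGroup.mk' N)) := by
      rintro ⟨y, e, he, rfl⟩
      -- a power of `e` lies in `O^p(E)`
      refine ⟨(orderOf e).factorization p, Subtype.ext ?_⟩
      simp only [Subgroup.coe_pow, Subgroup.coe_one]
      rw [← map_pow, QuotientGroup.mk'_apply, QuotientGroup.eq_one_iff]
      apply h E E.2
      apply Subgroup.subset_closure
      refine ⟨(E : Subgroup H).pow_mem he _, ?_⟩
      have hpos : 0 < orderOf e := orderOf_pos e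
      have hdvd : p ^ (orderOf e).factorization p ∣ orderOf e := Nat.ordProj_dvd _ _
      rw [orderOf_pow_of_dvd (pow_ne_zero _ hp.1.ne_zero) hdvd]
      exact (Nat.coprime_ordCompl hp.1 hpos.ne').symm
    have h2 : IsPGroup p ↥((Cfsg.pCore p H).map (QuotientGroup.mk' N)) :=
      (Cfsg.Agent.Lib.isPGroup_pCore p).map _
    have h3 : ((Cfsg.pCore p H).map (QuotientGroup.mk' N)).Normal :=
      hPn.map _ (QuotientGroup.mk'_surjective N)
    show IsPGroup p ↥(((E : Subgroup H) ⊔ Cfsg.pCore p H).map (QuotientGroup.mk' N))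
    rw [Subgroup.map_sup]
    exact h1.to_sup_of_normal_right h2
  have hsup : (⨆ E : ↥𝒦, A E) ≤ (sSup 𝒦 ⊔ Cfsg.pCore p H).map (QuotientGroup.mk' N) :=
    iSup_le fun E => Subgroup.map_mono (hS.Es_le_Rs E.2)
  have hn : ∀ E : ↥𝒦, (⨆ j, A j) ≤ Subgroup.normalizer ((A E : Subgroup (H ⧸ N)) : Set (H ⧸ N)) := by
    intro E
    refine hsup.trans (le_trans (Subgroup.map_mono (hS.norm E E.2)) ?_)
    exact Subgroup.le_normalizer_map _
  have hW := isPGroup_iSup_of_normalized A hA hn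
  -- every `p'`-element dies in the quotient
  unfold Cfsg.pResidual
  rw [Subgroup.closure_le]
  intro x hx
  have hxR : x ∈ sSup 𝒦 := hS.res (Subgroup.subset_closure hx)
  have hxW : (QuotientGroup.mk' N) x ∈ ⨆ E : ↥𝒦, A E := by
    have h1 : (sSup 𝒦).map (QuotientGroup.mk' N) ≤ ⨆ E : ↥𝒦, A E := by
      rw [sSup_eq_iSup', Subgroup.map_iSup]
      exact iSup_mono fun E => Subgroup.map_mono le_sup_left
    exact h1 (Subgroup.mem_map_of_mem _ hxR)
  have hcop : (orderOf ((QuotientGroup.mk' N) x)).Coprime p :=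
    Nat.Coprime.coprime_dvd_left (orderOf_map_dvd _ x) hx
  have := eq_one_of_mem_isPGroup_of_coprime hW hxW hcop
  rwa [QuotientGroup.mk'_apply, QuotientGroup.eq_one_iff] at this

/-- Membership of a commutator in `E P` when the left entry normalizes `E P`. -/
theorem commutator_mem_of_mem_normalizer {L : Subgroup H} {x e : H}
    (hx : x ∈ Subgroup.normalizer (L : Set H)) (he : e ∈ L) : ⁅x, e⁆ ∈ L := by
  rw [commutatorElement_def]
  exact L.mul_mem ((Subgroup.mem_normalizer_iff.mp hx e).mp he) (L.inv_mem he)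

theorem commutator_mem_of_mem_normalizer' {L : Subgroup H} {x e : H}
    (he : e ∈ Subgroup.normalizer (L : Set H)) (hx : x ∈ L) : ⁅x, e⁆ ∈ L := by
  have e1 : ⁅x, e⁆ = x * (e * x⁻¹ * e⁻¹) := by simp [commutatorElement_def, mul_assoc]
  rw [e1]
  exact L.mul_mem hx ((Subgroup.mem_normalizer_iff.mp he x⁻¹).mp (L.inv_mem hx))

/-- Case 2: if `[N P ∩ E, E] ≤ O_p(H)` for all `E ∈ 𝒦`, then `N` is `p`-closed. -/
theorem Setup.isPClosed_of_comm_le (hS : Setup p 𝒦)
    (hirr : ∀ E ∈ 𝒦, Cfsg.IsStronglyPIrreducible p ↥E) (N : Subgroup H) [hN : N.Normal]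
    (h : ∀ E ∈ 𝒦, ⁅(N ⊔ Cfsg.pCore p H) ⊓ E, E⁆ ≤ Cfsg.pCore p H) : Cfsg.IsPClosed p ↥N := by
  have hPn : (Cfsg.pCore p H).Normal := normal_pCore
  have hRsn : (sSup 𝒦 ⊔ Cfsg.pCore p H).Normal := hS.normal_Rs
  have hN₀n : (N ⊔ Cfsg.pCore p H).Normal := inferInstance
  have hgen : ∀ E ∈ 𝒦, pElts p ↥E = ⊤ := fun E hE => pElts_eq_top_of_strong (hirr E hE)
  have hE_Rs : ∀ E ∈ 𝒦, E ≤ sSup 𝒦 ⊔ Cfsg.pCore p H := fun E hE =>
    (_root_.le_sSup hE).trans le_sup_left
  -- Step A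
  have stepA : ∀ E ∈ 𝒦, E ≤ centMod (Cfsg.pCore p H)
      ((N ⊔ Cfsg.pCore p H) ⊓ (sSup 𝒦 ⊔ Cfsg.pCore p H)) := by
    intro E hE
    apply le_of_pElts_eq_top (hgen E hE)
    rintro e he ⟨k, hk⟩ x hx
    have heL : e ∈ E ⊔ Cfsg.pCore p H := le_sup_left (b := Cfsg.pCore p H) he
    have hzL : ⁅x, e⁆ ∈ E ⊔ Cfsg.pCore p H :=
      commutator_mem_of_mem_normalizer (hS.norm E hE hx.2) heL
    have hzN : ⁅x, e⁆ ∈ N ⊔ Cfsg.pCore p H :=
      commutator_mem_of_mem_normalizer' (le_normalizer_of_normal ⊤ _ (Subgroup.mem_top e)) hx.1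
    apply commutator_mem_pCore (hS.subnormal_Es hE) le_sup_right
      ⟨k, by rw [hk]; exact Subgroup.one_mem _⟩ heL hzL
    intro l hl
    have hD : (N ⊔ Cfsg.pCore p H) ⊓ (E ⊔ Cfsg.pCore p H) =
        ((N ⊔ Cfsg.pCore p H) ⊓ (E ⊔ Cfsg.pCore p H) ⊓ E) ⊔ Cfsg.pCore p H :=
      modular_sup (le_inf le_sup_right le_sup_right) inf_le_right
    have hz : ⁅x, e⁆ ∈ ((N ⊔ Cfsg.pCore p H) ⊓ E) ⊔ Cfsg.pCore p H := by
      have h1 : ⁅x, e⁆ ∈ (N ⊔ Cfsg.pCore p H) ⊓ (E ⊔ Cfsg.pCore p H) := ⟨hzN, hzL⟩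
      rw [hD] at h1
      exact sup_le_sup_right (inf_le_inf_right E inf_le_left) _ h1
    exact comm_sup_le (h E hE) (Subgroup.commutator_mem_commutator hl hz)
  -- Step B
  have stepB : sSup 𝒦 ⊔ Cfsg.pCore p H ≤ centMod (Cfsg.pCore p H)
      ((N ⊔ Cfsg.pCore p H) ⊓ (sSup 𝒦 ⊔ Cfsg.pCore p H)) :=
    sup_le (sSup_le stepA) (le_centMod_iff.mpr (Subgroup.commutator_le_right _ _))
  -- Step C
  have stepC : sSup 𝒦 ⊔ Cfsg.pCore p H ≤ centMod (Cfsg.pCore p H) (N ⊔ Cfsg.pCore p H) := by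
    refine sup_le (sSup_le fun E hE => ?_) (le_centMod_iff.mpr (Subgroup.commutator_le_right _ _))
    apply le_of_pElts_eq_top (hgen E hE)
    rintro e he ⟨k, hk⟩ t ht
    have heL : e ∈ sSup 𝒦 ⊔ Cfsg.pCore p H := hE_Rs E hE he
    have hzL : ⁅t, e⁆ ∈ sSup 𝒦 ⊔ Cfsg.pCore p H :=
      commutator_mem_of_mem_normalizer (le_normalizer_of_normal ⊤ _ (Subgroup.mem_top t)) heL
    have hzN : ⁅t, e⁆ ∈ N ⊔ Cfsg.pCore p H :=
      commutator_mem_of_mem_normalizer' (le_normalizer_of_normal ⊤ _ (Subgroup.mem_top e)) ht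
    apply commutator_mem_pCore hRsn.isSubnormal le_sup_right
      ⟨k, by rw [hk]; exact Subgroup.one_mem _⟩ heL hzL
    intro l hl
    have h1 : ⁅⁅t, e⁆, l⁆ ∈ Cfsg.pCore p H := stepB hl _ ⟨hzN, hzL⟩
    rw [← commutatorElement_inv]
    exact Subgroup.inv_mem _ h1
  have hcomm : ⁅N ⊔ Cfsg.pCore p H, sSup 𝒦 ⊔ Cfsg.pCore p H⁆ ≤ Cfsg.pCore p H :=
    le_centMod_iff.mp stepC
  -- Step D
  apply isPClosed_of_residual_comm
  have hP' : (Cfsg.pCore p H).subgroupOf N ≤ Cfsg.pCore p ↥N :=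
    Cfsg.Agent.Lib.le_pCore inferInstance (Cfsg.Agent.Lib.isPGroup_pCore p).comap_subtype
  refine le_trans ?_ hP'
  show _ ≤ (Cfsg.pCore p H).comap N.subtype
  rw [← Subgroup.map_le_iff_le_comap, Subgroup.map_commutator, ← opOf_eq_map,
    ← MonoidHom.range_eq_map, Subgroup.range_subtype, Subgroup.commutator_comm]
  refine le_trans (Subgroup.commutator_mono le_sup_left ?_) hcomm
  calc opOf p N ≤ opOf p ⊤ := opOf_mono le_top
    _ = Cfsg.pResidual p H := opOf_top
    _ ≤ sSup 𝒦 := hS.res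
    _ ≤ _ := le_sup_left

/-- The dichotomy for two members of `𝒦`. -/
theorem Setup.dichotomy (hS : Setup p 𝒦)
    (hirr : ∀ E ∈ 𝒦, Cfsg.IsStronglyPIrreducible p ↥E) {E K : Subgroup H} (hE : E ∈ 𝒦)
    (hK : K ∈ 𝒦) :
    opOf p (E ⊔ Cfsg.pCore p H) = opOf p (K ⊔ Cfsg.pCore p H) ∨ ⁅E, K⁆ ≤ Cfsg.pCore p H := by
  have hPn : (Cfsg.pCore p H).Normal := normal_pCore
  have hE_Rs : ∀ E ∈ 𝒦, E ≤ sSup 𝒦 ⊔ Cfsg.pCore p H := fun E hE =>
    (_root_.le_sSup hE).trans le_sup_left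
  have hDn : E ≤ Subgroup.normalizer
      (((E ⊔ Cfsg.pCore p H) ⊓ (K ⊔ Cfsg.pCore p H) : Subgroup H) : Set H) :=
    (hE_Rs E hE).trans (le_normalizer_inf (hS.norm E hE) (hS.norm K hK))
  rcases strong_ambient (hirr E hE) _ hDn with h1 | h1
  · right
    have h1' := h1.trans (hS.pCoreOf_le hE)
    rw [Subgroup.commutator_comm, ← le_centMod_iff]
    apply le_of_pElts_eq_top (pElts_eq_top_of_strong (hirr E hE))
    rintro e he ⟨k, hk⟩ x hx
    have heL : e ∈ E ⊔ Cfsg.pCore p H := le_sup_left (b := Cfsg.pCore p H) he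
    have hzL : ⁅x, e⁆ ∈ E ⊔ Cfsg.pCore p H :=
      commutator_mem_of_mem_normalizer (hS.norm E hE (hE_Rs K hK hx)) heL
    have hzK : ⁅x, e⁆ ∈ K ⊔ Cfsg.pCore p H :=
      commutator_mem_of_mem_normalizer' (hS.norm K hK (hE_Rs E hE he))
        (le_sup_left (b := Cfsg.pCore p H) hx)
    apply commutator_mem_pCore (hS.subnormal_Es hE) le_sup_right
      ⟨k, by rw [hk]; exact Subgroup.one_mem _⟩ heL hzL
    intro l hl
    have hD : (E ⊔ Cfsg.pCore p H) ⊓ (K ⊔ Cfsg.pCore p H) =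
        ((E ⊔ Cfsg.pCore p H) ⊓ (K ⊔ Cfsg.pCore p H) ⊓ E) ⊔ Cfsg.pCore p H :=
      modular_sup (le_inf le_sup_right le_sup_right) inf_le_left
    have hz : ⁅x, e⁆ ∈ ((E ⊔ Cfsg.pCore p H) ⊓ (K ⊔ Cfsg.pCore p H) ⊓ E) ⊔ Cfsg.pCore p H := by
      rw [← hD]; exact ⟨hzL, hzK⟩
    exact comm_sup_le h1' (Subgroup.commutator_mem_commutator hl hz)
  · left
    obtain ⟨S⟩ : Nonempty (Sylow p ↥E) := inferInstance
    have hXp : IsPGroup p ↥((S : Subgroup ↥E).map E.subtype ⊔ Cfsg.pCore p H) :=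
      (S.2.map _).to_sup_of_normal_right (Cfsg.Agent.Lib.isPGroup_pCore p)
    have hXn : (S : Subgroup ↥E).map E.subtype ⊔ Cfsg.pCore p H ≤
        Subgroup.normalizer ((K ⊔ Cfsg.pCore p H : Subgroup H) : Set H) :=
      sup_le (((Subgroup.map_subtype_le _).trans (hE_Rs E hE)).trans (hS.norm K hK))
        (le_sup_right.trans Subgroup.le_normalizer)
    have hEle : E ⊔ Cfsg.pCore p H ≤
        ((S : Subgroup ↥E).map E.subtype ⊔ Cfsg.pCore p H) ⊔ (K ⊔ Cfsg.pCore p H) := by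
      refine sup_le ?_ (le_sup_right.trans le_sup_left)
      refine le_trans (opOf_sup_sylow (p := p) E S).ge ?_
      exact sup_le ((h1.trans inf_le_right).trans le_sup_right) (le_sup_left.trans le_sup_left)
    have hle : opOf p (E ⊔ Cfsg.pCore p H) ≤ K ⊔ Cfsg.pCore p H :=
      opOf_le_of_le_sup hXp hXn hEle
    have hle' : opOf p (E ⊔ Cfsg.pCore p H) ≤ opOf p (K ⊔ Cfsg.pCore p H) := by
      rw [← opOf_idem (p := p) (E ⊔ Cfsg.pCore p H)]
      exact opOf_mono hle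
    apply Subgroup.eq_of_le_of_card_ge hle'
    obtain ⟨h, rfl⟩ := hS.tr E hE K hK
    have e1 : conjSub h E ⊔ Cfsg.pCore p H = conjSub h (E ⊔ Cfsg.pCore p H) := by
      have : conjSub h (Cfsg.pCore p H) = Cfsg.pCore p H :=
        conjSub_eq_self_iff.mpr (le_normalizer_of_normal ⊤ _ (Subgroup.mem_top h))
      show _ = Subgroup.map _ _
      rw [Subgroup.map_sup]
      rw [show Subgroup.map (MulAut.conj h).toMonoidHom (Cfsg.pCore p H) = _ from this]
    rw [e1, ← conjSub_opOf, card_conjSub]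

/-- Part 2 of S2855. -/
theorem part2 (hS : Setup p 𝒦) (hirr : ∀ E ∈ 𝒦, Cfsg.IsStronglyPIrreducible p ↥E) :
    Cfsg.IsPIrreducible p H ∧ ∀ E ∈ 𝒦, ∀ K ∈ 𝒦,
      opOf p (E ⊔ Cfsg.pCore p H) = opOf p (K ⊔ Cfsg.pCore p H) ∨ ⁅E, K⁆ ≤ Cfsg.pCore p H := by
  have hPn : (Cfsg.pCore p H).Normal := normal_pCore
  refine ⟨⟨hS.not_isPClosed hirr, fun N hN hNc => ?_⟩, fun E hE K hK => hS.dichotomy hirr hE hK⟩
  by_cases hc : ∀ E ∈ 𝒦, ⁅(N ⊔ Cfsg.pCore p H) ⊓ E, E⁆ ≤ Cfsg.pCore p H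
  · exact absurd (hS.isPClosed_of_comm_le hirr N hc) hNc
  · push Not at hc
    obtain ⟨E, hE, hnot⟩ := hc
    have hN₀n : (N ⊔ Cfsg.pCore p H).Normal := inferInstance
    have hop : opOf p E ≤ N ⊔ Cfsg.pCore p H := by
      rcases strong_ambient (hirr E hE) (N ⊔ Cfsg.pCore p H) (le_normalizer_of_normal _ _)
        with h1 | h1
      · exact absurd (h1.trans (hS.pCoreOf_le hE)) hnot
      · exact h1
    have hall : ∀ K ∈ 𝒦, opOf p K ≤ N ⊔ Cfsg.pCore p H := by
      intro K hK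
      obtain ⟨h, rfl⟩ := hS.tr E hE K hK
      rw [← conjSub_opOf]
      have : conjSub h (N ⊔ Cfsg.pCore p H) = N ⊔ Cfsg.pCore p H :=
        conjSub_eq_self_iff.mpr (le_normalizer_of_normal ⊤ _ (Subgroup.mem_top h))
      rw [← this]
      exact Subgroup.map_mono hop
    have hres := hS.residual_le_of_opOf_le (N ⊔ Cfsg.pCore p H) hall
    rw [← opOf_top, ← opOf_idem]
    apply opOf_le_of_le_sup (Cfsg.Agent.Lib.isPGroup_pCore p) (le_normalizer_of_normal _ N)
    rw [opOf_top, sup_comm]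
    exact hres

end Part2

end Cfsg.Agent.Helper87.PMC
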