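import Mathlib
import Cfsg.Prelude.Def_LocalStructure
import Cfsg.Agent.Helper87.AsymH2
import Cfsg.Agent.Helper87.PMinClass
import Cfsg.Agent.Helper47.PIrred

/-!
# `H Q^g` for `H ∈ ℌ_G(O_p(M))` normalizing `Q^g` (abstract part of S2854)
-/

set_option autoImplicit false

namespace Cfsg.Agent.Helper87.AsymM

open Cfsg Cfsg.Agent.Helper46 Cfsg.Agent.Helper47 Cfsg.Agent.Helper48 Cfsg.Agent.Helper51
open Cfsg.Agent.Helper87.WCF
open scoped commutatorElement

section Tools

variable {G : Type*} [Group G]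

theorem nclIn_mono {Q H H' : Subgroup G} (hHH : H ≤ H') : nclIn Q H ≤ nclIn Q H' :=
  iSup_le fun h => conj_le_nclIn (hHH h.2)

/-- Commutators with a join, into a subgroup normalized by the members of the join. -/
theorem commutator_iSup_le_of_normalized {ι : Sort*} (A : Subgroup G) (K : ι → Subgroup G)
    (D : Subgroup G) (hK : ∀ i, K i ≤ Subgroup.normalizer (D : Set G))
    (h : ∀ i, ⁅A, K i⁆ ≤ D) : ⁅A, ⨆ i, K i⁆ ≤ D := by
  have hKD : (⨆ i, K i) ≤ Subgroup.normalizer (D : Set G) := iSup_le hK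
  rw [Subgroup.commutator_le]
  intro a ha x hx
  refine Subgroup.iSup_induction' K (C := fun x _ => ⁅a, x⁆ ∈ D) ?_ ?_ ?_ hx
  · intro i x hx
    exact h i (Subgroup.commutator_mem_commutator ha hx)
  · simp
  · intro x y hx _ ihx ihy
    rw [commutatorElement_mul_right_eq_mul_conj, mul_assoc, mul_assoc]
    refine mul_mem ihx ?_
    rw [← mul_assoc]
    exact (Subgroup.mem_normalizer_iff.mp (hKD hx) _).mp ihy

variable [Finite G] {p : ℕ} [Fact p.Prime]

/-- Ambient criterion for `p`-closedness: `[O^p(K), K] ≤ O_p(K)`. -/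
theorem isPClosed_of_opOf_comm {K : Subgroup G} (h : ⁅opOf p K, K⁆ ≤ Cfsg.pCoreOf p K) :
    Cfsg.IsPClosed p ↥K := by
  apply Cfsg.Agent.Helper87.PMC.isPClosed_of_residual_comm
  rw [← Subgroup.map_le_map_iff_of_injective K.subtype_injective, Subgroup.map_commutator,
    ← opOf_eq_map, ← MonoidHom.range_eq_map, Subgroup.range_subtype]
  exact h

/-- In a `p`-closed group every `p`-subgroup lies in the `p`-core. -/
theorem le_pCoreOf_of_isPClosed {K T : Subgroup G} (hK : Cfsg.IsPClosed p ↥K) (hTK : T ≤ K)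
    (hT : IsPGroup p ↥T) : T ≤ Cfsg.pCoreOf p K := by
  obtain ⟨P, hP⟩ := (hT.comap_subtype (K := K)).exists_le_sylow
  have hPn : (P : Subgroup ↥K).Normal := hK P
  have hle : (P : Subgroup ↥K) ≤ Cfsg.pCore p ↥K := Cfsg.Agent.Helper47.le_pCore hPn P.2
  intro x hx
  exact ⟨⟨x, hTK hx⟩, hle (hP (by rw [Subgroup.mem_comap]; exact hx)), rfl⟩

/-- A group all of whose `p`-subgroups lie in the `p`-core is `p`-closed. -/
theorem isPClosed_of_forall_le {N : Subgroup G}
    (h : ∀ T : Subgroup G, T ≤ N → IsPGroup p ↥T → T ≤ Cfsg.pCoreOf p N) :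
    Cfsg.IsPClosed p ↥N := by
  intro P
  have h1 : (P : Subgroup ↥N).map N.subtype ≤ Cfsg.pCoreOf p N :=
    h _ (Subgroup.map_subtype_le _) (P.2.map _)
  have h2 : (P : Subgroup ↥N) ≤ Cfsg.pCore p ↥N :=
    (Subgroup.map_le_map_iff_of_injective N.subtype_injective).mp h1
  have h3 : Cfsg.pCore p ↥N = (P : Subgroup ↥N) := P.is_maximal' (isPGroup_pCore p ↥N) h2
  rw [← h3]
  exact normal_pCore

end Tools

variable {G : Type*} [Group G] [Finite G] {p : ℕ} [Fact p.Prime] {S : Sylow p G}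
  {M Y H : Subgroup G}

namespace Ctx

/-- `O_p(K)` normalizes `O_p(M)` whenever `O_p(M) ≤ K`. -/
theorem pCoreOf_le_normalizer_R0_of_le (h : Ctx p S M Y) {K : Subgroup G}
    (hRK : Cfsg.pCoreOf p M ≤ K) :
    Cfsg.pCoreOf p K ≤ Subgroup.normalizer ((Cfsg.pCoreOf p M : Subgroup G) : Set G) := by
  have hp : IsPGroup p ↥(Cfsg.pCoreOf p M ⊔ Cfsg.pCoreOf p K) :=
    (pCoreOf_isPGroup M).to_sup_of_normal_right' (pCoreOf_isPGroup K)
      (hRK.trans (pCoreOf_normalized K))
  exact le_sup_right.trans (h.le_normalizer_R0 hp le_sup_left)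

/-- `N_G(Y) = M†`. -/
theorem normalizer_Y_eq_Md (h : Ctx p S M Y) :
    Subgroup.normalizer (Y : Set G) = Md M Y := by
  apply le_antisymm _ h.Md_le_normY
  by_cases hY1 : Y = ⊥
  · have e : Md M Y = ⊤ := by
      rw [Md, hY1, Subgroup.coe_bot, Subgroup.centralizer_eq_top_iff_subset.mpr (by simp),
        sup_top_eq]
    rw [e]; exact le_top
  set NY : Subgroup G := Subgroup.normalizer (Y : Set G) with hNY
  have hMN : M ≤ NY := h.hY.le_normalizer
  have hYp : Y ≤ Cfsg.pCoreOf p NY :=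
    le_pCoreOf Subgroup.le_normalizer ((pCoreOf_isPGroup M).to_le h.Y_le_R0) le_rfl
  have hne : Cfsg.pCoreOf p NY ≠ ⊥ := by
    intro hb
    apply hY1
    rw [eq_bot_iff, ← hb]
    exact hYp
  have hpar : Cfsg.IsParabolic p NY := ⟨S, h.hSM.trans hMN⟩
  have hmem : NY ∈ Cfsg.charPSubgroups p G :=
    mem_charPSubgroups_iff.mpr ⟨hne, h.hpar NY hpar hne⟩
  exact h.hmax NY hmem hMN

/-- A normal subgroup of `H ∈ ℌ_G(O_p(M))` contains `O^p(H)` or is `p`-closed. -/
theorem opOf_le_or_isPClosed (h : Ctx p S M Y) (hH : InH p M Y H) {K : Subgroup G}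
    (hKH : K ≤ H) (hHK : H ≤ Subgroup.normalizer (K : Set G)) :
    opOf p H ≤ K ∨ Cfsg.IsPClosed p ↥K := by
  by_cases hP : K ⊔ Cfsg.pCoreOf p M = H
  · left
    exact opOf_le_of_le_sup (pCoreOf_isPGroup M) (hH.hRH.trans hHK) (by rw [sup_comm, hP])
  right
  have hPH : K ⊔ Cfsg.pCoreOf p M ≤ H := sup_le hKH hH.hRH
  have hlt : K ⊔ Cfsg.pCoreOf p M < H := lt_of_le_of_ne hPH hP
  have hYP := hH.hmin _ le_sup_right hlt
  have hYH' : Y ≤ H := h.Y_le_R0.trans hH.hRH
  set DK := Cfsg.pCoreOf p K with hDK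
  have hHDK : H ≤ Subgroup.normalizer (DK : Set G) :=
    Cfsg.Agent.Helper21.le_normalizer_pCoreOf hHK
  -- `[K, Y] ≤ O_p(K)`
  have h1 : ⁅K, Y⁆ ≤ DK := by
    have ha : ⁅K, Y⁆ ≤ K := by
      rw [Subgroup.commutator_comm]
      exact Subgroup.le_normalizer_iff_commutator_le_right.mp (hYH'.trans hHK)
    have hb : ⁅K, Y⁆ ≤ Cfsg.pCoreOf p (K ⊔ Cfsg.pCoreOf p M) :=
      (Subgroup.commutator_mono le_sup_left hYP).trans
        (Subgroup.le_normalizer_iff_commutator_le_right.mp (pCoreOf_normalized _))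
    exact (le_inf hb ha).trans (pCoreOf_inf_le le_sup_left)
  -- all conjugates
  have h2 : ⁅K, nclIn Y H⁆ ≤ DK := by
    apply commutator_iSup_le_of_normalized
    · intro x
      exact (conjSub_le_of_mem hYH' x.2).trans hHDK
    · intro x
      have e1 : conjSub (x : G) K = K := conjSub_eq_self_iff.mpr (hHK x.2)
      have e2 : conjSub (x : G) DK = DK := conjSub_eq_self_iff.mpr (hHDK x.2)
      have e3 : ⁅K, conjSub (x : G) Y⁆ = conjSub (x : G) ⁅K, Y⁆ := by
        conv_lhs => rw [← e1]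
        exact (Subgroup.map_commutator K Y (MulAut.conj (x : G)).toMonoidHom).symm
      rw [e3, ← e2]
      exact Subgroup.map_mono h1
  apply isPClosed_of_opOf_comm
  rw [Subgroup.commutator_comm]
  refine (Subgroup.commutator_mono le_rfl ?_).trans h2
  exact (opOf_mono hKH).trans (le_sup_left.trans (h.opOf_sup_Y_eq hH).le)

/-- The conclusions of S2854 about `H' = H Q^g`. -/
theorem sup_largeConj (h : Ctx p S M Y) (hH : InH p M Y H) {Qg : Subgroup G}
    (hQgp : IsPGroup p ↥Qg) (hHQ : H ≤ Subgroup.normalizer (Qg : Set G)) :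
    Qg ≤ Cfsg.pCoreOf p (H ⊔ Qg) ∧
    Cfsg.pCoreOf p (H ⊔ Qg) ≤ Subgroup.normalizer ((Cfsg.pCoreOf p M : Subgroup G) : Set G) ∧
    H ⊔ Qg ≤ Subgroup.normalizer (H : Set G) ∧
    opOf p H = opOf p (H ⊔ Qg) ∧
    Cfsg.IsPIrreducible p ↥(H ⊔ Qg) := by
  set H' : Subgroup G := H ⊔ Qg with hH'
  set D' : Subgroup G := Cfsg.pCoreOf p H' with hD'
  have hHH' : H ≤ H' := le_sup_left
  have hRH' : Cfsg.pCoreOf p M ≤ H' := hH.hRH.trans hHH'
  have hH'Q : H' ≤ Subgroup.normalizer (Qg : Set G) := sup_le hHQ Subgroup.le_normalizer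
  have ha : Qg ≤ D' := le_pCoreOf le_sup_right hQgp hH'Q
  have hb : D' ≤ Subgroup.normalizer ((Cfsg.pCoreOf p M : Subgroup G) : Set G) :=
    h.pCoreOf_le_normalizer_R0_of_le hRH'
  have hH'D : H' ≤ Subgroup.normalizer (D' : Set G) := pCoreOf_normalized H'
  have hD'p : IsPGroup p ↥D' := pCoreOf_isPGroup H'
  have hD'H' : D' ≤ H' := pCoreOf_le H'
  -- every element of `H'` is `h q`
  have hdec : ∀ x ∈ H', ∃ a ∈ H, ∃ q ∈ Qg, x = a * q := fun x hx =>
    exists_mul_of_mem_sup hHQ hx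
  -- `H` is the normal closure of `O_p(M)` in `H'`
  have hncl : nclIn (Cfsg.pCoreOf p M) H' = H := by
    apply le_antisymm
    · refine iSup_le fun x => ?_
      obtain ⟨a, ha', q, hq, e⟩ := hdec x x.2
      rw [e, ← conjSub_conjSub, conjSub_eq_self_iff.mpr (hb (ha hq))]
      exact conjSub_le_of_mem hH.hRH ha'
    · conv_lhs => rw [← h.nclIn_R0_eq hH]
      exact nclIn_mono hHH'
  have he : H' ≤ Subgroup.normalizer (H : Set G) := by
    have := le_normalizer_nclIn (Cfsg.pCoreOf p M) H'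
    rwa [hncl] at this
  have hf : opOf p H = opOf p H' := by
    apply le_antisymm (opOf_mono hHH')
    have h1 : opOf p H' ≤ H :=
      opOf_le_of_le_sup hQgp (le_sup_right.trans he) (by rw [sup_comm])
    calc opOf p H' = opOf p (opOf p H') := (opOf_idem H').symm
      _ ≤ opOf p H := opOf_mono h1
  refine ⟨ha, hb, he, hf, ?_, ?_⟩
  · -- not `p`-closed
    intro hcl
    have h1 : Cfsg.pCoreOf p M ≤ D' := le_pCoreOf_of_isPClosed hcl hRH' (pCoreOf_isPGroup M)
    apply hH.hYH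
    exact (le_inf (h.Y_le_R0.trans h1) (h.Y_le_R0.trans hH.hRH)).trans (pCoreOf_inf_le hHH')
  · intro N hNn hNcl
    set N' : Subgroup G := N.map H'.subtype with hN'
    have hN'H' : N' ≤ H' := Subgroup.map_subtype_le _
    have hH'N' : H' ≤ Subgroup.normalizer (N' : Set G) := by
      intro x hx
      apply mem_normalizer_of_conjSub_le
      rintro _ ⟨_, ⟨n, hn, rfl⟩, rfl⟩
      exact ⟨⟨x, hx⟩ * n * ⟨x, hx⟩⁻¹, hNn.conj_mem n hn ⟨x, hx⟩, by simp⟩
    have hker : IsPGroup p H'.subtype.ker := by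
      rw [Subgroup.ker_subtype]; exact IsPGroup.of_bot
    have hN'cl : ¬ Cfsg.IsPClosed p ↥N' := fun hc =>
      hNcl ((isPClosed_map_iff H'.subtype hker N).mpr hc)
    rw [← Subgroup.map_le_map_iff_of_injective H'.subtype_injective, ← opOf_eq_map, ← hf]
    show opOf p H ≤ N'
    set K : Subgroup G := (N' ⊔ D') ⊓ H with hK
    have hKH : K ≤ H := inf_le_right
    have hH'K : H' ≤ Subgroup.normalizer (K : Set G) :=
      le_normalizer_inf (le_normalizer_sup hH'N' hH'D) he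
    rcases h.opOf_le_or_isPClosed hH hKH (hHH'.trans hH'K) with hcase | hcase
    · have h1 : opOf p (N' ⊔ D') ≤ N' :=
        opOf_le_of_le_sup hD'p (hD'H'.trans hH'N') (by rw [sup_comm])
      calc opOf p H = opOf p (opOf p H) := (opOf_idem H).symm
        _ ≤ opOf p (N' ⊔ D') := opOf_mono (hcase.trans inf_le_left)
        _ ≤ N' := h1
    · exfalso
      apply hN'cl
      apply isPClosed_of_forall_le
      intro T hTN hTp
      have hT₁p : IsPGroup p ↥(T ⊔ D') :=
        hTp.to_sup_of_normal_right' hD'p ((hTN.trans hN'H').trans hH'D)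
      have hT₂ : (T ⊔ D') ⊓ H ≤ D' := by
        have h1 : (T ⊔ D') ⊓ H ≤ K := inf_le_inf_right _ (sup_le_sup_right hTN _)
        have h2 : (T ⊔ D') ⊓ H ≤ Cfsg.pCoreOf p K :=
          le_pCoreOf_of_isPClosed hcase h1 (hT₁p.to_le inf_le_left)
        exact h2.trans (pCoreOf_le_pCoreOf_of_normalized (hKH.trans hHH') hH'K)
      have hTD : T ≤ D' := by
        intro t ht
        obtain ⟨a, ha', q, hq, e⟩ := hdec t (hN'H' (hTN ht))
        have haT : a ∈ (T ⊔ D') ⊓ H := by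
          refine Subgroup.mem_inf.mpr ⟨?_, ha'⟩
          have : a = t * q⁻¹ := by rw [e]; group
          rw [this]
          exact Subgroup.mul_mem _ (le_sup_left (b := D') ht)
            (le_sup_right (a := T) (D'.inv_mem (ha hq)))
        rw [e]
        exact D'.mul_mem (hT₂ haT) (ha hq)
      exact (le_inf hTD hTN).trans (pCoreOf_inf_le hN'H')

end Ctx

end Cfsg.Agent.Helper87.AsymM
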