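import Mathlib
import Cfsg.Prelude.Def_LocalStructure
import Cfsg.Agent.Helper87.AsymH3
import Cfsg.Agent.Helper21.Radical
import Cfsg.Agent.S2849

/-!
# `Y_M ≤ Y_H` for subgroups `H` of characteristic `p` containing the preimage of `F*(M†/C(Y_M))`
(abstract part of S2851)
-/

set_option autoImplicit false

namespace Cfsg.Agent.Helper87.AsymM

open Cfsg Cfsg.Agent.Helper46 Cfsg.Agent.Helper47 Cfsg.Agent.Helper48 Cfsg.Agent.Helper51
open Cfsg.Agent.Helper87.WCF
open scoped commutatorElement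

variable {G : Type*} [Group G]

/-- The image in `G` of a normal subgroup of `↥K` is normalized by `K`. -/
theorem le_normalizer_map_subtype [Finite G] {K : Subgroup G} (N : Subgroup ↥K) [hN : N.Normal] :
    K ≤ Subgroup.normalizer ((N.map K.subtype : Subgroup G) : Set G) := by
  intro x hx
  apply mem_normalizer_of_conjSub_le
  rintro _ ⟨_, ⟨n, hn, rfl⟩, rfl⟩
  exact ⟨⟨x, hx⟩ * n * ⟨x, hx⟩⁻¹, hN.conj_mem n hn ⟨x, hx⟩, by simp⟩

variable [Finite G] {p : ℕ} [Fact p.Prime]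

/-- `F` below is the preimage in `K` of `F*(K / C_K(Y))`. If `Y` is `p`-reduced in `K`, then every
subgroup of `K` normalized by `F` and acting as a `p`-group on `Y` centralizes `Y`. -/
theorem le_centralizer_of_fstar_le_normalizer {K Y : Subgroup G} (hY : IsPRedIn p Y K)
    [hn : ((Subgroup.centralizer (Y : Set G)).subgroupOf K).Normal] {D₁ : Subgroup G}
    (hD₁ : D₁ ≤ K)
    (hFD : ((Cfsg.generalizedFittingSubgroup
        (↥K ⧸ (Subgroup.centralizer (Y : Set G)).subgroupOf K)).comap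
          (QuotientGroup.mk' ((Subgroup.centralizer (Y : Set G)).subgroupOf K))).map K.subtype ≤
      Subgroup.normalizer (D₁ : Set G))
    (hpow : ∀ d ∈ D₁, ∃ k : ℕ, d ^ (p ^ k) ∈ Subgroup.centralizer (Y : Set G)) :
    D₁ ≤ Subgroup.centralizer (Y : Set G) := by
  set C' : Subgroup ↥K := (Subgroup.centralizer (Y : Set G)).subgroupOf K with hC'
  set π : ↥K →* ↥K ⧸ C' := QuotientGroup.mk' C' with hπ
  have hπs : Function.Surjective π := QuotientGroup.mk'_surjective C'
  have hker : π.ker = C' := QuotientGroup.ker_mk' C'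
  have hmemker : ∀ x : ↥K, π x = 1 ↔ (x : G) ∈ Subgroup.centralizer (Y : Set G) := by
    intro x
    rw [← MonoidHom.mem_ker, hker, hC', Subgroup.mem_subgroupOf]
  -- `O_p(K / C_K(Y)) = 1`
  have hP : Cfsg.pCore p (↥K ⧸ C') = ⊥ := by
    have hnP : (Cfsg.pCore p (↥K ⧸ C')).Normal := normal_pCore
    have hD' : ((Cfsg.pCore p (↥K ⧸ C')).comap π).map K.subtype ≤
        Subgroup.centralizer (Y : Set G) := by
      apply hY.le_centralizer (Subgroup.map_subtype_le _)
      · have : ((Cfsg.pCore p (↥K ⧸ C')).comap π).Normal := hnP.comap π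
        exact le_normalizer_map_subtype _
      · rintro _ ⟨d, hd, rfl⟩
        obtain ⟨j, hj⟩ := (isPGroup_pCore p (↥K ⧸ C')) ⟨π d, hd⟩
        refine ⟨j, ?_⟩
        have h1 : π (d ^ p ^ j) = 1 := by
          rw [map_pow]
          exact congrArg Subtype.val hj
        have := (hmemker _).mp h1
        simpa using this
    rw [eq_bot_iff]
    intro x hx
    obtain ⟨k, rfl⟩ := hπs x
    rw [Subgroup.mem_bot, hmemker]
    exact hD' ⟨k, hx, rfl⟩
  set Fs : Subgroup (↥K ⧸ C') := Cfsg.generalizedFittingSubgroup (↥K ⧸ C') with hFs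
  have hFsn : Fs.Normal := Cfsg.Agent.Helper21.generalizedFittingSubgroup_normal
  set Db : Subgroup (↥K ⧸ C') := (D₁.subgroupOf K).map π with hDb
  have hDbp : IsPGroup p ↥Db := by
    rintro ⟨_, ⟨d, hd, rfl⟩⟩
    obtain ⟨k, hk⟩ := hpow (d : G) (Subgroup.mem_subgroupOf.mp hd)
    refine ⟨k, ?_⟩
    apply Subtype.ext
    show (π d) ^ p ^ k = 1
    rw [← map_pow, hmemker]
    simpa using hk
  have hFD' : Fs ≤ Subgroup.normalizer (Db : Set (↥K ⧸ C')) := by
    intro f hf
    obtain ⟨f', rfl⟩ := hπs f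
    have hf'N : (f' : G) ∈ Subgroup.normalizer (D₁ : Set G) := hFD ⟨f', hf, rfl⟩
    apply mem_normalizer_of_conjSub_le
    rintro _ ⟨_, ⟨d, hd, rfl⟩, rfl⟩
    refine ⟨f' * d * f'⁻¹, ?_, by simp⟩
    rw [SetLike.mem_coe, Subgroup.mem_subgroupOf] at hd ⊢
    exact (Subgroup.mem_normalizer_iff.mp hf'N (d : G)).mp hd
  have hcomm : ⁅Db, Fs⁆ ≤ Db ⊓ Fs :=
    commutator_le_inf_of_le_normalizer (le_normalizer_of_normal Db Fs) hFD'
  have hB : Db ⊓ Fs ≤ Cfsg.pCore p (↥K ⧸ C') := by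
    have h1 : Db ⊓ Fs ≤ Cfsg.pCoreOf p Fs :=
      le_pCoreOf inf_le_right (hDbp.to_le inf_le_left)
        (le_normalizer_inf hFD' Subgroup.le_normalizer)
    have h2 : Cfsg.pCoreOf p Fs ≤ Cfsg.pCoreOf p (⊤ : Subgroup (↥K ⧸ C')) :=
      pCoreOf_le_pCoreOf_of_normalized le_top (le_normalizer_of_normal ⊤ Fs)
    have h3 : Cfsg.pCoreOf p (⊤ : Subgroup (↥K ⧸ C')) = Cfsg.pCore p (↥K ⧸ C') :=
      Cfsg.Agent.Helper49.coreIn_top_eq
    rw [← h3]; exact h1.trans h2
  rw [hP] at hB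
  have hcent : Db ≤ Subgroup.centralizer (Fs : Set (↥K ⧸ C')) :=
    Subgroup.commutator_eq_bot_iff_le_centralizer.mp (le_bot_iff.mp (hcomm.trans hB))
  have hDbF : Db ≤ Fs :=
    hcent.trans Cfsg.Agent.Helper21.centralizer_generalizedFittingSubgroup_le
  have hDbbot : Db = ⊥ := le_bot_iff.mp ((le_inf le_rfl hDbF).trans hB)
  intro d hd
  have h1 : π ⟨d, hD₁ hd⟩ ∈ Db :=
    ⟨⟨d, hD₁ hd⟩, Subgroup.mem_subgroupOf.mpr hd, rfl⟩
  rw [hDbbot, Subgroup.mem_bot, hmemker] at h1
  exact h1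

variable {S : Sylow p G} {M Y H : Subgroup G}

namespace Ctx

/-- A subgroup `D₁` normalized by `O_p(M)` whose quotient by `O^p(D₁)`-part lies in `M†`:
if `O^p(D₁) ≤ M†` then `D₁ ≤ M†`. -/
theorem le_Md_of_opOf_le (h : Ctx p S M Y) {D₁ : Subgroup G}
    (hRD : Cfsg.pCoreOf p M ≤ Subgroup.normalizer (D₁ : Set G)) (hE : opOf p D₁ ≤ Md M Y) :
    D₁ ≤ Md M Y := by
  set K : Subgroup G := D₁ ⊔ Cfsg.pCoreOf p M with hK
  obtain ⟨T, hT⟩ := exists_sylow_ge_in (pCoreOf_isPGroup M) (le_sup_right : Cfsg.pCoreOf p M ≤ K)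
  have hTMd : (T : Subgroup ↥K).map K.subtype ≤ Md M Y :=
    (h.le_normalizer_R0 (T.2.map _) hT).trans h.normalizer_R0_le_Md
  have h1 : opOf p K ≤ D₁ :=
    opOf_le_of_le_sup (pCoreOf_isPGroup M) hRD (by rw [hK, sup_comm])
  have h2 : opOf p K ≤ opOf p D₁ := by
    calc opOf p K = opOf p (opOf p K) := (opOf_idem K).symm
      _ ≤ opOf p D₁ := opOf_mono h1
  calc D₁ ≤ K := le_sup_left
    _ = opOf p K ⊔ (T : Subgroup ↥K).map K.subtype := (opOf_sup_sylow K T).symm
    _ ≤ Md M Y := sup_le (h2.trans hE) hTMd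

/-- `Y ≤ Y_H` for `H` of characteristic `p` containing the preimage of `F*(M†/C(Y))`. -/
theorem le_largestPReducedOf_of_fstar_le (h : Ctx p S M Y) (hYMd : IsPRedIn p Y (Md M Y))
    [hn : ((Subgroup.centralizer (Y : Set G)).subgroupOf (Md M Y)).Normal]
    (hFH : ((Cfsg.generalizedFittingSubgroup
        (↥(Md M Y) ⧸ (Subgroup.centralizer (Y : Set G)).subgroupOf (Md M Y))).comap
          (QuotientGroup.mk' ((Subgroup.centralizer (Y : Set G)).subgroupOf (Md M Y)))).map
            (Md M Y).subtype ≤ H)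
    (hH : CharPc p H) : Y ≤ Cfsg.largestPReducedOf p H := by
  set C := Subgroup.centralizer (Y : Set G) with hC
  set F : Subgroup G := ((Cfsg.generalizedFittingSubgroup
        (↥(Md M Y) ⧸ C.subgroupOf (Md M Y))).comap
          (QuotientGroup.mk' (C.subgroupOf (Md M Y)))).map (Md M Y).subtype with hF
  have hCMd : C ≤ Md M Y := le_sup_right
  -- `C ≤ F`
  have hCF : C ≤ F := by
    intro c hc
    refine ⟨⟨c, hCMd hc⟩, ?_, rfl⟩
    rw [SetLike.mem_coe, Subgroup.mem_comap]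
    have : (QuotientGroup.mk' (C.subgroupOf (Md M Y))) ⟨c, hCMd hc⟩ = 1 := by
      rw [← MonoidHom.mem_ker, QuotientGroup.ker_mk', Subgroup.mem_subgroupOf]
      exact hc
    rw [this]; exact Subgroup.one_mem _
  have hRH : Cfsg.pCoreOf p M ≤ H := h.R0_le_C.trans (hCF.trans hFH)
  have hYH : Y ≤ H := h.Y_le_R0.trans hRH
  set D := Cfsg.pCoreOf p H with hD
  have hHD : H ≤ Subgroup.normalizer (D : Set G) := pCoreOf_normalized H
  -- `O_p(H)` centralizes `Y`
  have hDMd : D ≤ Md M Y :=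
    (h.pCoreOf_le_normalizer_R0_of_le hRH).trans h.normalizer_R0_le_Md
  have hDC : D ≤ C :=
    le_centralizer_of_fstar_le_normalizer hYMd hDMd (hFH.trans hHD)
      (forall_pow_mem_of_isPGroup (pCoreOf_isPGroup H) _)
  -- `Y ≤ O_p(H)`
  have hYD : Y ≤ D := by
    have hch : IsCharPIn p H := isCharPIn_of_subtype hH
    refine le_trans (le_inf hYH ?_) hch
    rw [Subgroup.le_centralizer_iff]
    exact hDC
  -- `V = ⟨Y^H⟩`
  set V := nclIn Y H with hV
  have hVH : V ≤ H := nclIn_le hYH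
  have hHV : H ≤ Subgroup.normalizer (V : Set G) := le_normalizer_nclIn Y H
  have hconjD : ∀ x : ↥H, conjSub (x : G) Y ≤ D := fun x => by
    rw [← conjSub_eq_self_iff.mpr (hHD x.2)]
    exact Subgroup.map_mono hYD
  have hconjC : ∀ x : ↥H, D ≤ Subgroup.centralizer ((conjSub (x : G) Y : Subgroup G) : Set G) :=
    fun x => by
      rw [← cj_centralizer]
      conv_lhs => rw [← conjSub_eq_self_iff.mpr (hHD x.2)]
      exact Subgroup.map_mono hDC
  have hVe : Cfsg.IsElementaryAbelian p V := by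
    apply Cfsg.Agent.S2849.isElementaryAbelian_iSup_of_commute
    · intro x
      refine ⟨?_, ?_⟩
      · have : IsMulCommutative Y := h.hY.isElementaryAbelian.1
        exact Subgroup.map_isMulCommutative Y _
      · rintro _ ⟨y, hy, rfl⟩
        rw [← map_pow, h.hY.isElementaryAbelian.2 y hy, map_one]
    · intro x x'
      exact (hconjD x).trans (hconjC x')
  have hVred : IsPRedIn p V H := by
    refine ⟨hVH, hHV, hVe, ?_⟩
    intro D₁ hD₁H hHD₁ hpow
    have hCV : Subgroup.centralizer (V : Set G) ≤ C :=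
      Subgroup.centralizer_le (SetLike.coe_subset_coe.mpr (le_nclIn Y H))
    -- `D₁ ≤ M†`
    have hE : opOf p D₁ ≤ Md M Y := by
      refine le_trans ?_ (hCV.trans hCMd)
      unfold opOf
      rw [Subgroup.closure_le]
      intro x hx
      obtain ⟨k, hk⟩ := hpow x hx.1
      have hc : (p ^ k).Coprime (orderOf x) := (Nat.Coprime.pow_right k hx.2).symm
      obtain ⟨m, hm⟩ := exists_pow_eq_self_of_coprime hc
      rw [SetLike.mem_coe, ← hm]
      exact Subgroup.pow_mem _ hk m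
    have hD₁Md : D₁ ≤ Md M Y := h.le_Md_of_opOf_le (hRH.trans hHD₁) hE
    have hD₁C : D₁ ≤ C :=
      le_centralizer_of_fstar_le_normalizer hYMd hD₁Md (hFH.trans hHD₁)
        (fun d hd => by
          obtain ⟨k, hk⟩ := hpow d hd
          exact ⟨k, hCV hk⟩)
    -- `D₁` centralizes every conjugate of `Y`
    rw [Subgroup.le_centralizer_iff]
    refine iSup_le fun x => ?_
    rw [← Subgroup.le_centralizer_iff, ← cj_centralizer]
    conv_lhs => rw [← conjSub_eq_self_iff.mpr (hHD₁ x.2)]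
    exact Subgroup.map_mono hD₁C
  exact (le_nclIn Y H).trans hVred.le_largestPReducedOf

end Ctx

end Cfsg.Agent.Helper87.AsymM
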