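import Cfsg.Agent.Helper87.AxZJ
import Cfsg.Agent.Helper64.GTZJ

/-!
# An axiomatic Glauberman–Thompson normal `p`-complement theorem for groups (helper87, for S5272)

`npc_of_min`: let `G` be a finite group with `C_G(O_p(G)) ≤ O_p(G)`, `p` odd, `Sy` a Sylow `p`-subgroup such that
every proper subgroup containing `Sy` has a normal `p`-complement, and `fam` a family of abelian subgroups of `Sy`
satisfying `AxZJ.HypAx`.  If `N_G(sInf fam)` has a normal `p`-complement, so does `G`.
-/

set_option autoImplicit false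

namespace Cfsg.Agent.Helper87.AxGT

open Subgroup Cfsg.Agent.Helper64 Cfsg.Agent.Helper87.AxZJ
open scoped commutatorElement

universe u

variable {G : Type u} [Group G] [Finite G] {p : ℕ} [hp : Fact p.Prime]

/-- A subgroup containing a Sylow `p`-subgroup and having a normal `p`-complement is that Sylow subgroup, when
`C_G(O_p(G)) ≤ O_p(G)`. -/
theorem eq_sylow_of_npc (hc : centralizer (Cfsg.pCore p G : Set G) ≤ Cfsg.pCore p G) (P : Sylow p G)
    (X : Subgroup G) (hPX : (P : Subgroup G) ≤ X) (hXnil : Cfsg.HasNormalPComplement p X) : X = P := by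
  have hHn : (Cfsg.pCore p G).Normal := by
    have := Cfsg.Agent.Lib.pCore_characteristic (G := G) p
    infer_instance
  set H := Cfsg.pCore p G with hH
  have hHp : IsPGroup p H := Cfsg.Agent.Lib.isPGroup_pCore p
  have hHP : H ≤ P := Cfsg.Agent.Lib.pCore_le_sylow P
  rw [hasNormalPComplement_iff_exists] at hXnil
  obtain ⟨L, hLn, hLc, k, hk⟩ := hXnil
  have hLbot : L = ⊥ := by
    rw [eq_bot_iff]
    intro l hl
    rw [Subgroup.mem_bot]
    have hdisj : Disjoint L (H.subgroupOf X) := by
      apply Subgroup.disjoint_of_coprime_natCard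
      have hHX : IsPGroup p (H.subgroupOf X) := hHp.comap_subtype
      obtain ⟨n, hn⟩ := IsPGroup.iff_card.mp hHX
      rw [hn]
      exact Nat.Coprime.pow_right n hLc
    have hHXn : (H.subgroupOf X).Normal := inferInstance
    have hlc : (l : G) ∈ centralizer (H : Set G) := by
      rw [mem_centralizer_iff]
      intro h hh
      have hhX : h ∈ X := hPX (hHP hh)
      have h1 : ⁅l, (⟨h, hhX⟩ : X)⁆ ∈ L := by
        have e1 : ⁅l, (⟨h, hhX⟩ : X)⁆ = l * ((⟨h, hhX⟩ : X) * l⁻¹ * (⟨h, hhX⟩ : X)⁻¹) := by
          rw [commutatorElement_def]; group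
        rw [e1]
        exact L.mul_mem hl (hLn.conj_mem _ (L.inv_mem hl) _)
      have h2 : ⁅l, (⟨h, hhX⟩ : X)⁆ ∈ H.subgroupOf X := by
        rw [commutatorElement_def]
        have hmem : (⟨h, hhX⟩ : X) ∈ H.subgroupOf X := Subgroup.mem_subgroupOf.mpr hh
        exact (H.subgroupOf X).mul_mem (hHXn.conj_mem _ hmem l) ((H.subgroupOf X).inv_mem hmem)
      have h3 : ⁅l, (⟨h, hhX⟩ : X)⁆ = 1 := by
        have := hdisj.le_bot ⟨h1, h2⟩
        rwa [Subgroup.mem_bot] at this
      rw [commutatorElement_eq_one_iff_mul_comm] at h3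
      have := congrArg Subtype.val h3
      simpa using this.symm
    have hlH : l ∈ H.subgroupOf X := Subgroup.mem_subgroupOf.mpr (hc hlc)
    have := hdisj.le_bot ⟨hl, hlH⟩
    rwa [Subgroup.mem_bot] at this
  rw [hLbot, Subgroup.index_bot] at hk
  have hXp : IsPGroup p X := IsPGroup.of_card hk
  exact P.is_maximal' hXp hPX

/-- The main step. -/
theorem npc_of_min (hp2 : p ≠ 2) (Sy : Sylow p G) (fam : Set (Subgroup G)) (h : HypAx fam Sy)
    (hc : centralizer (Cfsg.pCore p G : Set G) ≤ Cfsg.pCore p G)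
    (hmin : ∀ X : Subgroup G, (Sy : Subgroup G) ≤ X → X ≠ ⊤ → Cfsg.HasNormalPComplement p X)
    (hW : Cfsg.HasNormalPComplement p (normalizer ((sInf fam : Subgroup G) : Set G))) :
    Cfsg.HasNormalPComplement p G := by
  by_contra hG
  have hHn : (Cfsg.pCore p G).Normal := by
    have := Cfsg.Agent.Lib.pCore_characteristic (G := G) p
    infer_instance
  set H := Cfsg.pCore p G with hH
  have hHp : IsPGroup p H := Cfsg.Agent.Lib.isPGroup_pCore p
  have hHP : H ≤ Sy := Cfsg.Agent.Lib.pCore_le_sylow Sy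
  have hmaxG : ∀ X : Subgroup G, (Sy : Subgroup G) ≤ X → X ≠ ⊤ → X = Sy :=
    fun X hPX hX => eq_sylow_of_npc hc Sy X hPX (hmin X hPX hX)
  -- `Sy` is not normal
  have hSyn : normalizer ((Sy : Subgroup G) : Set G) ≠ ⊤ := by
    intro htop
    apply hG
    have h2 : normalizer ((sInf fam : Subgroup G) : Set G) = ⊤ := by
      rw [eq_top_iff, ← htop]
      exact hypAx_normalizer_le h
    rw [h2] at hW
    exact hasNormalPComplement_of_top hW
  have hHneP : H ≠ Sy := by
    intro heq
    apply hSyn
    rw [← heq]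
    exact Subgroup.normalizer_eq_top_iff.mpr hHn
  -- `G / H` has a normal `p`-complement, by the Glauberman–Thompson theorem
  set π := QuotientGroup.mk' H with hπ
  have hπs : Function.Surjective π := QuotientGroup.mk'_surjective H
  have hker : π.ker = H := QuotientGroup.ker_mk' H
  have hWf := gtFunctor_centerThompsonA.{u} (p := p) hp2
  have hq : Cfsg.HasNormalPComplement p (G ⧸ H) := by
    apply hasNormalPComplement_of_normalizer_zj hp2 (Sy.mapSurjective hπs)
    rw [Sylow.coe_mapSurjective]
    set Pb : Subgroup (G ⧸ H) := (Sy : Subgroup G).map π with hPb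
    have hPbp : IsPGroup p Pb := Sy.2.map π
    have hPb1 : Pb ≠ ⊥ := by
      intro hb
      rw [hPb, Subgroup.map_eq_bot_iff, hker] at hb
      exact hHneP (le_antisymm hHP hb)
    set Zb := Cfsg.centerThompsonAOf Pb with hZb
    have hZb1 : Zb ≠ ⊥ := hWf.ne_bot (G ⧸ H) Pb hPbp hPb1
    have hZbp : IsPGroup p Zb := hWf.isPGroup (G ⧸ H) hPbp
    set K := Zb.comap π with hK
    have hKp : IsPGroup p K := hZbp.comap_of_ker_isPGroup π (hker.symm ▸ hHp)
    have hKmap : K.map π = Zb := Subgroup.map_comap_eq_self_of_surjective hπs Zb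
    have hKnn : ¬ K.Normal := by
      intro hKn
      have h1 : K ≤ H := Cfsg.Agent.Lib.le_pCore hKn hKp
      apply hZb1
      rw [← hKmap, Subgroup.map_eq_bot_iff, hker]
      exact h1
    have hPK : (Sy : Subgroup G) ≤ normalizer (K : Set G) := by
      intro x hx
      have h1 : π x ∈ normalizer (Zb : Set (G ⧸ H)) :=
        hWf.normalizer_le (G ⧸ H) Pb (le_normalizer (Subgroup.mem_map_of_mem π hx))
      exact Subgroup.le_normalizer_comap π h1
    have hKne : normalizer (K : Set G) ≠ ⊤ := fun htop => hKnn (Subgroup.normalizer_eq_top_iff.mp htop)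
    have hKnil : Cfsg.HasNormalPComplement p (normalizer (K : Set G)) := hmin _ hPK hKne
    have hnorm : normalizer (Zb : Set (G ⧸ H)) = (normalizer (K : Set G)).map π := by
      rw [hK, ← Subgroup.comap_normalizer_eq_of_surjective Zb hπs,
        Subgroup.map_comap_eq_self_of_surjective hπs]
    rw [hnorm]
    exact hasNormalPComplement_map π _ hKnil
  -- the structure of `G / H`
  have hq' := hq
  rw [hasNormalPComplement_iff_exists] at hq'
  obtain ⟨Nb, hNbn, hNbc, k, hk⟩ := hq'
  have hmaxb : ∀ X : Subgroup (G ⧸ H), ((Sy.mapSurjective hπs : Sylow p (G ⧸ H)) : Subgroup (G ⧸ H)) ≤ X →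
      X ≠ ⊤ → X = (Sy.mapSurjective hπs : Sylow p (G ⧸ H)) := by
    intro X hPX hX
    rw [Sylow.coe_mapSurjective] at hPX ⊢
    have h1 : (Sy : Subgroup G) ≤ X.comap π := by
      rw [← Subgroup.map_le_iff_le_comap]; exact hPX
    have h2 : X.comap π ≠ ⊤ := by
      intro h
      apply hX
      rw [← Subgroup.map_comap_eq_self_of_surjective hπs X, h, Subgroup.map_top_of_surjective π hπs]
    have h3 := hmaxG (X.comap π) h1 h2
    rw [← Subgroup.map_comap_eq_self_of_surjective hπs X, h3]
  have hcomm := commute_of_sylow_maximal (Sy.mapSurjective hπs) Nb hNbc hmaxb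
  set M := Nb.comap π with hM
  have hMn : M.Normal := hNbn.comap π
  have hMi : M.index = p ^ k := by rw [hM, Subgroup.index_comap_of_surjective Nb hπs, hk]
  have hMp : (H.relIndex M).Coprime p := by
    rw [← hker, Subgroup.relIndex_ker, hM, Subgroup.map_comap_eq_self_of_surjective hπs]
    exact hNbc
  have hMH : ⁅M, M⁆ ≤ H := by
    rw [Subgroup.commutator_le]
    intro x hx y hy
    rw [← hker, MonoidHom.mem_ker, map_commutatorElement, commutatorElement_eq_one_iff_mul_comm]
    exact hcomm (π x) hx (π y) hy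
  have hst := isPStableOn_of_series hp2 H M hHp hMH hMp hMi
  have hWn := ax_sInf_normal h hst hc
  have h2 : normalizer ((sInf fam : Subgroup G) : Set G) = ⊤ := Subgroup.normalizer_eq_top_iff.mpr hWn
  rw [h2] at hW
  exact hG (hasNormalPComplement_of_top hW)

end Cfsg.Agent.Helper87.AxGT
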