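import Cfsg.Agent.Helper87.AxGT
import Cfsg.Agent.Helper85.Morphism

/-!
# The axiomatic Glauberman–Thompson theorem for groups, for a family given in a `p`-group mapped onto a Sylow subgroup
(helper87, for S5272)
-/

set_option autoImplicit false

namespace Cfsg.Agent.Helper87.AxGT

open Subgroup Cfsg Cfsg.FusionSystem Cfsg.Agent.Helper64 Cfsg.Agent.Helper85 Cfsg.Agent.Helper87.AxZJ
open scoped commutatorElement

universe u

section image

variable {Ω : Type*} [Group Ω] {S : Subgroup Ω} {G : Type*} [Group G] (ι : S →* G)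

theorem imageAlong_le_iff (hinj : Function.Injective ι) {X Y : Subgroup Ω} (hX : X ≤ S) :
    imageAlong ι X ≤ imageAlong ι Y ↔ X ≤ Y := by
  constructor
  · intro h x hx
    have h1 : ι ⟨x, hX hx⟩ ∈ imageAlong ι X := (mem_imageAlong ι X _).2 ⟨⟨x, hX hx⟩, hx, rfl⟩
    obtain ⟨s, hs, hsx⟩ := (mem_imageAlong ι Y _).1 (h h1)
    have h2 := hinj hsx
    rw [h2] at hs
    exact hs
  · exact imageAlong_mono ι

theorem commutator_le_of_le {X Y : Subgroup Ω} (hX : X ≤ S) (hY : Y ≤ S) : ⁅X, Y⁆ ≤ S := by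
  rw [Subgroup.commutator_le]
  intro a ha b hb
  rw [commutatorElement_def]
  exact S.mul_mem (S.mul_mem (S.mul_mem (hX ha) (hY hb)) (S.inv_mem (hX ha))) (S.inv_mem (hY hb))

theorem imageAlong_commutator {X Y : Subgroup Ω} (hX : X ≤ S) (hY : Y ≤ S) :
    imageAlong ι ⁅X, Y⁆ = ⁅imageAlong ι X, imageAlong ι Y⁆ := by
  have hXY : ⁅X, Y⁆ ≤ S := commutator_le_of_le hX hY
  have h1 : (⁅X, Y⁆ : Subgroup Ω).subgroupOf S = ⁅X.subgroupOf S, Y.subgroupOf S⁆ := by
    apply Subgroup.map_injective S.subtype_injective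
    rw [Subgroup.subgroupOf_map_subtype, Subgroup.map_commutator, Subgroup.subgroupOf_map_subtype,
      Subgroup.subgroupOf_map_subtype, inf_eq_left.2 hX, inf_eq_left.2 hY, inf_eq_left.2 hXY]
  unfold imageAlong
  rw [h1, Subgroup.map_commutator]

theorem imageAlong_sInf (hinj : Function.Injective ι) {𝒳 : Set (Subgroup Ω)} (hne : 𝒳.Nonempty) :
    imageAlong ι (sInf 𝒳) = sInf (imageAlong ι '' 𝒳) := by
  ext y
  rw [Subgroup.mem_sInf]
  constructor
  · intro hy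
    obtain ⟨s, hs, rfl⟩ := (mem_imageAlong ι _ _).1 hy
    rintro _ ⟨X, hX, rfl⟩
    exact (mem_imageAlong ι X _).2 ⟨s, (Subgroup.mem_sInf.1 hs) X hX, rfl⟩
  · intro hy
    obtain ⟨X0, hX0⟩ := hne
    obtain ⟨s0, hs0, rfl⟩ := (mem_imageAlong ι X0 _).1 (hy _ ⟨X0, hX0, rfl⟩)
    refine (mem_imageAlong ι _ _).2 ⟨s0, ?_, rfl⟩
    rw [Subgroup.mem_sInf]
    intro X hX
    obtain ⟨s, hs, hss⟩ := (mem_imageAlong ι X _).1 (hy _ ⟨X, hX, rfl⟩)
    have := hinj hss
    rw [this] at hs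
    exact hs

theorem imageAlong_le_normalizer {X Y : Subgroup Ω} (h : X ≤ normalizer (Y : Set Ω)) :
    imageAlong ι X ≤ normalizer (imageAlong ι Y : Set G) := by
  intro y hy
  obtain ⟨s, hs, rfl⟩ := (mem_imageAlong ι X _).1 hy
  have hsN := h hs
  rw [Subgroup.mem_normalizer_iff]
  intro z
  constructor
  · intro hz
    obtain ⟨t, ht, rfl⟩ := (mem_imageAlong ι Y _).1 hz
    refine (mem_imageAlong ι Y _).2 ⟨s * t * s⁻¹, ?_, by simp⟩
    exact (Subgroup.mem_normalizer_iff.1 hsN (t : Ω)).1 ht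
  · intro hz
    obtain ⟨t, ht, htz⟩ := (mem_imageAlong ι Y _).1 hz
    refine (mem_imageAlong ι Y _).2 ⟨s⁻¹ * t * s, ?_, ?_⟩
    · have h1 := (Subgroup.mem_normalizer_iff.1 (Subgroup.inv_mem _ hsN) (t : Ω)).1 ht
      simpa using h1
    · rw [map_mul, map_mul, map_inv, htz]
      group

theorem imageAlong_bot : imageAlong ι ⊥ = ⊥ := by
  rw [eq_bot_iff]
  intro y hy
  obtain ⟨s, hs, rfl⟩ := (mem_imageAlong ι _ _).1 hy
  rw [Subgroup.mem_bot] at hs ⊢
  have : s = 1 := Subtype.ext hs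
  rw [this, map_one]

/-- image along a corestriction -/
theorem imageAlong_codRestrict_map (X : Subgroup G) (hX : ∀ s, ι s ∈ X) (Q : Subgroup Ω) :
    (imageAlong (ι.codRestrict X hX) Q).map X.subtype = imageAlong ι Q := by
  unfold imageAlong
  rw [Subgroup.map_map]
  rfl

end image

section sub

variable {G : Type*} [Group G]

theorem mem_normalizer_map_subtype_iff (X : Subgroup G) (Y : Subgroup X) (g : X) :
    (g : G) ∈ normalizer ((Y.map X.subtype : Subgroup G) : Set G) ↔ g ∈ normalizer (Y : Set X) := by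
  rw [Subgroup.mem_normalizer_iff, Subgroup.mem_normalizer_iff]
  constructor
  · intro h y
    have h1 := h (y : G)
    constructor
    · intro hy
      obtain ⟨z, hz, hzy⟩ := h1.1 ⟨y, hy, rfl⟩
      have : z = g * y * g⁻¹ := Subtype.ext (by simpa using hzy)
      rwa [← this]
    · intro hy
      obtain ⟨z, hz, hzy⟩ := h1.2 ⟨g * y * g⁻¹, hy, by simp⟩
      have : z = y := Subtype.ext (by simpa using hzy)
      rwa [← this]
  · intro h y
    constructor
    · rintro ⟨z, hz, rfl⟩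
      exact ⟨g * z * g⁻¹, (h z).1 hz, by simp⟩
    · rintro ⟨z, hz, hzy⟩
      have hyX : y ∈ X := by
        have h1 : (g : G)⁻¹ * ((g : G) * y * (g : G)⁻¹) * (g : G) = y := by group
        rw [← h1, ← hzy]
        exact X.mul_mem (X.mul_mem (X.inv_mem g.2) z.2) g.2
      refine ⟨⟨y, hyX⟩, ?_, rfl⟩
      apply (h ⟨y, hyX⟩).2
      have : g * ⟨y, hyX⟩ * g⁻¹ = z := Subtype.ext (by simpa using hzy.symm)
      rwa [this]

variable [Finite G] {p : ℕ} [Fact p.Prime]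

/-- `C_X(O_p(X)) ≤ O_p(X)` for a subgroup `X` containing a Sylow `p`-subgroup of `G`, when this holds for `G`. -/
theorem centralizer_pCore_le_of_sylow_le (hc : centralizer (Cfsg.pCore p G : Set G) ≤ Cfsg.pCore p G)
    (Sy : Sylow p G) (X : Subgroup G) (hSyX : (Sy : Subgroup G) ≤ X) :
    centralizer (Cfsg.pCore p X : Set X) ≤ Cfsg.pCore p X := by
  have hHn : (Cfsg.pCore p G).Normal := by
    have := Cfsg.Agent.Lib.pCore_characteristic (G := G) p
    infer_instance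
  have hHp : IsPGroup p (Cfsg.pCore p G) := Cfsg.Agent.Lib.isPGroup_pCore p
  have hHP : Cfsg.pCore p G ≤ Sy := Cfsg.Agent.Lib.pCore_le_sylow Sy
  have hsub : (Cfsg.pCore p G).subgroupOf X ≤ Cfsg.pCore p X :=
    Cfsg.Agent.Lib.le_pCore inferInstance hHp.comap_subtype
  intro c hc'
  apply hsub
  rw [Subgroup.mem_subgroupOf]
  apply hc
  rw [Subgroup.mem_centralizer_iff]
  intro q hq
  have hqX : q ∈ X := hSyX (hHP hq)
  have h1 : (⟨q, hqX⟩ : X) ∈ Cfsg.pCore p X := hsub (Subgroup.mem_subgroupOf.2 hq)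
  have h2 := (Subgroup.mem_centralizer_iff.1 hc') ⟨q, hqX⟩ h1
  exact congrArg Subtype.val h2

end sub

section main

variable {Ω : Type u} [Group Ω] {S : Subgroup Ω} {p : ℕ} [hp : Fact p.Prime]

/-- The family hypotheses in `G`, from those in `S`. -/
theorem hypAx_image {G : Type u} [Group G] [Finite G] (𝒜 : Set (Subgroup Ω))
    (h𝒜 : ∀ A ∈ 𝒜, A ≤ S ∧ IsMulCommutative A) (hne : 𝒜.Nonempty)
    (hrep : ∀ B : Subgroup Ω, B ≤ S → ⁅⁅B, B⁆, B⁆ = ⊥ → (∃ A ∈ 𝒜, ⁅B, B⁆ ≤ A ∧ ¬ B ≤ A) →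
      ∃ A ∈ 𝒜, ⁅B, B⁆ ≤ A ∧ ¬ B ≤ A ∧ B ≤ Subgroup.normalizer (A : Set Ω))
    (ι : S →* G) (hinj : Function.Injective ι) (Sy : Sylow p G) (hSy : (Sy : Subgroup G) = ι.range)
    (hinv : ∀ Q : Subgroup Ω, Q ≤ S → (∃ A ∈ 𝒜, A ≤ Q) →
      normalizer (imageAlong ι Q : Set G) ≤
        normalizer (imageAlong ι (sInf {A | A ∈ 𝒜 ∧ A ≤ Q}) : Set G)) :
    HypAx (imageAlong ι '' 𝒜) Sy := by
  have hrange : ∀ X : Subgroup Ω, imageAlong ι X ≤ (Sy : Subgroup G) := by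
    intro X
    rw [hSy]
    exact imageAlong_le ι (S' := ι.range) (fun s => ⟨s, rfl⟩) X
  refine ⟨?_, ?_, ?_, ?_, ?_⟩
  · rintro _ ⟨A, -, rfl⟩
    exact hrange A
  · rintro _ ⟨A, hA, rfl⟩ x hx y hy
    obtain ⟨s, hs, rfl⟩ := (mem_imageAlong ι A _).1 hx
    obtain ⟨t, ht, rfl⟩ := (mem_imageAlong ι A _).1 hy
    have hcomm := (h𝒜 A hA).2
    have h1 : (⟨(s : Ω), hs⟩ : A) * ⟨(t : Ω), ht⟩ = ⟨(t : Ω), ht⟩ * ⟨(s : Ω), hs⟩ := hcomm.is_comm.comm _ _
    have h2 : (s : Ω) * (t : Ω) = (t : Ω) * (s : Ω) := congrArg Subtype.val h1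
    have h3 : s * t = t * s := Subtype.ext h2
    rw [← map_mul, ← map_mul, h3]
  · obtain ⟨A, hA⟩ := hne
    exact ⟨_, A, hA, rfl⟩
  · intro PG hPG hnon
    obtain ⟨_, ⟨A, hA, rfl⟩, hAP⟩ := hnon
    have hPr : PG ≤ ι.range := hSy ▸ hPG
    set P := preimageAlong ι PG with hP
    have hPS : P ≤ S := preimageAlong_le ι PG
    have himP : imageAlong ι P = PG := imageAlong_preimageAlong ι hPr
    have hAleP : A ≤ P := by
      rw [← imageAlong_le_iff ι hinj (h𝒜 A hA).1, himP]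
      exact hAP
    have h1 := hinv P hPS ⟨A, hA, hAleP⟩
    rw [himP] at h1
    have hset : famIn (imageAlong ι '' 𝒜) PG = imageAlong ι '' {A | A ∈ 𝒜 ∧ A ≤ P} := by
      ext B
      constructor
      · rintro ⟨⟨A', hA', rfl⟩, hle⟩
        refine ⟨A', ⟨hA', ?_⟩, rfl⟩
        rw [← imageAlong_le_iff ι hinj (h𝒜 A' hA').1, himP]
        exact hle
      · rintro ⟨A', ⟨hA', hle⟩, rfl⟩
        refine ⟨⟨A', hA', rfl⟩, ?_⟩
        rw [← himP]
        exact imageAlong_mono ι hle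
    have hne' : ({A | A ∈ 𝒜 ∧ A ≤ P} : Set (Subgroup Ω)).Nonempty := ⟨A, hA, hAleP⟩
    rw [hset, ← imageAlong_sInf ι hinj hne']
    exact h1
  · intro BG hBG _ hcl2 hex
    have hBr : BG ≤ ι.range := hSy ▸ hBG
    set B := preimageAlong ι BG with hB
    have hBS : B ≤ S := preimageAlong_le ι BG
    have himB : imageAlong ι B = BG := imageAlong_preimageAlong ι hBr
    have hBBS : ⁅B, B⁆ ≤ S := commutator_le_of_le hBS hBS
    have himBB : imageAlong ι ⁅B, B⁆ = ⁅BG, BG⁆ := by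
      rw [imageAlong_commutator ι hBS hBS, himB]
    have hcl2' : ⁅⁅B, B⁆, B⁆ = ⊥ := by
      rw [eq_bot_iff, ← imageAlong_le_iff ι hinj (commutator_le_of_le hBBS hBS),
        imageAlong_commutator ι hBBS hBS, himBB, himB, hcl2, imageAlong_bot]
    obtain ⟨_, ⟨U, hU, rfl⟩, hBU, hnBU⟩ := hex
    have hex' : ∃ A ∈ 𝒜, ⁅B, B⁆ ≤ A ∧ ¬ B ≤ A := by
      refine ⟨U, hU, ?_, ?_⟩
      · rw [← imageAlong_le_iff ι hinj hBBS, himBB]
        exact hBU
      · intro hle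
        apply hnBU
        rw [← himB]
        exact imageAlong_mono ι hle
    obtain ⟨A, hA, h1, h2, h3⟩ := hrep B hBS hcl2' hex'
    refine ⟨imageAlong ι A, ⟨A, hA, rfl⟩, ?_, ?_, ?_⟩
    · rw [← himBB]
      exact imageAlong_mono ι h1
    · intro hle
      apply h2
      rw [← imageAlong_le_iff ι hinj hBS, himB]
      exact hle
    · rw [← himB]
      exact imageAlong_le_normalizer ι h3

/-- **The axiomatic Glauberman–Thompson theorem for groups.** -/
theorem gtax (hp2 : p ≠ 2) (𝒜 : Set (Subgroup Ω))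
    (h𝒜 : ∀ A ∈ 𝒜, A ≤ S ∧ IsMulCommutative A) (hne : 𝒜.Nonempty)
    (hrep : ∀ B : Subgroup Ω, B ≤ S → ⁅⁅B, B⁆, B⁆ = ⊥ → (∃ A ∈ 𝒜, ⁅B, B⁆ ≤ A ∧ ¬ B ≤ A) →
      ∃ A ∈ 𝒜, ⁅B, B⁆ ≤ A ∧ ¬ B ≤ A ∧ B ≤ Subgroup.normalizer (A : Set Ω)) :
    ∀ (n : ℕ) (G : Type u) [Group G] [Finite G], Nat.card G = n → ∀ (ι : S →* G), Function.Injective ι →
      ∀ Sy : Sylow p G, (Sy : Subgroup G) = ι.range →
      centralizer (Cfsg.pCore p G : Set G) ≤ Cfsg.pCore p G →
      (∀ Q : Subgroup Ω, Q ≤ S → (∃ A ∈ 𝒜, A ≤ Q) →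
        normalizer (imageAlong ι Q : Set G) ≤
          normalizer (imageAlong ι (sInf {A | A ∈ 𝒜 ∧ A ≤ Q}) : Set G)) →
      Cfsg.HasNormalPComplement p (normalizer (imageAlong ι (sInf 𝒜) : Set G)) →
      Cfsg.HasNormalPComplement p G := by
  intro n
  induction n using Nat.strong_induction_on with
  | _ n ih =>
  intro G _ _ hn ι hinj Sy hSy hc hinv hW
  have hyp := hypAx_image 𝒜 h𝒜 hne hrep ι hinj Sy hSy hinv
  apply npc_of_min hp2 Sy (imageAlong ι '' 𝒜) hyp hc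
  · intro X hSyX hX
    have hιX : ∀ s, ι s ∈ X := fun s => hSyX (by rw [hSy]; exact ⟨s, rfl⟩)
    have hcard : Nat.card X < n := hn ▸ card_subgroup_lt_of_ne_top hX
    apply ih (Nat.card X) hcard X rfl (ι.codRestrict X hιX)
    · intro a b hab
      apply hinj
      exact congrArg Subtype.val hab
    · show ((Sy.subtype hSyX : Sylow p X) : Subgroup X) = _
      rw [Sylow.coe_subtype]
      ext x
      rw [Subgroup.mem_subgroupOf, hSy]
      constructor
      · rintro ⟨s, hs⟩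
        exact ⟨s, Subtype.ext hs⟩
      · rintro ⟨s, hs⟩
        exact ⟨s, congrArg Subtype.val hs⟩
    · exact centralizer_pCore_le_of_sylow_le hc Sy X hSyX
    · intro Q hQS hQ g hg
      rw [← mem_normalizer_map_subtype_iff, imageAlong_codRestrict_map] at hg ⊢
      exact hinv Q hQS hQ hg
    · apply hasNormalPComplement_normalizer_of_subtype
      rw [imageAlong_codRestrict_map]
      exact hW
  · rw [← imageAlong_sInf ι hinj hne]
    exact hW

end main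

end Cfsg.Agent.Helper87.AxGT
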