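import Cfsg.Agent.Helper87.AxGT2
import Cfsg.Agent.Helper2.FusGTD2
import Cfsg.Agent.S5332
import Cfsg.Agent.S5090

/-!
# The axiomatic Glauberman–Thompson criterion for fusion systems (helper87, for S5272)
-/

set_option autoImplicit false

namespace Cfsg.Agent.Helper87.AxGT

open Subgroup Cfsg Cfsg.FusionSystem Cfsg.Agent.Helper85 Cfsg.Agent.Helper87 Cfsg.Agent.Helper2.FusGT

universe u

variable {Ω : Type u} [Group Ω] {S : Subgroup Ω} {p : ℕ} [hp : Fact p.Prime]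

/-- The invariance hypothesis of S5272 for a system `F`. -/
def InvHyp (F : FusionSystem S) (𝒜 : Set (Subgroup Ω)) : Prop :=
  ∀ Q : Subgroup Ω, Q ≤ S → (∃ A ∈ 𝒜, A ≤ Q) → ∀ α ∈ F.autGroup Q, ∀ x : ↥Q,
    (x : Ω) ∈ sInf {A : Subgroup Ω | A ∈ 𝒜 ∧ A ≤ Q} →
    (((α : MulAut ↥Q) x : ↥Q) : Ω) ∈ sInf {A : Subgroup Ω | A ∈ 𝒜 ∧ A ≤ Q}

theorem famIn_S (𝒜 : Set (Subgroup Ω)) (h𝒜 : ∀ A ∈ 𝒜, A ≤ S ∧ IsMulCommutative A) :
    {A : Subgroup Ω | A ∈ 𝒜 ∧ A ≤ S} = 𝒜 := by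
  ext A
  exact ⟨fun h => h.1, fun h => ⟨h, (h𝒜 A h).1⟩⟩

/-- `S` normalizes the intersection of the family. -/
theorem le_normalizer_sInf_of_invHyp [Finite S] (F : FusionSystem S) (𝒜 : Set (Subgroup Ω))
    (h𝒜 : ∀ A ∈ 𝒜, A ≤ S ∧ IsMulCommutative A) (hne : 𝒜.Nonempty) (hinv : InvHyp F 𝒜) :
    S ≤ normalizer ((sInf 𝒜 : Subgroup Ω) : Set Ω) := by
  obtain ⟨A0, hA0⟩ := hne
  have hWS : sInf 𝒜 ≤ S := (sInf_le hA0).trans (h𝒜 A0 hA0).1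
  haveI : Finite ↥(sInf 𝒜) := finite_of_le hWS
  intro s hs
  apply mem_normalizer_of_finite
  intro y hy
  have hconj : conjHom S s ∈ F.Hom S := F.conj_mem le_rfl hs
  have hrange : (conjHom S s).range = S := by
    apply le_antisymm
    · rintro _ ⟨x, rfl⟩
      exact (F.le_of_mem hconj).2 x
    · intro z hz
      refine ⟨⟨s⁻¹ * z * s, S.mul_mem (S.mul_mem (S.inv_mem hs) hz) hs⟩, ?_⟩
      show s * (s⁻¹ * z * s) * s⁻¹ = z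
      group
  have hα : (isoOfRange F hconj hrange : MulAut S) ∈ F.autGroup S :=
    (mem_autGroup_iff F le_rfl _).mpr (isIso_isoOfRange F hconj hrange)
  have h1 := hinv S le_rfl ⟨A0, hA0, (h𝒜 A0 hA0).1⟩ _ hα ⟨y, hWS hy⟩
  rw [famIn_S 𝒜 h𝒜] at h1
  exact h1 hy

/-- The normalizer maps of a subsystem are normalizer maps of the system. -/
theorem normalizerHom_mono {E F : FusionSystem S} (hEF : E ≤ F) (W D : Subgroup Ω) :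
    E.normalizerHom W D ⊆ F.normalizerHom W D := by
  rintro φ ⟨h1, h2, h3, ψ, hψ, h4, h5⟩
  exact ⟨hEF D h1, h2, h3, ψ, hEF _ hψ, h4, h5⟩

/-- A subsystem with a model of a system satisfying the hypotheses of S5272 is inner. -/
theorem conjBy_of_model_ax [Finite S] (hp2 : p ≠ 2) (hS : IsPGroup p S) (F E : FusionSystem S) (hEF : E ≤ F)
    {G : Type u} [Group G] (ι : S →* G) (hmodel : E.IsModel p G ι)
    (𝒜 : Set (Subgroup Ω)) (h𝒜 : ∀ A ∈ 𝒜, A ≤ S ∧ IsMulCommutative A) (hne : 𝒜.Nonempty)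
    (hinv : InvHyp F 𝒜)
    (hrep : ∀ B : Subgroup Ω, B ≤ S → ⁅⁅B, B⁆, B⁆ = ⊥ → (∃ A ∈ 𝒜, ⁅B, B⁆ ≤ A ∧ ¬ B ≤ A) →
      ∃ A ∈ 𝒜, ⁅B, B⁆ ≤ A ∧ ¬ B ≤ A ∧ B ≤ Subgroup.normalizer (A : Set Ω))
    (hW : ∀ (D : Subgroup Ω) (φ : D →* Ω), φ ∈ F.normalizerHom (sInf 𝒜) D → ConjBy S φ) :
    ∀ (D : Subgroup Ω) (φ : D →* Ω), φ ∈ E.Hom D → ConjBy S φ := by
  obtain ⟨hfin, hreal, ⟨Sy, hSy⟩, hc⟩ := hmodel
  haveI : Finite G := hfin
  have hinj : Function.Injective ι := hreal.1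
  obtain ⟨A0, hA0⟩ := hne
  have hWS : sInf 𝒜 ≤ S := (sInf_le hA0).trans (h𝒜 A0 hA0).1
  have hSW : S ≤ normalizer ((sInf 𝒜 : Subgroup Ω) : Set Ω) :=
    le_normalizer_sInf_of_invHyp F 𝒜 h𝒜 ⟨A0, hA0⟩ hinv
  -- the invariance in `G`
  have hinvG : ∀ Q : Subgroup Ω, Q ≤ S → (∃ A ∈ 𝒜, A ≤ Q) →
      normalizer (imageAlong ι Q : Set G) ≤
        normalizer (imageAlong ι (sInf {A | A ∈ 𝒜 ∧ A ≤ Q}) : Set G) := by
    intro Q hQS hQ g hg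
    obtain ⟨A1, hA1, hA1Q⟩ := hQ
    have hA1mem : A1 ∈ ({A | A ∈ 𝒜 ∧ A ≤ Q} : Set (Subgroup Ω)) := ⟨hA1, hA1Q⟩
    have hIQ : sInf {A | A ∈ 𝒜 ∧ A ≤ Q} ≤ Q := (sInf_le hA1mem).trans hA1Q
    haveI : Finite Q := finite_of_le hQS
    have hconjQ : ∀ y : Q, g * ι ⟨y, hQS y.2⟩ * g⁻¹ ∈ imageAlong ι Q := by
      intro y
      exact (Subgroup.mem_normalizer_iff.1 hg _).1 ((mem_imageAlong ι Q _).2 ⟨⟨y, hQS y.2⟩, y.2, rfl⟩)
    have hmem : ∀ y : Q, g * ι ⟨y, hQS y.2⟩ * g⁻¹ ∈ ι.range := by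
      intro y
      obtain ⟨s, -, hs⟩ := (mem_imageAlong ι Q _).1 (hconjQ y)
      exact ⟨s, hs⟩
    obtain ⟨ψ, hψS, hψ⟩ := exists_hom_of_conj ι hinj hQS g hmem
    have hψE : ψ ∈ E.Hom Q := (hreal.2 Q hQS ψ hψS).mpr ⟨g, hψ⟩
    have hψQ : ∀ y : Q, ψ y ∈ Q := by
      intro y
      obtain ⟨s, hs, hs'⟩ := (mem_imageAlong ι Q _).1 (hconjQ y)
      rw [← hψ y] at hs'
      have := hinj hs'
      rw [this] at hs
      exact hs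
    have hrange : ψ.range = Q := by
      have hle : ψ.range ≤ Q := by
        rintro _ ⟨x, rfl⟩
        exact hψQ x
      apply Subgroup.eq_of_le_of_card_ge hle
      exact le_of_eq (Nat.card_congr (MonoidHom.ofInjective (E.injective_of_mem hψE)).toEquiv)
    have hα : (isoOfRange E hψE hrange : MulAut Q) ∈ F.autGroup Q := by
      rw [mem_autGroup_iff F hQS]
      exact hEF Q (isIso_isoOfRange E hψE hrange)
    have hI := hinv Q hQS ⟨A1, hA1, hA1Q⟩ _ hα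
    haveI : Finite ↥(imageAlong ι (sInf {A | A ∈ 𝒜 ∧ A ≤ Q})) := by
      have : imageAlong ι (sInf {A | A ∈ 𝒜 ∧ A ≤ Q}) ≤ ι.range :=
        imageAlong_le ι (S' := ι.range) (fun s => ⟨s, rfl⟩) _
      exact Finite.of_injective (fun x => (x : G)) Subtype.val_injective
    apply mem_normalizer_of_finite
    intro y hy
    obtain ⟨s, hs, rfl⟩ := (mem_imageAlong ι _ _).1 hy
    have hsQ : (s : Ω) ∈ Q := hIQ hs
    have h1 := hI ⟨s, hsQ⟩ hs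
    have h2 : ((isoOfRange E hψE hrange ⟨s, hsQ⟩ : Q) : Ω) = ψ ⟨s, hsQ⟩ := rfl
    have h3 := hψ ⟨s, hsQ⟩
    refine (mem_imageAlong ι _ _).2 ⟨⟨ψ ⟨s, hsQ⟩, hψS _⟩, ?_, h3⟩
    show ψ ⟨s, hsQ⟩ ∈ sInf {A | A ∈ 𝒜 ∧ A ≤ Q}
    exact h2 ▸ h1
  -- the normalizer of the image of `W` has a normal `p`-complement
  have himS : imageAlong ι S = ι.range := by
    ext y
    rw [mem_imageAlong]
    constructor
    · rintro ⟨s, -, rfl⟩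
      exact ⟨s, rfl⟩
    · rintro ⟨s, rfl⟩
      exact ⟨s, s.2, rfl⟩
  have hSyH : (Sy : Subgroup G) ≤ normalizer (imageAlong ι (sInf 𝒜) : Set G) := by
    have h1 := hinvG S le_rfl ⟨A0, hA0, (h𝒜 A0 hA0).1⟩
    rw [famIn_S 𝒜 h𝒜, himS, ← hSy] at h1
    exact Subgroup.le_normalizer.trans h1
  have hW' : ∀ (D : Subgroup Ω) (φ : D →* Ω), φ ∈ E.normalizerHom (sInf 𝒜) D → ConjBy S φ :=
    fun D φ hφ => hW D φ (normalizerHom_mono hEF _ D hφ)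
  have hnpcW : HasNormalPComplement p ↥(normalizer (imageAlong ι (sInf 𝒜) : Set G)) :=
    npc_normalizer_of_conj hS E ι hreal Sy hSy hWS hSW hSyH hW'
  have hnpcG : HasNormalPComplement p G :=
    gtax hp2 𝒜 h𝒜 ⟨A0, hA0⟩ hrep (Nat.card G) G rfl ι hinj Sy hSy hc hinvG hnpcW
  exact conjBy_of_npc E ι hreal Sy hSy hnpcG

/-- The main direction of S5272. -/
theorem inner_of_normalizer_inner [Finite S] (hp2 : p ≠ 2) (hS : IsPGroup p S) (F : FusionSystem S)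
    (hF : F.IsSaturated p)
    (𝒜 : Set (Subgroup Ω)) (h𝒜 : ∀ A ∈ 𝒜, A ≤ S ∧ IsMulCommutative A) (hne : 𝒜.Nonempty)
    (hinv : InvHyp F 𝒜)
    (hrep : ∀ B : Subgroup Ω, B ≤ S → ⁅⁅B, B⁆, B⁆ = ⊥ → (∃ A ∈ 𝒜, ⁅B, B⁆ ≤ A ∧ ¬ B ≤ A) →
      ∃ A ∈ 𝒜, ⁅B, B⁆ ≤ A ∧ ¬ B ≤ A ∧ B ≤ Subgroup.normalizer (A : Set Ω))
    (hW : ∀ (D : Subgroup Ω) (φ : D →* Ω), φ ∈ F.normalizerHom (sInf 𝒜) D → ConjBy S φ) :
    ∀ P : Subgroup Ω, F.Hom P = (innerFusionSystem S).Hom P := by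
  by_contra hnot
  push Not at hnot
  obtain ⟨E, hEF, hcon, P, hP⟩ := Cfsg.Agent.S5332.result p hS F hF hp2 hnot
  obtain ⟨G, _, ι, hmodel⟩ := Cfsg.Agent.S5090.result p hS E hcon
  have h1 := conjBy_of_model_ax hp2 hS F E hEF ι hmodel 𝒜 h𝒜 hne hinv hrep hW
  exact hP (hom_eq_inner_of_forall_conj E h1 P)

end Cfsg.Agent.Helper87.AxGT
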