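import Cfsg.Agent.Lib.ZJ

/-!
# Glauberman's ZJ-theorem for an axiomatic family of abelian subgroups (helper87, for S5272)

`fam` is any nonempty family of abelian subgroups of the Sylow `p`-subgroup `S` of `G` such that
* (invariance) for `P ≤ S` containing a member, `N_G(P)` normalizes the intersection of the members inside `P`;
* (replacement) a class-2 subgroup `B` of `S`, normalized by `S`, not contained in some member containing `⁅B, B⁆`,
  normalizes some such member.
Then, if `G` is `p`-stable on its normal `p`-subgroups and `C_G(O_p(G)) ≤ O_p(G)`, `sInf fam` is normal in `G`.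
The proof is the one of `Cfsg.Agent.Lib.ZJ.sInf_normal`.
-/

set_option autoImplicit false

namespace Cfsg.Agent.Helper87.AxZJ

open Subgroup

variable {G : Type*} [Group G]

/-- The members of the family lying in `P`. -/
def famIn (fam : Set (Subgroup G)) (P : Subgroup G) : Set (Subgroup G) := {A | A ∈ fam ∧ A ≤ P}

section main

variable [Finite G] {p : ℕ} [Fact p.Prime]

/-- Hypotheses on the family. -/
structure HypAx (fam : Set (Subgroup G)) (S : Sylow p G) : Prop where
  le : ∀ A ∈ fam, A ≤ (S : Subgroup G)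
  comm : ∀ A ∈ fam, ∀ x ∈ A, ∀ y ∈ A, x * y = y * x
  nonempty : fam.Nonempty
  inv : ∀ P : Subgroup G, P ≤ (S : Subgroup G) → (famIn fam P).Nonempty →
    normalizer (P : Set G) ≤ normalizer ((sInf (famIn fam P) : Subgroup G) : Set G)
  repl : ∀ B : Subgroup G, B ≤ (S : Subgroup G) → (S : Subgroup G) ≤ normalizer (B : Set G) →
    ⁅⁅B, B⁆, B⁆ = ⊥ → (∃ U ∈ fam, ⁅B, B⁆ ≤ U ∧ ¬ B ≤ U) →
    ∃ A ∈ fam, ⁅B, B⁆ ≤ A ∧ ¬ B ≤ A ∧ B ≤ normalizer (A : Set G)

theorem famIn_sylow {fam : Set (Subgroup G)} {S : Sylow p G} (h : HypAx fam S) :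
    famIn fam (S : Subgroup G) = fam := by
  ext A
  exact ⟨fun hA => hA.1, fun hA => ⟨hA, h.le A hA⟩⟩

theorem hypAx_normalizer_le {fam : Set (Subgroup G)} {S : Sylow p G} (h : HypAx fam S) :
    normalizer ((S : Subgroup G) : Set G) ≤ normalizer ((sInf fam : Subgroup G) : Set G) := by
  have h1 := h.inv (S : Subgroup G) le_rfl (by rw [famIn_sylow h]; exact h.nonempty)
  rwa [famIn_sylow h] at h1

/-- Main lemma: `Z ⊓ B` is normal for every normal `p`-subgroup `B`. -/
theorem ax_inf_normal_aux {fam : Set (Subgroup G)} {S : Sylow p G} (h : HypAx fam S)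
    (hst : ∀ (P : Subgroup G) [P.Normal], IsPGroup p P → Cfsg.IsPStableOn p P) :
    ∀ (n : ℕ) (B : Subgroup G), B.Normal → IsPGroup p B → Nat.card B = n →
      (sInf fam ⊓ B).Normal := by
  intro n
  induction n using Nat.strong_induction_on with
  | _ n ih =>
  intro B hBn hBp hn
  by_contra hnot
  set Z := sInf fam with hZ
  set Z1 := Z ⊓ B with hZ1
  have hBS : B ≤ (S : Subgroup G) := Cfsg.Agent.Lib.normal_pGroup_le_sylow hBn hBp S
  obtain ⟨A0, hA0⟩ := h.nonempty
  have hZle : ∀ A ∈ fam, Z ≤ A := fun A hA => sInf_le hA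
  have hZcomm : ∀ x ∈ Z, ∀ y ∈ Z, x * y = y * x := fun x hx y hy =>
    h.comm A0 hA0 x (hZle A0 hA0 hx) y (hZle A0 hA0 hy)
  have hSZ : (S : Subgroup G) ≤ normalizer (Z : Set G) := by
    exact Subgroup.le_normalizer.trans (hypAx_normalizer_le h)
  -- Step 1: `B` is the normal closure of `Z1`
  have hB1 : Subgroup.normalClosure (Z1 : Set G) = B := by
    by_contra hne
    have hle : Subgroup.normalClosure (Z1 : Set G) ≤ B :=
      Subgroup.normalClosure_le_normal (show (Z1 : Set G) ⊆ B from fun x hx => hx.2)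
    have hlt : Subgroup.normalClosure (Z1 : Set G) < B := lt_of_le_of_ne hle hne
    have hcard : Nat.card (Subgroup.normalClosure (Z1 : Set G)) < n := hn ▸ Cfsg.Agent.Lib.ZJ.card_lt_of_lt hlt
    have := ih _ hcard (Subgroup.normalClosure (Z1 : Set G)) inferInstance (hBp.to_le hle) rfl
    have heq : Z ⊓ Subgroup.normalClosure (Z1 : Set G) = Z1 :=
      le_antisymm (inf_le_inf_left Z hle) (le_inf inf_le_left Subgroup.le_normalClosure)
    rw [heq] at this
    exact hnot this
  have hcl : ∀ N : Subgroup G, N.Normal → Z1 ≤ N → B ≤ N := by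
    intro N hN hle
    rw [← hB1]
    exact Subgroup.normalClosure_le_normal hle
  -- Step 2
  have hBne : B ≠ ⊥ := by
    intro hb
    apply hnot
    rw [hZ1, hb, inf_bot_eq]
    infer_instance
  have hB'n : (⁅B, B⁆ : Subgroup G).Normal := Subgroup.commutator_normal B B
  have hB'le : ⁅B, B⁆ ≤ B := Subgroup.commutator_le_left B B
  have hWn : (Z ⊓ ⁅B, B⁆).Normal :=
    ih _ (hn ▸ Cfsg.Agent.Lib.ZJ.card_commutator_lt hBp hBne) ⁅B, B⁆ hB'n (hBp.to_le hB'le) rfl
  set W := Z ⊓ ⁅B, B⁆ with hW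
  -- Step 3
  have hBW : B ≤ centralizer (W : Set G) := by
    apply hcl _ inferInstance
    intro z hz
    rw [Subgroup.mem_centralizer_iff]
    intro w hw
    exact hZcomm w hw.1 z hz.1
  have hBZ1 : ⁅B, Z1⁆ ≤ W := by
    rw [Subgroup.commutator_le]
    intro b hb z hz
    refine ⟨?_, Subgroup.commutator_mem_commutator hb hz.2⟩
    have hbN := hSZ (hBS hb)
    have h1 : b * z * b⁻¹ ∈ Z := (Subgroup.mem_normalizer_iff.1 hbN z).1 hz.1
    rw [commutatorElement_def]
    exact Z.mul_mem h1 (Z.inv_mem hz.1)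
  have hB'W : ⁅B, B⁆ ≤ W := by
    have h1 : Z1 ≤ Cfsg.Agent.Helper70.centralizerMod B W := (Cfsg.Agent.Helper70.le_centralizerMod_iff B W Z1).2 hBZ1
    have hnorm : (Cfsg.Agent.Helper70.centralizerMod B W).Normal := by
      unfold Cfsg.Agent.Helper70.centralizerMod
      have : (B.map (QuotientGroup.mk' W)).Normal :=
        Subgroup.Normal.map hBn _ (QuotientGroup.mk'_surjective W)
      exact Subgroup.Normal.comap inferInstance _
    have h2 := hcl _ hnorm h1
    exact (Cfsg.Agent.Helper70.le_centralizerMod_iff B W B).1 h2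
  have hcl2 : ⁅⁅B, B⁆, B⁆ = ⊥ := by
    rw [Subgroup.commutator_eq_bot_iff_le_centralizer]
    intro x hx
    have hxW := hB'W hx
    rw [Subgroup.mem_centralizer_iff]
    intro b hb
    have := hBW hb
    rw [Subgroup.mem_centralizer_iff] at this
    exact (this x hxW).symm
  -- Step 4
  have hex : ∃ U ∈ fam, ⁅B, B⁆ ≤ U ∧ ¬ B ≤ U := by
    by_contra hcon
    push Not at hcon
    apply hnot
    have : B ≤ Z := le_sInf fun U hU => hcon U hU ((hB'W.trans inf_le_left).trans (hZle U hU))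
    rw [hZ1, inf_eq_right.2 this]
    exact hBn
  have hSB : (S : Subgroup G) ≤ normalizer (B : Set G) := by
    rw [Subgroup.normalizer_eq_top_iff.2 hBn]; exact le_top
  obtain ⟨A, hA, hB'A, hBA, hBNA⟩ := h.repl B hBS hSB hcl2 hex
  -- Step 5
  set C := centralizer (B : Set G) with hC
  have hCn : C.Normal := inferInstance
  set L0 := (Cfsg.pCore p (G ⧸ C)).comap (QuotientGroup.mk' C) with hL0
  have hAL0 : A ≤ L0 := by
    intro a ha
    have hstB := @hst B hBn hBp
    apply hstB a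
    rw [eq_bot_iff]
    have h1 : ⁅B, zpowers a⁆ ≤ A :=
      (Subgroup.commutator_mono le_rfl ((Subgroup.zpowers_le).2 ha)).trans
        (Cfsg.Agent.Lib.ZJ.commutator_le_of_le_normalizer hBNA)
    calc ⁅⁅B, zpowers a⁆, zpowers a⁆ ≤ ⁅A, A⁆ :=
          Subgroup.commutator_mono h1 ((Subgroup.zpowers_le).2 ha)
      _ = ⊥ := Cfsg.Agent.Lib.ZJ.commutator_eq_bot_of_comm (h.comm A hA)
  -- Step 6
  have hpCn : (Cfsg.pCore p (G ⧸ C)).Normal := by
    have := Cfsg.Agent.Lib.pCore_characteristic (G := G ⧸ C) p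
    infer_instance
  have hL0n : L0.Normal := Subgroup.Normal.comap hpCn _
  set P0 := (S : Subgroup G) ⊓ L0 with hP0
  have hfrat : normalizer (P0 : Set G) ⊔ L0 = ⊤ := by
    have := Sylow.normalizer_sup_eq_top (Cfsg.Agent.Helper53.sylowInfNormal S L0)
    rw [Cfsg.Agent.Helper53.coe_sylowInfNormal, Subgroup.subgroupOf_map_subtype] at this
    exact this
  have hCL0 : C ≤ L0 := by
    intro c hc
    rw [hL0, Subgroup.mem_comap]
    have : (QuotientGroup.mk' C c) = 1 := (QuotientGroup.eq_one_iff c).2 hc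
    rw [this]; exact one_mem _
  have hP0L0 : P0 ≤ L0 := inf_le_right
  have hL0eq : L0 ≤ C ⊔ P0 := by
    have hK : C ⊔ P0 ≤ L0 := sup_le hCL0 hP0L0
    have h1 : (C ⊔ P0).relIndex L0 ∣ C.relIndex L0 := Subgroup.relIndex_dvd_of_le_left L0 le_sup_left
    have h2 : (C ⊔ P0).relIndex L0 ∣ P0.relIndex L0 := Subgroup.relIndex_dvd_of_le_left L0 le_sup_right
    have h3 : ∃ k : ℕ, C.relIndex L0 = p ^ k := by
      have hker : C = (⊥ : Subgroup (G ⧸ C)).comap (QuotientGroup.mk' C) := by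
        rw [MonoidHom.comap_bot, QuotientGroup.ker_mk']
      have hmap : L0.map (QuotientGroup.mk' C) = Cfsg.pCore p (G ⧸ C) :=
        Subgroup.map_comap_eq_self_of_surjective (QuotientGroup.mk'_surjective C) _
      have h4 : C.relIndex L0 = Nat.card (Cfsg.pCore p (G ⧸ C)) := by
        conv_lhs => rw [hker]
        rw [Subgroup.relIndex_comap, hmap, Subgroup.relIndex_bot_left]
      rw [h4]
      exact (IsPGroup.iff_card).1 (Cfsg.Agent.Lib.isPGroup_pCore p)
    have h5 : ¬ p ∣ P0.relIndex L0 := by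
      rw [hP0, Subgroup.inf_relIndex_right]
      exact Cfsg.Agent.Helper53.not_dvd_relIndex_sylow_of_normal S L0
    obtain ⟨k, hk⟩ := h3
    rw [hk] at h1
    obtain ⟨j, -, hj⟩ := (Nat.dvd_prime_pow (Fact.out : p.Prime)).1 h1
    have hj0 : j = 0 := by
      by_contra hj0
      apply h5
      have : p ∣ (C ⊔ P0).relIndex L0 := by rw [hj]; exact dvd_pow_self p hj0
      exact this.trans h2
    rw [hj0, pow_zero] at hj
    exact Subgroup.relIndex_eq_one.1 hj
  -- Step 7
  set X0 := sInf (famIn fam P0) with hX0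
  have hAin : A ∈ famIn fam P0 := ⟨hA, le_inf (h.le A hA) hAL0⟩
  have hX0A : X0 ≤ A := sInf_le hAin
  have hZX0 : Z ≤ X0 := le_sInf fun A' hA' => hZle A' hA'.1
  set M := normalizer ((X0 ⊓ B : Subgroup G) : Set G) with hM
  have hNM : normalizer (P0 : Set G) ≤ M := by
    intro g hg
    have h1 := h.inv P0 inf_le_left ⟨A, hAin⟩ hg
    rw [Subgroup.mem_normalizer_iff] at h1 ⊢
    intro x
    have hBg : x ∈ B ↔ g * x * g⁻¹ ∈ B :=
      ⟨fun hx => hBn.conj_mem x hx g, fun hx => by
        have := hBn.conj_mem _ hx g⁻¹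
        simpa [mul_assoc] using this⟩
    rw [Subgroup.mem_inf, Subgroup.mem_inf, h1 x, hBg]
  have hCM : C ≤ M := by
    intro c hc
    rw [Subgroup.mem_normalizer_iff]
    intro x
    constructor
    · intro hx
      have h3 : c * x * c⁻¹ = x := by
        have := (Subgroup.mem_centralizer_iff.1 hc) x hx.2
        rw [← this]; group
      rw [h3]; exact hx
    · intro hx
      have hxB : c * x * c⁻¹ ∈ B := hx.2
      have hcomm := (Subgroup.mem_centralizer_iff.1 hc) _ hxB
      have h3 : x = c * x * c⁻¹ := by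
        have h4 : c * x = c * (c * x * c⁻¹) := by rw [← hcomm]; group
        exact mul_left_cancel h4
      rw [h3]; exact hx
  have hP0M : P0 ≤ M := Subgroup.le_normalizer.trans hNM
  have hMtop : M = ⊤ := by
    rw [eq_top_iff, ← hfrat]
    exact sup_le hNM (hL0eq.trans (sup_le hCM hP0M))
  have hXBn : (X0 ⊓ B).Normal := Subgroup.normalizer_eq_top_iff.1 hMtop
  have hBX : B ≤ X0 ⊓ B := hcl _ hXBn (inf_le_inf_right B hZX0)
  exact hBA ((hBX.trans inf_le_left).trans hX0A)

theorem ax_inf_normal {fam : Set (Subgroup G)} {S : Sylow p G} (h : HypAx fam S)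
    (hst : ∀ (P : Subgroup G) [P.Normal], IsPGroup p P → Cfsg.IsPStableOn p P)
    (B : Subgroup G) [hB : B.Normal] (hBp : IsPGroup p B) :
    (sInf fam ⊓ B).Normal :=
  ax_inf_normal_aux h hst _ B hB hBp rfl

/-- **Glauberman's ZJ-theorem**, generic form. -/
theorem ax_sInf_normal {fam : Set (Subgroup G)} {S : Sylow p G} (h : HypAx fam S)
    (hst : ∀ (P : Subgroup G) [P.Normal], IsPGroup p P → Cfsg.IsPStableOn p P)
    (hc : centralizer (Cfsg.pCore p G : Set G) ≤ Cfsg.pCore p G) :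
    (sInf fam).Normal := by
  have hQn : (Cfsg.pCore p G).Normal := by
    have := Cfsg.Agent.Lib.pCore_characteristic (G := G) p
    infer_instance
  have hQp : IsPGroup p (Cfsg.pCore p G) := Cfsg.Agent.Lib.isPGroup_pCore p
  set Q := Cfsg.pCore p G with hQ
  set Z := sInf fam with hZ
  obtain ⟨A0, hA0⟩ := h.nonempty
  have hZle : ∀ A ∈ fam, Z ≤ A := fun A hA => sInf_le hA
  have hZcomm : ∀ x ∈ Z, ∀ y ∈ Z, x * y = y * x := fun x hx y hy =>
    h.comm A0 hA0 x (hZle A0 hA0 hx) y (hZle A0 hA0 hy)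
  have hSZ : (S : Subgroup G) ≤ normalizer (Z : Set G) := by
    exact Subgroup.le_normalizer.trans (hypAx_normalizer_le h)
  have hQS : Q ≤ (S : Subgroup G) := Cfsg.Agent.Lib.pCore_le_sylow S
  have hZQ : Z ≤ Q := by
    intro z hz
    have hstQ := @hst Q hQn hQp
    have h1 : ⁅Q, zpowers z⁆ ≤ Z :=
      (Subgroup.commutator_mono le_rfl ((Subgroup.zpowers_le).2 hz)).trans
        (Cfsg.Agent.Lib.ZJ.commutator_le_of_le_normalizer (hQS.trans hSZ))
    have h2 : ⁅⁅Q, zpowers z⁆, zpowers z⁆ = ⊥ := by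
      rw [eq_bot_iff]
      calc ⁅⁅Q, zpowers z⁆, zpowers z⁆ ≤ ⁅Z, Z⁆ :=
            Subgroup.commutator_mono h1 ((Subgroup.zpowers_le).2 hz)
        _ = ⊥ := Cfsg.Agent.Lib.ZJ.commutator_eq_bot_of_comm hZcomm
    have h3 := hstQ z h2
    exact Cfsg.Agent.Lib.ZJ.comap_pCore_quotient_centralizer_le hc (Subgroup.mem_comap.2 h3)
  have := ax_inf_normal h hst Q hQp
  rwa [inf_eq_left.2 hZQ] at this

end main

end Cfsg.Agent.Helper87.AxZJ
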