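import Mathlib
set_option autoImplicit false

namespace Cfsg.Agent.Helper87

/-- Evaluating a finite sum of endomorphisms. -/
theorem end_sum_apply {M : Type*} [AddCommGroup M] {ι : Type*} (s : Finset ι) (g : ι → AddMonoid.End M) (x : M) :
    (∑ i ∈ s, g i) x = ∑ i ∈ s, (g i) x := by
  classical
  induction s using Finset.induction_on with
  | empty => simp
  | insert i s hi ih =>
    rw [Finset.sum_insert hi, Finset.sum_insert hi, ← ih]
    rfl

/-- The binomial expansion of `(ν + 1) ^ n` evaluated at `x`. -/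
theorem binom_apply {M : Type*} [AddCommGroup M] (ν : AddMonoid.End M) (n : ℕ) (x : M) :
    ((ν + 1) ^ n) x = ∑ m ∈ Finset.range (n + 1), n.choose m • (ν ^ m) x := by
  rw [(Commute.one_right ν).add_pow n, end_sum_apply]
  apply Finset.sum_congr rfl
  intro m _
  rw [one_pow, mul_one]
  show (ν ^ m) ((n.choose m : AddMonoid.End M) x) = _
  rw [AddMonoid.End.natCast_apply, map_nsmul]


/-- The subgroup `k M` of multiples of `k`. -/
def smulRange (M : Type*) [AddCommGroup M] (k : ℕ) : AddSubgroup M := (nsmulAddMonoidHom (α := M) k).range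

theorem mem_smulRange {M : Type*} [AddCommGroup M] (k : ℕ) (x : M) : x ∈ smulRange M k ↔ ∃ y, k • y = x :=
  Iff.rfl

theorem end_apply_mem_smulRange {M : Type*} [AddCommGroup M] (k : ℕ) (f : AddMonoid.End M) {x : M}
    (hx : x ∈ smulRange M k) : f x ∈ smulRange M k := by
  obtain ⟨y, rfl⟩ := hx
  exact ⟨f y, (map_nsmul f k y).symm⟩

theorem nsmul_mem_smulRange_mul {M : Type*} [AddCommGroup M] (k l : ℕ) {x : M} (hx : x ∈ smulRange M l) :
    k • x ∈ smulRange M (k * l) := by
  obtain ⟨y, rfl⟩ := hx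
  exact ⟨y, by show (k * l) • y = k • (l • y); rw [mul_smul]⟩

theorem pow_succ_apply {M : Type*} [AddCommGroup M] (ν : AddMonoid.End M) (i j : ℕ) (x : M) :
    (ν ^ (i + j)) x = (ν ^ i) ((ν ^ j) x) := by
  rw [pow_add]
  rfl

/-- If `(ν + 1) ^ p = 1` then `ν ^ p` has values in `p M`. -/
theorem pow_apply_mem_smulRange {M : Type*} [AddCommGroup M] {p : ℕ} (hp : p.Prime) (ν : AddMonoid.End M)
    (h : (ν + 1) ^ p = 1) (x : M) : (ν ^ p) x ∈ smulRange M p := by
  have h1 := binom_apply ν p x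
  rw [h] at h1
  obtain ⟨q, rfl⟩ : ∃ q, p = q + 1 := ⟨p - 1, by have := hp.pos; omega⟩
  rw [Finset.sum_range_succ, Finset.sum_range_succ'] at h1
  simp only [Nat.choose_zero_right, pow_zero, Nat.choose_self, one_smul] at h1
  have h2 : (ν ^ (q + 1)) x = - ∑ i ∈ Finset.range q, (q + 1).choose (i + 1) • (ν ^ (i + 1)) x := by
    have h3 : (1 : AddMonoid.End M) x = x := rfl
    rw [h3] at h1
    have h4 : ∑ i ∈ Finset.range q, (q + 1).choose (i + 1) • (ν ^ (i + 1)) x + (ν ^ (q + 1)) x = 0 := by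
      have : x = (∑ i ∈ Finset.range q, (q + 1).choose (i + 1) • (ν ^ (i + 1)) x + (ν ^ (q + 1)) x) + x := by
        rw [add_right_comm]
        exact h1
      exact right_eq_add.mp this
    exact eq_neg_of_add_eq_zero_right h4
  rw [h2]
  apply AddSubgroup.neg_mem
  apply AddSubgroup.sum_mem
  intro i hi
  rw [Finset.mem_range] at hi
  obtain ⟨c, hc⟩ := hp.dvd_choose_self (Nat.succ_ne_zero i) (by omega : i + 1 < q + 1)
  rw [hc, mul_smul]
  exact ⟨_, rfl⟩


/-- The chain `D j = ν ^ j M + p M`. -/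
def imChain {M : Type*} [AddCommGroup M] (ν : AddMonoid.End M) (p : ℕ) : ℕ → AddSubgroup M
  | 0 => ⊤
  | j + 1 => (imChain ν p j).map ν ⊔ smulRange M p

theorem imChain_succ {M : Type*} [AddCommGroup M] (ν : AddMonoid.End M) (p j : ℕ) :
    imChain ν p (j + 1) = (imChain ν p j).map ν ⊔ smulRange M p := rfl

theorem imChain_succ_le {M : Type*} [AddCommGroup M] (ν : AddMonoid.End M) (p j : ℕ) :
    imChain ν p (j + 1) ≤ imChain ν p j := by
  induction j with
  | zero => exact le_top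
  | succ j ih =>
    rw [imChain_succ ν p (j + 1), imChain_succ ν p j]
    exact sup_le_sup_right (AddSubgroup.map_mono ih) _

theorem smulRange_le_imChain {M : Type*} [AddCommGroup M] (ν : AddMonoid.End M) (p j : ℕ) :
    smulRange M p ≤ imChain ν p j := by
  cases j with
  | zero => exact le_top
  | succ j => exact le_sup_right

theorem exists_of_mem_imChain {M : Type*} [AddCommGroup M] (ν : AddMonoid.End M) (p j : ℕ) (z : M)
    (hz : z ∈ imChain ν p j) : ∃ y, z - (ν ^ j) y ∈ smulRange M p := by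
  induction j generalizing z with
  | zero => exact ⟨z, by rw [pow_zero]; show z - z ∈ _; rw [sub_self]; exact zero_mem _⟩
  | succ j ih =>
    rw [imChain_succ, AddSubgroup.mem_sup] at hz
    obtain ⟨a, ⟨z', hz', rfl⟩, b, hb, rfl⟩ := hz
    obtain ⟨y, hy⟩ := ih z' hz'
    refine ⟨y, ?_⟩
    have e : ν z' + b - (ν ^ (j + 1)) y = ν (z' - (ν ^ j) y) + b := by
      rw [pow_succ', map_sub]
      show ν z' + b - ν ((ν ^ j) y) = _
      abel
    have h3 : ν z' + b - (ν ^ (j + 1)) y ∈ smulRange M p := by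
      rw [e]
      exact add_mem (end_apply_mem_smulRange p ν hy) hb
    exact h3

theorem imChain_le_of_pow {M : Type*} [AddCommGroup M] (ν : AddMonoid.End M) (p j : ℕ)
    (h : ∀ x, (ν ^ j) x ∈ smulRange M p) : imChain ν p j ≤ smulRange M p := by
  intro z hz
  obtain ⟨y, hy⟩ := exists_of_mem_imChain ν p j z hz
  have : z = (z - (ν ^ j) y) + (ν ^ j) y := by abel
  rw [this]
  exact add_mem hy (h y)

theorem imChain_stab {M : Type*} [AddCommGroup M] (ν : AddMonoid.End M) (p j : ℕ)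
    (h : imChain ν p j = imChain ν p (j + 1)) (k : ℕ) : imChain ν p (j + k) = imChain ν p j := by
  induction k with
  | zero => rfl
  | succ k ih =>
    rw [← add_assoc, imChain_succ, ih, ← imChain_succ]
    exact h.symm

theorem apply_apply_mem_imChain {M : Type*} [AddCommGroup M] (ν : AddMonoid.End M) (p : ℕ) (x : M) :
    ν (ν x) ∈ imChain ν p 2 := by
  have h1 : ν x ∈ imChain ν p 1 := by
    rw [imChain_succ]
    exact le_sup_left (α := AddSubgroup M) ⟨x, AddSubgroup.mem_top x, rfl⟩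
  rw [imChain_succ]
  exact le_sup_left (α := AddSubgroup M) ⟨ν x, h1, rfl⟩

theorem eq_one_of_mul_mul_dvd_sq {p : ℕ} (hp : p.Prime) (a b c : ℕ) (h : a * b * c ∣ p ^ 2) :
    a = 1 ∨ b = 1 ∨ c = 1 := by
  obtain ⟨k, hk, hk'⟩ := (Nat.dvd_prime_pow hp).mp h
  obtain ⟨i, -, hi⟩ := (Nat.dvd_prime_pow hp).mp (Dvd.intro _ hk' : a * b ∣ p ^ k)
  obtain ⟨i1, -, hi1⟩ := (Nat.dvd_prime_pow hp).mp (Dvd.intro _ hi : a ∣ p ^ i)
  obtain ⟨i2, -, hi2⟩ := (Nat.dvd_prime_pow hp).mp (Dvd.intro_left _ hi : b ∣ p ^ i)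
  obtain ⟨i3, -, hi3⟩ := (Nat.dvd_prime_pow hp).mp (Dvd.intro_left _ hk' : c ∣ p ^ k)
  rw [hi1, hi2, hi3, ← pow_add, ← pow_add] at hk'
  have := Nat.pow_right_injective hp.two_le hk'
  have h3 : i1 = 0 ∨ i2 = 0 ∨ i3 = 0 := by omega
  rcases h3 with h0 | h0 | h0
  · left; rw [hi1, h0, pow_zero]
  · right; left; rw [hi2, h0, pow_zero]
  · right; right; rw [hi3, h0, pow_zero]

/-- If `(ν + 1) ^ p = 1` and `M / p M` has order dividing `p ^ 2` then `ν ^ 2` has values in `p M`. -/
theorem sq_apply_mem_smulRange {M : Type*} [AddCommGroup M] {p : ℕ} (hp : p.Prime) (ν : AddMonoid.End M)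
    (h : (ν + 1) ^ p = 1) (hidx : (smulRange M p).index ∣ p ^ 2) (x : M) : ν (ν x) ∈ smulRange M p := by
  have hDp : imChain ν p p ≤ smulRange M p := imChain_le_of_pow ν p p (pow_apply_mem_smulRange hp ν h)
  have h2p : 2 ≤ p := hp.two_le
  have key : imChain ν p 2 ≤ smulRange M p := by
    have hmul := AddSubgroup.relIndex_mul_relIndex (smulRange M p) (imChain ν p 2) (imChain ν p 1)
      (smulRange_le_imChain ν p 2) (imChain_succ_le ν p 1)
    have hmul2 := AddSubgroup.relIndex_mul_relIndex (smulRange M p) (imChain ν p 1) (imChain ν p 0)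
      (smulRange_le_imChain ν p 1) (imChain_succ_le ν p 0)
    have h0 : imChain ν p 0 = ⊤ := rfl
    rw [h0] at hmul2
    simp only [AddSubgroup.relIndex_top_right] at hmul2
    rw [← hmul] at hmul2
    rw [← hmul2] at hidx
    rcases eq_one_of_mul_mul_dvd_sq hp _ _ _ hidx with h1 | h1 | h1
    · exact AddSubgroup.relIndex_eq_one.mp h1
    · have h12 : imChain ν p 1 = imChain ν p 2 :=
        le_antisymm (AddSubgroup.relIndex_eq_one.mp h1) (imChain_succ_le ν p 1)
      have h3 := imChain_stab ν p 1 h12 (p - 1)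
      have h4 : 1 + (p - 1) = p := by omega
      rw [h4] at h3
      rw [← h12, ← h3]
      exact hDp
    · have h01 : imChain ν p 0 = imChain ν p 1 :=
        le_antisymm (by rw [h0, AddSubgroup.index_eq_one.mp h1]) (imChain_succ_le ν p 0)
      have h3 := imChain_stab ν p 0 h01 p
      rw [zero_add] at h3
      have h5 := imChain_stab ν p 0 h01 2
      rw [zero_add] at h5
      rw [h5, ← h3]
      exact hDp
  exact key (apply_apply_mem_imChain ν p x)


/-- If `(ν + 1) ^ p = 1`, `p ≥ 5`, `ν ^ 2 M ≤ p M` and the elements of `M` killed by `p` lie in `p M`, then `ν M ≤ p M`. -/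
theorem apply_mem_smulRange_of_pow_eq_one {M : Type*} [AddCommGroup M] {p : ℕ} (hp : p.Prime) (h5 : 5 ≤ p)
    (ν : AddMonoid.End M) (h : (ν + 1) ^ p = 1) (h1 : ∀ x, ν (ν x) ∈ smulRange M p)
    (h2 : ∀ x : M, p • x = 0 → x ∈ smulRange M p) (x : M) : ν x ∈ smulRange M p := by
  have hb := binom_apply ν p x
  rw [h] at hb
  obtain ⟨q, rfl⟩ : ∃ q, p = q + 2 := ⟨p - 2, by omega⟩
  rw [Finset.sum_range_succ', Finset.sum_range_succ'] at hb
  simp only [Nat.choose_zero_right, pow_zero, one_smul, zero_add, Nat.choose_one_right, pow_one] at hb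
  have h3 : (1 : AddMonoid.End M) x = x := rfl
  rw [h3] at hb
  -- the second powers
  have hsq : ∀ (i : ℕ) (w : M), (ν ^ (i + 2)) w ∈ smulRange M (q + 2) := by
    intro i w
    rw [pow_succ_apply]
    apply end_apply_mem_smulRange
    exact h1 w
  have hfour : ∀ (i : ℕ) (w : M), (ν ^ (i + 4)) w ∈ smulRange M ((q + 2) * (q + 2)) := by
    intro i w
    rw [pow_succ_apply]
    apply end_apply_mem_smulRange
    have e : (ν ^ 4) w = ν (ν (ν (ν w))) := rfl
    rw [e]
    obtain ⟨y, hy⟩ := h1 w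
    have hy' : (q + 2) • y = ν (ν w) := hy
    rw [← hy', map_nsmul, map_nsmul]
    exact nsmul_mem_smulRange_mul _ _ (h1 y)
  have hterms : ∑ i ∈ Finset.range (q + 1), (q + 2).choose (i + 1 + 1) • (ν ^ (i + 1 + 1)) x ∈
      smulRange M ((q + 2) * (q + 2)) := by
    apply AddSubgroup.sum_mem
    intro i hi
    rw [Finset.mem_range] at hi
    rcases Nat.lt_succ_iff_lt_or_eq.mp hi with hlt | heq
    · obtain ⟨c, hc⟩ := hp.dvd_choose_self (Nat.succ_ne_zero (i + 1)) (by omega : i + 1 + 1 < q + 2)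
      rw [hc]
      obtain ⟨y, hy⟩ := hsq i x
      have hy' : (q + 2) • y = (ν ^ (i + 1 + 1)) x := hy
      rw [← hy']
      refine ⟨c • y, ?_⟩
      show ((q + 2) * (q + 2)) • (c • y) = ((q + 2) * c) • ((q + 2) • y)
      rw [smul_smul, smul_smul]
      congr 1
      ring
    · have e1 : (q + 2).choose (i + 1 + 1) = 1 := by rw [heq]; exact Nat.choose_self (q + 2)
      have e2 : (ν ^ (i + 1 + 1)) x = (ν ^ ((q - 2) + 4)) x := by congr 2; omega
      rw [e1, one_smul, e2]
      exact hfour _ x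
  have hsum : ∑ i ∈ Finset.range (q + 1), (q + 2).choose (i + 1 + 1) • (ν ^ (i + 1 + 1)) x + (q + 2) • ν x = 0 := by
    have : x = (∑ i ∈ Finset.range (q + 1), (q + 2).choose (i + 1 + 1) • (ν ^ (i + 1 + 1)) x + (q + 2) • ν x) + x := hb
    exact right_eq_add.mp this
  have hpν : (q + 2) • ν x ∈ smulRange M ((q + 2) * (q + 2)) := by
    have : (q + 2) • ν x = - ∑ i ∈ Finset.range (q + 1), (q + 2).choose (i + 1 + 1) • (ν ^ (i + 1 + 1)) x :=
      eq_neg_of_add_eq_zero_right hsum
    rw [this]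
    exact AddSubgroup.neg_mem _ hterms
  obtain ⟨w, hw⟩ := hpν
  have hw' : ((q + 2) * (q + 2)) • w = (q + 2) • ν x := hw
  have hker : (q + 2) • (ν x - (q + 2) • w) = 0 := by
    rw [smul_sub, ← hw', mul_smul, sub_self]
  have h4 := h2 _ hker
  have : ν x = (ν x - (q + 2) • w) + (q + 2) • w := by abel
  rw [this]
  exact add_mem h4 ⟨w, rfl⟩

end Cfsg.Agent.Helper87
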