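import Cfsg.Agent.Helper87.Binomial
set_option autoImplicit false

namespace Cfsg.Agent.Helper87

/-- For finite `M`, the index of `k M` is the number of elements killed by `k`. -/
theorem index_smulRange {M : Type*} [AddCommGroup M] [Finite M] (k : ℕ) :
    (smulRange M k).index = Nat.card (nsmulAddMonoidHom (α := M) k).ker := by
  have h1 := AddSubgroup.card_mul_index (nsmulAddMonoidHom (α := M) k).ker
  have h2 := AddSubgroup.card_mul_index (nsmulAddMonoidHom (α := M) k).range
  rw [AddSubgroup.index_ker] at h1
  have hpos : 0 < Nat.card (nsmulAddMonoidHom (α := M) k).range := Nat.card_pos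
  have h3 : Nat.card (nsmulAddMonoidHom (α := M) k).range * (nsmulAddMonoidHom (α := M) k).range.index =
      Nat.card (nsmulAddMonoidHom (α := M) k).range * Nat.card (nsmulAddMonoidHom (α := M) k).ker := by
    rw [h2, mul_comm, h1]
  exact Nat.eq_of_mul_eq_mul_left hpos h3

/-- Automorphisms of a commutative group as endomorphisms of its additive version. -/
def autToEnd (T : Type*) [CommGroup T] : MulAut T →* AddMonoid.End (Additive T) where
  toFun α := MonoidHom.toAdditive α.toMonoidHom
  map_one' := rfl
  map_mul' _ _ := rfl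

theorem autToEnd_apply {T : Type*} [CommGroup T] (α : MulAut T) (x : Additive T) :
    autToEnd T α x = Additive.ofMul (α (Additive.toMul x)) := rfl

/-- An automorphism of order dividing `p ≥ 5` of a finite commutative group `T` with at most `p ^ 2` elements of order
dividing `p`, all of them `p`-th powers, is trivial modulo `p`-th powers. -/
theorem aut_trivial_mod_pow {T : Type*} [CommGroup T] [Finite T] {p : ℕ} (hp : p.Prime) (h5 : 5 ≤ p)
    (hΩ : Nat.card {t : T // t ^ p = 1} ∣ p ^ 2) (h2 : ∀ x : T, x ^ p = 1 → ∃ y, x = y ^ p)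
    (α : MulAut T) (hα : α ^ p = 1) (x : T) : ∃ y : T, x⁻¹ * α x = y ^ p := by
  have hfin : Finite (Additive T) := inferInstanceAs (Finite T)
  set a : AddMonoid.End (Additive T) := autToEnd T α with ha
  have hap : a ^ p = 1 := by rw [ha, ← map_pow, hα, map_one]
  set ν : AddMonoid.End (Additive T) := a - 1 with hν
  have hνa : ν + 1 = a := sub_add_cancel a 1
  have hidx : (smulRange (Additive T) p).index ∣ p ^ 2 := by
    rw [index_smulRange]
    have e : Nat.card (nsmulAddMonoidHom (α := Additive T) p).ker = Nat.card {t : T // t ^ p = 1} := by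
      apply Nat.card_congr
      refine Equiv.subtypeEquiv Additive.toMul ?_
      intro y
      rw [AddMonoidHom.mem_ker]
      exact Iff.rfl
    rw [e]
    exact hΩ
  have h1 : ∀ y, ν (ν y) ∈ smulRange (Additive T) p :=
    sq_apply_mem_smulRange hp ν (by rw [hνa]; exact hap) hidx
  have h2' : ∀ y : Additive T, p • y = 0 → y ∈ smulRange (Additive T) p := by
    intro y hy
    obtain ⟨z, hz⟩ := h2 (Additive.toMul y) hy
    exact ⟨Additive.ofMul z, hz.symm⟩
  obtain ⟨y, hy⟩ := apply_mem_smulRange_of_pow_eq_one hp h5 ν (by rw [hνa]; exact hap) h1 h2' (Additive.ofMul x)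
  refine ⟨Additive.toMul y, ?_⟩
  have hy' : p • y = ν (Additive.ofMul x) := hy
  have e1 : ν (Additive.ofMul x) = Additive.ofMul (α x) - Additive.ofMul x := rfl
  rw [e1] at hy'
  have e2 := congrArg Additive.toMul hy'
  rw [toMul_nsmul, toMul_sub, toMul_ofMul, toMul_ofMul] at e2
  rw [e2, div_eq_mul_inv, mul_comm]

end Cfsg.Agent.Helper87
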