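import Mathlib
import Cfsg.Agent.Helper44.CT.Defs
import Cfsg.Agent.Helper87.CT_E9

/-!
helper87 -> helper44 (S3351 Curtis–Tits farm #15082), leaves (E7) `zeta_comm_o` and (E8) `zeta_add`.
-/

set_option autoImplicit false

namespace Cfsg.Agent.Helper87.CT

open Cfsg.Agent.Helper44.CT Cfsg.Agent.Helper96.StN Cfsg.Agent.Helper34.StNF
open scoped commutatorElement

universe u v w

section main

variable {K : Type u} [Field K] {D : Type v} [Group D] {ι : Type w} [DecidableEq ι]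
  {X : ι → ι → K → D} {S : Set ι} {o e p q : ι}

/-- (E8) `ζ` is additive. -/
theorem zeta_add (h : ExtHyp X S o e p q) {ζ : K → D} (hζ : IsZeta X S o e ζ) (s s' : K) :
    ζ (s + s') = ζ s * ζ s' := by
  have hp := h.hp
  have hpB : p ∈ S \ {o} := ⟨hp.1, hp.2.1⟩
  have heB : e ∈ S \ {o} := ⟨h.he, h.hoe.symm⟩
  have e0 := hζ.eq p hp 1 (s + s')
  have e1 := hζ.eq p hp 1 s
  have e2 := hζ.eq p hp 1 s'
  rw [one_mul] at e0 e1 e2
  have haz : Commute (X p e s) (ζ s') := hζ.comm_e p hp s s'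
  rw [← e0, h.relB.add' hpB heB hp.2.2 s s', E9_comm_mul_right, e1, e2, mul_assoc (ζ s),
    haz.eq, mul_assoc, mul_assoc, mul_inv_cancel, mul_one]

/-- (E7) `ζ` commutes with the `X o k`. -/
theorem zeta_comm_o (h : ExtHyp X S o e p q) {ζ ζ' : K → D} (hζ : IsZeta X S o e ζ)
    (hζ' : IsZeta (opF X) S e o ζ') {k : ι} (hk : k ∈ Mid S o e) (w s : K) :
    Commute (X o k w) (ζ s) := by
  have hp := h.hp
  have hp' : p ∈ Mid S e o := by rw [← mid_comm]; exact hp
  have hk' : k ∈ Mid S e o := by rw [← mid_comm]; exact hk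
  -- `ζ' s = (ζ s)⁻¹`
  have e1 : ⁅X p e (-1), X o p (-s)⁆ = ζ' s := by
    have := hζ'.eq p hp' 1 s
    rwa [one_mul] at this
  have e2 : ⁅X o p (-s), X p e (-1)⁆ = ζ s := by
    have := hζ.eq p hp (-s) (-1)
    rwa [neg_mul_neg, mul_one] at this
  have e3 : ζ' s = (ζ s)⁻¹ := by
    rw [← e1, ← e2, commutatorElement_inv]
  have e4 : Commute (X o k (- -w)) (ζ' s) := hζ'.comm_e k hk' (-w) s
  rw [neg_neg, e3] at e4
  exact (Commute.inv_right_iff).mp e4

end main

end Cfsg.Agent.Helper87.CT
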