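import Cfsg.Agent.Helper19.CT.Simple
import Cfsg.Agent.Helper40.StMono

/-!
helper87 -> helper19 (S1164 Curtis–Tits presentation, farm #15616), leaf (NACT) `nact_of`:
the action of `n̂_i` on the generators of a standard subsystem of rank at most two containing `a_i`.
(`hD` is included, see the board note.)
-/

set_option autoImplicit false
set_option linter.unusedSectionVars false
set_option linter.unusedVariables false

namespace Cfsg.Agent.Helper87.CT

open Cfsg Cfsg.Lie Cfsg.Agent.Helper18 Cfsg.Agent.Helper40.St Cfsg.Agent.Helper40.ChevAdd Cfsg.Agent.Helper40.UProd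
  Cfsg.Agent.Helper40.SL2Hom Cfsg.Agent.Helper40.NMono Cfsg.Agent.Helper19.CT

universe u v

section CT
variable {D : ChevalleyDatum} (hD : D ∈ [chevD4, chevF4, chevE6, chevE7, chevE8]) (K : Type u) [Field K]
include hD

/-- (NACT) -/
theorem nact_of (hC : CombS D)
    (hN : ∀ i k s, D.InRankTwoSub i k s → s ≠ D.simple i → s ≠ D.neg (D.simple i) → ∀ t : K, t ≠ 0 →
      ∃ c : K, c ≠ 0 ∧ ∀ u : K, nbar D (gen D K) (D.simple i) t * gen D K s u * (nbar D (gen D K) (D.simple i) t)⁻¹ =
        gen D K (D.reflectRoot i s) (c * u))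
    (hB : ∀ i < D.rank, ∀ t u : K, t ≠ 0 →
      nbar D (gen D K) (D.simple i) t * gen D K (D.simple i) u * (nbar D (gen D K) (D.simple i) t)⁻¹ =
        gen D K (D.neg (D.simple i)) (-(t⁻¹ * t⁻¹ * u))) :
    NActS D K := by
  intro i k s hP
  have hD7 := mem7_of_mem5 hD
  obtain ⟨φ, S⟩ := exists_std D hD7
  have hs : s < D.nroots := hP.1
  have hi : i < D.rank := hP.2.1
  obtain ⟨π', η, hn, hπ, he⟩ := Cfsg.Agent.Helper40.NData.exists_tables D hD7 i hi
  have hn' := hn
  unfold nOK at hn'
  rw [Bool.and_eq_true] at hn'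
  have hsp := monoOK_spec D i π' η hn'.1
  unfold etaOK at he
  simp only [Bool.and_eq_true, decide_eq_true_eq, List.all_eq_true, List.mem_range] at he
  obtain ⟨-, e3⟩ := he
  have hp := S.simple_lt i hi
  have hnp := S.neg_lt _ hp
  have hns := S.neg_lt s hs
  have hη : η s = 1 ∨ η s = -1 := (hsp s hs).2.1
  have hηn : η (D.neg s) = η s := by
    have := (e3 s hs).2
    rcases hη with h1 | h1
    · rw [h1] at this ⊢; omega
    · rw [h1] at this ⊢; omega
  -- `n̂_i⁻¹ = n̄_{a_i}(-1)`
  have hneg : nbar D (gen D K) (D.simple i) (-1) = (nhat D K i)⁻¹ :=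
    w_neg_of_add (gen D K (D.simple i)) (gen D K (D.neg (D.simple i)))
      (fun s t => gen_add K (D.simple i) (R2_simple hD i hi) s t)
      (fun s t => gen_add K (D.neg (D.simple i)) (R2_neg_simple hD i hi) s t) 1
  -- the raw action
  have raw : ∀ r, D.InRankTwoSub i k r → ∃ c : K, ∀ u : K,
      nhat D K i * gen D K r u * (nhat D K i)⁻¹ = gen D K (D.reflectRoot i r) (c * u) := by
    intro r hr
    by_cases h1 : r = D.simple i
    · subst h1
      rw [Cfsg.Agent.Helper40.SL2Chev.reflectRoot_simple]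
      refine ⟨-1, fun u => ?_⟩
      have := hB i hi 1 u one_ne_zero
      rw [inv_one, one_mul, one_mul] at this
      rw [neg_one_mul]
      exact this
    · by_cases h2 : r = D.neg (D.simple i)
      · subst h2
        have e : D.reflectRoot i (D.neg (D.simple i)) = D.simple i := by
          rw [S.refl_neg i hi _ hp, Cfsg.Agent.Helper40.SL2Chev.reflectRoot_simple, S.neg_neg _ hp]
        rw [e]
        refine ⟨-1, fun u => ?_⟩
        have harith : -(((-1 : K))⁻¹ * ((-1 : K))⁻¹ * -u) = u := by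
          rw [inv_neg, inv_one]; ring
        have := hB i hi (-1) (-u) (neg_ne_zero.mpr one_ne_zero)
        rw [harith, hneg, inv_inv] at this
        rw [← this, neg_one_mul]
        group
      · obtain ⟨c, -, h⟩ := hN i k r hr h1 h2 1 one_ne_zero
        exact ⟨c, h⟩
  have key : ∀ r, D.InRankTwoSub i k r → ∀ u : K,
      nhat D K i * gen D K r u * (nhat D K i)⁻¹ = gen D K (D.reflectRoot i r) (((η r : ℤ) : K) * u) := by
    intro r hr u
    obtain ⟨c, e1⟩ := raw r hr
    have hrn : r < D.nroots := hr.1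
    have hσP : D.InRankTwoSub i k (D.reflectRoot i r) := hC.P_σ i k r hr
    have hrs : D.reflectRoot i r < D.nroots := hσP.1
    have e2 := congrArg (piCT hD K) (e1 1)
    rw [map_mul, map_mul, map_inv, piCT_nhat hD K i hi, piCT_gen hD K r ⟨i, k, hr⟩,
      piCT_gen hD K _ ⟨i, k, hσP⟩, Cfsg.Agent.Helper40.SL2Chev.nconj D (addOK_of_mem hD7) i π' η hn r hrn 1,
      piOK_spec hπ r hrn] at e2
    have e3 := xGL_inj hD7 _ hrs _ _ e2
    rw [mul_one, mul_one] at e3
    rw [e1 u, ← e3]
  refine ⟨((η s : ℤ) : K), ?_, key s hP, ?_⟩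
  · rcases hη with h1 | h1 <;> rw [h1] <;> simp
  · intro u
    rw [key _ (inRankTwoSub_neg hD hP) u, S.refl_neg i hi s hs, hηn]

end CT

end Cfsg.Agent.Helper87.CT
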