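import Cfsg.Agent.Helper19.CT.Simple
import Cfsg.Agent.Helper40.StMono

/-!
helper87 -> helper19 (S1164 Curtis–Tits presentation, farm #15616), leaf (TORUS) `torus_of`:
`n̂_k⁻¹ n̂_j² n̂_k ∈ T̂`.  (`hD` is included, see the board note.)
-/

set_option autoImplicit false
set_option linter.unusedSectionVars false
set_option linter.unusedVariables false

namespace Cfsg.Agent.Helper87.CT

open Cfsg Cfsg.Lie Cfsg.Agent.Helper18 Cfsg.Agent.Helper40.St Cfsg.Agent.Helper40.ChevAdd Cfsg.Agent.Helper40.UProd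
  Cfsg.Agent.Helper40.SL2Hom Cfsg.Agent.Helper40.NMono Cfsg.Agent.Helper19.CT

universe u v

section CT
variable {D : ChevalleyDatum} (hD : D ∈ [chevD4, chevF4, chevE6, chevE7, chevE8]) (K : Type u) [Field K]
include hD

/-- conjugation of `n̄_a(1)` when both root groups `±a` are scaled by the same sign -/
theorem TORUS_conj_nhat (k : ℕ) (hk : k < D.rank) (c : D.CurtisTitsGroup K) (e : K) (he : e = 1 ∨ e = -1)
    (h1 : ∀ u : K, c * gen D K (D.simple k) u * c⁻¹ = gen D K (D.simple k) (e * u))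
    (h2 : ∀ u : K, c * gen D K (D.neg (D.simple k)) u * c⁻¹ = gen D K (D.neg (D.simple k)) (e * u)) :
    c * nhat D K k * c⁻¹ = nhat D K k ∨ c * nhat D K k * c⁻¹ = (nhat D K k)⁻¹ := by
  have hexp : c * nhat D K k * c⁻¹ =
      (c * gen D K (D.simple k) 1 * c⁻¹) * (c * gen D K (D.neg (D.simple k)) (-(1 : K)⁻¹) * c⁻¹) *
        (c * gen D K (D.simple k) 1 * c⁻¹) := by
    unfold nhat nbar w
    group
  rw [hexp, h1, h2]
  rcases he with rfl | rfl
  · left
    unfold nhat nbar w
    simp only [one_mul]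
  · right
    have hneg : nbar D (gen D K) (D.simple k) (-1) = (nbar D (gen D K) (D.simple k) 1)⁻¹ :=
      w_neg_of_add (gen D K (D.simple k)) (gen D K (D.neg (D.simple k)))
        (fun s t => gen_add K (D.simple k) (R2_simple hD k hk) s t)
        (fun s t => gen_add K (D.neg (D.simple k)) (R2_neg_simple hD k hk) s t) 1
    unfold nhat
    rw [← hneg]
    unfold nbar w
    simp only [mul_one, inv_one, neg_neg, mul_neg, inv_neg]

/-- (TORUS) `n̂_k⁻¹ n̂_j² n̂_k ∈ T̂` -/
theorem torus_of (hC : CombS D) (hA : NActS D K) : TorusS D K := by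
  intro j hj k hk
  have hP : D.InRankTwoSub j k (D.simple k) := inRankTwoSub_simple' hD j k hj hk
  have hlt : D.simple k < D.nroots := (hC.P_lt j k _ hP).2.2
  have hP' : D.InRankTwoSub j k (D.reflectRoot j (D.simple k)) := hC.P_σ j k _ hP
  have hinv : D.reflectRoot j (D.reflectRoot j (D.simple k)) = D.simple k := hC.σ_invol j hj _ hlt
  obtain ⟨e1, he1, A1, A2⟩ := hA j k (D.simple k) hP
  obtain ⟨e2, he2, B1, B2⟩ := hA j k (D.reflectRoot j (D.simple k)) hP'
  rw [hinv] at B1 B2
  have hcj : ∀ g : D.CurtisTitsGroup K, (nhat D K j * nhat D K j) * g * (nhat D K j * nhat D K j)⁻¹ =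
      nhat D K j * (nhat D K j * g * (nhat D K j)⁻¹) * (nhat D K j)⁻¹ := by
    intro g; group
  have he : e2 * e1 = 1 ∨ e2 * e1 = -1 := by
    rcases he1 with rfl | rfl <;> rcases he2 with rfl | rfl <;> simp
  have H1 : ∀ u : K, (nhat D K j * nhat D K j) * gen D K (D.simple k) u * (nhat D K j * nhat D K j)⁻¹ =
      gen D K (D.simple k) (e2 * e1 * u) := by
    intro u
    rw [hcj, A1, B1, mul_assoc]
  have H2 : ∀ u : K, (nhat D K j * nhat D K j) * gen D K (D.neg (D.simple k)) u *
      (nhat D K j * nhat D K j)⁻¹ = gen D K (D.neg (D.simple k)) (e2 * e1 * u) := by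
    intro u
    rw [hcj, A2, B2, mul_assoc]
  have hmemj : nhat D K j * nhat D K j ∈ That D K := Subgroup.subset_closure ⟨j, hj, rfl⟩
  have hmemk : nhat D K k * nhat D K k ∈ That D K := Subgroup.subset_closure ⟨k, hk, rfl⟩
  rcases TORUS_conj_nhat hD K k hk (nhat D K j * nhat D K j) (e2 * e1) he H1 H2 with h | h
  · have : (nhat D K k)⁻¹ * (nhat D K j * nhat D K j) * nhat D K k = nhat D K j * nhat D K j := by
      have h' : (nhat D K j * nhat D K j) * nhat D K k = nhat D K k * (nhat D K j * nhat D K j) :=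
        mul_inv_eq_iff_eq_mul.mp h
      rw [mul_assoc, h', inv_mul_cancel_left]
    rw [this]
    exact hmemj
  · have : (nhat D K k)⁻¹ * (nhat D K j * nhat D K j) * nhat D K k =
        (nhat D K k * nhat D K k)⁻¹ * (nhat D K j * nhat D K j) := by
      have h' : (nhat D K j * nhat D K j) * nhat D K k = (nhat D K k)⁻¹ * (nhat D K j * nhat D K j) :=
        mul_inv_eq_iff_eq_mul.mp h
      rw [mul_assoc, h', _root_.mul_inv_rev, mul_assoc]
    rw [this]
    exact (That D K).mul_mem ((That D K).inv_mem hmemk) hmemj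

end CT

end Cfsg.Agent.Helper87.CT
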