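import Cfsg.Agent.Helper87.EssentialChain
import Cfsg.Agent.Helper87.AbelianInv6
set_option autoImplicit false

namespace Cfsg.Agent.Helper87

open Cfsg
open scoped commutatorElement

/-- A commutative group of order `p ^ 3` that is not elementary abelian: no quotient of a group of automorphisms has a
strongly `p`-embedded subgroup. -/
theorem false_of_comm_card_cube {T : Type*} [Group T] [Finite T] {p : ℕ} [Fact p.Prime]
    (hcard : Nat.card T = p ^ 3) (hcomm : ∀ a b : T, a * b = b * a) (hx : ∃ x : T, x ^ p ≠ 1)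
    (A : Subgroup (MulAut T)) (N : Subgroup A) [N.Normal] (Y : Subgroup (A ⧸ N))
    (hY : IsStronglyPEmbedded p Y) : False := by
  have hp : p.Prime := Fact.out
  have hT : IsPGroup p T := IsPGroup.of_card hcard
  have hno : ¬ ∃ (n : ℕ) (H : Type) (_ : CommGroup H), 0 < n ∧
      Nonempty (T ≃* (Multiplicative (ZMod (p ^ n)) × Multiplicative (ZMod (p ^ n))) × H) := by
    rintro ⟨n, H', instH', hn, ⟨e⟩⟩
    have hc1 : Nat.card T = (p ^ n * p ^ n) * Nat.card H' := by
      rw [Nat.card_congr e.toEquiv, Nat.card_prod, Nat.card_prod]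
      have : Nat.card (Multiplicative (ZMod (p ^ n))) = p ^ n := Nat.card_zmod _
      rw [this]
    rw [hcard] at hc1
    have hdvd : Nat.card H' ∣ p ^ 3 := ⟨p ^ n * p ^ n, by rw [hc1]; ring⟩
    obtain ⟨j, -, hj⟩ := (Nat.dvd_prime_pow hp).mp hdvd
    rw [hj, ← pow_add, ← pow_add] at hc1
    have h3 : 3 = n + n + j := Nat.pow_right_injective hp.two_le hc1
    have hn1 : n = 1 := by omega
    have hj1 : j = 1 := by omega
    subst hn1
    subst hj1
    rw [pow_one] at hj
    obtain ⟨x, hx⟩ := hx
    apply hx
    apply e.injective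
    rw [map_pow, map_one]
    have hM : ∀ a : Multiplicative (ZMod (p ^ 1)), a ^ p = 1 := by
      intro a
      have h := pow_card_eq_one' (G := Multiplicative (ZMod (p ^ 1))) (x := a)
      have hc : Nat.card (Multiplicative (ZMod (p ^ 1))) = p := by
        have : Nat.card (Multiplicative (ZMod (p ^ 1))) = p ^ 1 := Nat.card_zmod _
        rw [this, pow_one]
      rwa [hc] at h
    have hH : ∀ a : H', a ^ p = 1 := by
      intro a
      have h := pow_card_eq_one' (G := H') (x := a)
      rwa [hj] at h
    refine Prod.ext (Prod.ext ?_ ?_) ?_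
    · exact hM _
    · exact hM _
    · exact hH _
  obtain ⟨K, hKp, hKc⟩ := exists_pGroup_commutators_of_no_repeat hcomm hT hno
  exact false_of_mulAut_commutators A N Y hY K hKp (fun α _ β _ => hKc α β)

end Cfsg.Agent.Helper87
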