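import Cfsg.Agent.Helper87.EssentialChain
import Cfsg.Agent.Helper88.OmegaAut
set_option autoImplicit false

namespace Cfsg.Agent.Helper87

open Cfsg
open scoped commutatorElement

/-- In a noncommutative group of order `p ^ 3` the centre has order `p` and contains the commutators. -/
theorem center_of_card_cube {P : Type*} [Group P] {p : ℕ} [Fact p.Prime]
    (hcard : Nat.card P = p ^ 3) (hnab : ¬ ∀ a b : P, a * b = b * a) :
    Nat.card (Subgroup.center P) = p ∧ ∀ a b : P, ⁅a, b⁆ ∈ Subgroup.center P := by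
  have hp : p.Prime := Fact.out
  have : Finite P := Nat.finite_of_card_ne_zero (by rw [hcard]; exact pow_ne_zero _ hp.ne_zero)
  obtain ⟨k, hk0, hk⟩ := IsPGroup.card_center_eq_prime_pow hcard (by norm_num)
  have hZdvd : Nat.card (Subgroup.center P) ∣ p ^ 3 := hcard ▸ Subgroup.card_subgroup_dvd_card _
  have hk3 : k ≤ 3 := by
    rw [hk] at hZdvd
    exact (Nat.pow_dvd_pow_iff_le_right hp.one_lt).1 hZdvd
  have hk1 : k = 1 := by
    have h3 : k ≠ 3 := by
      rintro rfl
      have htop : Subgroup.center P = ⊤ := by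
        rw [← Subgroup.card_eq_iff_eq_top, hk, hcard]
      apply hnab
      intro a b
      have : b ∈ Subgroup.center P := htop ▸ Subgroup.mem_top b
      exact (Subgroup.mem_center_iff.1 this) a
    have h2 : k ≠ 2 := by
      rintro rfl
      have hidx : (Subgroup.center P).index = p := by
        have h := Subgroup.card_mul_index (Subgroup.center P)
        rw [hk, hcard] at h
        have : p ^ 2 * (Subgroup.center P).index = p ^ 2 * p := by rw [h]; ring
        exact Nat.eq_of_mul_eq_mul_left (pow_pos hp.pos 2) this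
      have hcardQ : Nat.card (P ⧸ Subgroup.center P) = p := hidx
      have : IsCyclic (P ⧸ Subgroup.center P) := isCyclic_of_prime_card hcardQ
      apply hnab
      have hc := MonoidHom.isMulCommutative_of_isCyclic_of_ker_le_center
        (QuotientGroup.mk' (Subgroup.center P)) (by rw [QuotientGroup.ker_mk'])
      exact hc.is_comm.comm
    omega
  subst hk1
  rw [pow_one] at hk
  have hidx : (Subgroup.center P).index = p ^ 2 := by
    have h := Subgroup.card_mul_index (Subgroup.center P)
    rw [hk, hcard] at h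
    have : p * (Subgroup.center P).index = p * p ^ 2 := by rw [h]; ring
    exact Nat.eq_of_mul_eq_mul_left hp.pos this
  have hcardQ : Nat.card (P ⧸ Subgroup.center P) = p ^ 2 := hidx
  have hQc : IsMulCommutative (P ⧸ Subgroup.center P) :=
    IsPGroup.isMulCommutative_of_card_eq_prime_sq hcardQ
  have hcomle : commutator P ≤ Subgroup.center P :=
    Subgroup.Normal.quotient_commutative_iff_commutator_le.1 hQc
  exact ⟨hk, fun a b => hcomle (Subgroup.commutator_mem_commutator (Subgroup.mem_top a) (Subgroup.mem_top b))⟩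

/-- In a noncommutative group of order `p ^ 3`, `p` odd, the `p`-th power map is multiplicative. -/
theorem mul_pow_of_card_cube {P : Type*} [Group P] {p : ℕ} [Fact p.Prime] (hodd : Odd p)
    (hcard : Nat.card P = p ^ 3) (hnab : ¬ ∀ a b : P, a * b = b * a) (a b : P) :
    (a * b) ^ p = a ^ p * b ^ p := by
  obtain ⟨hZ, hcomm⟩ := center_of_card_cube hcard hnab
  have hz : ∀ g : P, Commute g ⁅b⁻¹, a⁻¹⁆ := by
    intro g
    exact (Subgroup.mem_center_iff.mp (hcomm b⁻¹ a⁻¹) g)
  have hba : b * a = a * b * ⁅b⁻¹, a⁻¹⁆ := by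
    rw [commutatorElement_def]
    group
  have h := Cfsg.Agent.Helper88.mul_pow_of_central hba hz p
  rw [h]
  obtain ⟨k, hk⟩ := hodd
  have hsum : ∑ i ∈ Finset.range p, i = p * k := by
    have h2 := Finset.sum_range_id_mul_two p
    have : p - 1 = 2 * k := by omega
    rw [this] at h2
    have : (∑ i ∈ Finset.range p, i) * 2 = (p * k) * 2 := by rw [h2]; ring
    exact Nat.eq_of_mul_eq_mul_right (by norm_num) this
  have hzp : ⁅b⁻¹, a⁻¹⁆ ^ p = 1 := by
    have h1 := pow_card_eq_one' (G := Subgroup.center P) (x := ⟨⁅b⁻¹, a⁻¹⁆, hcomm b⁻¹ a⁻¹⟩)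
    rw [hZ] at h1
    exact congrArg Subtype.val h1
  rw [hsum, pow_mul, hzp, one_pow, mul_one]


/-- A noncommutative group of order `p ^ 3`, `p` odd, not of exponent `p`: no quotient of a group of automorphisms has a
strongly `p`-embedded subgroup. -/
theorem false_of_card_cube_odd {T : Type*} [Group T] [Finite T] {p : ℕ} [Fact p.Prime] (hodd : Odd p)
    (hcard : Nat.card T = p ^ 3) (hnc : ¬ ∀ a b : T, a * b = b * a) (hx : ∃ x : T, x ^ p ≠ 1)
    (A : Subgroup (MulAut T)) (N : Subgroup A) [N.Normal] (Y : Subgroup (A ⧸ N))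
    (hY : IsStronglyPEmbedded p Y) : False := by
  have hp : p.Prime := Fact.out
  have hT : IsPGroup p T := IsPGroup.of_card hcard
  let φ : T →* T :=
    { toFun := fun a => a ^ p
      map_one' := one_pow p
      map_mul' := fun a b => mul_pow_of_card_cube hodd hcard hnc a b }
  have hφ : ∀ a, φ a = a ^ p := fun a => rfl
  -- every element has order dividing p²
  have hp2 : ∀ a : T, a ^ (p ^ 2) = 1 := by
    intro a
    have hdvd : orderOf a ∣ p ^ 3 := hcard ▸ orderOf_dvd_natCard a
    obtain ⟨k, hk, hk'⟩ := (Nat.dvd_prime_pow hp).mp hdvd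
    have hk3 : k ≠ 3 := by
      rintro rfl
      have hc := isCyclic_of_orderOf_eq_card a (by rw [hk', hcard])
      apply hnc
      intro a b
      obtain ⟨g, hg⟩ := IsCyclic.exists_generator (α := T)
      obtain ⟨m, rfl⟩ := Subgroup.mem_zpowers_iff.mp (hg a)
      obtain ⟨n, rfl⟩ := Subgroup.mem_zpowers_iff.mp (hg b)
      rw [← zpow_add, ← zpow_add, add_comm]
    apply orderOf_dvd_iff_pow_eq_one.mp
    rw [hk']
    exact pow_dvd_pow p (by omega)
  have hRΩ : φ.range ≤ φ.ker := by
    rintro _ ⟨a, rfl⟩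
    rw [MonoidHom.mem_ker, hφ, hφ, ← pow_mul, ← sq]
    exact hp2 a
  have hRne : φ.range ≠ ⊥ := by
    intro h
    obtain ⟨x, hx⟩ := hx
    apply hx
    have : φ x ∈ φ.range := ⟨x, rfl⟩
    rw [h, Subgroup.mem_bot] at this
    exact this
  have hprod : Nat.card φ.ker * Nat.card φ.range = p ^ 3 := by
    rw [← Subgroup.index_ker, Subgroup.card_mul_index, hcard]
  obtain ⟨i, hi, hRi⟩ := (Nat.dvd_prime_pow hp).mp (hprod ▸ Dvd.intro_left _ rfl : Nat.card φ.range ∣ p ^ 3)
  obtain ⟨j, hj, hΩj⟩ := (Nat.dvd_prime_pow hp).mp (hprod ▸ Dvd.intro _ rfl : Nat.card φ.ker ∣ p ^ 3)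
  have hij : j + i = 3 := by
    rw [hRi, hΩj, ← pow_add] at hprod
    exact Nat.pow_right_injective hp.two_le hprod
  have hi0 : i ≠ 0 := by
    rintro rfl
    rw [pow_zero] at hRi
    exact hRne (Subgroup.card_eq_one.mp hRi)
  have hile : i ≤ j := by
    have h := Subgroup.card_le_of_le hRΩ
    rw [hRi, hΩj] at h
    exact (Nat.pow_le_pow_iff_right hp.one_lt).mp h
  have hi1 : i = 1 := by omega
  have hj2 : j = 2 := by omega
  subst hi1
  subst hj2
  rw [pow_one] at hRi
  obtain ⟨y1, hy1⟩ := exists_sup_zpowers_of_card hp ⊥ φ.range bot_le (by rw [hRi, Subgroup.card_bot, mul_one])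
  obtain ⟨y2, hy2⟩ := exists_sup_zpowers_of_card hp φ.range φ.ker hRΩ (by rw [hRi, hΩj]; ring)
  obtain ⟨y3, hy3⟩ := exists_sup_zpowers_of_card hp φ.ker ⊤ le_top
    (by rw [Subgroup.card_top, hcard, hΩj]; ring)
  let c : Fin (3 + 1) → Subgroup T := ![⊥, φ.range, φ.ker, ⊤]
  refine false_of_invariant_chain hT A N Y hY 3 c rfl rfl ?_ ?_
  · intro α i z hz
    fin_cases i
    · have hz' : z ∈ (⊥ : Subgroup T) := hz
      rw [Subgroup.mem_bot] at hz'
      show α z ∈ (⊥ : Subgroup T)
      rw [hz', map_one]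
      exact Subgroup.one_mem _
    · have hz' : z ∈ φ.range := hz
      show α z ∈ φ.range
      obtain ⟨a, rfl⟩ := hz'
      exact ⟨α a, by rw [hφ, hφ, map_pow]⟩
    · have hz' : z ∈ φ.ker := hz
      show α z ∈ φ.ker
      rw [MonoidHom.mem_ker, hφ] at hz' ⊢
      rw [← map_pow, hz', map_one]
    · exact Subgroup.mem_top _
  · intro i
    fin_cases i
    · exact ⟨bot_le, y1, hy1⟩
    · exact ⟨hRΩ, y2, hy2⟩
    · exact ⟨le_top, y3, hy3⟩

end Cfsg.Agent.Helper87
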