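import Cfsg.Agent.Helper87.EssentialChain
import Cfsg.Agent.Helper70.Q8
set_option autoImplicit false

namespace Cfsg.Agent.Helper87

open Cfsg
open scoped commutatorElement

/-- If `x` and `y` commute and generate the group, the group is commutative. -/
theorem comm_of_closure_pair {T : Type*} [Group T] (x y : T) (hgen : Subgroup.closure ({x, y} : Set T) = ⊤)
    (hxy : x * y = y * x) : ∀ a b : T, a * b = b * a := by
  have hx : x ∈ Subgroup.center T := by
    have h1 : Subgroup.closure ({x, y} : Set T) ≤ Subgroup.centralizer {x} := by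
      rw [Subgroup.closure_le]
      rintro z (rfl | rfl)
      · exact Subgroup.mem_centralizer_iff.mpr (fun h hh => by rw [Set.mem_singleton_iff.mp hh])
      · exact Subgroup.mem_centralizer_iff.mpr (fun h hh => by rw [Set.mem_singleton_iff.mp hh]; exact hxy)
    rw [Subgroup.mem_center_iff]
    intro g
    have hg : g ∈ Subgroup.centralizer {x} := h1 (hgen ▸ Subgroup.mem_top g)
    exact (Subgroup.mem_centralizer_iff.mp hg x rfl).symm
  have hy : y ∈ Subgroup.center T := by
    have h1 : Subgroup.closure ({x, y} : Set T) ≤ Subgroup.centralizer {y} := by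
      rw [Subgroup.closure_le]
      rintro z (rfl | rfl)
      · exact Subgroup.mem_centralizer_iff.mpr (fun h hh => by rw [Set.mem_singleton_iff.mp hh]; exact hxy.symm)
      · exact Subgroup.mem_centralizer_iff.mpr (fun h hh => by rw [Set.mem_singleton_iff.mp hh])
    rw [Subgroup.mem_center_iff]
    intro g
    have hg : g ∈ Subgroup.centralizer {y} := h1 (hgen ▸ Subgroup.mem_top g)
    exact (Subgroup.mem_centralizer_iff.mp hg y rfl).symm
  have htop : (⊤ : Subgroup T) ≤ Subgroup.center T := by
    rw [← hgen, Subgroup.closure_le]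
    rintro z (rfl | rfl)
    · exact hx
    · exact hy
  intro a b
  have hb : b ∈ Subgroup.center T := htop (Subgroup.mem_top b)
  exact Subgroup.mem_center_iff.mp hb a


theorem mem_zpowers_of_orderOf_four {T : Type*} [Group T] [Finite T] {x y : T} (hord : orderOf x = 4)
    (hy : y ∈ Subgroup.zpowers x) : y = 1 ∨ y = x ∨ y = x ^ 2 ∨ y = x ^ 3 := by
  classical
  rw [mem_zpowers_iff_mem_range_orderOf, hord, Finset.mem_image] at hy
  obtain ⟨k, hk, rfl⟩ := hy
  rw [Finset.mem_range] at hk
  interval_cases k
  · left; simp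
  · right; left; simp
  · right; right; left; rfl
  · right; right; right; rfl

/-- A noncommutative group of order `8` with a group of automorphisms a quotient of which has a strongly `2`-embedded
subgroup is a quaternion group. -/
theorem quaternion_of_card_eight {T : Type*} [Group T] [Finite T] (hcard : Nat.card T = 8)
    (hnc : ¬ ∀ a b : T, a * b = b * a)
    (A : Subgroup (MulAut T)) (N : Subgroup A) [N.Normal] (Y : Subgroup (A ⧸ N))
    (hY : IsStronglyPEmbedded 2 Y) : Nonempty (T ≃* QuaternionGroup 2) := by
  classical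
  have hT : IsPGroup 2 T := IsPGroup.of_card (n := 3) (by rw [hcard]; norm_num)
  have hex : ∃ x : T, x ^ 2 ≠ 1 := by
    by_contra h
    push Not at h
    apply hnc
    intro a b
    have hinv : ∀ x : T, x⁻¹ = x := fun x => inv_eq_of_mul_eq_one_right (by rw [← sq]; exact h x)
    calc a * b = (a * b)⁻¹ := (hinv _).symm
      _ = b⁻¹ * a⁻¹ := mul_inv_rev a b
      _ = b * a := by rw [hinv, hinv]
  obtain ⟨x, hx2⟩ := hex
  have hx8 : x ^ 8 = 1 := by rw [← hcard]; exact pow_card_eq_one'
  have hord : orderOf x = 4 := by
    have hdvd : orderOf x ∣ 2 ^ 3 := orderOf_dvd_of_pow_eq_one (by norm_num; exact hx8)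
    obtain ⟨k, hk, hk'⟩ := (Nat.dvd_prime_pow Nat.prime_two).mp hdvd
    interval_cases k
    · exfalso
      apply hx2
      rw [pow_zero, orderOf_eq_one_iff] at hk'
      rw [hk', one_pow]
    · exfalso
      apply hx2
      rw [pow_one] at hk'
      rw [← hk']
      exact pow_orderOf_eq_one x
    · exact hk'
    · exfalso
      have hc := isCyclic_of_orderOf_eq_card x (by rw [hk', hcard]; norm_num)
      apply hnc
      intro a b
      obtain ⟨g, hg⟩ := IsCyclic.exists_generator (α := T)
      obtain ⟨m, rfl⟩ := Subgroup.mem_zpowers_iff.mp (hg a)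
      obtain ⟨n, rfl⟩ := Subgroup.mem_zpowers_iff.mp (hg b)
      rw [← zpow_add, ← zpow_add, add_comm]
  have hx4 : x ^ 4 = 1 := by rw [← hord]; exact pow_orderOf_eq_one x
  have hCcard : Nat.card (Subgroup.zpowers x) = 4 := by rw [Nat.card_zpowers, hord]
  have htopcard : Nat.card (⊤ : Subgroup T) = 2 * Nat.card (Subgroup.zpowers x) := by
    rw [Subgroup.card_top, hcard, hCcard]
  have hidx : (Subgroup.zpowers x).index = 2 := by
    have h := Subgroup.card_mul_index (Subgroup.zpowers x)
    rw [hCcard, hcard] at h
    omega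
  have hCn : (Subgroup.zpowers x).Normal := Subgroup.normal_of_index_eq_two hidx
  by_cases hcase : ∃ y : T, y ∉ Subgroup.zpowers x ∧ y ^ 2 ≠ 1
  · obtain ⟨y, hyC, hy2⟩ := hcase
    have hgen : Subgroup.closure ({x, y} : Set T) = ⊤ := by
      apply eq_of_lt_of_le_of_card Nat.prime_two (Subgroup.zpowers x) _ ⊤ _ le_top htopcard
      refine lt_of_le_of_ne ?_ ?_
      · rw [Subgroup.zpowers_le]
        exact Subgroup.subset_closure (Set.mem_insert _ _)
      · intro h
        apply hyC
        rw [h]
        exact Subgroup.subset_closure (Set.mem_insert_of_mem _ rfl)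
    have hncomm : x * y ≠ y * x := fun h => hnc (comm_of_closure_pair x y hgen h)
    have hconj : y * x * y⁻¹ ∈ Subgroup.zpowers x := hCn.conj_mem x (Subgroup.mem_zpowers x) y
    have hts : y * x * y⁻¹ = x⁻¹ := by
      rcases mem_zpowers_of_orderOf_four hord hconj with h | h | h | h
      · exfalso
        apply hx2
        have : x = y⁻¹ * (y * x * y⁻¹) * y := by group
        rw [h] at this
        rw [this]
        simp
      · exfalso
        apply hncomm
        symm
        calc y * x = (y * x * y⁻¹) * y := by group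
          _ = x * y := by rw [h]
      · exfalso
        apply hx2
        have h1 : (y * x * y⁻¹) ^ 2 = y * x ^ 2 * y⁻¹ := conj_pow
        have h2 : (y * x * y⁻¹) ^ 2 = 1 := by rw [h, ← pow_mul]; exact hx4
        rw [h1] at h2
        have : y * x ^ 2 = y := by
          have := mul_inv_eq_one.mp h2
          exact this
        exact mul_left_cancel (a := y) (by rw [this, mul_one])
      · rw [h]
        exact eq_inv_of_mul_eq_one_left (by rw [← pow_succ]; exact hx4)
    have hy2C : y ^ 2 ∈ Subgroup.zpowers x := by
      have h1 : (QuotientGroup.mk' (Subgroup.zpowers x) y) ^ 2 = 1 := by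
        have h := pow_card_eq_one' (G := T ⧸ Subgroup.zpowers x) (x := QuotientGroup.mk' (Subgroup.zpowers x) y)
        have hc : Nat.card (T ⧸ Subgroup.zpowers x) = 2 := hidx
        rwa [hc] at h
      rw [← map_pow] at h1
      exact (QuotientGroup.eq_one_iff _).mp h1
    have ht2 : y ^ 2 = x ^ 2 := by
      rcases mem_zpowers_of_orderOf_four hord hy2C with h | h | h | h
      · exact absurd h hy2
      · exfalso
        apply hncomm
        rw [← h]
        group
      · exact h
      · exfalso
        apply hncomm
        have hx9 : x = (x ^ 3) ^ 3 := by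
          rw [← pow_mul]
          have : x ^ (3 * 3) = x ^ 4 * x ^ 4 * x := by group
          rw [this, hx4, one_mul, one_mul]
        rw [hx9, ← h]
        group
    exact Cfsg.Agent.Helper70.nonempty_mulEquiv_quaternion hcard x y hgen hx4 hts ht2
  · exfalso
    push Not at hcase
    -- every automorphism maps `x` into `zpowers x`
    have hαx : ∀ α : MulAut T, α x ∈ Subgroup.zpowers x := by
      intro α
      by_contra h
      have h1 := hcase (α x) h
      rw [← map_pow] at h1
      apply hx2
      exact α.injective (by rw [h1, map_one])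
    obtain ⟨t, ht⟩ := exists_sup_zpowers_of_card Nat.prime_two (Subgroup.zpowers x) ⊤ le_top htopcard
    let c : Fin (3 + 1) → Subgroup T := ![⊥, Subgroup.zpowers (x ^ 2), Subgroup.zpowers x, ⊤]
    have hsq_le : Subgroup.zpowers (x ^ 2) ≤ Subgroup.zpowers x := by
      rw [Subgroup.zpowers_le]
      exact Subgroup.pow_mem _ (Subgroup.mem_zpowers x) 2
    refine false_of_invariant_chain hT A N Y hY 3 c rfl rfl ?_ ?_
    · intro α i z hz
      fin_cases i
      · have hz' : z ∈ (⊥ : Subgroup T) := hz
        rw [Subgroup.mem_bot] at hz'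
        show α z ∈ (⊥ : Subgroup T)
        rw [hz', map_one]
        exact Subgroup.one_mem _
      · have hz' : z ∈ Subgroup.zpowers (x ^ 2) := hz
        show α z ∈ Subgroup.zpowers (x ^ 2)
        obtain ⟨k, rfl⟩ := Subgroup.mem_zpowers_iff.mp hz'
        obtain ⟨j, hj⟩ := Subgroup.mem_zpowers_iff.mp (hαx α)
        rw [map_zpow, map_pow, ← hj]
        apply Subgroup.zpow_mem
        have : (x ^ j) ^ 2 = (x ^ 2) ^ j := by
          rw [← zpow_natCast, ← zpow_natCast, ← zpow_mul, ← zpow_mul, mul_comm]
        rw [this]
        exact Subgroup.zpow_mem _ (Subgroup.mem_zpowers _) j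
      · have hz' : z ∈ Subgroup.zpowers x := hz
        show α z ∈ Subgroup.zpowers x
        obtain ⟨k, rfl⟩ := Subgroup.mem_zpowers_iff.mp hz'
        rw [map_zpow]
        exact Subgroup.zpow_mem _ (hαx α) k
      · exact Subgroup.mem_top _
    · intro i
      fin_cases i
      · refine ⟨bot_le, x ^ 2, ?_⟩
        show Subgroup.zpowers (x ^ 2) = ⊥ ⊔ Subgroup.zpowers (x ^ 2)
        rw [bot_sup_eq]
      · refine ⟨hsq_le, x, ?_⟩
        show Subgroup.zpowers x = Subgroup.zpowers (x ^ 2) ⊔ Subgroup.zpowers x
        exact (sup_eq_right.mpr hsq_le).symm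
      · exact ⟨le_top, t, ht⟩

end Cfsg.Agent.Helper87
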