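import Cfsg.Agent.Helper87.Supersol1
set_option autoImplicit false

namespace Cfsg.Agent.Helper87

open scoped commutatorElement

/-- Abstract form of `cyclic_chain_stab`: a group `A` of automorphisms of a finite `p`-group `T` leaving invariant the
terms of a chain of normal subgroups from `1` to `T` with cyclic steps: a `p`-group `K` of automorphisms of `T` contains
the commutators of `A` and the `(p - 1)`-th powers of the elements of `A` of order prime to `p`. -/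
theorem cyclic_chain_stab_abs {T : Type*} [Group T] [Finite T] {p : ℕ} [Fact p.Prime] (hT : IsPGroup p T)
    (m : ℕ) (c : Fin (m + 1) → Subgroup T) (h0 : c 0 = ⊥) (hl : c (Fin.last m) = ⊤)
    (hnorm : ∀ i, (c i).Normal)
    (hstep : ∀ i : Fin m, c i.castSucc ≤ c i.succ ∧ ∃ x : T, c i.succ = c i.castSucc ⊔ Subgroup.zpowers x)
    (A : Subgroup (MulAut T)) (hA : ∀ α ∈ A, ∀ i, ∀ x ∈ c i, α x ∈ c i) :
    ∃ K : Subgroup (MulAut T), IsPGroup p K ∧ (∀ α ∈ A, ∀ β ∈ A, ⁅α, β⁆ ∈ K) ∧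
      ∀ α ∈ A, ∀ r : ℕ, r.Coprime p → α ^ r = 1 → α ^ (p - 1) ∈ K := by
  have hfin : Finite (⊤ : Subgroup T) := inferInstance
  have hTp : IsPGroup p (⊤ : Subgroup T) := hT.to_subgroup ⊤
  set e : (⊤ : Subgroup T) ≃* T := Subgroup.topEquiv with he
  obtain ⟨K', hK'p, hK'c, hK'r⟩ := cyclic_chain_stab (S := (⊤ : Subgroup T)) hTp (le_refl _) m c h0 hl
    (fun i => by
      rw [@Subgroup.normalizer_eq_top _ _ (c i) (hnorm i)])
    (fun i => ⟨(hstep i).1, (hstep i).2.choose, Subgroup.mem_top _, (hstep i).2.choose_spec⟩)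
    (A.map (MulAut.congr e.symm).toMonoidHom)
    (by
      rintro _ ⟨α, hα, rfl⟩ i x hx
      exact hA α hα i _ hx)
  refine ⟨K'.map (MulAut.congr e).toMonoidHom, hK'p.map _, ?_, ?_⟩
  · intro α hα β hβ
    refine ⟨⁅(MulAut.congr e.symm) α, (MulAut.congr e.symm) β⁆,
      hK'c _ ⟨α, hα, rfl⟩ _ ⟨β, hβ, rfl⟩, ?_⟩
    show (MulAut.congr e) ⁅(MulAut.congr e.symm) α, (MulAut.congr e.symm) β⁆ = ⁅α, β⁆
    rw [map_commutatorElement]
    congr 1 <;> · ext x; rfl
  · intro α hα r hr hαr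
    refine ⟨((MulAut.congr e.symm) α) ^ (p - 1), hK'r _ ⟨α, hα, rfl⟩ r hr ?_, ?_⟩
    · rw [← map_pow, hαr, map_one]
    · show (MulAut.congr e) (((MulAut.congr e.symm) α) ^ (p - 1)) = α ^ (p - 1)
      rw [map_pow]
      congr 1

end Cfsg.Agent.Helper87
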