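import Cfsg.Agent.Helper18.E8Odd.Defs
import Cfsg.Agent.Helper36.E8Odd.WApi

/-!
helper87 -> helper18 (S4281 E8INV-1, farm #14274), leaf (NCJ): `negCount` is a class function
(hedge of helper34's claim, on request #14991).
-/

set_option autoImplicit false
set_option maxRecDepth 100000

namespace Cfsg.Agent.Helper87.E8Inv

open Cfsg Cfsg.Lie Cfsg.Agent.Helper18 Cfsg.Agent.Helper18.E8Odd Cfsg.Agent.Helper36.E8Odd
  Cfsg.Agent.Helper40.SL2Hom

/-- the reversed word is a left inverse on the `240` root indices -/
theorem NCJ_rev_left (v : List ℕ) (hv : ∀ i ∈ v, i < 8) :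
    ∀ x < 240, aW v.reverse (aW v x) = x := by
  induction v with
  | nil => intro x _; rfl
  | cons i v ih =>
    intro x hx
    have hi : i < 8 := hv i (by simp)
    have hv' : ∀ j ∈ v, j < 8 := fun j hj => hv j (by simp [hj])
    rw [List.reverse_cons, aW_append, aW_cons i v x,
      aW_single_invol i hi _ (aW_lt v hv' x hx)]
    exact ih hv' x hx

/-- a word permutes the `240` root indices -/
theorem NCJ_perm (v : List ℕ) (hv : ∀ i ∈ v, i < 8) :
    ((List.range 240).map (aW v)).Perm (List.range 240) := by
  have hinj : ∀ x ∈ List.range 240, ∀ y ∈ List.range 240, aW v x = aW v y → x = y := by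
    intro x hx y hy h
    rw [List.mem_range] at hx hy
    have := congrArg (aW v.reverse) h
    rwa [NCJ_rev_left v hv x hx, NCJ_rev_left v hv y hy] at this
  have hnd : ((List.range 240).map (aW v)).Nodup := List.Nodup.map_on hinj List.nodup_range
  have hsub : (List.range 240).map (aW v) ⊆ List.range 240 := by
    intro y hy
    rw [List.mem_map] at hy
    obtain ⟨x, hx, rfl⟩ := hy
    rw [List.mem_range] at hx ⊢
    exact aW_lt v hv x hx
  exact (List.subperm_of_subset hnd hsub).perm_of_length_le (by simp)

/-- (NCJ) `negCount` is a class function. -/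
theorem negCount_conj (w v : List ℕ) (hw : ∀ i ∈ w, i < 8) (hv : ∀ i ∈ v, i < 8) :
    negCount (v ++ w ++ v.reverse) = negCount w := by
  unfold negCount
  rw [← List.countP_eq_length_filter, ← List.countP_eq_length_filter,
    ← (NCJ_perm v hv).countP_eq, List.countP_map]
  apply List.countP_congr
  intro x hx
  rw [List.mem_range] at hx
  simp only [Function.comp, decide_eq_true_eq]
  have hwx := aW_lt w hw x hx
  have h1 : aW (v ++ w ++ v.reverse) (aW v x) = aW v (aW w x) := by
    rw [aW_append, aW_append, NCJ_rev_left v hv x hx]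
  rw [h1, ← aW_neg v hv x hx]
  constructor
  · intro h
    have := congrArg (aW v.reverse) h
    rwa [NCJ_rev_left v hv _ hwx, NCJ_rev_left v hv _ (by omega)] at this
  · intro h; rw [h]

end Cfsg.Agent.Helper87.E8Inv
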