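import Mathlib.LinearAlgebra.Eigenspace.Minpoly
import Mathlib.FieldTheory.Finite.GaloisField
import Mathlib.Algebra.Module.ZMod
import Mathlib.GroupTheory.PGroup
set_option autoImplicit false

namespace Cfsg.Agent.Helper87

open Polynomial

/-- A linear endomorphism `f` of a nontrivial finite vector space over `ZMod p` with `f ^ p = f` has an eigenvector. -/
theorem exists_eigenvector_zmod (p : ℕ) [Fact p.Prime] {M : Type*} [AddCommGroup M] [Module (ZMod p) M] [Finite M]
    [Nontrivial M] (f : Module.End (ZMod p) M) (hf : f ^ p = f) :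
    ∃ (μ : ZMod p) (v : M), v ≠ 0 ∧ f v = μ • v := by
  have hfin : Module.Finite (ZMod p) M := Module.Finite.of_finite
  have hdvd : minpoly (ZMod p) f ∣ (X ^ p - X : (ZMod p)[X]) := by
    apply minpoly.dvd
    simp [hf]
  have hsplit : Splits (X ^ p - X : (ZMod p)[X]) := by
    have h := Polynomial.splits_X_pow_nat_card_sub_X (K := ZMod p)
    rwa [Nat.card_zmod] at h
  have hne : (X ^ p - X : (ZMod p)[X]) ≠ 0 :=
    FiniteField.X_pow_card_sub_X_ne_zero (ZMod p) (Fact.out : p.Prime).one_lt
  have hs : Splits (minpoly (ZMod p) f) := Splits.of_dvd hsplit hne hdvd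
  have hint : IsIntegral (ZMod p) f := Algebra.IsIntegral.isIntegral f
  have hdeg : (minpoly (ZMod p) f).degree ≠ 0 := (minpoly.degree_pos hint).ne'
  obtain ⟨μ, hμ⟩ := hs.exists_eval_eq_zero hdeg
  have hev : f.HasEigenvalue μ := Module.End.hasEigenvalue_of_isRoot hμ
  obtain ⟨v, hv⟩ := hev.exists_hasEigenvector
  exact ⟨μ, v, hv.2, hv.apply_eq_smul⟩

/-- An additive endomorphism `g` of a nontrivial finite `ZMod p`-module with `g^[p] = g` maps some nonzero element to one
of its multiples. -/
theorem exists_eigen_addCommGroup (p : ℕ) [Fact p.Prime] {M : Type*} [AddCommGroup M] [Module (ZMod p) M] [Finite M]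
    [Nontrivial M] (g : M →+ M) (hg : ∀ x, g^[p] x = g x) :
    ∃ (v : M) (a : ℕ), v ≠ 0 ∧ g v = a • v := by
  have hFapp : ∀ x : M, (g.toZModLinearMap p) x = g x := fun x => rfl
  have hiter : ∀ (n : ℕ) (x : M), ((g.toZModLinearMap p) ^ n) x = g^[n] x := by
    intro n
    induction n with
    | zero => intro x; rfl
    | succ n ih =>
      intro x
      rw [pow_succ', Module.End.mul_apply, ih, hFapp, Function.iterate_succ_apply']
  have hF : (g.toZModLinearMap p) ^ p = g.toZModLinearMap p := by
    ext x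
    rw [hiter, hg, hFapp]
  obtain ⟨μ, v, hv0, hv⟩ := exists_eigenvector_zmod p (g.toZModLinearMap p) hF
  refine ⟨v, μ.val, hv0, ?_⟩
  have h1 : μ • v = μ.val • v := by
    rw [← Nat.cast_smul_eq_nsmul (ZMod p), ZMod.natCast_zmod_val]
  rw [h1, hFapp] at hv
  exact hv

/-- An endomorphism `f` of a nontrivial finite commutative group of exponent `p` with `f^[p] = f` maps some nontrivial
element to one of its powers. -/
theorem exists_eigen_commGroup (p : ℕ) [Fact p.Prime] {V : Type*} [CommGroup V] [Finite V] [Nontrivial V]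
    (hV : ∀ x : V, x ^ p = 1) (f : V →* V) (hf : ∀ x, f^[p] x = f x) :
    ∃ (v : V) (a : ℕ), v ≠ 1 ∧ f v = v ^ a := by
  have hM : ∀ x : Additive V, p • x = 0 := fun x => hV x.toMul
  obtain ⟨v, a, hv0, hv⟩ := @exists_eigen_addCommGroup p _ (Additive V) _ (AddCommGroup.zmodModule hM) _ _
    (MonoidHom.toAdditive f) hf
  exact ⟨v.toMul, a, hv0, hv⟩

end Cfsg.Agent.Helper87
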