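import Cfsg.Agent.Helper87.Eigen
import Cfsg.Agent.Helper88.OmegaAut
import Mathlib.GroupTheory.Perm.Cycle.Type
set_option autoImplicit false

namespace Cfsg.Agent.Helper87

variable {T : Type*} [Group T]

/-- `Ω₁(Z(T))`: the central elements of order dividing `p`. -/
def omegaCenter (T : Type*) [Group T] (p : ℕ) : Subgroup T where
  carrier := {z | z ∈ Subgroup.center T ∧ z ^ p = 1}
  one_mem' := ⟨Subgroup.one_mem _, one_pow p⟩
  mul_mem' := by
    rintro a b ⟨ha, hap⟩ ⟨hb, hbp⟩
    refine ⟨Subgroup.mul_mem _ ha hb, ?_⟩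
    have hc : Commute a b := (Subgroup.mem_center_iff.mp hb a)
    rw [hc.mul_pow, hap, hbp, one_mul]
  inv_mem' := by
    rintro a ⟨ha, hap⟩
    exact ⟨Subgroup.inv_mem _ ha, by rw [inv_pow, hap, inv_one]⟩

theorem mem_omegaCenter_iff (p : ℕ) (z : T) : z ∈ omegaCenter T p ↔ z ∈ Subgroup.center T ∧ z ^ p = 1 := Iff.rfl

theorem omegaCenter_ne_bot [Finite T] [Nontrivial T] {p : ℕ} [Fact p.Prime] (hT : IsPGroup p T) :
    omegaCenter T p ≠ ⊥ := by
  have hnt : Nontrivial (Subgroup.center T) := hT.center_nontrivial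
  have hZ : IsPGroup p (Subgroup.center T) := hT.to_subgroup _
  obtain ⟨n, hn⟩ := IsPGroup.iff_card.mp hZ
  have hn0 : n ≠ 0 := by
    rintro rfl
    rw [pow_zero] at hn
    have := Finite.one_lt_card_iff_nontrivial.mpr hnt
    omega
  have hdvd : p ∣ Nat.card (Subgroup.center T) := hn ▸ dvd_pow_self p hn0
  obtain ⟨z, hz⟩ := exists_prime_orderOf_dvd_card' p hdvd
  intro hbot
  have hzV : (z : T) ∈ omegaCenter T p := by
    refine ⟨z.2, ?_⟩
    have h1 : z ^ p = 1 := by rw [← hz]; exact pow_orderOf_eq_one z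
    have h2 := congrArg Subtype.val h1
    simpa using h2
  rw [hbot, Subgroup.mem_bot] at hzV
  have h3 : z = 1 := Subtype.ext hzV
  rw [h3, orderOf_one] at hz
  exact (Fact.out : p.Prime).one_lt.ne hz

theorem map_mem_omegaCenter {p : ℕ} (α : MulAut T) {z : T} (hz : z ∈ omegaCenter T p) : α z ∈ omegaCenter T p := by
  refine ⟨?_, by rw [← map_pow, hz.2, map_one]⟩
  rw [Subgroup.mem_center_iff]
  intro g
  have h1 := Subgroup.mem_center_iff.mp hz.1 (α⁻¹ g)
  have h2 := congrArg α h1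
  simpa using h2

theorem iterate_mulAut_apply {G : Type*} [Group G] (α : MulAut G) (n : ℕ) (x : G) :
    (α.toMonoidHom)^[n] x = (α ^ n) x := by
  induction n with
  | zero => rfl
  | succ n ih =>
    rw [Function.iterate_succ_apply', ih, pow_succ', MulAut.mul_apply]
    rfl

/-- A commutative group `H` of automorphisms of a nontrivial finite `p`-group, of exponent dividing `p - 1`, leaves invariant
a nontrivial cyclic central subgroup. -/
theorem exists_central_eigen [Finite T] [Nontrivial T] {p : ℕ} [Fact p.Prime] (hT : IsPGroup p T)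
    (H : Subgroup (MulAut T)) (hcomm : ∀ a ∈ H, ∀ b ∈ H, a * b = b * a) (hexp : ∀ h ∈ H, h ^ (p - 1) = 1) :
    ∃ z : T, z ≠ 1 ∧ z ∈ Subgroup.center T ∧ ∀ h ∈ H, h z ∈ Subgroup.zpowers z := by
  have hp : p.Prime := Fact.out
  have hfinS : Finite (Subgroup T) := Finite.of_injective (fun K : Subgroup T => (K : Set T)) SetLike.coe_injective
  -- a minimal nontrivial invariant subgroup of `Ω₁(Z(T))`
  obtain ⟨N, hN, hmin⟩ := exists_minimal_of_wellFoundedLT
    (fun N : Subgroup T => N ≠ ⊥ ∧ N ≤ omegaCenter T p ∧ ∀ h ∈ H, ∀ x ∈ N, h x ∈ N)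
    ⟨omegaCenter T p, omegaCenter_ne_bot hT, le_rfl, fun h _ x hx => map_mem_omegaCenter h hx⟩
  obtain ⟨hNbot, hNV, hNinv⟩ := hN
  have hNc : ∀ x ∈ N, ∀ y : T, y * x = x * y := fun x hx y => Subgroup.mem_center_iff.mp (hNV hx).1 y
  -- every element of `H` acts on `N` as a power map
  have key : ∀ h ∈ H, ∃ a : ℕ, ∀ x ∈ N, h x = x ^ a := by
    intro h hh
    have hiff : ∀ x, h x ∈ N ↔ x ∈ N := by
      intro x
      constructor
      · intro hx
        have := hNinv h⁻¹ (H.inv_mem hh) _ hx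
        simpa using this
      · exact hNinv h hh x
    have hpow : h ^ p = h := by
      have : p = (p - 1) + 1 := (Nat.succ_pred_eq_of_pos hp.pos).symm
      rw [this, pow_succ, hexp h hh, one_mul]
    let cg : CommGroup N := { (inferInstance : Group N) with
      mul_comm := fun a b => Subtype.ext (hNc b b.2 a) }
    have hnt : Nontrivial N := (Subgroup.nontrivial_iff_ne_bot N).mpr hNbot
    obtain ⟨v, a, hv1, hva⟩ := @exists_eigen_commGroup p _ N cg _ hnt
      (fun x => Subtype.ext (by rw [Subgroup.coe_pow]; exact (hNV x.2).2))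
      (Cfsg.Agent.Helper88.restrictAut h N hiff).toMonoidHom
      (fun x => by
        rw [iterate_mulAut_apply]
        apply Subtype.ext
        rw [Cfsg.Agent.Helper88.restrictAut_pow, hpow]
        rfl)
    have hva' : h (v : T) = (v : T) ^ a := by
      have h0 := congrArg Subtype.val hva
      rw [@Subgroup.coe_pow] at h0
      exact h0
    -- the eigen-subgroup
    let E : Subgroup T :=
      { carrier := {x | x ∈ N ∧ h x = x ^ a}
        one_mem' := ⟨N.one_mem, by simp⟩
        mul_mem' := by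
          rintro x y ⟨hx, hxa⟩ ⟨hy, hya⟩
          refine ⟨N.mul_mem hx hy, ?_⟩
          have hc : Commute x y := hNc y hy x
          rw [map_mul, hxa, hya, hc.mul_pow]
        inv_mem' := by
          rintro x ⟨hx, hxa⟩
          exact ⟨N.inv_mem hx, by rw [map_inv, hxa, inv_pow]⟩ }
    have hEN : E ≤ N := fun x hx => hx.1
    have hE : E ≠ ⊥ ∧ E ≤ omegaCenter T p ∧ ∀ g ∈ H, ∀ x ∈ E, g x ∈ E := by
      refine ⟨?_, hEN.trans hNV, ?_⟩
      · intro hbot
        have hvE : (v : T) ∈ E := ⟨v.2, hva'⟩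
        rw [hbot, Subgroup.mem_bot] at hvE
        exact hv1 (Subtype.ext hvE)
      · rintro g hg x ⟨hx, hxa⟩
        refine ⟨hNinv g hg x hx, ?_⟩
        have h1 : h (g x) = g (h x) := by
          have := congrArg (fun β : MulAut T => β x) (hcomm h hh g hg)
          simpa [MulAut.mul_apply] using this
        rw [h1, hxa, map_pow]
    have hNE : N ≤ E := hmin hE hEN
    exact ⟨a, fun x hx => (hNE hx).2⟩
  obtain ⟨z', hz'⟩ := (Subgroup.ne_bot_iff_exists_ne_one).mp hNbot
  obtain ⟨z, hzN, hz1⟩ : ∃ z : T, z ∈ N ∧ z ≠ 1 := ⟨(z' : T), z'.2, fun h => hz' (Subtype.ext h)⟩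
  refine ⟨z, hz1, (hNV hzN).1, fun h hh => ?_⟩
  obtain ⟨a, ha⟩ := key h hh
  rw [ha z hzN]
  exact Subgroup.npow_mem_zpowers z a

end Cfsg.Agent.Helper87
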