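import Cfsg.Agent.Helper87.EssentialAut
import Cfsg.Agent.Helper87.CyclicChainAbs
set_option autoImplicit false

namespace Cfsg.Agent.Helper87

open Cfsg
open scoped commutatorElement

/-- If the commutators of a group `A` of automorphisms lie in a `p`-group of automorphisms, no quotient of `A` has a
strongly `p`-embedded subgroup. -/
theorem false_of_mulAut_commutators {T : Type*} [Group T] [Finite T] {p : ℕ} [Fact p.Prime]
    (A : Subgroup (MulAut T)) (N : Subgroup A) [N.Normal] (Y : Subgroup (A ⧸ N)) (hY : IsStronglyPEmbedded p Y)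
    (K : Subgroup (MulAut T)) (hK : IsPGroup p K) (hc : ∀ α ∈ A, ∀ β ∈ A, ⁅α, β⁆ ∈ K) : False := by
  have : Finite (MulAut T) := MulEquiv.finite_left
  refine false_of_commutator_mem_pGroup N Y hY (K.subgroupOf A) (hK.comap_subtype) ?_
  intro a b
  rw [Subgroup.mem_subgroupOf]
  have h := hc a a.2 b b.2
  have e : ((⁅a, b⁆ : A) : MulAut T) = ⁅(a : MulAut T), (b : MulAut T)⁆ := map_commutatorElement A.subtype a b
  rw [e]
  exact h

/-- A finite `p`-group with a chain of characteristic subgroups with cyclic steps: no quotient of a group of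
automorphisms has a strongly `p`-embedded subgroup. -/
theorem false_of_invariant_chain {T : Type*} [Group T] [Finite T] {p : ℕ} [Fact p.Prime] (hT : IsPGroup p T)
    (A : Subgroup (MulAut T)) (N : Subgroup A) [N.Normal] (Y : Subgroup (A ⧸ N)) (hY : IsStronglyPEmbedded p Y)
    (m : ℕ) (c : Fin (m + 1) → Subgroup T) (h0 : c 0 = ⊥) (hl : c (Fin.last m) = ⊤)
    (hinv : ∀ α : MulAut T, ∀ i, ∀ x ∈ c i, α x ∈ c i)
    (hstep : ∀ i : Fin m, c i.castSucc ≤ c i.succ ∧ ∃ x : T, c i.succ = c i.castSucc ⊔ Subgroup.zpowers x) :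
    False := by
  have hnorm : ∀ i, (c i).Normal := by
    intro i
    constructor
    intro x hx g
    exact hinv (MulAut.conj g) i x hx
  obtain ⟨K, hKp, hKc, -⟩ := cyclic_chain_stab_abs hT m c h0 hl hnorm hstep ⊤
    (fun α _ i x hx => hinv α i x hx)
  exact false_of_mulAut_commutators A N Y hY K hKp
    (fun α _ β _ => hKc α (Subgroup.mem_top _) β (Subgroup.mem_top _))

/-- If `B < D ≤ C` with `|C| = p |B|`, `p` prime, then `D = C`. -/
theorem eq_of_lt_of_le_of_card {T : Type*} [Group T] [Finite T] {p : ℕ} (hp : p.Prime) (B D C : Subgroup T)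
    (hBD : B < D) (hDC : D ≤ C) (hcard : Nat.card C = p * Nat.card B) : D = C := by
  have hd1 : Nat.card B ∣ Nat.card D := Subgroup.card_dvd_of_le hBD.le
  have hd2 : Nat.card D ∣ p * Nat.card B := hcard ▸ Subgroup.card_dvd_of_le hDC
  obtain ⟨k, hk⟩ := hd1
  have hBpos : 0 < Nat.card B := Nat.card_pos
  have hkp : k ∣ p := by
    rw [hk, mul_comm p] at hd2
    exact Nat.dvd_of_mul_dvd_mul_left hBpos hd2
  rcases (Nat.dvd_prime hp).mp hkp with h1 | h1
  · exfalso
    rw [h1, mul_one] at hk
    have := Subgroup.eq_of_le_of_card_ge hBD.le (le_of_eq hk)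
    exact hBD.ne this
  · apply Subgroup.eq_of_le_of_card_ge hDC
    rw [hcard, hk, h1, mul_comm]

/-- If `B ≤ C` with `|C| = p |B|`, `p` prime, then `C` is generated by `B` and one element. -/
theorem exists_sup_zpowers_of_card {T : Type*} [Group T] [Finite T] {p : ℕ} (hp : p.Prime) (B C : Subgroup T)
    (hBC : B ≤ C) (hcard : Nat.card C = p * Nat.card B) : ∃ y : T, C = B ⊔ Subgroup.zpowers y := by
  have hne : B ≠ C := by
    intro h
    rw [h] at hcard
    have hpos : 0 < Nat.card C := Nat.card_pos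
    have : 1 * Nat.card C = p * Nat.card C := by rw [one_mul]; exact hcard
    have := Nat.eq_of_mul_eq_mul_right hpos this
    exact hp.one_lt.ne this
  obtain ⟨y, hyC, hyB⟩ := SetLike.exists_of_lt (lt_of_le_of_ne hBC hne)
  refine ⟨y, ?_⟩
  have hle : B ⊔ Subgroup.zpowers y ≤ C := sup_le hBC (by rwa [Subgroup.zpowers_le])
  have hlt : B < B ⊔ Subgroup.zpowers y := by
    refine lt_of_le_of_ne le_sup_left ?_
    intro h
    apply hyB
    rw [h]
    exact le_sup_right (α := Subgroup T) (Subgroup.mem_zpowers y)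
  exact (eq_of_lt_of_le_of_card hp B _ C hlt hle hcard).symm

end Cfsg.Agent.Helper87
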