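import Mathlib
import Cfsg.Agent.Helper15.ZassKernel

set_option autoImplicit false

/-!
# A Zassenhaus subgroup of a Zassenhaus group contains the Frobenius kernel of a point stabilizer
-/

namespace Cfsg.Agent.Helper87

open MulAction
open Cfsg.Agent.Helper60.Zassenhaus

variable {G Ω : Type*} [Group G] [MulAction G Ω]

/-- The Frobenius count, lower bound: in the point stabilizer `X` of a doubly transitive group of degree `n`, the set
of elements which are trivial or fix no further point has at least `n - 1` elements. -/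
theorem card_kernel_ge [Finite G] [Fintype Ω]
    (h2 : IsMultiplyPretransitive G Ω 2)
    (hn : 2 ≤ Fintype.card Ω) (a : Ω) :
    Fintype.card Ω ≤
      Nat.card {x : stabilizer G a | x = 1 ∨ ∀ y : SubMulAction.ofStabilizer G a, x • y ≠ y} + 1 := by
  classical
  have : Fintype G := Fintype.ofFinite G
  set X := stabilizer G a
  set Y := SubMulAction.ofStabilizer G a
  have hYcard : Fintype.card Y + 1 = Fintype.card Ω := by
    have := SubMulAction.nat_card_ofStabilizer_add_one_eq G a
    rwa [Nat.card_eq_fintype_card, Nat.card_eq_fintype_card] at this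
  have htrans : IsPretransitive X Y := by
    constructor
    intro y y'
    have hy : (y : Ω) ≠ a := SubMulAction.neq_of_mem_ofStabilizer G a
    have hy' : (y' : Ω) ≠ a := SubMulAction.neq_of_mem_ofStabilizer G a
    obtain ⟨g, ga, gy⟩ := exists_map2 h2 (Ne.symm hy) (Ne.symm hy')
    refine ⟨⟨g, ga⟩, ?_⟩
    apply Subtype.ext
    exact gy
  have hYne : Nonempty Y := by
    rw [← Fintype.card_pos_iff]; omega
  have horb : Fintype.card (Quotient (orbitRel X Y)) = 1 := by
    rw [Fintype.card_eq_one_iff_nonempty_unique]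
    have hs : Subsingleton (Quotient (orbitRel X Y)) :=
      (pretransitive_iff_subsingleton_quotient X Y).mp htrans
    obtain ⟨y⟩ := hYne
    exact ⟨@Unique.mk' _ ⟨Quotient.mk'' y⟩ hs⟩
  have hburn := sum_card_fixedBy_eq_card_orbits_mul_card_group X Y
  rw [horb, one_mul] at hburn
  set K : Finset X := Finset.univ.filter (fun x => x = 1 ∨ ∀ y : Y, x • y ≠ y) with hK
  have hbound : ∀ x : X, (if x = 1 then Fintype.card Y else 0) + (if x ∈ K then 0 else 1) ≤
      Fintype.card (fixedBy Y x) + (if x = 1 then 0 else 0) := by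
    intro x
    by_cases hx1 : x = 1
    · have hxK : x ∈ K := by
        rw [hK, Finset.mem_filter]
        exact ⟨Finset.mem_univ _, Or.inl hx1⟩
      rw [if_pos hx1, if_pos hxK, if_pos hx1, add_zero, add_zero]
      apply le_of_eq
      subst hx1
      apply Fintype.card_congr
      exact {
        toFun := fun y => ⟨y, by simp [MulAction.mem_fixedBy]⟩
        invFun := fun y => y.1
        left_inv := fun y => rfl
        right_inv := fun y => rfl }
    · rw [if_neg hx1, zero_add, if_neg hx1, add_zero]
      by_cases hxK : x ∈ K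
      · rw [if_pos hxK]; exact Nat.zero_le _
      · rw [if_neg hxK]
        rw [hK, Finset.mem_filter] at hxK
        push Not at hxK
        obtain ⟨y, hy⟩ := (hxK (Finset.mem_univ _)).2
        exact Fintype.card_pos_iff.mpr ⟨⟨y, hy⟩⟩
  have hsum := Finset.sum_le_sum (fun x (_ : x ∈ (Finset.univ : Finset X)) => hbound x)
  simp only [ite_self, add_zero] at hsum
  rw [hburn, Finset.sum_add_distrib, Finset.sum_ite_eq' Finset.univ (1 : X)] at hsum
  simp only [Finset.mem_univ, if_true] at hsum
  have hsum2 : (∑ x : X, if x ∈ K then 0 else 1) = Fintype.card X - K.card := by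
    rw [← Finset.card_compl, Finset.sum_ite, Finset.sum_const_zero, zero_add, Finset.sum_const,
      smul_eq_mul, mul_one]
    congr 1
    ext x
    simp
  rw [hsum2] at hsum
  have hKle : K.card ≤ Fintype.card X := Finset.card_le_univ K
  have hKcard : Nat.card {x : X | x = 1 ∨ ∀ y : Y, x • y ≠ y} = K.card := by
    rw [Nat.card_eq_fintype_card, hK, ← Fintype.card_subtype]
    rfl
  rw [hKcard]
  omega

/-- **(W1)** A subgroup `M` of a Zassenhaus group `G` which is itself a Zassenhaus group on the same set contains the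
Frobenius kernel `H` of every point stabilizer of `G`. -/
theorem kernel_le_of_zassenhaus_subgroup {G Ω : Type*} [Group G] [Finite G] [MulAction G Ω] [Fintype Ω]
    (hZ : Cfsg.IsZassenhausGroup G Ω) (a : Ω) (H : Subgroup G) (hHa : H ≤ MulAction.stabilizer G a)
    (hHcard : Nat.card H + 1 = Fintype.card Ω)
    (hHfix : ∀ u ∈ H, u ≠ 1 → ∀ c : Ω, u • c = c → c = a) (M : Subgroup G)
    (hM : Cfsg.IsZassenhausGroup ↥M Ω) : H ≤ M := by
  classical
  have hn := three_le_card hM
  have hge := card_kernel_ge hM.2.1 (by omega) a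
  set KM : Set (stabilizer ↥M a) :=
    {x : stabilizer ↥M a | x = 1 ∨ ∀ y : SubMulAction.ofStabilizer ↥M a, x • y ≠ y} with hKM
  -- every element of `KM` lies in `H ⊓ M`
  have hmem : ∀ x ∈ KM, (((x : ↥M) : G)) ∈ H ⊓ M := by
    intro x hx
    refine ⟨?_, (x : ↥M).2⟩
    rcases hx with h1 | hfix
    · rw [h1]; exact H.one_mem
    · apply Cfsg.Agent.Helper15.Zass.mem_kernel_of_fix_only hZ a H hHa hHcard hHfix
      · exact x.2
      · intro c hc
        by_contra hca
        have hcmem : c ∈ SubMulAction.ofStabilizer ↥M a := by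
          rw [SubMulAction.mem_ofStabilizer_iff]
          exact hca
        apply hfix ⟨c, hcmem⟩
        apply Subtype.ext
        exact hc
  -- so `KM` injects into `H ⊓ M`
  let f : KM → ↥(H ⊓ M) := fun x => ⟨(((x : stabilizer ↥M a) : ↥M) : G), hmem x.1 x.2⟩
  have hf : Function.Injective f := by
    intro x y hxy
    have h1 : ((((x : stabilizer ↥M a) : ↥M) : G)) = (((y : stabilizer ↥M a) : ↥M) : G) :=
      congrArg (fun z : ↥(H ⊓ M) => (z : G)) hxy
    exact Subtype.ext (Subtype.ext (Subtype.ext h1))
  have hcard1 : Nat.card KM ≤ Nat.card ↥(H ⊓ M) := Nat.card_le_card_of_injective f hf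
  have hcard2 : Nat.card H ≤ Nat.card ↥(H ⊓ M) := by
    have : Fintype.card Ω ≤ Nat.card KM + 1 := hge
    omega
  have heq : H ⊓ M = H := by
    apply Subgroup.eq_of_le_of_card_ge inf_le_left hcard2
  rw [← heq]
  exact inf_le_right

end Cfsg.Agent.Helper87
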