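import Cfsg.Agent.Helper87.FrakLCore
import Cfsg.Agent.Helper47.YL
import Cfsg.Agent.Helper47.Basic

/-!
# From `IsInFrakL` to the abstract data `LD`
-/

set_option autoImplicit false

namespace Cfsg.Agent.Helper87.FrakL

open Cfsg

variable {G : Type*} [Group G]

theorem mem_normalizer_subgroupOf_iff {Yg L : Subgroup G} (hYL : Yg ≤ L) (x : ↥L) :
    x ∈ Subgroup.normalizer ((Yg.subgroupOf L : Subgroup ↥L) : Set ↥L) ↔
      (x : G) ∈ Subgroup.normalizer (Yg : Set G) := by
  rw [Subgroup.mem_normalizer_iff, Subgroup.mem_normalizer_iff]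
  constructor
  · intro h y
    constructor
    · intro hy
      have := (h ⟨y, hYL hy⟩).mp (by rw [Subgroup.mem_subgroupOf]; exact hy)
      rw [Subgroup.mem_subgroupOf] at this
      simpa using this
    · intro hy
      have hyL : y ∈ L := by
        have h1 : (x : G) * y * (x : G)⁻¹ ∈ L := hYL hy
        have : y = (x : G)⁻¹ * ((x : G) * y * (x : G)⁻¹) * (x : G) := by group
        rw [this]; exact L.mul_mem (L.mul_mem (L.inv_mem x.2) h1) x.2
      have := (h ⟨y, hyL⟩).mpr (by rw [Subgroup.mem_subgroupOf]; simpa using hy)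
      rw [Subgroup.mem_subgroupOf] at this
      exact this
  · intro h y
    rw [Subgroup.mem_subgroupOf, Subgroup.mem_subgroupOf]
    have := h (y : G)
    simpa using this

theorem mem_pCoreOf_iff {p : ℕ} {L : Subgroup G} (x : ↥L) :
    (x : G) ∈ pCoreOf p L ↔ x ∈ pCore p ↥L := by
  unfold pCoreOf
  constructor
  · rintro ⟨l, hl, hlx⟩
    have : l = x := Subtype.ext hlx
    rwa [this] at hl
  · intro hx
    exact ⟨x, hx, rfl⟩

theorem pCoreOf_le {p : ℕ} (L : Subgroup G) : pCoreOf p L ≤ L := Subgroup.map_subtype_le _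

theorem mem_center_iff_centralizer {L : Subgroup G} (x : ↥L) :
    x ∈ Subgroup.center ↥L ↔ (x : G) ∈ Subgroup.centralizer ((L : Subgroup G) : Set G) := by
  rw [Subgroup.mem_center_iff, Subgroup.mem_centralizer_iff]
  constructor
  · intro h l hl
    have := congrArg Subtype.val (h ⟨l, hl⟩)
    simpa using this
  · intro h g
    apply Subtype.ext
    have := h (g : G) g.2
    simpa using this

theorem ld_of_isInFrakL [Finite G] {p : ℕ} [Fact p.Prime] {M L : Subgroup G}
    (hL : IsInFrakL p M L) :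
    LD ((largestPReducedOf p M).subgroupOf L) (pCore p ↥L) := by
  obtain ⟨hYL, hcl, hAN, ⟨hncl, -⟩, -, ⟨hlt, hmax⟩, -⟩ := hL
  have hEA := (Cfsg.Agent.Helper47.isPRedIn_largestPReducedOf (p := p) M).isElementaryAbelian
  have hinf : ((largestPReducedOf p M ⊓ pCoreOf p L).subgroupOf L : Subgroup ↥L) =
      (largestPReducedOf p M).subgroupOf L ⊓ pCore p ↥L := by
    ext x
    rw [Subgroup.mem_subgroupOf, Subgroup.mem_inf, Subgroup.mem_inf, Subgroup.mem_subgroupOf,
      mem_pCoreOf_iff]
  refine ⟨?_, inferInstance, ?_, ?_, hncl, ?_, ?_, ?_⟩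
  · -- commutative
    intro a ha b hb
    rw [Subgroup.mem_subgroupOf] at ha hb
    apply Subtype.ext
    have hc := hEA.1
    have := hc.is_comm.comm (⟨a, ha⟩ : ↥(largestPReducedOf p M)) ⟨b, hb⟩
    have := congrArg Subtype.val this
    simpa using this
  · -- `A` is the normal closure
    rw [← hinf]
    have h1 : (pCore p ↥L).map L.subtype =
        (Subgroup.normalClosure
          (((largestPReducedOf p M ⊓ pCoreOf p L).subgroupOf L : Subgroup ↥L) : Set ↥L)).map
          L.subtype := hcl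
    exact (Subgroup.map_injective (Subgroup.subtype_injective L) h1).le
  · -- `A ≤ N(Y)`
    intro a ha
    rw [mem_normalizer_subgroupOf_iff hYL]
    exact hAN ((mem_pCoreOf_iff a).mpr ha)
  · -- `N ≠ ⊤`
    intro htop
    apply hlt.ne
    apply le_antisymm inf_le_left
    intro x hx
    refine ⟨hx, ?_⟩
    have : (⟨x, hx⟩ : ↥L) ∈ Subgroup.normalizer
        (((largestPReducedOf p M).subgroupOf L : Subgroup ↥L) : Set ↥L) := by
      rw [htop]; exact Subgroup.mem_top _
    exact (mem_normalizer_subgroupOf_iff hYL _).mp this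
  · -- maximality
    intro X hYX hXtop x hx
    rw [mem_normalizer_subgroupOf_iff hYL]
    have h1 : largestPReducedOf p M ≤ X.map L.subtype := by
      intro y hy
      exact ⟨⟨y, hYL hy⟩, hYX (by rw [Subgroup.mem_subgroupOf]; exact hy), rfl⟩
    have h2 : X.map L.subtype < L := by
      refine lt_of_le_of_ne (Subgroup.map_subtype_le X) ?_
      intro heq
      apply hXtop
      rw [eq_top_iff]
      intro l _
      have hl : (l : G) ∈ X.map L.subtype := by rw [heq]; exact l.2
      obtain ⟨l', hl', hll⟩ := hl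
      have : l' = l := Subtype.ext hll
      rwa [this] at hl'
    exact (hmax _ h1 h2 ⟨x, hx, rfl⟩).2
  · -- `C ≤ A`
    have hCc : (largestPReducedOf p M).subgroupOf L ⊓ Subgroup.center ↥L ≤ Subgroup.center ↥L :=
      inf_le_right
    have hCn : ((largestPReducedOf p M).subgroupOf L ⊓ Subgroup.center ↥L).Normal :=
      ⟨fun n hn g => by rw [conj_central (hCc hn) g]; exact hn⟩
    apply Cfsg.Agent.Helper47.le_pCore hCn
    rintro ⟨x, hx⟩
    refine ⟨1, ?_⟩
    apply Subtype.ext
    have hxY : (x : G) ∈ largestPReducedOf p M := hx.1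
    have := hEA.2 _ hxY
    apply Subtype.ext
    simpa using this

theorem pow_eq_one_of_isInFrakL [Finite G] {p : ℕ} [Fact p.Prime] {M L : Subgroup G} :
    ∀ y ∈ (largestPReducedOf p M).subgroupOf L, y ^ p = 1 := by
  intro y hy
  rw [Subgroup.mem_subgroupOf] at hy
  have hEA := (Cfsg.Agent.Helper47.isPRedIn_largestPReducedOf (p := p) M).isElementaryAbelian
  apply Subtype.ext
  have := hEA.2 _ hy
  simpa using this

/-- `|Y A / A| = |Y : Y ∩ A|` -/
theorem card_map_mk_eq_relIndex {p : ℕ} {Yg L : Subgroup G} (hYL : Yg ≤ L) :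
    Nat.card ((Yg.subgroupOf L).map (QuotientGroup.mk' (pCore p ↥L))) =
      (Yg ⊓ pCoreOf p L).relIndex Yg := by
  set f : ↥Yg →* ↥L ⧸ pCore p ↥L :=
    (QuotientGroup.mk' (pCore p ↥L)).comp (Subgroup.inclusion hYL) with hf
  have hrange : f.range = (Yg.subgroupOf L).map (QuotientGroup.mk' (pCore p ↥L)) := by
    ext x
    constructor
    · rintro ⟨y, rfl⟩
      exact ⟨Subgroup.inclusion hYL y, Subgroup.mem_subgroupOf.mpr y.2, rfl⟩
    · rintro ⟨l, hl, rfl⟩
      have hl' : (l : G) ∈ Yg := Subgroup.mem_subgroupOf.mp hl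
      exact ⟨⟨l, hl'⟩, rfl⟩
  have hker : f.ker = (Yg ⊓ pCoreOf p L).subgroupOf Yg := by
    ext y
    rw [MonoidHom.mem_ker, Subgroup.mem_subgroupOf, Subgroup.mem_inf]
    have e : f y = QuotientGroup.mk (Subgroup.inclusion hYL y) := rfl
    rw [e, QuotientGroup.eq_one_iff, ← mem_pCoreOf_iff]
    constructor
    · intro h; exact ⟨y.2, h⟩
    · intro h; exact h.2
  rw [← hrange, ← Subgroup.index_ker, hker]
  rfl

end Cfsg.Agent.Helper87.FrakL
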