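import Mathlib
import Cfsg.Prelude.Def_LocalStructure
import Cfsg.Agent.Helper48.StronglyEmbedded

/-!
# The group-theoretic core of S2861 / S2863

`Λ` plays the role of `↥L` for `L ∈ 𝔏_G(Y_M)`, `Y` of `Y_M`, `A` of `O_p(L)`.
-/

set_option autoImplicit false

namespace Cfsg.Agent.Helper87.FrakL

open Cfsg Cfsg.Agent.Helper48

variable {Λ : Type*} [Group Λ]

/-- The hypotheses used. -/
structure LD (Y A : Subgroup Λ) : Prop where
  hYc : ∀ a ∈ Y, ∀ b ∈ Y, a * b = b * a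
  hAn : A.Normal
  hAcl : A ≤ Subgroup.normalClosure ((Y ⊓ A : Subgroup Λ) : Set Λ)
  hAN : A ≤ Subgroup.normalizer (Y : Set Λ)
  hncl : Subgroup.normalClosure (Y : Set Λ) = ⊤
  hNtop : Subgroup.normalizer (Y : Set Λ) ≠ ⊤
  hmax : ∀ X : Subgroup Λ, Y ≤ X → X ≠ ⊤ → X ≤ Subgroup.normalizer (Y : Set Λ)
  hCA : Y ⊓ Subgroup.center Λ ≤ A

theorem conjSub_top (g : Λ) : conjSub g (⊤ : Subgroup Λ) = ⊤ := by
  ext x
  rw [mem_conjSub]
  exact ⟨fun _ => Subgroup.mem_top _, fun _ => Subgroup.mem_top _⟩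

theorem conjSub_mono' (g : Λ) {X X' : Subgroup Λ} (h : X ≤ X') : conjSub g X ≤ conjSub g X' :=
  Subgroup.map_mono h

theorem conjSub_normal (g : Λ) (A : Subgroup Λ) [hA : A.Normal] : conjSub g A = A := by
  ext x
  rw [mem_conjSub]
  constructor
  · intro h
    have := hA.conj_mem _ h g
    simpa [mul_assoc] using this
  · intro h
    have := hA.conj_mem _ h g⁻¹
    simpa [mul_assoc] using this

theorem conjSub_sup (g : Λ) (X X' : Subgroup Λ) : conjSub g (X ⊔ X') = conjSub g X ⊔ conjSub g X' :=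
  Subgroup.map_sup _ _ _

theorem conjSub_inv_conjSub (g : Λ) (X : Subgroup Λ) : conjSub g⁻¹ (conjSub g X) = X := by
  rw [conjSub_conjSub, inv_mul_cancel, conjSub_one]

theorem conjSub_conjSub_inv' (g : Λ) (X : Subgroup Λ) : conjSub g (conjSub g⁻¹ X) = X := by
  rw [conjSub_conjSub, mul_inv_cancel, conjSub_one]

namespace LD

variable {Y A : Subgroup Λ}

/-- (G) two conjugates of `Y` that are not `N`-related generate `Λ`. -/
theorem sup_conj_eq_top [Finite Λ] (h : LD Y A) {g : Λ}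
    (hg : g ∉ Subgroup.normalizer (Y : Set Λ)) : Y ⊔ conjSub g Y = ⊤ := by
  by_contra hne
  have h1 : Y ⊔ conjSub g Y ≤ Subgroup.normalizer (Y : Set Λ) := h.hmax _ le_sup_left hne
  have h2 : conjSub g Y ≤ Subgroup.normalizer (Y : Set Λ) := le_sup_right.trans h1
  set N := Subgroup.normalizer (Y : Set Λ) with hN
  have h3 : Y ≤ conjSub g⁻¹ N := by
    intro y hy
    rw [mem_conjSub]
    simp only [inv_inv]
    exact h2 (conj_mem_conjSub hy)
  have h4 : conjSub g⁻¹ N ≠ ⊤ := by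
    intro htop
    apply h.hNtop
    have e : conjSub g (conjSub g⁻¹ N) = N := conjSub_conjSub_inv' g N
    rw [htop, conjSub_top] at e
    rw [hN] at e
    exact e.symm
  have h5 : conjSub g⁻¹ N ≤ N := h.hmax _ h3 h4
  have h6 : g⁻¹ ∈ Subgroup.normalizer (N : Set Λ) := mem_normalizer_of_conjSub_le h5
  have h7 : g ∈ Subgroup.normalizer (N : Set Λ) := by simpa using Subgroup.inv_mem _ h6
  by_cases h8 : Subgroup.normalizer (N : Set Λ) = ⊤
  · have hNn : N.Normal := Subgroup.normalizer_eq_top_iff.mp h8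
    have h9 : Subgroup.normalClosure (Y : Set Λ) ≤ N :=
      Subgroup.normalClosure_le_normal Subgroup.le_normalizer
    rw [h.hncl] at h9
    exact h.hNtop (top_le_iff.mp h9)
  · have h9 : Subgroup.normalizer (N : Set Λ) ≤ N :=
      h.hmax _ (Subgroup.le_normalizer.trans Subgroup.le_normalizer) h8
    exact hg (h9 h7)

/-- `[a, y] ∈ Y ∩ A`. -/
theorem comm_mem (h : LD Y A) {a y : Λ} (ha : a ∈ A) (hy : y ∈ Y) :
    a * y * a⁻¹ * y⁻¹ ∈ Y ⊓ A := by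
  refine ⟨?_, ?_⟩
  · have h1 : a * y * a⁻¹ ∈ Y := (Subgroup.mem_normalizer_iff.mp (h.hAN ha) y).mp hy
    exact Y.mul_mem h1 (Y.inv_mem hy)
  · have h1 : y * a⁻¹ * y⁻¹ ∈ A := h.hAn.conj_mem _ (A.inv_mem ha) y
    have e : a * y * a⁻¹ * y⁻¹ = a * (y * a⁻¹ * y⁻¹) := by group
    rw [e]; exact A.mul_mem ha h1

theorem comm_mem' (h : LD Y A) {a y : Λ} (ha : a ∈ A) (hy : y ∈ Y) :
    y * a * y⁻¹ * a⁻¹ ∈ Y ⊓ A := by
  have := (Y ⊓ A).inv_mem (h.comm_mem ha hy)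
  have e : (a * y * a⁻¹ * y⁻¹)⁻¹ = y * a * y⁻¹ * a⁻¹ := by group
  rwa [e] at this

/-- conjugated form -/
theorem comm_mem_conj (h : LD Y A) (g : Λ) {a y : Λ} (ha : a ∈ A) (hy : y ∈ conjSub g Y) :
    y * a * y⁻¹ * a⁻¹ ∈ conjSub g (Y ⊓ A) := by
  rw [mem_conjSub] at hy ⊢
  have ha' : g⁻¹ * a * g ∈ A := by
    have := h.hAn.conj_mem _ ha g⁻¹
    simpa using this
  have := h.comm_mem' ha' hy
  have e : g⁻¹ * (y * a * y⁻¹ * a⁻¹) * g =
      g⁻¹ * y * g * (g⁻¹ * a * g) * (g⁻¹ * y * g)⁻¹ * (g⁻¹ * a * g)⁻¹ := by group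
  rw [e]; exact this

/-- `Y ∩ Y^g` is central for `g ∉ N`. -/
theorem inf_conj_le_center [Finite Λ] (h : LD Y A) {g : Λ}
    (hg : g ∉ Subgroup.normalizer (Y : Set Λ)) : Y ⊓ conjSub g Y ≤ Subgroup.center Λ := by
  intro x hx
  have hx1 : x ∈ Y := hx.1
  have hx2 : x ∈ conjSub g Y := hx.2
  have h1 : Y ⊔ conjSub g Y ≤ Subgroup.centralizer {x} := by
    refine sup_le ?_ ?_
    · intro y hy
      rw [Subgroup.mem_centralizer_singleton_iff]
      exact h.hYc y hy x hx1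
    · intro y hy
      rw [Subgroup.mem_centralizer_singleton_iff]
      rw [mem_conjSub] at hy hx2
      have := h.hYc _ hy _ hx2
      have e1 : y * x = g * ((g⁻¹ * y * g) * (g⁻¹ * x * g)) * g⁻¹ := by group
      have e2 : x * y = g * ((g⁻¹ * x * g) * (g⁻¹ * y * g)) * g⁻¹ := by group
      rw [e1, e2, this]
  rw [h.sup_conj_eq_top hg] at h1
  rw [Subgroup.mem_center_iff]
  intro y
  have := h1 (Subgroup.mem_top y)
  rw [Subgroup.mem_centralizer_singleton_iff] at this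
  exact this

/-- `Y^g` is abelian. -/
theorem conj_comm (h : LD Y A) (g : Λ) {a b : Λ} (ha : a ∈ conjSub g Y) (hb : b ∈ conjSub g Y) :
    a * b = b * a := by
  rw [mem_conjSub] at ha hb
  have := h.hYc _ ha _ hb
  have e1 : a * b = g * ((g⁻¹ * a * g) * (g⁻¹ * b * g)) * g⁻¹ := by group
  have e2 : b * a = g * ((g⁻¹ * b * g) * (g⁻¹ * a * g)) * g⁻¹ := by group
  rw [e1, e2, this]

theorem conj_inf_le_A (h : LD Y A) (g : Λ) : conjSub g (Y ⊓ A) ≤ A := by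
  haveI := h.hAn
  have := conjSub_mono' g (inf_le_right : Y ⊓ A ≤ A)
  rwa [conjSub_normal g A] at this

/-- `A = Z Z^g` for `g ∉ N`. -/
theorem exists_mul [Finite Λ] (h : LD Y A) {g : Λ}
    (hg : g ∉ Subgroup.normalizer (Y : Set Λ)) {a : Λ} (ha : a ∈ A) :
    ∃ z ∈ Y ⊓ A, ∃ z' ∈ conjSub g (Y ⊓ A), a = z * z' := by
  haveI := h.hAn
  have hZA : Y ⊓ A ≤ A := inf_le_right
  have hZ'A : conjSub g (Y ⊓ A) ≤ A := h.conj_inf_le_A g
  have hZ'Y : conjSub g (Y ⊓ A) ≤ conjSub g Y := conjSub_mono' g inf_le_left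
  -- `Z'` normalizes `Z`
  have hZ'N : conjSub g (Y ⊓ A) ≤ Subgroup.normalizer ((Y ⊓ A : Subgroup Λ) : Set Λ) := by
    intro z' hz'
    rw [Subgroup.mem_normalizer_iff]
    intro x
    have hz'A := hZ'A hz'
    constructor
    · intro hx
      exact ⟨(Subgroup.mem_normalizer_iff.mp (h.hAN hz'A) x).mp hx.1, h.hAn.conj_mem _ hx.2 z'⟩
    · intro hx
      refine ⟨(Subgroup.mem_normalizer_iff.mp (h.hAN hz'A) x).mpr hx.1, ?_⟩
      have := h.hAn.conj_mem _ hx.2 z'⁻¹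
      simpa [mul_assoc] using this
  have hY : Y ≤ Subgroup.normalizer ((Y ⊓ A ⊔ conjSub g (Y ⊓ A) : Subgroup Λ) : Set Λ) := by
    intro y hy
    apply mem_normalizer_of_conjSub_le
    rw [conjSub_sup]
    refine sup_le ?_ ?_
    · rintro _ ⟨x, hx, rfl⟩
      have e : (MulAut.conj y).toMonoidHom x = x := by
        simp only [MulEquiv.coe_toMonoidHom, MulAut.conj_apply]
        rw [h.hYc y hy x hx.1]; group
      rw [e]; exact (le_sup_left : Y ⊓ A ≤ Y ⊓ A ⊔ conjSub g (Y ⊓ A)) hx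
    · rintro _ ⟨x, hx, rfl⟩
      have h1 := h.comm_mem' (hZ'A hx) hy
      have e : (MulAut.conj y).toMonoidHom x = (y * x * y⁻¹ * x⁻¹) * x := by
        simp [mul_assoc]
      rw [e]
      exact Subgroup.mul_mem _ ((le_sup_left : Y ⊓ A ≤ Y ⊓ A ⊔ conjSub g (Y ⊓ A)) h1)
        ((le_sup_right : conjSub g (Y ⊓ A) ≤ Y ⊓ A ⊔ conjSub g (Y ⊓ A)) hx)
  have hY' : conjSub g Y ≤
      Subgroup.normalizer ((Y ⊓ A ⊔ conjSub g (Y ⊓ A) : Subgroup Λ) : Set Λ) := by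
    intro y hy
    apply mem_normalizer_of_conjSub_le
    rw [conjSub_sup]
    refine sup_le ?_ ?_
    · rintro _ ⟨x, hx, rfl⟩
      have h1 := h.comm_mem_conj g (hZA hx) hy
      have e : (MulAut.conj y).toMonoidHom x = (y * x * y⁻¹ * x⁻¹) * x := by
        simp [mul_assoc]
      rw [e]
      exact Subgroup.mul_mem _ ((le_sup_right : conjSub g (Y ⊓ A) ≤ Y ⊓ A ⊔ conjSub g (Y ⊓ A)) h1)
        ((le_sup_left : Y ⊓ A ≤ Y ⊓ A ⊔ conjSub g (Y ⊓ A)) hx)
    · rintro _ ⟨x, hx, rfl⟩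
      have e : (MulAut.conj y).toMonoidHom x = x := by
        simp only [MulEquiv.coe_toMonoidHom, MulAut.conj_apply]
        rw [h.conj_comm g hy (hZ'Y hx)]; group
      rw [e]; exact (le_sup_right : conjSub g (Y ⊓ A) ≤ Y ⊓ A ⊔ conjSub g (Y ⊓ A)) hx
  have htop : Subgroup.normalizer ((Y ⊓ A ⊔ conjSub g (Y ⊓ A) : Subgroup Λ) : Set Λ) = ⊤ := by
    rw [eq_top_iff, ← h.sup_conj_eq_top hg]
    exact sup_le hY hY'
  have hn : (Y ⊓ A ⊔ conjSub g (Y ⊓ A)).Normal := Subgroup.normalizer_eq_top_iff.mp htop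
  have hcl : Subgroup.normalClosure ((Y ⊓ A : Subgroup Λ) : Set Λ) ≤ Y ⊓ A ⊔ conjSub g (Y ⊓ A) :=
    Subgroup.normalClosure_le_normal (fun x hx => (le_sup_left : Y ⊓ A ≤ _) hx)
  have ha' : a ∈ ((Y ⊓ A ⊔ conjSub g (Y ⊓ A) : Subgroup Λ) : Set Λ) := hcl (h.hAcl ha)
  rw [Subgroup.coe_mul_of_right_le_normalizer_left _ _ hZ'N] at ha'
  obtain ⟨z, hz, z', hz', e⟩ := Set.mem_mul.mp ha'
  exact ⟨z, hz, z', hz', e.symm⟩

end LD

theorem conj_central {c : Λ} (hc : c ∈ Subgroup.center Λ) (x : Λ) : x * c * x⁻¹ = c := by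
  rw [Subgroup.mem_center_iff] at hc
  rw [hc x]; group

/-- The elements commuting with `w` modulo the central subgroup `C`. -/
def cmSub (C : Subgroup Λ) (hC : C ≤ Subgroup.center Λ) (w : Λ) : Subgroup Λ where
  carrier := {x | x * w * x⁻¹ * w⁻¹ ∈ C}
  one_mem' := by simp
  mul_mem' := by
    intro x y hx hy
    have e : x * y * w * (x * y)⁻¹ * w⁻¹ =
        x * (y * w * y⁻¹ * w⁻¹) * x⁻¹ * (x * w * x⁻¹ * w⁻¹) := by group
    rw [Set.mem_setOf_eq, e, conj_central (hC hy) x]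
    exact C.mul_mem hy hx
  inv_mem' := by
    intro x hx
    have e : x⁻¹ * w * x⁻¹⁻¹ * w⁻¹ = x⁻¹ * (x * w * x⁻¹ * w⁻¹)⁻¹ * x⁻¹⁻¹ := by group
    rw [Set.mem_setOf_eq, e, conj_central (hC (C.inv_mem hx)) x⁻¹]
    exact C.inv_mem hx

theorem mem_cmSub {C : Subgroup Λ} {hC : C ≤ Subgroup.center Λ} {w x : Λ} :
    x ∈ cmSub C hC w ↔ x * w * x⁻¹ * w⁻¹ ∈ C := Iff.rfl

namespace LD

variable {Y A : Subgroup Λ}

/-- KEY: an element commuting with everything modulo `C` and with a conjugate of `Y` is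
central. -/
theorem central_of_cm (h : LD Y A) {C : Subgroup Λ} (hC : C ≤ Subgroup.center Λ) {w d : Λ}
    (h1 : cmSub C hC w = ⊤) (h2 : ∀ y ∈ conjSub d Y, y * w = w * y) :
    w ∈ Subgroup.center Λ := by
  have hn : (Subgroup.centralizer ({w} : Set Λ)).Normal := by
    refine ⟨fun k hk x => ?_⟩
    rw [Subgroup.mem_centralizer_singleton_iff] at hk ⊢
    have hx : x⁻¹ ∈ cmSub C hC w := by rw [h1]; exact Subgroup.mem_top _
    rw [mem_cmSub] at hx
    simp only [inv_inv] at hx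
    have hc := hC hx
    rw [Subgroup.mem_center_iff] at hc
    -- `x⁻¹ w x = c w`
    have e1 : x⁻¹ * w * x = (x⁻¹ * w * x * w⁻¹) * w := by group
    have key : k * (x⁻¹ * w * x) = (x⁻¹ * w * x) * k := by
      rw [e1, ← mul_assoc, hc k, mul_assoc, hk, ← mul_assoc]
    have e2 : x * k * x⁻¹ * w = x * (k * (x⁻¹ * w * x)) * x⁻¹ := by group
    have e3 : w * (x * k * x⁻¹) = x * ((x⁻¹ * w * x) * k) * x⁻¹ := by group
    rw [e2, e3, key]
  have hle : conjSub d Y ≤ Subgroup.centralizer ({w} : Set Λ) := by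
    intro y hy
    rw [Subgroup.mem_centralizer_singleton_iff]
    exact h2 y hy
  have hY : Y ≤ Subgroup.centralizer ({w} : Set Λ) := by
    have := conjSub_mono' d⁻¹ hle
    rwa [conjSub_inv_conjSub, conjSub_normal] at this
  have htop : Subgroup.normalClosure (Y : Set Λ) ≤ Subgroup.centralizer ({w} : Set Λ) :=
    Subgroup.normalClosure_le_normal hY
  rw [h.hncl] at htop
  rw [Subgroup.mem_center_iff]
  intro y
  have := htop (Subgroup.mem_top y)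
  rw [Subgroup.mem_centralizer_singleton_iff] at this
  exact this

/-- (F3) general form: if `X ≤ Y` together with `Y^g` generates `Λ`, then the elements of `A`
fixed by `X` modulo `C` lie in `Y ∩ A`. -/
theorem fix_gen [Finite Λ] (h : LD Y A) {g : Λ} (hg : g ∉ Subgroup.normalizer (Y : Set Λ))
    {X : Subgroup Λ} (hXY : X ≤ Y) (hX : X ⊔ conjSub g Y = ⊤) {a : Λ} (ha : a ∈ A)
    (hfix : ∀ x ∈ X, x * a * x⁻¹ * a⁻¹ ∈ Y ⊓ Subgroup.center Λ) : a ∈ Y ⊓ A := by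
  have hC : Y ⊓ Subgroup.center Λ ≤ Subgroup.center Λ := inf_le_right
  obtain ⟨z, hz, z', hz', rfl⟩ := h.exists_mul hg ha
  have hz'Y : z' ∈ conjSub g Y := conjSub_mono' g inf_le_left hz'
  have h1 : cmSub (Y ⊓ Subgroup.center Λ) hC z' = ⊤ := by
    rw [eq_top_iff, ← hX]
    refine sup_le ?_ ?_
    · intro x hx
      rw [mem_cmSub]
      have h2 := hfix x hx
      -- `x z = z x`
      have hxz : x * z = z * x := h.hYc x (hXY hx) z hz.1
      have e : x * (z * z') * x⁻¹ * (z * z')⁻¹ = z * (x * z' * x⁻¹ * z'⁻¹) * z⁻¹ := by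
        have : x * (z * z') * x⁻¹ * (z * z')⁻¹ = (x * z) * z' * x⁻¹ * z'⁻¹ * z⁻¹ := by group
        rw [this, hxz]; group
      rw [e] at h2
      have h3 := conj_central (hC h2) z⁻¹
      have e' : z⁻¹ * (z * (x * z' * x⁻¹ * z'⁻¹) * z⁻¹) * z⁻¹⁻¹ = x * z' * x⁻¹ * z'⁻¹ := by group
      rw [e'] at h3
      rw [h3]; exact h2
    · intro y hy
      rw [mem_cmSub, h.conj_comm g hy hz'Y]
      have : z' * y * y⁻¹ * z'⁻¹ = 1 := by group
      rw [this]; exact Subgroup.one_mem _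
  have h2 : z' ∈ Subgroup.center Λ :=
    h.central_of_cm hC h1 (fun y hy => h.conj_comm g hy hz'Y)
  have h3 : z' ∈ Y := by
    rw [mem_conjSub] at hz'Y
    have := conj_central h2 g⁻¹
    simp only [inv_inv] at this
    rwa [this] at hz'Y
  have h4 : z' ∈ A := h.conj_inf_le_A g hz'
  exact (Y ⊓ A).mul_mem hz ⟨h3, h4⟩

/-- conjugated form of `fix_gen` -/
theorem fix_gen_conj [Finite Λ] (h : LD Y A) (c : Λ) {g : Λ}
    (hg : c⁻¹ * g ∉ Subgroup.normalizer (Y : Set Λ))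
    {X : Subgroup Λ} (hXY : X ≤ conjSub c Y) (hX : X ⊔ conjSub g Y = ⊤) {a : Λ} (ha : a ∈ A)
    (hfix : ∀ x ∈ X, x * a * x⁻¹ * a⁻¹ ∈ Y ⊓ Subgroup.center Λ) : a ∈ conjSub c (Y ⊓ A) := by
  haveI := h.hAn
  have hC : Y ⊓ Subgroup.center Λ ≤ Subgroup.center Λ := inf_le_right
  rw [mem_conjSub]
  apply h.fix_gen hg (X := conjSub c⁻¹ X)
  · have := conjSub_mono' c⁻¹ hXY
    rwa [conjSub_inv_conjSub] at this
  · have e : conjSub c⁻¹ (X ⊔ conjSub g Y) = conjSub c⁻¹ X ⊔ conjSub (c⁻¹ * g) Y := by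
      rw [conjSub_sup, conjSub_conjSub]
    rw [← e, hX, conjSub_top]
  · have := h.hAn.conj_mem _ ha c⁻¹
    simpa using this
  · intro x hx
    rw [mem_conjSub] at hx
    simp only [inv_inv] at hx
    have h1 := hfix _ hx
    have h2 := conj_central (hC h1) c⁻¹
    have e : c⁻¹ * (c * x * c⁻¹ * a * (c * x * c⁻¹)⁻¹ * a⁻¹) * c⁻¹⁻¹ =
        x * (c⁻¹ * a * c) * x⁻¹ * (c⁻¹ * a * c)⁻¹ := by group
    rw [e] at h2
    rw [h2]; exact h1

/-- `Y^c ∩ Y^d ≤ C` when `c⁻¹ d ∉ N`. -/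
theorem conj_inf_conj_le [Finite Λ] (h : LD Y A) {c d : Λ}
    (hcd : c⁻¹ * d ∉ Subgroup.normalizer (Y : Set Λ)) :
    conjSub c Y ⊓ conjSub d Y ≤ Y ⊓ Subgroup.center Λ := by
  intro x hx
  have hx1 : x ∈ conjSub c Y := hx.1
  have hx2 : x ∈ conjSub d Y := hx.2
  rw [mem_conjSub] at hx1 hx2
  have h0 : c⁻¹ * x * c ∈ conjSub (c⁻¹ * d) Y := by
    rw [mem_conjSub]
    have e : (c⁻¹ * d)⁻¹ * (c⁻¹ * x * c) * (c⁻¹ * d) = d⁻¹ * x * d := by group
    rw [e]; exact hx2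
  have h1 : c⁻¹ * x * c ∈ Y ⊓ conjSub (c⁻¹ * d) Y := ⟨hx1, h0⟩
  have h2 := h.inf_conj_le_center hcd h1
  have h3 := conj_central h2 c
  have e : c * (c⁻¹ * x * c) * c⁻¹ = x := by group
  rw [e] at h3
  have hxY : x ∈ Y := by rw [h3]; exact hx1
  have hxc : x ∈ Subgroup.center Λ := by rw [h3]; exact h2
  exact ⟨hxY, hxc⟩

/-- `N_Λ(Y A) ≤ N_Λ(Y)`. -/
theorem normalizer_sup_le (h : LD Y A) :
    Subgroup.normalizer ((Y ⊔ A : Subgroup Λ) : Set Λ) ≤ Subgroup.normalizer (Y : Set Λ) := by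
  by_cases htop : Subgroup.normalizer ((Y ⊔ A : Subgroup Λ) : Set Λ) = ⊤
  · exfalso
    have hn : (Y ⊔ A).Normal := Subgroup.normalizer_eq_top_iff.mp htop
    have h1 : Subgroup.normalClosure (Y : Set Λ) ≤ Y ⊔ A :=
      Subgroup.normalClosure_le_normal (fun x hx => (le_sup_left : Y ≤ Y ⊔ A) hx)
    rw [h.hncl] at h1
    apply h.hNtop
    rw [eq_top_iff]
    exact h1.trans (sup_le Subgroup.le_normalizer h.hAN)
  · exact h.hmax _ (le_sup_left.trans Subgroup.le_normalizer) htop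

end LD

end Cfsg.Agent.Helper87.FrakL
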