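import Cfsg.Agent.Helper87.FrakLSL2

/-!
# S2863: the case `Λ / A ≅ SL₂(F)`, from an arbitrary isomorphism
-/

set_option autoImplicit false

namespace Cfsg.Agent.Helper87.FrakL

open Cfsg Cfsg.Agent.Helper48 Matrix

variable {Λ : Type*} [Group Λ]

/-- the characteristic of `F` is `p` when `F` has as many elements as a nontrivial `p`-group -/
theorem charP_of_card {p : ℕ} [Fact p.Prime] {F : Type*} [Field F] [Fintype F] {n : ℕ}
    (hn : Fintype.card F = p ^ n) : CharP F p := by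
  have hp : p.Prime := Fact.out
  obtain ⟨r, hr⟩ := CharP.exists F
  haveI := hr
  obtain ⟨m, hrp, hm⟩ := FiniteField.card F r
  have hn0 : n ≠ 0 := by
    intro h0
    rw [h0, pow_zero] at hn
    have := Fintype.one_lt_card (α := F)
    omega
  have h1 : p ∣ r ^ (m : ℕ) := by
    rw [← hm, hn]; exact dvd_pow_self p hn0
  have h2 : p = r := (Nat.prime_dvd_prime_iff_eq hp hrp).mp (hp.dvd_of_dvd_pow h1)
  rw [h2]; exact hr

namespace LD

variable {Y A : Subgroup Λ}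

theorem isPGroup_map {p : ℕ} (hYp : ∀ y ∈ Y, y ^ p = 1) {Γ : Type*} [Group Γ] (π : Λ →* Γ) :
    IsPGroup p (Y.map π) := by
  rintro ⟨_, y, hy, rfl⟩
  refine ⟨1, ?_⟩
  apply Subtype.ext
  simp only [pow_one, Subgroup.coe_pow, Subgroup.coe_one]
  rw [← map_pow, hYp y hy, map_one]

theorem fpf_sl2 [Finite Λ] (h : LD Y A) [hAn : A.Normal] {p : ℕ} [Fact p.Prime]
    (hYp : ∀ y ∈ Y, y ^ p = 1) (hAp : IsPGroup p A) {F : Type*} [Field F] [Fintype F]
    (φ : Λ ⧸ A ≃* SpecialLinearGroup (Fin 2) F)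
    (hcard : Nat.card (Y.map (QuotientGroup.mk' A)) = Fintype.card F)
    {t : Λ} (ht : ¬ ∃ k : ℕ, orderOf t = p ^ k) {a : Λ} (ha : a ∈ A)
    (hfix : t * a * t⁻¹ * a⁻¹ ∈ Y ⊓ Subgroup.center Λ) : a ∈ Y ⊓ Subgroup.center Λ := by
  have hC : Y ⊓ Subgroup.center Λ ≤ Subgroup.center Λ := inf_le_right
  haveI hCn : ((Y ⊓ Subgroup.center Λ).subgroupOf A).Normal := C_subgroupOf_normal A _ hC
  -- characteristic
  obtain ⟨n, hn⟩ := (isPGroup_map hYp (QuotientGroup.mk' A)).exists_card_eq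
  haveI : CharP F p := charP_of_card (n := n) (by rw [← hcard, hn])
  -- normalize
  have hPcard : Nat.card ((Y.map (QuotientGroup.mk' A)).map φ.toMonoidHom) = Fintype.card F := by
    rw [Subgroup.card_map_of_injective (f := φ.toMonoidHom) φ.injective, hcard]
  obtain ⟨g₀, hg₀⟩ := Cfsg.Agent.Helper91.FrakL.exists_conj_eq_upper _ hPcard
  set ψ : Λ →* SpecialLinearGroup (Fin 2) F :=
    (MulAut.conj g₀⁻¹).toMonoidHom.comp (φ.toMonoidHom.comp (QuotientGroup.mk' A)) with hψdef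
  have hψa : ∀ x : Λ, ψ x = g₀⁻¹ * φ (QuotientGroup.mk x) * g₀ := by
    intro x
    simp [hψdef, MulAut.conj_apply]
  have hψs : Function.Surjective ψ := by
    intro g
    obtain ⟨q, hq⟩ := φ.surjective (g₀ * g * g₀⁻¹)
    obtain ⟨x, rfl⟩ := QuotientGroup.mk_surjective q
    refine ⟨x, ?_⟩
    rw [hψa, hq]; group
  have hker : ψ.ker = A := by
    ext x
    rw [MonoidHom.mem_ker, hψa]
    constructor
    · intro hx
      have h1 : φ (QuotientGroup.mk x) = 1 := by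
        have : φ (QuotientGroup.mk x) = g₀ * (g₀⁻¹ * φ (QuotientGroup.mk x) * g₀) * g₀⁻¹ := by
          group
        rw [this, hx]; group
      have h2 : (QuotientGroup.mk x : Λ ⧸ A) = 1 := by
        apply φ.injective; rw [h1, map_one]
      exact (QuotientGroup.eq_one_iff x).mp h2
    · intro hx
      have h2 : (QuotientGroup.mk x : Λ ⧸ A) = 1 := (QuotientGroup.eq_one_iff x).mpr hx
      rw [h2, map_one]; group
  have hD1 : ∀ y ∈ Y, ∃ s : F, ψ y = uU s := by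
    intro y hy
    have hmem : φ (QuotientGroup.mk y) ∈
        (Y.map (QuotientGroup.mk' A)).map φ.toMonoidHom := ⟨_, ⟨y, hy, rfl⟩, rfl⟩
    obtain ⟨s, hs⟩ := (hg₀ _).mp hmem
    refine ⟨s, ?_⟩
    rw [hψa, hs]; group
  have hD2 : ∀ s : F, ∃ y ∈ Y, ψ y = uU s := by
    intro s
    have hmem : g₀ * uU s * g₀⁻¹ ∈ (Y.map (QuotientGroup.mk' A)).map φ.toMonoidHom :=
      (hg₀ _).mpr ⟨s, rfl⟩
    obtain ⟨_, ⟨y, hy, rfl⟩, hq⟩ := hmem
    refine ⟨y, hy, ?_⟩
    have hq' : φ (QuotientGroup.mk y) = g₀ * uU s * g₀⁻¹ := hq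
    rw [hψa, hq']; group
  -- the action
  have hAA : ⁅A, A⁆ ≤ Y ⊓ Subgroup.center Λ := by
    rw [Subgroup.commutator_le]
    intro a ha b hb
    rw [commutatorElement_def]
    exact h.comm_mem_C ha hb
  obtain ⟨ρ₀, hρ₀⟩ := Cfsg.Agent.Helper48.FrakL.exists_conjAction A (Y ⊓ Subgroup.center Λ)
    h.hCA hC hAA
  set ρ : SpecialLinearGroup (Fin 2) F →*
      MulAut (↥A ⧸ (Y ⊓ Subgroup.center Λ).subgroupOf A) :=
    ρ₀.comp (φ.symm.toMonoidHom.comp (MulAut.conj g₀).toMonoidHom) with hρdef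
  have hρ : ∀ (x b : Λ) (hb : b ∈ A) (hxb : x * b * x⁻¹ ∈ A),
      ρ (ψ x) (QuotientGroup.mk ⟨b, hb⟩) = QuotientGroup.mk ⟨x * b * x⁻¹, hxb⟩ := by
    intro x b hb hxb
    have e : ρ (ψ x) = ρ₀ (QuotientGroup.mk x) := by
      rw [hρdef, hψa]
      simp only [MonoidHom.comp_apply, MulEquiv.coe_toMonoidHom, MulAut.conj_apply]
      have : g₀ * (g₀⁻¹ * φ (QuotientGroup.mk x) * g₀) * g₀⁻¹ = φ (QuotientGroup.mk x) := by
        group
      rw [this, MulEquiv.symm_apply_apply]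
    rw [e]
    exact hρ₀ x b hb hxb
  exact h.fpf_sl2_core hAp ψ hψs hker ρ hρ hD1 hD2 ht ha hfix

end LD

end Cfsg.Agent.Helper87.FrakL
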