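import Cfsg.Agent.Helper87.FrakLTwoB
import Cfsg.Agent.Helper60.FrakLDIH

/-!
# S2863, `p = 2`: the case `|Y A / A| = 2`
-/

set_option autoImplicit false

namespace Cfsg.Agent.Helper87.FrakL

open Cfsg Cfsg.Agent.Helper48

variable {Λ : Type*} [Group Λ]

theorem mem_zpowers_of_sq {Γ : Type*} [Group Γ] {a e : Γ} (ha : a * a = 1)
    (he : e ∈ Subgroup.zpowers a) : e = 1 ∨ e = a := by
  obtain ⟨k, rfl⟩ := he
  have ha2 : a ^ (2 : ℤ) = 1 := by rw [zpow_two]; exact ha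
  have e1 : a ^ k = a ^ (k % 2) := by
    conv_lhs => rw [← Int.mul_ediv_add_emod k 2]
    rw [zpow_add, zpow_mul, ha2, one_zpow, one_mul]
  rcases Int.emod_two_eq_zero_or_one k with h0 | h1
  · left; show a ^ k = 1; rw [e1, h0, zpow_zero]
  · right; show a ^ k = a; rw [e1, h1, zpow_one]

/-- a subgroup of order two is generated by any of its nonidentity elements -/
theorem eq_zpowers_of_card_two {Γ : Type*} [Group Γ] [Finite Γ] {E : Subgroup Γ}
    (hE : Nat.card E = 2) {a : Γ} (ha : a ∈ E) (ha1 : a ≠ 1) (ha2 : a * a = 1) :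
    Subgroup.zpowers a = E := by
  apply Subgroup.eq_of_le_of_card_ge (Subgroup.zpowers_le.mpr ha)
  rw [hE, Nat.card_zpowers]
  have h2 : orderOf a ∣ 2 := orderOf_dvd_of_pow_eq_one (by rw [pow_two]; exact ha2)
  have h1 : orderOf a ≠ 1 := fun h => ha1 (orderOf_eq_one_iff.mp h)
  rcases (Nat.dvd_prime Nat.prime_two).mp h2 with h | h
  · exact absurd h h1
  · exact h.ge

namespace LD

variable {Y A : Subgroup Λ}

/-- the structure of `Λ / A` when `|Y A / A| = 2`. -/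
theorem card_two_facts [Finite Λ] (h : LD Y A) (hY2 : ∀ y ∈ Y, y * y = 1)
    {Γ : Type*} [Group Γ] (π : Λ →* Γ) (hπ : Function.Surjective π) (hker : π.ker = A)
    (hcore : Cfsg.pCore 2 Γ = ⊥) (hcard : Nat.card (Y.map π) = 2) :
    ∃ a : Γ, a ≠ 1 ∧ a * a = 1 ∧ Subgroup.zpowers a = Y.map π ∧
      (∀ x : Γ, x * a = a * x → x = 1 ∨ x = a) ∧
      (∀ x : Γ, Odd (orderOf x) → ∃ c : Γ, x = (c * a * c⁻¹) * a) := by
  haveI : Finite Γ := Finite.of_surjective π hπ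
  have hne : Y.map π ≠ ⊥ := by
    intro hbot
    rw [hbot] at hcard
    simp at hcard
  obtain ⟨a, haE, ha1⟩ := (Subgroup.ne_bot_iff_exists_ne_one).mp hne |>.imp
    (fun a ha => ha) |> fun ⟨a, ha⟩ => (⟨a.1, a.2, fun h => ha (Subtype.ext h)⟩ :
      ∃ a : Γ, a ∈ Y.map π ∧ a ≠ 1)
  obtain ⟨y₀, hy₀, rfl⟩ := haE
  have ha2 : π y₀ * π y₀ = 1 := by rw [← map_mul, hY2 _ hy₀, map_one]
  have hE : Subgroup.zpowers (π y₀) = Y.map π :=
    eq_zpowers_of_card_two hcard ⟨y₀, hy₀, rfl⟩ ha1 ha2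
  obtain ⟨g, hg⟩ := exists_not_mem_of_ne_top h.hNtop
  have hb2 : (π g * π y₀ * (π g)⁻¹) * (π g * π y₀ * (π g)⁻¹) = 1 := by
    have e : (π g * π y₀ * (π g)⁻¹) * (π g * π y₀ * (π g)⁻¹) =
        π g * (π y₀ * π y₀) * (π g)⁻¹ := by group
    rw [e, ha2]; group
  have hgen : Subgroup.closure ({π y₀, π g * π y₀ * (π g)⁻¹} : Set Γ) = ⊤ := by
    rw [eq_top_iff]
    have htop := h.sup_conj_eq_top hg
    have h1 : (⊤ : Subgroup Γ) = (Y ⊔ conjSub g Y).map π := by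
      rw [htop, Subgroup.map_top_of_surjective π hπ]
    rw [h1, Subgroup.map_sup]
    refine sup_le ?_ ?_
    · rw [← hE, Subgroup.zpowers_le]
      exact Subgroup.subset_closure (by simp)
    · rintro _ ⟨x, hx, rfl⟩
      have hx : x ∈ conjSub g Y := hx
      rw [mem_conjSub] at hx
      have hx' : π (g⁻¹ * x * g) ∈ Subgroup.zpowers (π y₀) := by
        rw [hE]; exact ⟨_, hx, rfl⟩
      have e : π x = π g * π (g⁻¹ * x * g) * (π g)⁻¹ := by
        simp only [map_mul, map_inv]; group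
      rw [e]
      rcases mem_zpowers_of_sq ha2 hx' with h0 | h0
      · rw [h0]; simp
      · rw [h0]; exact Subgroup.subset_closure (by simp)
  obtain ⟨hi, hii⟩ := Cfsg.Agent.Helper60.FrakL.dihedral_of_two_involutions _ _ ha2 hb2 ha1 hgen hcore
  exact ⟨π y₀, ha1, ha2, hE, hi, hii⟩

theorem TI_of_card_two {Γ : Type*} [Group Γ] {E : Subgroup Γ} {a : Γ} (ha1 : a ≠ 1)
    (ha2 : a * a = 1) (hE : Subgroup.zpowers a = E)
    (hi : ∀ x : Γ, x * a = a * x → x = 1 ∨ x = a) :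
    ∀ c : Γ, ∀ z ∈ E, z ≠ 1 →
      (∀ y ∈ E, z * (c * y * c⁻¹) * z⁻¹ ∈ E.map (MulAut.conj c).toMonoidHom) →
      E.map (MulAut.conj c).toMonoidHom = E := by
  intro c z hz hz1 H
  have haE : a ∈ E := by rw [← hE]; exact Subgroup.mem_zpowers a
  have hza : z = a := by
    rw [← hE] at hz
    rcases mem_zpowers_of_sq ha2 hz with h | h
    · exact absurd h hz1
    · exact h
  subst hza
  obtain ⟨e, he, hee⟩ := H z haE
  rw [← hE] at he
  have hee' : c * e * c⁻¹ = z * (c * z * c⁻¹) * z⁻¹ := by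
    rw [← hee]; simp [MulAut.conj_apply]
  have hcz : c * z * c⁻¹ = z := by
    rcases mem_zpowers_of_sq ha2 he with h | h
    · exfalso
      rw [h] at hee'
      have h1 : z * (c * z * c⁻¹) * z⁻¹ = 1 := by rw [← hee']; group
      have h2 : c * z * c⁻¹ = 1 := by
        have : c * z * c⁻¹ = z⁻¹ * (z * (c * z * c⁻¹) * z⁻¹) * z := by group
        rw [this, h1]; group
      apply ha1
      have : z = c⁻¹ * (c * z * c⁻¹) * c := by group
      rw [this, h2]; group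
    · rw [h] at hee'
      have hcomm : (c * z * c⁻¹) * z = z * (c * z * c⁻¹) := by
        have : z * (c * z * c⁻¹) = (z * (c * z * c⁻¹) * z⁻¹) * z := by group
        rw [this, ← hee']
      rcases hi _ hcomm with h0 | h0
      · exfalso
        apply ha1
        have : z = c⁻¹ * (c * z * c⁻¹) * c := by group
        rw [this, h0]; group
      · exact h0
  rw [← hE, MonoidHom.map_zpowers]
  congr 1

theorem fpf_card_two [Finite Λ] (h : LD Y A) (hY2 : ∀ y ∈ Y, y * y = 1) (hA2 : IsPGroup 2 A)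
    {Γ : Type*} [Group Γ] (π : Λ →* Γ) (hπ : Function.Surjective π) (hker : π.ker = A)
    (hcore : Cfsg.pCore 2 Γ = ⊥) (hcard : Nat.card (Y.map π) = 2)
    {t : Λ} (ht : ¬ ∃ k : ℕ, orderOf t = 2 ^ k) {a : Λ} (ha : a ∈ A)
    (hfix : t * a * t⁻¹ * a⁻¹ ∈ Y ⊓ Subgroup.center Λ) : a ∈ Y ⊓ Subgroup.center Λ := by
  obtain ⟨a₀, ha1, ha2, hE, hi, hii⟩ := h.card_two_facts hY2 π hπ hker hcore hcard
  have haE : a₀ ∈ Y.map π := by rw [← hE]; exact Subgroup.mem_zpowers a₀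
  refine h.fpf_two hY2 hA2 π hπ hker (TI_of_card_two ha1 ha2 hE hi) ?_ ht ha hfix
  intro x _ hodd
  obtain ⟨c, hc⟩ := hii x hodd
  refine ⟨c, 1, a₀, haE, a₀, haE, ha1, ha1, ?_⟩
  rw [hc]; simp

end LD

end Cfsg.Agent.Helper87.FrakL
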