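import Cfsg.Agent.Helper87.FrakLAsm
import Cfsg.Agent.Helper87.FrakLTwoC
import Cfsg.Agent.Helper87.FrakLSL2B
import Cfsg.Agent.Helper62.PSolvDual

/-!
# S2863 modulo the Suzuki input
-/

set_option autoImplicit false

namespace Cfsg.Agent.Helper87.FrakL

open Cfsg

/-- The Suzuki group input (piece SzA). -/
def SzAStatement : Prop :=
  ∀ (F : Type) [Field F] [Fintype F] (m : ℕ), 1 ≤ m → Fintype.card F = 2 ^ (2 * m + 1) →
    ∀ E : Subgroup ↥(Cfsg.Lie.Sz F (2 ^ (m + 1))), Nat.card E = Fintype.card F →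
      (∀ x ∈ E, x * x = 1) →
      (∀ c : ↥(Cfsg.Lie.Sz F (2 ^ (m + 1))), ∀ z ∈ E, z ≠ 1 →
        (∀ y ∈ E, z * (c * y * c⁻¹) * z⁻¹ ∈ E.map (MulAut.conj c).toMonoidHom) →
        E.map (MulAut.conj c).toMonoidHom = E) ∧
      (∀ x : ↥(Cfsg.Lie.Sz F (2 ^ (m + 1))), x ≠ 1 → Odd (orderOf x) →
        ∃ c d : ↥(Cfsg.Lie.Sz F (2 ^ (m + 1))), ∃ z₁ ∈ E, ∃ z₂ ∈ E, z₁ ≠ 1 ∧ z₂ ≠ 1 ∧
          x = (c * z₁ * c⁻¹) * (d * z₂ * d⁻¹))

variable {Λ : Type*} [Group Λ]

theorem LD.not_le {Y A : Subgroup Λ} (h : LD Y A) : ¬ Y ≤ A := by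
  intro hle
  apply h.hNtop
  haveI := h.hAn
  rw [eq_top_iff, ← h.hncl]
  exact (Subgroup.normalClosure_le_normal (fun x hx => hle hx)).trans h.hAN

theorem LD.map_ne_bot {Y A : Subgroup Λ} (h : LD Y A) {Γ : Type*} [Group Γ] (π : Λ →* Γ)
    (hker : π.ker = A) : Y.map π ≠ ⊥ := by
  intro hbot
  rw [Subgroup.map_eq_bot_iff, hker] at hbot
  exact h.not_le hbot

/-- `|Y A / A| = 2` in the dihedral case -/
theorem LD.card_two_of_dihedral [Finite Λ] {Y A : Subgroup Λ} (h : LD Y A) [A.Normal]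
    (hY2 : ∀ y ∈ Y, y ^ 2 = 1) {r : ℕ} (hr : r.Prime) (hr2 : r ≠ 2)
    (φ : Λ ⧸ A ≃* DihedralGroup r) : Nat.card (Y.map (QuotientGroup.mk' A)) = 2 := by
  haveI : Fact (Nat.Prime 2) := ⟨Nat.prime_two⟩
  obtain ⟨n, hn⟩ := (LD.isPGroup_map hY2 (QuotientGroup.mk' A)).exists_card_eq
  have hdvd : 2 ^ n ∣ 2 * r := by
    rw [← hn, ← DihedralGroup.nat_card, ← Nat.card_congr φ.toEquiv]
    exact Subgroup.card_subgroup_dvd_card _
  have hn0 : n ≠ 0 := by
    intro h0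
    rw [h0, pow_zero] at hn
    exact h.map_ne_bot _ (QuotientGroup.ker_mk' A) (Subgroup.eq_bot_of_card_eq _ hn)
  have hn1 : n < 2 := by
    by_contra hge
    push_neg at hge
    have h4 : 2 * 2 ∣ 2 * r := (pow_dvd_pow 2 hge).trans hdvd
    have h2 : 2 ∣ r := (Nat.mul_dvd_mul_iff_left (by norm_num)).mp h4
    exact hr2 ((Nat.prime_dvd_prime_iff_eq Nat.prime_two hr).mp h2).symm
  have : n = 1 := by omega
  rw [hn, this, pow_one]

variable {G : Type*} [Group G]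

theorem fpf_main [Finite G] {p : ℕ} [Fact p.Prime] {M L : Subgroup G} (hL : IsInFrakL p M L)
    (hSzA : SzAStatement) (h : G) (hh : h ∈ L) (hnp : ¬ ∃ k : ℕ, orderOf h = p ^ k) :
    ∀ a ∈ pCoreOf p L,
      h * a * h⁻¹ * a⁻¹ ∈ largestPReducedOf p M ⊓ Subgroup.centralizer ((L : Subgroup G) : Set G) →
      a ∈ largestPReducedOf p M ⊓ Subgroup.centralizer ((L : Subgroup G) : Set G) := by
  have hld := ld_of_isInFrakL hL
  rintro _ ⟨a', ha', rfl⟩ hfix
  have ht : ¬ ∃ k : ℕ, orderOf (⟨h, hh⟩ : ↥L) = p ^ k := by rwa [Subgroup.orderOf_mk]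
  have hfix' : (⟨h, hh⟩ : ↥L) * a' * (⟨h, hh⟩ : ↥L)⁻¹ * a'⁻¹ ∈
      (largestPReducedOf p M).subgroupOf L ⊓ Subgroup.center ↥L := by
    rw [Subgroup.mem_inf, Subgroup.mem_subgroupOf, mem_center_iff_centralizer]
    exact hfix
  suffices hsuff : a' ∈ (largestPReducedOf p M).subgroupOf L ⊓ Subgroup.center ↥L by
    rw [Subgroup.mem_inf, Subgroup.mem_subgroupOf, mem_center_iff_centralizer] at hsuff
    exact hsuff
  obtain ⟨hYL, -, -, -, -, -, hcases⟩ := hL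
  have hcardeq := card_map_mk_eq_relIndex (p := p) hYL
  have hYp : ∀ y ∈ (largestPReducedOf p M).subgroupOf L, y ^ p = 1 := pow_eq_one_of_isInFrakL
  have hAp : IsPGroup p (pCore p ↥L) := Cfsg.Agent.Helper47.isPGroup_pCore p ↥L
  rcases hcases with ⟨F, _, _, hF, ⟨φ⟩⟩ | ⟨hp2, F, _, _, m, hFm, hF, ⟨φ⟩⟩ | ⟨hp2, r, hr, hr2, ⟨φ⟩⟩
  · exact hld.fpf_sl2 hYp hAp φ (by rw [hcardeq, hF]) ht ha' hfix'
  · subst hp2
    have hY2 : ∀ y ∈ (largestPReducedOf 2 M).subgroupOf L, y * y = 1 := by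
      intro y hy
      have := hYp y hy
      rwa [pow_two] at this
    rcases Nat.eq_zero_or_pos m with hm0 | hm1
    · subst hm0
      exact hld.fpf_card_two hY2 hAp (QuotientGroup.mk' _) (QuotientGroup.mk'_surjective _)
        (QuotientGroup.ker_mk' _) (Cfsg.Agent.Helper62.pCore_quotient_pCore_eq_bot 2)
        (by rw [hcardeq, ← hF, hFm]; norm_num) ht ha' hfix'
    · have hπs : Function.Surjective
          (φ.toMonoidHom.comp (QuotientGroup.mk' (pCore 2 ↥L))) :=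
        φ.surjective.comp (QuotientGroup.mk'_surjective _)
      have hker : (φ.toMonoidHom.comp (QuotientGroup.mk' (pCore 2 ↥L))).ker = pCore 2 ↥L := by
        ext x
        rw [MonoidHom.mem_ker]
        show φ (QuotientGroup.mk x) = 1 ↔ _
        rw [MulEquiv.map_eq_one_iff, QuotientGroup.eq_one_iff]
      have hEcard : Nat.card (((largestPReducedOf 2 M).subgroupOf L).map
          (φ.toMonoidHom.comp (QuotientGroup.mk' (pCore 2 ↥L)))) = Fintype.card F := by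
        rw [← Subgroup.map_map, Subgroup.card_map_of_injective (f := φ.toMonoidHom) φ.injective,
          hcardeq, hF]
      have hE2 : ∀ x ∈ ((largestPReducedOf 2 M).subgroupOf L).map
          (φ.toMonoidHom.comp (QuotientGroup.mk' (pCore 2 ↥L))), x * x = 1 := by
        rintro _ ⟨y, hy, rfl⟩
        rw [← map_mul, hY2 y hy, map_one]
      obtain ⟨hTI, hSR⟩ := hSzA F m hm1 hFm _ hEcard hE2
      exact hld.fpf_two hY2 hAp _ hπs hker hTI hSR ht ha' hfix'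
  · subst hp2
    have hY2 : ∀ y ∈ (largestPReducedOf 2 M).subgroupOf L, y * y = 1 := by
      intro y hy
      have := hYp y hy
      rwa [pow_two] at this
    exact hld.fpf_card_two hY2 hAp (QuotientGroup.mk' _) (QuotientGroup.mk'_surjective _)
      (QuotientGroup.ker_mk' _) (Cfsg.Agent.Helper62.pCore_quotient_pCore_eq_bot 2)
      (hld.card_two_of_dihedral hYp hr hr2 φ) ht ha' hfix'

end Cfsg.Agent.Helper87.FrakL
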