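import Cfsg.Agent.Helper87.FrakLTwo

/-!
# S2863, `p = 2`: the `TI` + strongly real route
-/

set_option autoImplicit false

namespace Cfsg.Agent.Helper87.FrakL

open Cfsg Cfsg.Agent.Helper48

variable {Λ : Type*} [Group Λ]

theorem conj_map_apply {Γ : Type*} [Group Γ] (π : Λ →* Γ) (g u : Λ) :
    (MulAut.conj (π g)).toMonoidHom (π u) = π (g * u * g⁻¹) := by
  simp [MulAut.conj_apply]

theorem conjSub_zpowers (c y : Λ) :
    conjSub c (Subgroup.zpowers y) = Subgroup.zpowers (c * y * c⁻¹) := by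
  unfold conjSub
  rw [MonoidHom.map_zpowers]
  rfl

namespace LD

variable {Y A : Subgroup Λ}

theorem sup_eq_comap {Γ : Type*} [Group Γ] (π : Λ →* Γ) (hker : π.ker = A) :
    Y ⊔ A = (Y.map π).comap π := by
  rw [Subgroup.comap_map_eq, hker]

theorem mem_normalizer_of_map [Finite Λ] (h : LD Y A) {Γ : Type*} [Group Γ] (π : Λ →* Γ)
    (hker : π.ker = A) {g : Λ}
    (hg : (Y.map π).map (MulAut.conj (π g)).toMonoidHom ≤ Y.map π) :
    g ∈ Subgroup.normalizer (Y : Set Λ) := by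
  apply h.normalizer_sup_le
  apply mem_normalizer_of_conjSub_le
  intro x hx
  rw [mem_conjSub] at hx
  rw [sup_eq_comap π hker, Subgroup.mem_comap] at hx ⊢
  have e : π x = (MulAut.conj (π g)).toMonoidHom (π (g⁻¹ * x * g)) := by
    rw [conj_map_apply]
    congr 1; group
  rw [e]
  exact hg ⟨_, hx, rfl⟩

theorem gen_of_TI [Finite Λ] (h : LD Y A) {Γ : Type*} [Group Γ] (π : Λ →* Γ)
    (hker : π.ker = A)
    (hTI : ∀ c : Γ, ∀ z ∈ Y.map π, z ≠ 1 →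
      (∀ y ∈ Y.map π, z * (c * y * c⁻¹) * z⁻¹ ∈ (Y.map π).map (MulAut.conj c).toMonoidHom) →
      (Y.map π).map (MulAut.conj c).toMonoidHom = Y.map π)
    {z : Λ} (hz : z ∈ Y) (hzA : z ∉ A) {g : Λ} (hg : g ∉ Subgroup.normalizer (Y : Set Λ)) :
    Subgroup.zpowers z ⊔ conjSub g Y = ⊤ := by
  by_contra hne
  have h1 : Y ≤ conjSub g⁻¹ (Subgroup.zpowers z ⊔ conjSub g Y) := by
    have := conjSub_mono' g⁻¹ (le_sup_right : conjSub g Y ≤ Subgroup.zpowers z ⊔ conjSub g Y)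
    rwa [conjSub_inv_conjSub] at this
  have h2 : conjSub g⁻¹ (Subgroup.zpowers z ⊔ conjSub g Y) ≠ ⊤ := by
    intro htop
    apply hne
    have := congrArg (conjSub g) htop
    rwa [conjSub_conjSub_inv', conjSub_top] at this
  have h3 := h.hmax _ h1 h2
  have hzX : z ∈ Subgroup.zpowers z ⊔ conjSub g Y :=
    (le_sup_left : Subgroup.zpowers z ≤ _) (Subgroup.mem_zpowers z)
  have hw : g⁻¹ * z * g ∈ Subgroup.normalizer (Y : Set Λ) := by
    apply h3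
    rw [mem_conjSub]
    simp only [inv_inv]
    have e : g * (g⁻¹ * z * g) * g⁻¹ = z := by group
    rw [e]; exact hzX
  apply hg
  apply h.mem_normalizer_of_map π hker
  apply le_of_eq
  apply hTI (π g) (π z) ⟨z, hz, rfl⟩
  · intro hz1
    apply hzA
    rw [← hker]; exact (MonoidHom.mem_ker).mpr hz1
  · rintro _ ⟨y, hy, rfl⟩
    refine ⟨π ((g⁻¹ * z * g) * y * (g⁻¹ * z * g)⁻¹), ⟨_, ?_, rfl⟩, ?_⟩
    · exact (Subgroup.mem_normalizer_iff.mp hw y).mp hy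
    · rw [conj_map_apply]
      have e : g * (g⁻¹ * z * g * y * (g⁻¹ * z * g)⁻¹) * g⁻¹ = z * (g * y * g⁻¹) * z⁻¹ := by
        group
      rw [e]
      simp only [map_mul, map_inv]

/-- `p = 2`: elements whose order is not a power of `2` act fixed-point-freely on `A / C`, provided
`Λ / A` has the `TI` and strongly real properties relative to the image of `Y`. -/
theorem fpf_two [Finite Λ] (h : LD Y A) (hY2 : ∀ y ∈ Y, y * y = 1) (hA2 : IsPGroup 2 A)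
    {Γ : Type*} [Group Γ] (π : Λ →* Γ) (hπ : Function.Surjective π) (hker : π.ker = A)
    (hTI : ∀ c : Γ, ∀ z ∈ Y.map π, z ≠ 1 →
      (∀ y ∈ Y.map π, z * (c * y * c⁻¹) * z⁻¹ ∈ (Y.map π).map (MulAut.conj c).toMonoidHom) →
      (Y.map π).map (MulAut.conj c).toMonoidHom = Y.map π)
    (hSR : ∀ x : Γ, x ≠ 1 → Odd (orderOf x) → ∃ c d : Γ, ∃ z₁ ∈ Y.map π, ∃ z₂ ∈ Y.map π,
      z₁ ≠ 1 ∧ z₂ ≠ 1 ∧ x = (c * z₁ * c⁻¹) * (d * z₂ * d⁻¹))
    {t : Λ} (ht : ¬ ∃ k : ℕ, orderOf t = 2 ^ k) {a : Λ} (ha : a ∈ A)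
    (hfix : t * a * t⁻¹ * a⁻¹ ∈ Y ⊓ Subgroup.center Λ) : a ∈ Y ⊓ Subgroup.center Λ := by
  have hC : Y ⊓ Subgroup.center Λ ≤ Subgroup.center Λ := inf_le_right
  have hn0 : orderOf t ≠ 0 := (orderOf_pos t).ne'
  obtain ⟨k, m, hm, hn⟩ := Nat.exists_eq_two_pow_mul_odd hn0
  have hm1 : m ≠ 1 := by
    intro hm1
    apply ht
    exact ⟨k, by rw [hn, hm1, mul_one]⟩
  have hk0 : (2 : ℕ) ^ k ≠ 0 := by positivity
  have hord : orderOf (t ^ (2 ^ k)) = m := by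
    rw [orderOf_pow_of_dvd hk0 ⟨m, hn⟩, hn, Nat.mul_div_cancel_left _ (by positivity)]
  have hfix' : t ^ (2 ^ k) * a * (t ^ (2 ^ k))⁻¹ * a⁻¹ ∈ Y ⊓ Subgroup.center Λ := by
    have h1 : t ∈ cmSub (Y ⊓ Subgroup.center Λ) hC a := hfix
    exact Subgroup.pow_mem _ h1 _
  have hxodd : Odd (orderOf (π (t ^ (2 ^ k)))) := by
    apply Odd.of_dvd_nat hm
    rw [← hord]; exact orderOf_map_dvd π _
  have hx1 : π (t ^ (2 ^ k)) ≠ 1 := by
    intro hx1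
    have hmem : t ^ (2 ^ k) ∈ A := by rw [← hker]; exact MonoidHom.mem_ker.mpr hx1
    obtain ⟨j, hj⟩ := hA2 ⟨_, hmem⟩
    have hj' : (t ^ (2 ^ k)) ^ (2 ^ j) = 1 := by
      have := congrArg Subtype.val hj
      simpa using this
    have hdvd : m ∣ 2 ^ j := by rw [← hord]; exact orderOf_dvd_of_pow_eq_one hj'
    have hcop : Nat.Coprime m (2 ^ j) := Nat.Coprime.pow_right _ (Nat.coprime_two_right.mpr hm)
    exact hm1 (Nat.Coprime.eq_one_of_dvd hcop hdvd)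
  obtain ⟨c', d', z₁', hz₁', z₂', hz₂', hz₁1, hz₂1, hx⟩ := hSR _ hx1 hxodd
  obtain ⟨c, rfl⟩ := hπ c'
  obtain ⟨d, rfl⟩ := hπ d'
  obtain ⟨y₁, hy₁, rfl⟩ := hz₁'
  obtain ⟨y₂, hy₂, rfl⟩ := hz₂'
  have hy₁A : y₁ ∉ A := by
    intro hmem
    apply hz₁1
    rw [← hker] at hmem; exact MonoidHom.mem_ker.mp hmem
  have hy₂A : y₂ ∉ A := by
    intro hmem
    apply hz₂1
    rw [← hker] at hmem; exact MonoidHom.mem_ker.mp hmem
  have hz₁ : c * y₁ * c⁻¹ ∈ conjSub c Y := conj_mem_conjSub hy₁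
  have hz₂ : d * y₂ * d⁻¹ ∈ conjSub d Y := conj_mem_conjSub hy₂
  have hxe : π (t ^ (2 ^ k)) = π ((c * y₁ * c⁻¹) * (d * y₂ * d⁻¹)) := by
    rw [hx]; simp only [map_mul, map_inv]
  have htA : (t ^ (2 ^ k))⁻¹ * ((c * y₁ * c⁻¹) * (d * y₂ * d⁻¹)) ∈ A := by
    rw [← hker, MonoidHom.mem_ker, map_mul, map_inv, hxe, inv_mul_cancel]
  have hcd : c⁻¹ * d ∉ Subgroup.normalizer (Y : Set Λ) := by
    intro hcd
    have hz₂' : d * y₂ * d⁻¹ ∈ conjSub c Y := by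
      rw [mem_conjSub]
      have e : c⁻¹ * (d * y₂ * d⁻¹) * c = (c⁻¹ * d) * y₂ * (c⁻¹ * d)⁻¹ := by group
      rw [e]
      exact (Subgroup.mem_normalizer_iff.mp hcd y₂).mp hy₂
    have hsq := conj_sq hY2 (Subgroup.mul_mem _ hz₁ hz₂')
    have hxsq : π (t ^ (2 ^ k)) ^ 2 = 1 := by
      rw [hxe, pow_two, ← map_mul, hsq, map_one]
    have hdvd : orderOf (π (t ^ (2 ^ k))) ∣ 2 := orderOf_dvd_of_pow_eq_one hxsq
    have hcop : Nat.Coprime (orderOf (π (t ^ (2 ^ k)))) 2 := Nat.coprime_two_right.mpr hxodd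
    have := Nat.Coprime.eq_one_of_dvd hcop hdvd
    exact hx1 (orderOf_eq_one_iff.mp this)
  have hdc : d⁻¹ * c ∉ Subgroup.normalizer (Y : Set Λ) := by
    intro hdc
    apply hcd
    have := Subgroup.inv_mem _ hdc
    have e : (d⁻¹ * c)⁻¹ = c⁻¹ * d := by group
    rwa [e] at this
  have hf₁ : ∀ a' ∈ A, (c * y₁ * c⁻¹) * a' * (c * y₁ * c⁻¹)⁻¹ * a'⁻¹ ∈ Y ⊓ Subgroup.center Λ →
      a' ∈ conjSub c (Y ⊓ A) := by
    intro a' ha' hfa
    have hgen := h.gen_of_TI π hker hTI hy₁ hy₁A hcd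
    have hX : conjSub c (Subgroup.zpowers y₁) ⊔ conjSub d Y = ⊤ := by
      have := congrArg (conjSub c) hgen
      rwa [conjSub_sup, conjSub_conjSub, mul_inv_cancel_left, conjSub_top] at this
    apply h.fix_gen_conj c hcd (conjSub_mono' c (Subgroup.zpowers_le.mpr hy₁)) hX ha'
    intro x hx
    rw [conjSub_zpowers] at hx
    have h1 : c * y₁ * c⁻¹ ∈ cmSub (Y ⊓ Subgroup.center Λ) hC a' := hfa
    exact (Subgroup.zpowers_le.mpr h1) hx
  have hf₂ : ∀ a' ∈ A, (d * y₂ * d⁻¹) * a' * (d * y₂ * d⁻¹)⁻¹ * a'⁻¹ ∈ Y ⊓ Subgroup.center Λ →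
      a' ∈ conjSub d (Y ⊓ A) := by
    intro a' ha' hfa
    have hgen := h.gen_of_TI π hker hTI hy₂ hy₂A hdc
    have hX : conjSub d (Subgroup.zpowers y₂) ⊔ conjSub c Y = ⊤ := by
      have := congrArg (conjSub d) hgen
      rwa [conjSub_sup, conjSub_conjSub, mul_inv_cancel_left, conjSub_top] at this
    apply h.fix_gen_conj d hdc (conjSub_mono' d (Subgroup.zpowers_le.mpr hy₂)) hX ha'
    intro x hx
    rw [conjSub_zpowers] at hx
    have h1 : d * y₂ * d⁻¹ ∈ cmSub (Y ⊓ Subgroup.center Λ) hC a' := hfa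
    exact (Subgroup.zpowers_le.mpr h1) hx
  exact h.fpf_of_two_involutions hY2 hcd hz₁ hz₂ hf₁ hf₂ htA ha hfix'

end LD

end Cfsg.Agent.Helper87.FrakL
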