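import Cfsg.Agent.Helper87.FrakLAsm
import Cfsg.Agent.Helper87.FrakLTwoB

/-!
# S2861: transfer to the quotient `N_L(Y) / A`
-/

set_option autoImplicit false

namespace Cfsg.Agent.Helper87.FrakL

open Cfsg Cfsg.Agent.Helper48

/-- `E` is the only nontrivial subgroup of exponent `p` of `N(E)` that is normal in `N(E)`. -/
def UNE (p : ℕ) {Γ : Type*} [Group Γ] (E : Subgroup Γ) : Prop :=
  ∀ W : Subgroup Γ, W ≤ Subgroup.normalizer (E : Set Γ) →
    Subgroup.normalizer (E : Set Γ) ≤ Subgroup.normalizer (W : Set Γ) →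
    (∀ w ∈ W, w ^ p = 1) → W ≠ ⊥ → W = E

variable {Λ : Type*} [Group Λ]

theorem map_mem_normalizer {Y : Subgroup Λ} {Γ : Type*} [Group Γ] (π : Λ →* Γ) {x : Λ}
    (hx : x ∈ Subgroup.normalizer (Y : Set Λ)) :
    π x ∈ Subgroup.normalizer ((Y.map π : Subgroup Γ) : Set Γ) := by
  rw [Subgroup.mem_normalizer_iff]
  intro e
  constructor
  · rintro ⟨y, hy, rfl⟩
    refine ⟨x * y * x⁻¹, (Subgroup.mem_normalizer_iff.mp hx y).mp hy, ?_⟩
    simp only [map_mul, map_inv]
  · rintro ⟨y, hy, hye⟩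
    have hx' := Subgroup.inv_mem _ hx
    refine ⟨x⁻¹ * y * x⁻¹⁻¹, (Subgroup.mem_normalizer_iff.mp hx' y).mp hy, ?_⟩
    simp only [map_mul, map_inv, inv_inv]
    rw [hye]; group

section

variable {G : Type*} [Group G] [Finite G] {p : ℕ} [Fact p.Prime] {M L : Subgroup G}

theorem ybar_ne_bot (hL : IsInFrakL p M L)
    [hn : ((pCoreOf p L).subgroupOf
      (L ⊓ Subgroup.normalizer ((largestPReducedOf p M : Subgroup G) : Set G))).Normal] :
    ((largestPReducedOf p M).subgroupOf
      (L ⊓ Subgroup.normalizer ((largestPReducedOf p M : Subgroup G) : Set G))).map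
      (QuotientGroup.mk' ((pCoreOf p L).subgroupOf
        (L ⊓ Subgroup.normalizer ((largestPReducedOf p M : Subgroup G) : Set G)))) ≠ ⊥ := by
  have hld := ld_of_isInFrakL hL
  have hYL := hL.1
  intro hbot
  rw [Subgroup.map_eq_bot_iff, QuotientGroup.ker_mk'] at hbot
  apply hld.hNtop
  haveI := hld.hAn
  rw [eq_top_iff, ← hld.hncl]
  refine (Subgroup.normalClosure_le_normal ?_).trans hld.hAN
  intro y hy
  have hyY : (y : G) ∈ largestPReducedOf p M := Subgroup.mem_subgroupOf.mp hy
  have hyN : (y : G) ∈ L ⊓ Subgroup.normalizer ((largestPReducedOf p M : Subgroup G) : Set G) :=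
    ⟨y.2, Subgroup.le_normalizer hyY⟩
  have := hbot (show (⟨(y : G), hyN⟩ : ↥(L ⊓ Subgroup.normalizer
    ((largestPReducedOf p M : Subgroup G) : Set G))) ∈ _ from Subgroup.mem_subgroupOf.mpr hyY)
  rw [Subgroup.mem_subgroupOf] at this
  exact (mem_pCoreOf_iff y).mp this

theorem ybar_normal
    [hn : ((pCoreOf p L).subgroupOf
      (L ⊓ Subgroup.normalizer ((largestPReducedOf p M : Subgroup G) : Set G))).Normal] :
    (((largestPReducedOf p M).subgroupOf
      (L ⊓ Subgroup.normalizer ((largestPReducedOf p M : Subgroup G) : Set G))).map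
      (QuotientGroup.mk' ((pCoreOf p L).subgroupOf
        (L ⊓ Subgroup.normalizer ((largestPReducedOf p M : Subgroup G) : Set G))))).Normal := by
  apply Subgroup.Normal.map _ _ (QuotientGroup.mk'_surjective _)
  exact Subgroup.normal_subgroupOf_of_le_normalizer inf_le_right

theorem ybar_elemAb
    [hn : ((pCoreOf p L).subgroupOf
      (L ⊓ Subgroup.normalizer ((largestPReducedOf p M : Subgroup G) : Set G))).Normal] :
    IsElementaryAbelian p (((largestPReducedOf p M).subgroupOf
      (L ⊓ Subgroup.normalizer ((largestPReducedOf p M : Subgroup G) : Set G))).map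
      (QuotientGroup.mk' ((pCoreOf p L).subgroupOf
        (L ⊓ Subgroup.normalizer ((largestPReducedOf p M : Subgroup G) : Set G))))) := by
  have hEA := (Cfsg.Agent.Helper47.isPRedIn_largestPReducedOf (p := p) M).isElementaryAbelian
  refine ⟨⟨⟨?_⟩⟩, ?_⟩
  · rintro ⟨_, a, ha, rfl⟩ ⟨_, b, hb, rfl⟩
    apply Subtype.ext
    show QuotientGroup.mk' _ a * QuotientGroup.mk' _ b = QuotientGroup.mk' _ b * QuotientGroup.mk' _ a
    rw [← map_mul, ← map_mul]
    congr 1
    apply Subtype.ext
    have haY : (a : G) ∈ largestPReducedOf p M := Subgroup.mem_subgroupOf.mp ha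
    have hbY : (b : G) ∈ largestPReducedOf p M := Subgroup.mem_subgroupOf.mp hb
    have := hEA.1.is_comm.comm (⟨a, haY⟩ : ↥(largestPReducedOf p M)) ⟨b, hbY⟩
    have := congrArg Subtype.val this
    simpa using this
  · rintro _ ⟨a, ha, rfl⟩
    have haY : (a : G) ∈ largestPReducedOf p M := Subgroup.mem_subgroupOf.mp ha
    rw [← map_pow]
    have : a ^ p = 1 := by
      apply Subtype.ext
      have := hEA.2 _ haY
      simpa using this
    rw [this, map_one]

theorem normalizer_quotient_unique (hL : IsInFrakL p M L)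
    [hn : ((pCoreOf p L).subgroupOf
      (L ⊓ Subgroup.normalizer ((largestPReducedOf p M : Subgroup G) : Set G))).Normal]
    {Γ : Type*} [Group Γ] (π : ↥L →* Γ) (hπ : Function.Surjective π)
    (hker : π.ker = pCore p ↥L)
    (hU : UNE p (((largestPReducedOf p M).subgroupOf L).map π)) :
    ∀ V : Subgroup (↥(L ⊓ Subgroup.normalizer ((largestPReducedOf p M : Subgroup G) : Set G)) ⧸
        (pCoreOf p L).subgroupOf
          (L ⊓ Subgroup.normalizer ((largestPReducedOf p M : Subgroup G) : Set G))),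
      V.Normal → IsElementaryAbelian p V → V ≠ ⊥ →
      V = ((largestPReducedOf p M).subgroupOf
        (L ⊓ Subgroup.normalizer ((largestPReducedOf p M : Subgroup G) : Set G))).map
        (QuotientGroup.mk' ((pCoreOf p L).subgroupOf
          (L ⊓ Subgroup.normalizer ((largestPReducedOf p M : Subgroup G) : Set G)))) := by
  intro V hVn hVe hV1
  have hld := ld_of_isInFrakL hL
  have hYL := hL.1
  haveI : Finite Γ := Finite.of_surjective π hπ
  set NL := L ⊓ Subgroup.normalizer ((largestPReducedOf p M : Subgroup G) : Set G) with hNLdef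
  have hNLL : NL ≤ L := inf_le_left
  set Θ₀ : ↥NL →* Γ := π.comp (Subgroup.inclusion hNLL) with hΘ₀
  have hker₀ : Θ₀.ker = (pCoreOf p L).subgroupOf NL := by
    ext x
    rw [MonoidHom.mem_ker, Subgroup.mem_subgroupOf]
    have e : Θ₀ x = π (Subgroup.inclusion hNLL x) := rfl
    rw [e, ← MonoidHom.mem_ker, hker, ← mem_pCoreOf_iff]
    rfl
  set Θ : ↥NL ⧸ (pCoreOf p L).subgroupOf NL →* Γ :=
    QuotientGroup.lift ((pCoreOf p L).subgroupOf NL) Θ₀ (by rw [hker₀]) with hΘdef
  have hΘ : ∀ x : ↥NL, Θ (QuotientGroup.mk x) = Θ₀ x := fun x => QuotientGroup.lift_mk _ _ x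
  have hΘinj : Function.Injective Θ := by
    rw [injective_iff_map_eq_one]
    intro v hv
    obtain ⟨x, rfl⟩ := QuotientGroup.mk_surjective v
    rw [hΘ] at hv
    have : x ∈ Θ₀.ker := MonoidHom.mem_ker.mpr hv
    rw [hker₀] at this
    exact (QuotientGroup.eq_one_iff x).mpr this
  -- image of `Θ`
  have hIm1 : ∀ v, Θ v ∈ Subgroup.normalizer
      ((((largestPReducedOf p M).subgroupOf L).map π : Subgroup Γ) : Set Γ) := by
    intro v
    obtain ⟨x, rfl⟩ := QuotientGroup.mk_surjective v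
    rw [hΘ]
    apply map_mem_normalizer π
    rw [mem_normalizer_subgroupOf_iff hYL]
    exact x.2.2
  have hIm2 : ∀ σ ∈ Subgroup.normalizer
      ((((largestPReducedOf p M).subgroupOf L).map π : Subgroup Γ) : Set Γ), ∃ v, Θ v = σ := by
    intro σ hσ
    obtain ⟨x, rfl⟩ := hπ σ
    have hxN : x ∈ Subgroup.normalizer
        (((largestPReducedOf p M).subgroupOf L : Subgroup ↥L) : Set ↥L) := by
      apply hld.mem_normalizer_of_map π hker
      rintro _ ⟨e, he, rfl⟩
      have := (Subgroup.mem_normalizer_iff.mp hσ e).mp he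
      simpa [MulAut.conj_apply] using this
    rw [mem_normalizer_subgroupOf_iff hYL] at hxN
    exact ⟨QuotientGroup.mk ⟨(x : G), ⟨x.2, hxN⟩⟩, by rw [hΘ]; rfl⟩
  -- image of `Ybar`
  have hYim : (((largestPReducedOf p M).subgroupOf NL).map
      (QuotientGroup.mk' ((pCoreOf p L).subgroupOf NL))).map Θ =
      ((largestPReducedOf p M).subgroupOf L).map π := by
    ext σ
    constructor
    · rintro ⟨_, ⟨x, hx, rfl⟩, rfl⟩
      have hxY : (x : G) ∈ largestPReducedOf p M := Subgroup.mem_subgroupOf.mp hx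
      exact ⟨Subgroup.inclusion hNLL x, Subgroup.mem_subgroupOf.mpr hxY, (hΘ x).symm⟩
    · rintro ⟨y, hy, rfl⟩
      have hyY : (y : G) ∈ largestPReducedOf p M := Subgroup.mem_subgroupOf.mp hy
      have hyN : (y : G) ∈ NL := ⟨y.2, Subgroup.le_normalizer hyY⟩
      refine ⟨QuotientGroup.mk ⟨(y : G), hyN⟩, ⟨⟨(y : G), hyN⟩,
        Subgroup.mem_subgroupOf.mpr hyY, rfl⟩, ?_⟩
      rw [hΘ]; rfl
  -- apply (U)
  have hW : V.map Θ = ((largestPReducedOf p M).subgroupOf L).map π := by
    apply hU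
    · rintro _ ⟨v, _, rfl⟩
      exact hIm1 v
    · intro σ hσ
      obtain ⟨v, rfl⟩ := hIm2 σ hσ
      apply mem_normalizer_of_conjSub_le
      intro w hw
      rw [mem_conjSub] at hw
      obtain ⟨v₀, hv₀, hv₀w⟩ := hw
      refine ⟨v * v₀ * v⁻¹, hVn.conj_mem v₀ hv₀ v, ?_⟩
      rw [map_mul, map_mul, map_inv, hv₀w]; group
    · rintro _ ⟨v, hv, rfl⟩
      rw [← map_pow, hVe.2 v hv, map_one]
    · intro hbot
      apply hV1
      rw [Subgroup.map_eq_bot_iff] at hbot
      rw [eq_bot_iff]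
      intro v hv
      have := hbot hv
      rw [MonoidHom.mem_ker] at this
      rw [Subgroup.mem_bot]
      exact (injective_iff_map_eq_one Θ).mp hΘinj v this
  rw [← hYim] at hW
  exact Subgroup.map_injective hΘinj hW

end

end Cfsg.Agent.Helper87.FrakL
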