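import Cfsg.Agent.Helper87.FrakLNorm
import Cfsg.Agent.Helper87.FrakLMain
import Cfsg.Agent.Helper65.FrakLSzB

/-!
# S2861 modulo the `SL₂` input
-/

set_option autoImplicit false

namespace Cfsg.Agent.Helper87.FrakL

open Cfsg Cfsg.Agent.Helper48 Matrix

/-- The `SL₂` input (piece SL2d). -/
def SL2dStatement : Prop :=
  ∀ (F : Type) [Field F] [Fintype F] (p : ℕ) [Fact p.Prime] [CharP F p]
    (E : Subgroup (SpecialLinearGroup (Fin 2) F)), (∀ x, x ∈ E ↔ ∃ s : F, x = uU s) →
    ∀ W : Subgroup (SpecialLinearGroup (Fin 2) F),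
      W ≤ Subgroup.normalizer (E : Set (SpecialLinearGroup (Fin 2) F)) →
      Subgroup.normalizer (E : Set (SpecialLinearGroup (Fin 2) F)) ≤
        Subgroup.normalizer (W : Set (SpecialLinearGroup (Fin 2) F)) →
      (∀ x ∈ W, x ^ p = 1) → W ≠ ⊥ → W = E

variable {Λ : Type*} [Group Λ]

namespace LD

variable {Y A : Subgroup Λ}

theorem une_of_card_two [Finite Λ] (h : LD Y A) (hY2 : ∀ y ∈ Y, y * y = 1)
    {Γ : Type*} [Group Γ] (π : Λ →* Γ) (hπ : Function.Surjective π) (hker : π.ker = A)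
    (hcore : Cfsg.pCore 2 Γ = ⊥) (hcard : Nat.card (Y.map π) = 2) : UNE 2 (Y.map π) := by
  obtain ⟨a, ha1, ha2, hE, hi, -⟩ := h.card_two_facts hY2 π hπ hker hcore hcard
  intro W hWN _ _ hW1
  have haE : a ∈ Y.map π := by rw [← hE]; exact Subgroup.mem_zpowers a
  have hWE : ∀ w ∈ W, w = 1 ∨ w = a := by
    intro w hw
    have h1 := (Subgroup.mem_normalizer_iff.mp (hWN hw) a).mp haE
    rw [← hE] at h1
    apply hi
    rcases mem_zpowers_of_sq ha2 h1 with h0 | h0
    · exfalso
      apply ha1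
      have : a = w⁻¹ * (w * a * w⁻¹) * w := by group
      rw [this, h0]; group
    · have : w * a = (w * a * w⁻¹) * w := by group
      rw [this, h0]
  apply le_antisymm
  · intro w hw
    rcases hWE w hw with h0 | h0
    · rw [h0]; exact Subgroup.one_mem _
    · rw [h0]; exact haE
  · rw [← hE, Subgroup.zpowers_le]
    obtain ⟨w, hw, hw1⟩ : ∃ w ∈ W, w ≠ 1 := by
      by_contra hcon
      push_neg at hcon
      apply hW1
      rw [eq_bot_iff]
      intro w hw
      rw [Subgroup.mem_bot]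
      exact hcon w hw
    rcases hWE w hw with h0 | h0
    · exact absurd h0 hw1
    · rw [← h0]; exact hw

theorem exists_normalized [Finite Λ] (_h : LD Y A) [hAn : A.Normal]
    {F : Type*} [Field F] [Fintype F]
    (φ : Λ ⧸ A ≃* SpecialLinearGroup (Fin 2) F)
    (hcard : Nat.card (Y.map (QuotientGroup.mk' A)) = Fintype.card F) :
    ∃ ψ : Λ →* SpecialLinearGroup (Fin 2) F, Function.Surjective ψ ∧ ψ.ker = A ∧
      (∀ y ∈ Y, ∃ s : F, ψ y = uU s) ∧ (∀ s : F, ∃ y ∈ Y, ψ y = uU s) := by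
  have hPcard : Nat.card ((Y.map (QuotientGroup.mk' A)).map φ.toMonoidHom) = Fintype.card F := by
    rw [Subgroup.card_map_of_injective (f := φ.toMonoidHom) φ.injective, hcard]
  obtain ⟨g₀, hg₀⟩ := Cfsg.Agent.Helper91.FrakL.exists_conj_eq_upper _ hPcard
  set ψ : Λ →* SpecialLinearGroup (Fin 2) F :=
    (MulAut.conj g₀⁻¹).toMonoidHom.comp (φ.toMonoidHom.comp (QuotientGroup.mk' A)) with hψdef
  have hψa : ∀ x : Λ, ψ x = g₀⁻¹ * φ (QuotientGroup.mk x) * g₀ := by
    intro x
    simp [hψdef, MulAut.conj_apply]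
  refine ⟨ψ, ?_, ?_, ?_, ?_⟩
  · intro g
    obtain ⟨q, hq⟩ := φ.surjective (g₀ * g * g₀⁻¹)
    obtain ⟨x, rfl⟩ := QuotientGroup.mk_surjective q
    refine ⟨x, ?_⟩
    rw [hψa, hq]; group
  · ext x
    rw [MonoidHom.mem_ker, hψa]
    constructor
    · intro hx
      have h1 : φ (QuotientGroup.mk x) = 1 := by
        have : φ (QuotientGroup.mk x) = g₀ * (g₀⁻¹ * φ (QuotientGroup.mk x) * g₀) * g₀⁻¹ := by
          group
        rw [this, hx]; group
      have h2 : (QuotientGroup.mk x : Λ ⧸ A) = 1 := by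
        apply φ.injective; rw [h1, map_one]
      exact (QuotientGroup.eq_one_iff x).mp h2
    · intro hx
      have h2 : (QuotientGroup.mk x : Λ ⧸ A) = 1 := (QuotientGroup.eq_one_iff x).mpr hx
      rw [h2, map_one]; group
  · intro y hy
    have hmem : φ (QuotientGroup.mk y) ∈
        (Y.map (QuotientGroup.mk' A)).map φ.toMonoidHom := ⟨_, ⟨y, hy, rfl⟩, rfl⟩
    obtain ⟨s, hs⟩ := (hg₀ _).mp hmem
    refine ⟨s, ?_⟩
    rw [hψa, hs]; group
  · intro s
    have hmem : g₀ * uU s * g₀⁻¹ ∈ (Y.map (QuotientGroup.mk' A)).map φ.toMonoidHom :=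
      (hg₀ _).mpr ⟨s, rfl⟩
    obtain ⟨_, ⟨y, hy, rfl⟩, hq⟩ := hmem
    refine ⟨y, hy, ?_⟩
    have hq' : φ (QuotientGroup.mk y) = g₀ * uU s * g₀⁻¹ := hq
    rw [hψa, hq']; group

end LD

variable {G : Type*} [Group G]

theorem norm_main [Finite G] {p : ℕ} [Fact p.Prime] {M L : Subgroup G} (hL : IsInFrakL p M L)
    (hSL2d : SL2dStatement)
    [hn : ((pCoreOf p L).subgroupOf
      (L ⊓ Subgroup.normalizer ((largestPReducedOf p M : Subgroup G) : Set G))).Normal] :
    ∀ V : Subgroup (↥(L ⊓ Subgroup.normalizer ((largestPReducedOf p M : Subgroup G) : Set G)) ⧸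
        (pCoreOf p L).subgroupOf
          (L ⊓ Subgroup.normalizer ((largestPReducedOf p M : Subgroup G) : Set G))),
      V.Normal → IsElementaryAbelian p V → V ≠ ⊥ →
      V = ((largestPReducedOf p M).subgroupOf
        (L ⊓ Subgroup.normalizer ((largestPReducedOf p M : Subgroup G) : Set G))).map
        (QuotientGroup.mk' ((pCoreOf p L).subgroupOf
          (L ⊓ Subgroup.normalizer ((largestPReducedOf p M : Subgroup G) : Set G)))) := by
  have hld := ld_of_isInFrakL hL
  have hL' := hL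
  obtain ⟨hYL, -, -, -, -, -, hcases⟩ := hL
  have hcardeq := card_map_mk_eq_relIndex (p := p) hYL
  have hYp : ∀ y ∈ (largestPReducedOf p M).subgroupOf L, y ^ p = 1 := pow_eq_one_of_isInFrakL
  rcases hcases with ⟨F, _, _, hF, ⟨φ⟩⟩ | ⟨hp2, F, _, _, m, hFm, hF, ⟨φ⟩⟩ | ⟨hp2, r, hr, hr2, ⟨φ⟩⟩
  · obtain ⟨n, hn'⟩ := (LD.isPGroup_map hYp (QuotientGroup.mk' (pCore p ↥L))).exists_card_eq
    haveI : CharP F p := charP_of_card (n := n) (by rw [hF, ← hcardeq, hn'])
    obtain ⟨ψ, hψs, hker, hD1, hD2⟩ := hld.exists_normalized φ (by rw [hcardeq, hF])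
    apply normalizer_quotient_unique hL' ψ hψs hker
    intro W hWN hNW hWp hW1
    refine hSL2d F p _ ?_ W hWN hNW hWp hW1
    intro x
    constructor
    · rintro ⟨y, hy, rfl⟩
      exact hD1 y hy
    · rintro ⟨s, rfl⟩
      obtain ⟨y, hy, hys⟩ := hD2 s
      exact ⟨y, hy, hys⟩
  · subst hp2
    have hY2 : ∀ y ∈ (largestPReducedOf 2 M).subgroupOf L, y * y = 1 := by
      intro y hy
      have := hYp y hy
      rwa [pow_two] at this
    rcases Nat.eq_zero_or_pos m with hm0 | hm1
    · subst hm0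
      exact normalizer_quotient_unique hL' (QuotientGroup.mk' _) (QuotientGroup.mk'_surjective _)
        (QuotientGroup.ker_mk' _)
        (hld.une_of_card_two hY2 (QuotientGroup.mk' _) (QuotientGroup.mk'_surjective _)
          (QuotientGroup.ker_mk' _) (Cfsg.Agent.Helper62.pCore_quotient_pCore_eq_bot 2)
          (by rw [hcardeq, ← hF, hFm]; norm_num))
    · have hπs : Function.Surjective
          (φ.toMonoidHom.comp (QuotientGroup.mk' (pCore 2 ↥L))) :=
        φ.surjective.comp (QuotientGroup.mk'_surjective _)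
      have hker : (φ.toMonoidHom.comp (QuotientGroup.mk' (pCore 2 ↥L))).ker = pCore 2 ↥L := by
        ext x
        rw [MonoidHom.mem_ker]
        show φ (QuotientGroup.mk x) = 1 ↔ _
        rw [MulEquiv.map_eq_one_iff, QuotientGroup.eq_one_iff]
      have hEcard : Nat.card (((largestPReducedOf 2 M).subgroupOf L).map
          (φ.toMonoidHom.comp (QuotientGroup.mk' (pCore 2 ↥L)))) = Fintype.card F := by
        rw [← Subgroup.map_map, Subgroup.card_map_of_injective (f := φ.toMonoidHom) φ.injective,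
          hcardeq, hF]
      have hE2 : ∀ x ∈ ((largestPReducedOf 2 M).subgroupOf L).map
          (φ.toMonoidHom.comp (QuotientGroup.mk' (pCore 2 ↥L))), x * x = 1 := by
        rintro _ ⟨y, hy, rfl⟩
        rw [← map_mul, hY2 y hy, map_one]
      apply normalizer_quotient_unique hL' _ hπs hker
      intro W hWN hNW hWp hW1
      exact Cfsg.Agent.Helper65.FrakL.sz_normal_elemAb hm1 hFm _ hEcard hE2 W hWN hNW
        (fun x hx => by have := hWp x hx; rwa [pow_two] at this) hW1
  · subst hp2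
    have hY2 : ∀ y ∈ (largestPReducedOf 2 M).subgroupOf L, y * y = 1 := by
      intro y hy
      have := hYp y hy
      rwa [pow_two] at this
    exact normalizer_quotient_unique hL' (QuotientGroup.mk' _) (QuotientGroup.mk'_surjective _)
      (QuotientGroup.ker_mk' _)
      (hld.une_of_card_two hY2 (QuotientGroup.mk' _) (QuotientGroup.mk'_surjective _)
        (QuotientGroup.ker_mk' _) (Cfsg.Agent.Helper62.pCore_quotient_pCore_eq_bot 2)
        (hld.card_two_of_dihedral hYp hr hr2 φ))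

end Cfsg.Agent.Helper87.FrakL
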