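import Cfsg.Agent.Helper87.FrakLTwo
import Cfsg.Agent.Helper10.FrakLNM
import Cfsg.Agent.Helper48.FrakLRHO
import Cfsg.Agent.Helper62.FrakLSL2a
import Cfsg.Agent.Helper91.FrakLSL2b

/-!
# S2863: the case `Λ / A ≅ SL₂(F)`
-/

set_option autoImplicit false

namespace Cfsg.Agent.Helper87.FrakL

open Cfsg Cfsg.Agent.Helper48 Matrix

variable {Λ : Type*} [Group Λ]

theorem C_subgroupOf_normal (A C : Subgroup Λ) (hC : C ≤ Subgroup.center Λ) :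
    (C.subgroupOf A).Normal := by
  constructor
  intro n hn g
  rw [Subgroup.mem_subgroupOf] at hn ⊢
  have e : ((g * n * g⁻¹ : ↥A) : Λ) = (g : Λ) * n * (g : Λ)⁻¹ := by simp
  rw [e, conj_central (hC hn)]
  exact hn

theorem wS_conj_uU {F : Type*} [Field F] (s : F) :
    Cfsg.Agent.Helper10.FrakL.wS (1 : F) * uU s * (Cfsg.Agent.Helper10.FrakL.wS (1 : F))⁻¹ =
      uL (-s) := by
  have h1 := Cfsg.Agent.Helper10.FrakL.uL_mul_wS (one_ne_zero : (1 : F) ≠ 0) (-s)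
  have e : -((1 : F) ^ 2 * -s) = s := by ring
  rw [e] at h1
  rw [mul_inv_eq_iff_eq_mul, h1]

theorem uL_ne_uU {F : Type*} [Field F] (s : F) : uL (-1 : F) ≠ uU s := by
  intro h
  have h1 := congrArg (fun g : SpecialLinearGroup (Fin 2) F => (g : Matrix (Fin 2) (Fin 2) F) 1 0) h
  simp [uL, uU] at h1

namespace LD

variable {Y A : Subgroup Λ}

/-- `A / C` as a commutative group. -/
@[reducible] def quotCommGroup [Finite Λ] (h : LD Y A)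
    [hn : ((Y ⊓ Subgroup.center Λ).subgroupOf A).Normal] :
    CommGroup (↥A ⧸ (Y ⊓ Subgroup.center Λ).subgroupOf A) :=
  { QuotientGroup.Quotient.group _ with
    mul_comm := by
      intro u v
      obtain ⟨⟨a, ha⟩, rfl⟩ := QuotientGroup.mk_surjective u
      obtain ⟨⟨b, hb⟩, rfl⟩ := QuotientGroup.mk_surjective v
      rw [← QuotientGroup.mk_mul, ← QuotientGroup.mk_mul, QuotientGroup.eq_iff_div_mem,
        Subgroup.mem_subgroupOf]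
      have h1 := h.comm_mem_C ha hb
      have e : (((⟨a, ha⟩ : ↥A) * ⟨b, hb⟩ / (⟨b, hb⟩ * ⟨a, ha⟩) : ↥A) : Λ) =
          a * b * a⁻¹ * b⁻¹ := by
        simp [div_eq_mul_inv, mul_assoc]
      rw [e]; exact h1 }

theorem fpf_sl2_core [Finite Λ] (h : LD Y A) [hAn : A.Normal]
    [hCn : ((Y ⊓ Subgroup.center Λ).subgroupOf A).Normal] {p : ℕ} [Fact p.Prime]
    (hAp : IsPGroup p A) {F : Type*} [Field F] [CharP F p]
    (ψ : Λ →* SpecialLinearGroup (Fin 2) F) (hψ : Function.Surjective ψ) (hker : ψ.ker = A)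
    (ρ : SpecialLinearGroup (Fin 2) F →* MulAut (↥A ⧸ (Y ⊓ Subgroup.center Λ).subgroupOf A))
    (hρ : ∀ (x b : Λ) (hb : b ∈ A) (hxb : x * b * x⁻¹ ∈ A),
      ρ (ψ x) (QuotientGroup.mk ⟨b, hb⟩) = QuotientGroup.mk ⟨x * b * x⁻¹, hxb⟩)
    (hD1 : ∀ y ∈ Y, ∃ s : F, ψ y = uU s) (hD2 : ∀ s : F, ∃ y ∈ Y, ψ y = uU s)
    {t : Λ} (ht : ¬ ∃ k : ℕ, orderOf t = p ^ k) {a : Λ} (ha : a ∈ A)
    (hfix : t * a * t⁻¹ * a⁻¹ ∈ Y ⊓ Subgroup.center Λ) : a ∈ Y ⊓ Subgroup.center Λ := by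
  have hp : p.Prime := Fact.out
  have hC : Y ⊓ Subgroup.center Λ ≤ Subgroup.center Λ := inf_le_right
  have hcj : ∀ (x b : Λ), b ∈ A → x * b * x⁻¹ ∈ A := fun x b hb => hAn.conj_mem b hb x
  -- equality in the quotient
  have hEq : ∀ (u w : Λ) (hu : u ∈ A) (hw : w ∈ A),
      ((QuotientGroup.mk ⟨u, hu⟩ : ↥A ⧸ (Y ⊓ Subgroup.center Λ).subgroupOf A) =
        QuotientGroup.mk ⟨w, hw⟩) ↔ u * w⁻¹ ∈ Y ⊓ Subgroup.center Λ := by
    intro u w hu hw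
    rw [QuotientGroup.eq_iff_div_mem, Subgroup.mem_subgroupOf]
    have e : (((⟨u, hu⟩ : ↥A) / ⟨w, hw⟩ : ↥A) : Λ) = u * w⁻¹ := by
      simp [div_eq_mul_inv]
    rw [e]
  have hOne : ∀ (u : Λ) (hu : u ∈ A),
      ((QuotientGroup.mk ⟨u, hu⟩ : ↥A ⧸ (Y ⊓ Subgroup.center Λ).subgroupOf A) = 1) ↔
        u ∈ Y ⊓ Subgroup.center Λ := by
    intro u hu
    rw [QuotientGroup.eq_one_iff, Subgroup.mem_subgroupOf]
  -- the Weyl element
  obtain ⟨w₀, hw₀⟩ := hψ (Cfsg.Agent.Helper10.FrakL.wS 1)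
  have hψc : ∀ y : Λ, ψ (w₀ * y * w₀⁻¹) =
      Cfsg.Agent.Helper10.FrakL.wS 1 * ψ y * (Cfsg.Agent.Helper10.FrakL.wS 1)⁻¹ := by
    intro y
    rw [map_mul, map_mul, map_inv, hw₀]
  have hw₀N : w₀ ∉ Subgroup.normalizer (Y : Set Λ) := by
    intro hmem
    obtain ⟨y₁, hy₁, hy₁s⟩ := hD2 1
    have h1 : w₀ * y₁ * w₀⁻¹ ∈ Y := (Subgroup.mem_normalizer_iff.mp hmem y₁).mp hy₁
    obtain ⟨s', hs'⟩ := hD1 _ h1
    rw [hψc, hy₁s, wS_conj_uU] at hs'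
    exact uL_ne_uU s' hs'
  have hD1' : ∀ y' ∈ conjSub w₀ Y, ∃ s : F, ψ y' = uL s := by
    intro y' hy'
    rw [mem_conjSub] at hy'
    obtain ⟨s, hs⟩ := hD1 _ hy'
    refine ⟨-s, ?_⟩
    have e : y' = w₀ * (w₀⁻¹ * y' * w₀) * w₀⁻¹ := by group
    rw [e, hψc, hs, wS_conj_uU]
  have hD2' : ∀ s : F, ∃ y' ∈ conjSub w₀ Y, ψ y' = uL s := by
    intro s
    obtain ⟨y, hy, hys⟩ := hD2 (-s)
    refine ⟨w₀ * y * w₀⁻¹, conj_mem_conjSub hy, ?_⟩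
    rw [hψc, hys, wS_conj_uU, neg_neg]
  have hinv : (w₀⁻¹ * 1 : Λ) ∉ Subgroup.normalizer (Y : Set Λ) := by
    intro hmem
    apply hw₀N
    have := Subgroup.inv_mem _ hmem
    simpa using this
  have htop : conjSub w₀ Y ⊔ conjSub 1 Y = ⊤ := by
    rw [conjSub_one, sup_comm]
    exact h.sup_conj_eq_top hw₀N
  letI : CommGroup (↥A ⧸ (Y ⊓ Subgroup.center Λ).subgroupOf A) := h.quotCommGroup
  -- (h0)
  have h0 : ∀ v : ↥A ⧸ (Y ⊓ Subgroup.center Λ).subgroupOf A,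
      (∀ s, ρ (uU s) v = v) → (∀ s, ρ (uL s) v = v) → v = 1 := by
    intro v hU hL
    obtain ⟨⟨b, hb⟩, rfl⟩ := QuotientGroup.mk_surjective v
    rw [hOne]
    have hb1 : b ∈ Y ⊓ A := by
      apply h.fix_gen hw₀N le_rfl (h.sup_conj_eq_top hw₀N) hb
      intro y hy
      obtain ⟨s, hs⟩ := hD1 y hy
      have h1 := hU s
      rw [← hs, hρ y b hb (hcj y b hb), hEq] at h1
      exact h1
    have hb2 : b ∈ conjSub w₀ (Y ⊓ A) := by
      apply h.fix_gen_conj w₀ hinv le_rfl htop hb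
      intro y hy
      obtain ⟨s, hs⟩ := hD1' y hy
      have h1 := hL s
      rw [← hs, hρ y b hb (hcj y b hb), hEq] at h1
      exact h1
    exact ⟨hb1.1, h.inf_conj_le_center hw₀N ⟨hb1.1, conjSub_mono' w₀ inf_le_left hb2⟩⟩
  -- (h1)
  have h1 : ∀ v : ↥A ⧸ (Y ⊓ Subgroup.center Λ).subgroupOf A, ∃ v₁ v₂,
      (∀ s, ρ (uU s) v₁ = v₁) ∧ (∀ s, ρ (uL s) v₂ = v₂) ∧ v = v₁ * v₂ := by
    intro v
    obtain ⟨⟨b, hb⟩, rfl⟩ := QuotientGroup.mk_surjective v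
    obtain ⟨z, hz, z', hz', rfl⟩ := h.exists_mul hw₀N hb
    have hz'A : z' ∈ A := h.conj_inf_le_A w₀ hz'
    refine ⟨QuotientGroup.mk ⟨z, hz.2⟩, QuotientGroup.mk ⟨z', hz'A⟩, ?_, ?_, rfl⟩
    · intro s
      obtain ⟨y, hy, hys⟩ := hD2 s
      rw [← hys, hρ y z hz.2 (hcj y z hz.2)]
      congr 1
      apply Subtype.ext
      show y * z * y⁻¹ = z
      rw [h.hYc y hy z hz.1]; group
    · intro s
      obtain ⟨y, hy, hys⟩ := hD2' s
      rw [← hys, hρ y z' hz'A (hcj y z' hz'A)]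
      congr 1
      apply Subtype.ext
      show y * z' * y⁻¹ = z'
      rw [h.conj_comm w₀ hy (conjSub_mono' w₀ inf_le_left hz')]; group
  -- (h2)
  have h2 : ∀ (s s' : F) (v : ↥A ⧸ (Y ⊓ Subgroup.center Λ).subgroupOf A),
      ρ (uU s') (ρ (uU s) v / v) = ρ (uU s) v / v := by
    intro s s' v
    obtain ⟨⟨b, hb⟩, rfl⟩ := QuotientGroup.mk_surjective v
    obtain ⟨y, hy, hys⟩ := hD2 s
    obtain ⟨y', hy', hys'⟩ := hD2 s'
    have hk := h.comm_mem' hb hy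
    have e1 : ρ (uU s) (QuotientGroup.mk ⟨b, hb⟩) / QuotientGroup.mk ⟨b, hb⟩ =
        (QuotientGroup.mk ⟨y * b * y⁻¹ * b⁻¹, hk.2⟩ :
          ↥A ⧸ (Y ⊓ Subgroup.center Λ).subgroupOf A) := by
      rw [← hys, hρ y b hb (hcj y b hb)]
      exact (QuotientGroup.mk_div _ _ _).symm.trans
        (congrArg QuotientGroup.mk (Subtype.ext (by simp [div_eq_mul_inv])))
    rw [e1, ← hys', hρ y' _ hk.2 (hcj y' _ hk.2)]
    congr 1
    apply Subtype.ext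
    show y' * (y * b * y⁻¹ * b⁻¹) * y'⁻¹ = y * b * y⁻¹ * b⁻¹
    rw [h.hYc y' hy' _ hk.1]; group
  -- (h3)
  have h3 : ∀ (s s' : F) (v : ↥A ⧸ (Y ⊓ Subgroup.center Λ).subgroupOf A),
      ρ (uL s') (ρ (uL s) v / v) = ρ (uL s) v / v := by
    intro s s' v
    obtain ⟨⟨b, hb⟩, rfl⟩ := QuotientGroup.mk_surjective v
    obtain ⟨y, hy, hys⟩ := hD2' s
    obtain ⟨y', hy', hys'⟩ := hD2' s'
    have hk := h.comm_mem_conj w₀ hb hy
    have hkA : y * b * y⁻¹ * b⁻¹ ∈ A := h.conj_inf_le_A w₀ hk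
    have e1 : ρ (uL s) (QuotientGroup.mk ⟨b, hb⟩) / QuotientGroup.mk ⟨b, hb⟩ =
        (QuotientGroup.mk ⟨y * b * y⁻¹ * b⁻¹, hkA⟩ :
          ↥A ⧸ (Y ⊓ Subgroup.center Λ).subgroupOf A) := by
      rw [← hys, hρ y b hb (hcj y b hb)]
      exact (QuotientGroup.mk_div _ _ _).symm.trans
        (congrArg QuotientGroup.mk (Subtype.ext (by simp [div_eq_mul_inv])))
    rw [e1, ← hys', hρ y' _ hkA (hcj y' _ hkA)]
    congr 1
    apply Subtype.ext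
    show y' * (y * b * y⁻¹ * b⁻¹) * y'⁻¹ = y * b * y⁻¹ * b⁻¹
    rw [h.conj_comm w₀ hy' (conjSub_mono' w₀ inf_le_left hk)]; group
  -- the element `t`
  have hdet : detSubOne (ψ t) ≠ 0 := by
    intro hdet
    have h4 := Cfsg.Agent.Helper62.FrakL.pow_eq_one_of_detSubOne_eq_zero (p := p) (ψ t) hdet
    rw [← map_pow] at h4
    have h5 : t ^ p ∈ A := by rw [← hker]; exact MonoidHom.mem_ker.mpr h4
    obtain ⟨j, hj⟩ := hAp ⟨_, h5⟩
    have hj' : (t ^ p) ^ (p ^ j) = 1 := by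
      have := congrArg Subtype.val hj
      simpa using this
    rw [← pow_mul, ← pow_succ'] at hj'
    have hdvd := orderOf_dvd_of_pow_eq_one hj'
    obtain ⟨k, _, hk⟩ := (Nat.dvd_prime_pow hp).mp hdvd
    exact ht ⟨k, hk⟩
  have hv : ρ (ψ t) (QuotientGroup.mk ⟨a, ha⟩) =
      (QuotientGroup.mk ⟨a, ha⟩ : ↥A ⧸ (Y ⊓ Subgroup.center Λ).subgroupOf A) := by
    rw [hρ t a ha (hcj t a ha), hEq]
    exact hfix
  have := Cfsg.Agent.Helper10.FrakL.natural_module_fpf ρ h0 h1 h2 h3 (ψ t) hdet _ hv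
  exact (hOne a ha).mp this

end LD

end Cfsg.Agent.Helper87.FrakL
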