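import Cfsg.Agent.Helper87.FrakLCore

/-!
# `A / C` is abelian; the dihedral trick for `p = 2`
-/

set_option autoImplicit false

namespace Cfsg.Agent.Helper87.FrakL

open Cfsg Cfsg.Agent.Helper48

variable {Λ : Type*} [Group Λ]

theorem exists_not_mem_of_ne_top {N : Subgroup Λ} (h : N ≠ ⊤) : ∃ g : Λ, g ∉ N := by
  by_contra hne
  push_neg at hne
  exact h (eq_top_iff.mpr fun x _ => hne x)

/-- commuting modulo a central subgroup is multiplicative in the second argument -/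
theorem cm_mul {C : Subgroup Λ} (hC : C ≤ Subgroup.center Λ) {a w w' : Λ}
    (h1 : a * w * a⁻¹ * w⁻¹ ∈ C) (h2 : a * w' * a⁻¹ * w'⁻¹ ∈ C) :
    a * (w * w') * a⁻¹ * (w * w')⁻¹ ∈ C := by
  have e : a * (w * w') * a⁻¹ * (w * w')⁻¹ =
      (a * w * a⁻¹ * w⁻¹) * (w * (a * w' * a⁻¹ * w'⁻¹) * w⁻¹) := by group
  rw [e, conj_central (hC h2) w]
  exact C.mul_mem h1 h2

theorem cm_symm {C : Subgroup Λ} {a w : Λ} (h1 : a * w * a⁻¹ * w⁻¹ ∈ C) :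
    w * a * w⁻¹ * a⁻¹ ∈ C := by
  have := C.inv_mem h1
  have e : (a * w * a⁻¹ * w⁻¹)⁻¹ = w * a * w⁻¹ * a⁻¹ := by group
  rwa [e] at this

namespace LD

variable {Y A : Subgroup Λ}

/-- for `w ∈ Y ∩ A`, `A` commutes with `w` modulo `C`. -/
theorem cm_of_mem_Z [Finite Λ] (h : LD Y A) {g : Λ}
    (hg : g ∉ Subgroup.normalizer (Y : Set Λ)) {a w : Λ} (ha : a ∈ A) (hw : w ∈ Y ⊓ A) :
    a * w * a⁻¹ * w⁻¹ ∈ Y ⊓ Subgroup.center Λ := by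
  have hC : Y ⊓ Subgroup.center Λ ≤ Subgroup.center Λ := inf_le_right
  obtain ⟨z, hz, z', hz', rfl⟩ := h.exists_mul hg ha
  have hz'Y : z' ∈ conjSub g Y := conjSub_mono' g inf_le_left hz'
  have hz'A : z' ∈ A := h.conj_inf_le_A g hz'
  show z * z' ∈ cmSub _ hC w
  apply Subgroup.mul_mem
  · rw [mem_cmSub, h.hYc z hz.1 w hw.1]
    have : w * z * z⁻¹ * w⁻¹ = 1 := by group
    rw [this]; exact Subgroup.one_mem _
  · rw [mem_cmSub]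
    have h1 : z' * w * z'⁻¹ * w⁻¹ ∈ Y := (h.comm_mem hz'A hw.1).1
    have h2 : z' * w * z'⁻¹ * w⁻¹ ∈ conjSub g Y :=
      conjSub_mono' g inf_le_left (h.comm_mem_conj g hw.2 hz'Y)
    exact ⟨h1, h.inf_conj_le_center hg ⟨h1, h2⟩⟩

/-- for `w ∈ (Y ∩ A)^g`, `A` commutes with `w` modulo `C`. -/
theorem cm_of_mem_Z' [Finite Λ] (h : LD Y A) {g : Λ}
    (hg : g ∉ Subgroup.normalizer (Y : Set Λ)) {a w : Λ} (ha : a ∈ A)
    (hw : w ∈ conjSub g (Y ⊓ A)) :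
    a * w * a⁻¹ * w⁻¹ ∈ Y ⊓ Subgroup.center Λ := by
  have hC : Y ⊓ Subgroup.center Λ ≤ Subgroup.center Λ := inf_le_right
  obtain ⟨z, hz, z', hz', rfl⟩ := h.exists_mul hg ha
  have hz'Y : z' ∈ conjSub g Y := conjSub_mono' g inf_le_left hz'
  have hwY : w ∈ conjSub g Y := conjSub_mono' g inf_le_left hw
  have hwA : w ∈ A := h.conj_inf_le_A g hw
  show z * z' ∈ cmSub _ hC w
  apply Subgroup.mul_mem
  · rw [mem_cmSub]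
    have h1 : z * w * z⁻¹ * w⁻¹ ∈ Y := (h.comm_mem' hwA hz.1).1
    have h2 : z * w * z⁻¹ * w⁻¹ ∈ conjSub g Y :=
      conjSub_mono' g inf_le_left (cm_symm (h.comm_mem_conj g hz.2 hwY))
    exact ⟨h1, h.inf_conj_le_center hg ⟨h1, h2⟩⟩
  · rw [mem_cmSub, h.conj_comm g hz'Y hwY]
    have : w * z' * z'⁻¹ * w⁻¹ = 1 := by group
    rw [this]; exact Subgroup.one_mem _

/-- (i) `A / C` is abelian. -/
theorem comm_mem_C [Finite Λ] (h : LD Y A) {a b : Λ} (ha : a ∈ A) (hb : b ∈ A) :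
    a * b * a⁻¹ * b⁻¹ ∈ Y ⊓ Subgroup.center Λ := by
  obtain ⟨g, hg⟩ := exists_not_mem_of_ne_top h.hNtop
  obtain ⟨z, hz, z', hz', rfl⟩ := h.exists_mul hg hb
  exact cm_mul inf_le_right (h.cm_of_mem_Z hg ha hz) (h.cm_of_mem_Z' hg ha hz')

/-- (ii) `A / C` has exponent `2` when `Y` has. -/
theorem sq_mem_C [Finite Λ] (h : LD Y A) (hY2 : ∀ y ∈ Y, y * y = 1) {a : Λ} (ha : a ∈ A) :
    a * a ∈ Y ⊓ Subgroup.center Λ := by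
  have hC : Y ⊓ Subgroup.center Λ ≤ Subgroup.center Λ := inf_le_right
  obtain ⟨g, hg⟩ := exists_not_mem_of_ne_top h.hNtop
  obtain ⟨z, hz, z', hz', rfl⟩ := h.exists_mul hg ha
  have hz'A : z' ∈ A := h.conj_inf_le_A g hz'
  have hk := h.cm_of_mem_Z hg hz'A hz
  have hz2 : z * z = 1 := hY2 z hz.1
  have hz'2 : z' * z' = 1 := by
    have hz'Y : z' ∈ conjSub g Y := conjSub_mono' g inf_le_left hz'
    rw [mem_conjSub] at hz'Y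
    have := hY2 _ hz'Y
    have e : z' * z' = g * ((g⁻¹ * z' * g) * (g⁻¹ * z' * g)) * g⁻¹ := by group
    rw [e, this]; group
  have e : z * z' * (z * z') = z * (z' * z * z'⁻¹ * z⁻¹) * z⁻¹ * (z * z) * (z' * z') := by group
  rw [e, conj_central (hC hk) z, hz2, hz'2, mul_one, mul_one]
  exact hk

theorem conj_sq (hY2 : ∀ y ∈ Y, y * y = 1) {c z : Λ} (hz : z ∈ conjSub c Y) : z * z = 1 := by
  rw [mem_conjSub] at hz
  have := hY2 _ hz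
  have e : z * z = c * ((c⁻¹ * z * c) * (c⁻¹ * z * c)) * c⁻¹ := by group
  rw [e, this]; group

theorem C_le_conj (h : LD Y A) (d : Λ) : Y ⊓ Subgroup.center Λ ≤ conjSub d (Y ⊓ A) := by
  intro k hk
  rw [mem_conjSub]
  have := conj_central hk.2 d⁻¹
  simp only [inv_inv] at this
  rw [this]
  exact ⟨hk.1, h.hCA hk⟩

/-- The dihedral trick. -/
theorem fpf_of_two_involutions [Finite Λ] (h : LD Y A) (hY2 : ∀ y ∈ Y, y * y = 1) {c d : Λ}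
    (hcd : c⁻¹ * d ∉ Subgroup.normalizer (Y : Set Λ)) {z₁ z₂ : Λ}
    (hz₁ : z₁ ∈ conjSub c Y) (hz₂ : z₂ ∈ conjSub d Y)
    (hf₁ : ∀ a ∈ A, z₁ * a * z₁⁻¹ * a⁻¹ ∈ Y ⊓ Subgroup.center Λ → a ∈ conjSub c (Y ⊓ A))
    (hf₂ : ∀ a ∈ A, z₂ * a * z₂⁻¹ * a⁻¹ ∈ Y ⊓ Subgroup.center Λ → a ∈ conjSub d (Y ⊓ A))
    {t : Λ} (ht : t⁻¹ * (z₁ * z₂) ∈ A) {a : Λ} (ha : a ∈ A)
    (hfix : t * a * t⁻¹ * a⁻¹ ∈ Y ⊓ Subgroup.center Λ) : a ∈ Y ⊓ Subgroup.center Λ := by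
  have hC : Y ⊓ Subgroup.center Λ ≤ Subgroup.center Λ := inf_le_right
  haveI hCn : (Y ⊓ Subgroup.center Λ).Normal :=
    ⟨fun n hn g => by rw [conj_central (hC hn) g]; exact hn⟩
  haveI := h.hAn
  have hπ : ∀ x : Λ, (QuotientGroup.mk' (Y ⊓ Subgroup.center Λ) x = 1) ↔
      x ∈ Y ⊓ Subgroup.center Λ := fun x => QuotientGroup.eq_one_iff x
  set π := QuotientGroup.mk' (Y ⊓ Subgroup.center Λ) with hπdef
  -- congruence from membership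
  have hcong : ∀ u v : Λ, u * v⁻¹ ∈ Y ⊓ Subgroup.center Λ → π u = π v := by
    intro u v huv
    have := (hπ _).mpr huv
    rw [map_mul, map_inv, mul_inv_eq_one] at this
    exact this
  have hmem : ∀ u v : Λ, π u = π v → u * v⁻¹ ∈ Y ⊓ Subgroup.center Λ := by
    intro u v huv
    apply (hπ _).mp
    rw [map_mul, map_inv, huv, mul_inv_cancel]
  have hz₁2 : z₁ * z₁ = 1 := conj_sq hY2 hz₁
  have hz₂2 : z₂ * z₂ = 1 := conj_sq hY2 hz₂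
  have hz₁i : z₁⁻¹ = z₁ := inv_eq_of_mul_eq_one_left hz₁2
  have hz₂i : z₂⁻¹ = z₂ := inv_eq_of_mul_eq_one_left hz₂2
  -- E1
  have E1 : π (t * a * t⁻¹) = π a := hcong _ _ hfix
  -- E2
  have hα : t⁻¹ * (z₁ * z₂) ∈ A := ht
  have E2 : π (t⁻¹ * (z₁ * z₂) * a * (t⁻¹ * (z₁ * z₂))⁻¹) = π a :=
    hcong _ _ (h.comm_mem_C hα ha)
  -- E3
  have E3 : π (z₁ * z₂ * a * z₂⁻¹ * z₁⁻¹) = π a := by
    have e : z₁ * z₂ * a * z₂⁻¹ * z₁⁻¹ =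
        t * (t⁻¹ * (z₁ * z₂) * a * (t⁻¹ * (z₁ * z₂))⁻¹) * t⁻¹ := by group
    rw [e, map_mul, map_mul, E2, ← map_mul, ← map_mul, E1]
  -- E4
  have E4 : π (z₂ * a * z₂⁻¹) = π (z₁ * a * z₁⁻¹) := by
    have e : z₂ * a * z₂⁻¹ = z₁⁻¹ * (z₁ * z₂ * a * z₂⁻¹ * z₁⁻¹) * z₁ := by group
    rw [e, map_mul, map_mul, E3, ← map_mul, ← map_mul]
    conv_lhs => rw [hz₁i]
    conv_rhs => rw [hz₁i]
  have hb : z₁ * a * z₁⁻¹ ∈ A := h.hAn.conj_mem _ ha z₁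
  have hb₂ : z₂ * a * z₂⁻¹ ∈ A := h.hAn.conj_mem _ ha z₂
  -- `w = a b` is fixed by `z₁`
  have hw : a * (z₁ * a * z₁⁻¹) ∈ conjSub c (Y ⊓ A) := by
    apply hf₁ _ (A.mul_mem ha hb)
    have e : z₁ * (a * (z₁ * a * z₁⁻¹)) * z₁⁻¹ * (a * (z₁ * a * z₁⁻¹))⁻¹ =
        (z₁ * a * z₁⁻¹) * ((z₁ * z₁) * a * (z₁ * z₁)⁻¹) * (z₁ * a * z₁⁻¹)⁻¹ * a⁻¹ := by group
    rw [e, hz₁2, inv_one, one_mul, mul_one]
    exact h.comm_mem_C hb ha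
  have hw₂ : a * (z₂ * a * z₂⁻¹) ∈ conjSub d (Y ⊓ A) := by
    apply hf₂ _ (A.mul_mem ha hb₂)
    have e : z₂ * (a * (z₂ * a * z₂⁻¹)) * z₂⁻¹ * (a * (z₂ * a * z₂⁻¹))⁻¹ =
        (z₂ * a * z₂⁻¹) * ((z₂ * z₂) * a * (z₂ * z₂)⁻¹) * (z₂ * a * z₂⁻¹)⁻¹ * a⁻¹ := by group
    rw [e, hz₂2, inv_one, one_mul, mul_one]
    exact h.comm_mem_C hb₂ ha
  have hww : π (a * (z₁ * a * z₁⁻¹)) = π (a * (z₂ * a * z₂⁻¹)) := by
    have e1 : π (a * (z₁ * a * z₁⁻¹)) = π a * π (z₁ * a * z₁⁻¹) := map_mul _ _ _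
    have e2 : π (a * (z₂ * a * z₂⁻¹)) = π a * π (z₂ * a * z₂⁻¹) := map_mul _ _ _
    rw [e1, e2, E4]
  have hw' : a * (z₁ * a * z₁⁻¹) ∈ conjSub d (Y ⊓ A) := by
    have h1 := h.C_le_conj d (hmem _ _ hww)
    have h2 := Subgroup.mul_mem _ h1 hw₂
    have e : a * (z₁ * a * z₁⁻¹) * (a * (z₂ * a * z₂⁻¹))⁻¹ * (a * (z₂ * a * z₂⁻¹)) =
        a * (z₁ * a * z₁⁻¹) := by group
    rwa [e] at h2
  have hwC : a * (z₁ * a * z₁⁻¹) ∈ Y ⊓ Subgroup.center Λ :=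
    h.conj_inf_conj_le hcd ⟨conjSub_mono' c inf_le_left hw, conjSub_mono' d inf_le_left hw'⟩
  -- `π b = π a`
  have hab : π a * π (z₁ * a * z₁⁻¹) = 1 := by
    rw [← map_mul]; exact (hπ _).mpr hwC
  have haa : π a * π a = 1 := by
    rw [← map_mul]; exact (hπ _).mpr (h.sq_mem_C hY2 ha)
  have hba : π (z₁ * a * z₁⁻¹) = π a := by
    have := hab.trans haa.symm
    exact mul_left_cancel this
  have ha₁ : a ∈ conjSub c (Y ⊓ A) := hf₁ a ha (hmem _ _ hba)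
  have ha₂ : a ∈ conjSub d (Y ⊓ A) := hf₂ a ha (hmem _ _ (E4.trans hba))
  exact h.conj_inf_conj_le hcd ⟨conjSub_mono' c inf_le_left ha₁, conjSub_mono' d inf_le_left ha₂⟩

end LD

end Cfsg.Agent.Helper87.FrakL
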