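import Cfsg.Agent.Helper87.FusionEssential
set_option autoImplicit false

namespace Cfsg.Agent.Helper87

open Cfsg Cfsg.FusionSystem

variable {Ω : Type*} [Group Ω] {S : Subgroup Ω}

/-- The isomorphisms generated, under composition, by the restrictions of maps of the system defined on strictly larger
subgroups. -/
inductive Gen (F : FusionSystem S) : ∀ {Q' Q'' : Subgroup Ω}, (Q' ≃* Q'') → Prop
  | ext {Q' Q'' N : Subgroup Ω} (e : Q' ≃* Q'') (hlt : Q' < N) (φ : N →* Ω) (hφ : φ ∈ F.Hom N)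
      (h : ∀ x : Q', φ (Subgroup.inclusion hlt.le x) = e x) : Gen F e
  | trans {Q' Q₁ Q'' : Subgroup Ω} (e₁ : Q' ≃* Q₁) (e₂ : Q₁ ≃* Q'') : Gen F e₁ → Gen F e₂ → Gen F (e₁.trans e₂)

theorem Gen.isIso {F : FusionSystem S} {Q' Q'' : Subgroup Ω} {e : Q' ≃* Q''} (h : Gen F e) : IsIso F e := by
  induction h with
  | ext e hlt φ hφ h => exact isIso_of_restrict F hφ hlt.le e h
  | trans e₁ e₂ _ _ ih₁ ih₂ => exact ih₁.trans ih₂

theorem Gen.symm [Finite S] {F : FusionSystem S} {Q' Q'' : Subgroup Ω} {e : Q' ≃* Q''} (h : Gen F e) :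
    Gen F e.symm := by
  induction h with
  | @ext Q' Q'' N e hlt φ hφ h =>
    obtain ⟨χ, hχ, hχx⟩ := F.inv_mem hφ
    have hNS : N ≤ S := (F.le_of_mem hφ).1
    have hfinN : Finite N := finite_of_le hNS
    have hle : Q'' ≤ φ.range := by
      intro y hy
      refine ⟨Subgroup.inclusion hlt.le (e.symm ⟨y, hy⟩), ?_⟩
      rw [h]; simp
    have hrS : φ.range ≤ S := by
      rintro _ ⟨x, rfl⟩
      exact (F.le_of_mem hφ).2 x
    have hfinr : Finite φ.range := finite_of_le hrS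
    have hcard1 : Nat.card φ.range = Nat.card N :=
      (Nat.card_congr (MonoidHom.ofInjective (F.injective_of_mem hφ)).toEquiv).symm
    have hcard2 : Nat.card Q'' = Nat.card Q' := (Nat.card_congr e.toEquiv).symm
    have hcard3 : Nat.card Q' < Nat.card N := card_lt_card_of_lt hlt
    have hlt' : Q'' < φ.range := by
      refine lt_of_le_of_ne hle (fun heq => ?_)
      rw [heq] at hcard2
      omega
    refine Gen.ext e.symm hlt' χ hχ (fun y => ?_)
    have e1 : Subgroup.inclusion hlt'.le y =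
        (⟨φ (Subgroup.inclusion hlt.le (e.symm y)), ⟨_, rfl⟩⟩ : φ.range) := by
      apply Subtype.ext
      show (y : Ω) = φ (Subgroup.inclusion hlt.le (e.symm y))
      rw [h]; simp
    rw [e1, hχx]
    rfl
  | trans e₁ e₂ _ _ ih₁ ih₂ => exact Gen.trans _ _ ih₂ ih₁

/-- The subsystem of `F` in which the maps between the conjugates of `Q` are those generated by restrictions from
strictly larger subgroups. -/
def genHom (F : FusionSystem S) (Q P : Subgroup Ω) : Set (P →* Ω) :=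
  {φ | φ ∈ F.Hom P ∧ (F.IsConj Q P → ∃ (Q'' : Subgroup Ω) (e : P ≃* Q''), Gen F e ∧ ∀ x, ((e x : Q'') : Ω) = φ x)}

theorem card_eq_of_isConj (F : FusionSystem S) {P Q : Subgroup Ω} (h : F.IsConj P Q) : Nat.card P = Nat.card Q := by
  obtain ⟨e, -⟩ := (isConj_iff F P Q).mp h
  exact Nat.card_congr e.toEquiv

theorem genHom_conj_mem [Finite S] (F : FusionSystem S) {Q : Subgroup Ω} (hQlt : Q < S) {P : Subgroup Ω} {g : Ω}
    (hP : P ≤ S) (hg : g ∈ S) : conjHom P g ∈ genHom F Q P := by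
  refine ⟨F.conj_mem hP hg, fun hconj => ?_⟩
  have hφ := F.conj_mem hP hg
  have hPlt : P < S := by
    refine lt_of_le_of_ne hP (fun h => ?_)
    have h1 := card_eq_of_isConj F hconj
    have h2 := card_lt_card_of_lt hQlt
    rw [h] at h1
    omega
  refine ⟨_, MonoidHom.ofInjective (F.injective_of_mem hφ), ?_, fun x => rfl⟩
  exact Gen.ext _ hPlt (conjHom S g) (F.conj_mem le_rfl hg) (fun x => rfl)

theorem genHom_comp_mem [Finite S] (F : FusionSystem S) {Q : Subgroup Ω} {P Q₁ : Subgroup Ω} {φ : P →* Ω}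
    {ψ : Q₁ →* Ω} (hφ : φ ∈ genHom F Q P) (hψ : ψ ∈ genHom F Q Q₁) (h : ∀ x : P, φ x ∈ Q₁) :
    ψ.comp (φ.codRestrict Q₁ h) ∈ genHom F Q P := by
  refine ⟨F.comp_mem hφ.1 hψ.1 h, fun hconj => ?_⟩
  obtain ⟨Q'', e, hGe, hex⟩ := hφ.2 hconj
  have hQ₁S : Q₁ ≤ S := (F.le_of_mem hψ.1).1
  have hfinQ₁ : Finite Q₁ := finite_of_le hQ₁S
  have hQ''le : Q'' ≤ Q₁ := by
    intro y hy
    have := hex (e.symm ⟨y, hy⟩)
    rw [MulEquiv.apply_symm_apply] at this
    have h2 : y = φ (e.symm ⟨y, hy⟩) := this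
    rw [h2]
    exact h _
  by_cases hQ₁ : F.IsConj Q Q₁
  · -- `Q'' = Q₁`
    obtain ⟨Q₃, e', hGe', he'x⟩ := hψ.2 hQ₁
    have hcard : Nat.card Q₁ ≤ Nat.card Q'' := by
      rw [← card_eq_of_isConj F hQ₁, card_eq_of_isConj F hconj]
      exact (Nat.card_congr e.toEquiv).le
    have heq : Q'' = Q₁ := Subgroup.eq_of_le_of_card_ge hQ''le hcard
    subst heq
    refine ⟨Q₃, e.trans e', Gen.trans _ _ hGe hGe', fun x => ?_⟩
    show ((e' (e x) : Q₃) : Ω) = ψ ⟨φ x, h x⟩
    rw [he'x]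
    congr 1
    exact Subtype.ext (hex x)
  · -- `Q'' < Q₁`
    have hne : Q'' ≠ Q₁ := by
      rintro rfl
      exact hQ₁ (isConj_trans F hconj ((isConj_iff F P Q'').mpr ⟨e, hGe.isIso⟩))
    have hlt : Q'' < Q₁ := lt_of_le_of_ne hQ''le hne
    have hψr : ψ.comp (Subgroup.inclusion hlt.le) ∈ F.Hom Q'' := restrict_mem F hψ.1 hlt.le
    refine ⟨_, e.trans (MonoidHom.ofInjective (F.injective_of_mem hψr)),
      Gen.trans _ _ hGe (Gen.ext _ hlt ψ hψ.1 (fun x => rfl)), fun x => ?_⟩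
    show ψ (Subgroup.inclusion hlt.le (e x)) = ψ ⟨φ x, h x⟩
    congr 1
    exact Subtype.ext (hex x)

theorem genHom_inv_mem [Finite S] (F : FusionSystem S) {Q : Subgroup Ω} {P : Subgroup Ω} {φ : P →* Ω}
    (hφ : φ ∈ genHom F Q P) : ∃ ψ ∈ genHom F Q φ.range, ∀ x : P, ψ ⟨φ x, ⟨x, rfl⟩⟩ = (x : Ω) := by
  obtain ⟨χ, hχ, hχx⟩ := F.inv_mem hφ.1
  refine ⟨χ, ⟨hχ, fun hconj => ?_⟩, hχx⟩
  have hPr : F.IsConj P φ.range := ⟨φ, hφ.1, rfl⟩
  have hconj' : F.IsConj Q P := isConj_trans F hconj (isConj_symm F hPr)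
  obtain ⟨Q'', e, hGe, hex⟩ := hφ.2 hconj'
  have heq : Q'' = φ.range := by
    ext y
    constructor
    · intro hy
      have := hex (e.symm ⟨y, hy⟩)
      rw [MulEquiv.apply_symm_apply] at this
      exact ⟨_, this.symm⟩
    · rintro ⟨x, rfl⟩
      rw [← hex x]
      exact (e x).2
  subst heq
  refine ⟨P, e.symm, hGe.symm, fun y => ?_⟩
  have h1 := hχx (e.symm y)
  have h2 : (⟨φ (e.symm y), ⟨_, rfl⟩⟩ : φ.range) = y := by
    apply Subtype.ext
    show φ (e.symm y) = y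
    rw [← hex]; simp
  rw [h2] at h1
  exact h1.symm

/-- The subsystem of `F` in which the maps between the conjugates of `Q` are those generated by restrictions from
strictly larger subgroups. -/
def genSystem [Finite S] (F : FusionSystem S) (Q : Subgroup Ω) (hQlt : Q < S) : FusionSystem S where
  Hom P := genHom F Q P
  le_of_mem h := F.le_of_mem h.1
  injective_of_mem h := F.injective_of_mem h.1
  conj_mem hP hg := genHom_conj_mem F hQlt hP hg
  comp_mem hφ hψ h := genHom_comp_mem F hφ hψ h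
  inv_mem hφ := genHom_inv_mem F hφ

end Cfsg.Agent.Helper87
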