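import Cfsg.Agent.Helper87.FusionHyp
import Cfsg.Agent.Helper87.FusionQuot2
set_option autoImplicit false

namespace Cfsg.Agent.Helper87

open Cfsg Cfsg.FusionSystem

variable {Ω : Type*} [Group Ω] {S : Subgroup Ω}

/-- The subsystem of `F` of the maps that move no element of `U` (neither from `U` nor into `U`), when `S` centralizes
`U`. -/
def fixSystem (F : FusionSystem S) (U : Subgroup Ω) (hU : ∀ g ∈ S, ∀ x ∈ U, g * x * g⁻¹ = x) :
    FusionSystem S where
  Hom P := {φ | φ ∈ F.Hom P ∧ ∀ x : P, ((x : Ω) ∈ U ∨ φ x ∈ U) → φ x = x}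
  le_of_mem h := F.le_of_mem h.1
  injective_of_mem h := F.injective_of_mem h.1
  conj_mem {P g} hP hg := ⟨F.conj_mem hP hg, fun x hx => by
    rcases hx with hx | hx
    · exact hU _ hg _ hx
    · have h1 := hU g⁻¹ (S.inv_mem hg) _ hx
      rw [conjHom_apply] at h1 ⊢
      have e : g⁻¹ * (g * (x : Ω) * g⁻¹) * g⁻¹⁻¹ = x := by group
      rw [e] at h1
      exact h1.symm⟩
  comp_mem {P Q φ ψ} hφ hψ h := ⟨F.comp_mem hφ.1 hψ.1 h, fun x hx => by
    show ψ ⟨φ x, h x⟩ = x
    rcases hx with hx | hx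
    · have h2 := hφ.2 x (Or.inl hx)
      have h3 : ((⟨φ x, h x⟩ : Q) : Ω) ∈ U := by
        show φ x ∈ U
        rw [h2]; exact hx
      have h1 := hψ.2 ⟨φ x, h x⟩ (Or.inl h3)
      rw [h1]; exact h2
    · have hx' : ψ ⟨φ x, h x⟩ ∈ U := hx
      have h1 := hψ.2 ⟨φ x, h x⟩ (Or.inr hx')
      have h3 : φ x ∈ U := by
        rw [h1] at hx'; exact hx'
      have h2 := hφ.2 x (Or.inr h3)
      rw [h1]; exact h2⟩
  inv_mem {P φ} hφ := by
    obtain ⟨ψ, hψ, hψx⟩ := F.inv_mem hφ.1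
    refine ⟨ψ, ⟨hψ, ?_⟩, hψx⟩
    rintro ⟨_, x, rfl⟩ hx
    rw [hψx]
    rcases hx with hx | hx
    · exact (hφ.2 x (Or.inr hx)).symm
    · rw [hψx] at hx
      exact (hφ.2 x (Or.inl hx)).symm

theorem mem_fixSystem_iff (F : FusionSystem S) (U : Subgroup Ω) (hU : ∀ g ∈ S, ∀ x ∈ U, g * x * g⁻¹ = x)
    {P : Subgroup Ω} (φ : P →* Ω) :
    φ ∈ (fixSystem F U hU).Hom P ↔ φ ∈ F.Hom P ∧ ∀ x : P, ((x : Ω) ∈ U ∨ φ x ∈ U) → φ x = x := Iff.rfl

/-- The automorphisms of `R` that fix every element of `U` in `R`. -/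
def fixer (R U : Subgroup Ω) : Subgroup (MulAut R) where
  carrier := {α | ∀ y : R, (y : Ω) ∈ U → α y = y}
  one_mem' := fun y _ => rfl
  mul_mem' := fun {a b} ha hb y hy => by rw [MulAut.mul_apply, hb y hy, ha y hy]
  inv_mem' := fun {a} ha y hy => by
    have h := ha y hy
    calc a⁻¹ y = a⁻¹ (a y) := by rw [h]
      _ = y := MulAut.inv_apply_self _ a y

theorem mem_fixer_iff (R U : Subgroup Ω) (α : MulAut R) :
    α ∈ fixer R U ↔ ∀ y : R, (y : Ω) ∈ U → α y = y := Iff.rfl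

/-- If `S` centralizes `U` and, for every `R ≤ S`, the automorphisms in `O^p(Aut_F(R))` fix the elements of `U` in `R`,
then every map of the saturated system `F` fixes the elements of `U` in its source. -/
theorem hom_fixes_of_pResidual_fixes [Finite S] {p : ℕ} [Fact p.Prime] (hS : IsPGroup p S) (F : FusionSystem S)
    (hF : F.IsSaturated p) (U : Subgroup Ω) (hU : ∀ g ∈ S, ∀ x ∈ U, g * x * g⁻¹ = x)
    (hres : ∀ R : Subgroup Ω, R ≤ S → ∀ α : F.autGroup R, α ∈ pResidual p (F.autGroup R) →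
      (α : MulAut R) ∈ fixer R U) :
    ∀ (P : Subgroup Ω) (φ : P →* Ω), φ ∈ F.Hom P → ∀ x : P, (x : Ω) ∈ U → φ x = x := by
  have key := hom_subset_of_autGroup_le hS F (fixSystem F U hU) hF (fun R hRa hRr _ => by
    have hRS : R ≤ S := hRa.1
    obtain ⟨Sy, hSy⟩ := hRa.2
    have : Finite (MulAut R) := finite_mulAut_of_le hRS
    have htop := Cfsg.Agent.Helper2.pResidual_sup_sylow_eq_top Sy
    have hle : pResidual p (F.autGroup R) ⊔ (Sy : Subgroup (F.autGroup R)) ≤
        (fixer R U).subgroupOf (F.autGroup R) := by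
      apply sup_le
      · intro α hα
        exact hres R hRS α hα
      · rw [hSy]
        intro α hα
        rw [Subgroup.mem_subgroupOf] at hα ⊢
        obtain ⟨g, hg, hgx⟩ := (mem_autInducedBy_iff S R _).mp hα
        intro y hy
        apply Subtype.ext
        rw [hgx]
        exact hU g hg _ hy
    intro α hα
    have hαK : α ∈ fixer R U := by
      have h1 : (⟨α, hα⟩ : F.autGroup R) ∈ (⊤ : Subgroup (F.autGroup R)) := trivial
      rw [← htop] at h1
      exact hle h1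
    have hαinvK : α⁻¹ ∈ fixer R U := (fixer R U).inv_mem hαK
    rw [mem_autGroup_iff _ hRS] at hα ⊢
    refine ⟨hα, fun y hy => ?_⟩
    rcases hy with hy | hy
    · exact congrArg Subtype.val (hαK y hy)
    · have h2 : (α y : Ω) ∈ U := hy
      have h1 := hαinvK (α y) h2
      rw [MulAut.inv_apply_self] at h1
      exact (congrArg Subtype.val h1).symm)
  intro P φ hφ x hx
  exact (key P hφ).2 x (Or.inl hx)

end Cfsg.Agent.Helper87
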