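import Cfsg.Agent.Helper87.FusionGrun
import Cfsg.Agent.S5084
import Cfsg.Agent.S5144
import Cfsg.Agent.S5148
set_option autoImplicit false

namespace Cfsg.Agent.Helper87

open Cfsg Cfsg.FusionSystem

variable {Ω : Type*} [Group Ω] {S : Subgroup Ω} {Ω' : Type*} [Group Ω']

/-- A computation with central elements. -/
theorem conj_mul_central {G : Type*} [Group G] {x f z₁ z₂ : G} (h1x : Commute z₁ x) (h1f : Commute z₁ f)
    (h2x : Commute z₂ x) (h21 : Commute z₂ z₁) :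
    (x * z₁)⁻¹ * ((f * z₂) * (x * z₁) * (f * z₂)⁻¹) = x⁻¹ * (f * x * f⁻¹) := by
  have e1 : z₂ * (x * z₁) * z₂⁻¹ = x * z₁ := (h2x.mul_right h21).mul_inv_cancel
  have e2 : (f * z₂) * (x * z₁) * (f * z₂)⁻¹ = f * (z₂ * (x * z₁) * z₂⁻¹) * f⁻¹ := by group
  have e3 : z₁ * f⁻¹ = f⁻¹ * z₁ := (h1f.inv_right).eq
  have e4 : f * (x * z₁) * f⁻¹ = f * x * f⁻¹ * z₁ := by
    rw [mul_assoc f (x * z₁), mul_assoc x z₁, e3]
    group
  have h3 : Commute z₁ (x⁻¹ * (f * x * f⁻¹)) :=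
    h1x.inv_right.mul_right ((h1f.mul_right h1x).mul_right h1f.inv_right)
  rw [e2, e1, e4, mul_inv_rev]
  have e5 : z₁⁻¹ * x⁻¹ * (f * x * f⁻¹ * z₁) = z₁⁻¹ * (x⁻¹ * (f * x * f⁻¹)) * z₁ := by group
  rw [e5]
  exact h3.inv_mul_cancel

/-- Lifting lemma: with `Z` central in `F`, `E` the factor system of `F` modulo `Z` and `Q'` central in `E`, every map
`φ` of `F` agrees modulo `Z` with a map of `F` defined also on the preimage of `Q'` and moving its elements only by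
elements of `Z`. -/
theorem exists_lift_mod_central [Finite S] {p : ℕ} [Fact p.Prime] (hS : IsPGroup p S) (F : FusionSystem S)
    (hF : F.IsSaturated p) {Z : Subgroup Ω} (hZ : F.IsCentral Z) (θ : S →* Ω') {S' : Subgroup Ω'}
    (E : FusionSystem S') (hE : F.IsFactorSystem Z θ E) {Q' : Subgroup Ω'} (hQ' : E.IsCentral Q')
    {P : Subgroup Ω} {φ : P →* Ω} (hφ : φ ∈ F.Hom P) :
    ∃ (N : Subgroup Ω) (hPN : P ≤ N) (hQN : preimageAlong θ Q' ≤ N), ∃ β ∈ F.Hom N,
      (∀ s : P, (φ s)⁻¹ * β (Subgroup.inclusion hPN s) ∈ Z) ∧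
      ∀ x : preimageAlong θ Q', (x : Ω)⁻¹ * β (Subgroup.inclusion hQN x) ∈ Z := by
  have hZsc : F.StronglyClosed Z := Cfsg.Agent.S5148.stronglyClosed_of_isCentral F hZ
  have hker := hE.2.1
  have hrange := hE.2.2.1
  obtain ⟨φ', ⟨φ₀, hφ₀, hind₀⟩, hind⟩ := exists_induced hS F hF hZsc θ hker hφ
  have hPi : imageAlong θ P ≤ S' := by
    rw [← hrange]
    rintro _ ⟨x, -, rfl⟩
    exact ⟨x, rfl⟩
  have hφ'E : φ' ∈ E.Hom (imageAlong θ P) := (hE.2.2.2 _ _).mpr ⟨hPi, φ₀, hφ₀, hind₀⟩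
  obtain ⟨χ, hχ, hχφ, hχQ⟩ := hQ'.2 _ φ' hφ'E
  obtain ⟨-, β, hβ, hindβ⟩ := (hE.2.2.2 _ _).mp hχ
  obtain ⟨hNS, hβS, hN', hcommβ⟩ := hindβ
  obtain ⟨hPS, hφS, hP', hcomm⟩ := hind
  have hPN : P ≤ preimageAlong θ (imageAlong θ P ⊔ Q') := by
    intro s hs
    rw [Helper85.mem_preimageAlong]
    exact ⟨hPS hs, Subgroup.mem_sup_left ⟨⟨s, hPS hs⟩, hs, rfl⟩⟩
  have hQN : preimageAlong θ Q' ≤ preimageAlong θ (imageAlong θ P ⊔ Q') := by
    intro x hx
    obtain ⟨hxS, hxQ⟩ := (Helper85.mem_preimageAlong θ _ x).mp hx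
    exact (Helper85.mem_preimageAlong θ _ x).mpr ⟨hxS, Subgroup.mem_sup_right hxQ⟩
  refine ⟨_, hPN, hQN, β, hβ, fun s => ?_, fun x => ?_⟩
  · have h1 := hcommβ (Subgroup.inclusion hPN s)
    have h2 : (⟨θ ⟨(Subgroup.inclusion hPN s : Ω), hNS (Subgroup.inclusion hPN s).2⟩,
        hN' (Subgroup.inclusion hPN s)⟩ : ↥(imageAlong θ P ⊔ Q')) =
        Subgroup.inclusion le_sup_left ⟨θ ⟨s, hPS s.2⟩, hP' s⟩ := Subtype.ext rfl
    rw [h2, hχφ, hcomm] at h1
    have h3 : θ (⟨φ s, hφS s⟩⁻¹ * ⟨β (Subgroup.inclusion hPN s), hβS _⟩) = 1 := by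
      rw [map_mul, map_inv, ← h1, inv_mul_cancel]
    exact (hker _).mp h3
  · obtain ⟨hxS, hxQ⟩ := (Helper85.mem_preimageAlong θ _ x).mp x.2
    have h1 := hcommβ (Subgroup.inclusion hQN x)
    have h2 : (⟨θ ⟨(Subgroup.inclusion hQN x : Ω), hNS (Subgroup.inclusion hQN x).2⟩,
        hN' (Subgroup.inclusion hQN x)⟩ : ↥(imageAlong θ P ⊔ Q')) =
        Subgroup.inclusion le_sup_right ⟨θ ⟨x, hxS⟩, hxQ⟩ := Subtype.ext rfl
    rw [h2, hχQ] at h1
    have h3 : θ (⟨x, hxS⟩⁻¹ * ⟨β (Subgroup.inclusion hQN x), hβS _⟩) = 1 := by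
      rw [map_mul, map_inv, ← h1, inv_mul_cancel]
    exact (hker _).mp h3


/-- Powers of an automorphism on an element it moves by a fixed element. -/
theorem mulAut_pow_apply_of_fixed {R : Type*} [Group R] (α : MulAut R) (y : R) (h : α (y⁻¹ * α y) = y⁻¹ * α y) (n : ℕ) :
    (α ^ n) y = y * (y⁻¹ * α y) ^ n := by
  induction n with
  | zero => simp
  | succ n ih =>
    have hax : α y = y * (y⁻¹ * α y) := by rw [mul_inv_cancel_left]
    rw [pow_succ', MulAut.mul_apply, ih, map_mul, map_pow, h, pow_succ', ← mul_assoc, ← hax]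

/-- Analogue of Grün's lemma: if the hyperfocal subgroup of the saturated system `F` is all of `S`, `Z` is central in `F`,
and `Q'` is central in the factor system of `F` modulo `Z`, then the preimage of `Q'` is central in `F`. -/
theorem isCentral_preimageAlong_of_hyperfocal_eq [Finite S] {p : ℕ} [Fact p.Prime] (hS : IsPGroup p S)
    (F : FusionSystem S) (hF : F.IsSaturated p) (hperf : F.hyperfocalSubgroup p = S)
    {Z : Subgroup Ω} (hZ : F.IsCentral Z) (θ : S →* Ω') {S' : Subgroup Ω'}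
    (E : FusionSystem S') (hE : F.IsFactorSystem Z θ E) {Q' : Subgroup Ω'} (hQ' : E.IsCentral Q') :
    F.IsCentral (preimageAlong θ Q') := by
  set U := preimageAlong θ Q' with hUdef
  have hUS : U ≤ S := Helper85.preimageAlong_le θ _
  have hZS : ∀ g ∈ S, ∀ z ∈ Z, g * z * g⁻¹ = z := fun g hg z hz =>
    Cfsg.Agent.S5148.apply_eq_of_mem_central F hZ (F.conj_mem le_rfl hg) ⟨z, hZ.1 hz⟩ hz
  have hcomm : ∀ z ∈ Z, ∀ g ∈ S, Commute z g := by
    intro z hz g hg
    have h := hZS g hg z hz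
    show z * g = g * z
    calc z * g = (g * z * g⁻¹) * g := by rw [h]
      _ = g * z := by group
  -- every map moves the elements of `U` by elements of `Z`
  have star : ∀ (P : Subgroup Ω) (φ : P →* Ω), φ ∈ F.Hom P → ∀ x : P, (x : Ω) ∈ U → (x : Ω)⁻¹ * φ x ∈ Z := by
    intro P φ hφ x hx
    obtain ⟨N, hPN, hQN, β, hβ, h1, h2⟩ := exists_lift_mod_central hS F hF hZ θ E hE hQ' hφ
    have h3 := h1 x
    have h4 := h2 ⟨x, hx⟩
    have e : Subgroup.inclusion hQN ⟨(x : Ω), hx⟩ = Subgroup.inclusion hPN x := Subtype.ext rfl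
    rw [e] at h4
    have e2 : (x : Ω)⁻¹ * φ x = ((x : Ω)⁻¹ * β (Subgroup.inclusion hPN x)) *
        ((φ x)⁻¹ * β (Subgroup.inclusion hPN x))⁻¹ := by group
    rw [e2]
    exact Z.mul_mem h4 (Z.inv_mem h3)
  -- conjugation of `x ∈ U` by `φ s` and by `s` agree
  have hinv : ∀ (P : Subgroup Ω) (φ : P →* Ω), φ ∈ F.Hom P → ∀ x ∈ U, ∀ s : P,
      φ s * x * (φ s)⁻¹ = s * x * (s : Ω)⁻¹ := by
    intro P φ hφ x hx s
    obtain ⟨N, hPN, hQN, β, hβ, h1, h2⟩ := exists_lift_mod_central hS F hF hZ θ E hE hQ' hφ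
    have hPS : P ≤ S := (F.le_of_mem hφ).1
    have hφS := (F.le_of_mem hφ).2
    have hβS := (F.le_of_mem hβ).2
    set sN : N := Subgroup.inclusion hPN s with hsN
    set xN : N := Subgroup.inclusion hQN ⟨x, hx⟩ with hxN
    have hz₁ := h2 ⟨x, hx⟩
    have hz₂ := h1 s
    rw [← hxN] at hz₁
    rw [← hsN] at hz₂
    have hxS : x ∈ S := hUS hx
    -- the element `x⁻¹ (s x s⁻¹)` of `Z`
    have hzZ : ((xN⁻¹ * (sN * xN * sN⁻¹) : N) : Ω) ∈ Z := by
      have h := star S (conjHom S (s : Ω)) (F.conj_mem le_rfl (hPS s.2)) ⟨x, hxS⟩ hx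
      exact h
    have hfix := Cfsg.Agent.S5148.apply_eq_of_mem_central F hZ hβ _ hzZ
    rw [map_mul, map_inv, map_mul, map_mul, map_inv] at hfix
    have ea : β xN = x * (x⁻¹ * β xN) := by rw [mul_inv_cancel_left]
    have eb : β sN = φ s * ((φ s)⁻¹ * β sN) := by rw [mul_inv_cancel_left]
    rw [ea, eb] at hfix
    rw [conj_mul_central (hcomm _ hz₁ x hxS) (hcomm _ hz₁ _ (hφS s)) (hcomm _ hz₂ x hxS)
      (hcomm _ hz₂ _ (hZ.1 hz₁))] at hfix
    have e3 : ((xN⁻¹ * (sN * xN * sN⁻¹) : N) : Ω) = x⁻¹ * ((s : Ω) * x * (s : Ω)⁻¹) := rfl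
    rw [e3] at hfix
    exact mul_left_cancel hfix
  -- `S` centralizes `U`
  have hUcent : ∀ g ∈ S, ∀ x ∈ U, g * x * g⁻¹ = x := by
    intro g hg x hx
    have hle : F.hyperfocalSubgroup p ≤ Subgroup.centralizer {x} := by
      unfold hyperfocalSubgroup
      rw [Subgroup.closure_le]
      rintro _ ⟨P, α, s, hPS, -, rfl⟩
      have hφ : P.subtype.comp ((α : MulAut P) : P ≃* P).toMonoidHom ∈ F.Hom P :=
        (mem_autGroup_iff F hPS _).mp α.2
      have h := hinv P _ hφ x hx s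
      have h' : (((α : MulAut P) s : P) : Ω) * x * (((α : MulAut P) s : P) : Ω)⁻¹ = s * x * (s : Ω)⁻¹ := h
      rw [SetLike.mem_coe, Subgroup.mem_centralizer_iff]
      intro x' hx'
      rw [Set.mem_singleton_iff.mp hx']
      -- x * (s⁻¹ a) = (s⁻¹ a) * x  from  a x a⁻¹ = s x s⁻¹
      have e : x * ((s : Ω)⁻¹ * (((α : MulAut P) s : P) : Ω)) =
          (s : Ω)⁻¹ * ((s : Ω) * x * (s : Ω)⁻¹) * (((α : MulAut P) s : P) : Ω) := by group
      rw [e, ← h']
      group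
    rw [hperf] at hle
    have h := hle hg
    rw [Subgroup.mem_centralizer_iff] at h
    have h2 := h x rfl
    rw [← h2]; group
  -- automorphisms in `O^p` fix the elements of `U`
  have hres : ∀ R : Subgroup Ω, R ≤ S → ∀ α : F.autGroup R, α ∈ pResidual p (F.autGroup R) →
      (α : MulAut R) ∈ fixer R U := by
    intro R hRS α hα
    have hle : pResidual p (F.autGroup R) ≤ (fixer R U).subgroupOf (F.autGroup R) := by
      unfold pResidual
      rw [Subgroup.closure_le]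
      intro g hg
      have hg' : Nat.Coprime (orderOf g) p := hg
      rw [SetLike.mem_coe, Subgroup.mem_subgroupOf, mem_fixer_iff]
      intro y hy
      have hφ : R.subtype.comp ((g : MulAut R) : R ≃* R).toMonoidHom ∈ F.Hom R :=
        (mem_autGroup_iff F hRS _).mp g.2
      have hw : ((y⁻¹ * (g : MulAut R) y : R) : Ω) ∈ Z := star R _ hφ y hy
      have hgw : (g : MulAut R) (y⁻¹ * (g : MulAut R) y) = y⁻¹ * (g : MulAut R) y :=
        Subtype.ext (Cfsg.Agent.S5148.apply_eq_of_mem_central F hZ hφ _ hw)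
      have hpow := mulAut_pow_apply_of_fixed (g : MulAut R) y hgw (orderOf g)
      have h1 : (g : MulAut R) ^ orderOf g = 1 := by
        rw [← Subgroup.coe_pow, pow_orderOf_eq_one]; rfl
      rw [h1, MulAut.one_apply] at hpow
      have hw1 : (y⁻¹ * (g : MulAut R) y) ^ orderOf g = 1 := by
        have := hpow.symm
        rwa [mul_eq_left] at this
      have hw2 : (y⁻¹ * (g : MulAut R) y) ^ Nat.card S = 1 := by
        have h2 : (Subgroup.inclusion hRS (y⁻¹ * (g : MulAut R) y)) ^ Nat.card S = 1 := pow_card_eq_one'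
        have h3 : Subgroup.inclusion hRS ((y⁻¹ * (g : MulAut R) y) ^ Nat.card S) = 1 := by rw [map_pow, h2]
        exact Subgroup.inclusion_injective hRS (by rw [h3, map_one])
      obtain ⟨k, hk⟩ := IsPGroup.iff_card.mp hS
      have hcop : Nat.Coprime (orderOf g) (Nat.card S) := by
        rw [hk]; exact Nat.Coprime.pow_right k hg'
      have hw3 := pow_gcd_eq_one.mpr ⟨hw1, hw2⟩
      rw [hcop, pow_one] at hw3
      rw [inv_mul_eq_one] at hw3
      exact hw3.symm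
    exact hle hα
  have hfix := hom_fixes_of_pResidual_fixes hS F hF U hUcent hres
  rw [Cfsg.Agent.S5084.result p hS F hF]
  refine ⟨hUS, fun x hx y hxy => ?_⟩
  obtain ⟨φ, hφ, rfl⟩ := hxy
  exact hfix _ φ hφ ⟨x, Subgroup.mem_zpowers x⟩ hx

/-- If the hyperfocal subgroup of the saturated system `F` is all of `S`, the factor system of `F` modulo its centre has
trivial centre. -/
theorem center_factor_eq_bot_of_hyperfocal_eq [Finite S] {p : ℕ} [Fact p.Prime] (hS : IsPGroup p S)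
    (F : FusionSystem S) (hF : F.IsSaturated p) (hperf : F.hyperfocalSubgroup p = S)
    (θ : S →* Ω') {S' : Subgroup Ω'} (E : FusionSystem S') (hE : F.IsFactorSystem F.center θ E) :
    E.center = ⊥ := by
  rw [eq_bot_iff]
  unfold center
  apply sSup_le
  intro Q' hQ'
  have hQ'c : E.IsCentral Q' := hQ'
  have hc := isCentral_preimageAlong_of_hyperfocal_eq hS F hF hperf (Cfsg.Agent.S5144.result F) θ E hE hQ'c
  have hle : preimageAlong θ Q' ≤ F.center := le_sSup hc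
  intro y hy
  have hyr : y ∈ θ.range := by rw [hE.2.2.1]; exact hQ'c.1 hy
  obtain ⟨s, rfl⟩ := hyr
  have hs : (s : Ω) ∈ preimageAlong θ Q' := (Helper85.mem_preimageAlong θ _ _).mpr ⟨s.2, hy⟩
  rw [Subgroup.mem_bot]
  exact (hE.2.1 s).mpr (hle hs)

end Cfsg.Agent.Helper87
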