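import Cfsg.Agent.Helper87.GenExtraPG
import Cfsg.Agent.Helper87.FusionSeries
import Cfsg.Agent.Helper86.Hyperplane

set_option autoImplicit false

/-!
# Generalized extraspecial subgroups: the index of `P ∩ R`

Group theory inside a finite `p`-group `S`, for a normal subgroup `P` whose commutators lie in a central subgroup `Z` of order
`p` and a subgroup `R` such that `|N_P(R) : P ∩ R| = p` and `P ∩ R` is abelian.
-/

namespace Cfsg.Agent.Helper87

open Cfsg Cfsg.FusionSystem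
open scoped commutatorElement

variable {Ω : Type*} [Group Ω] {S : Subgroup Ω}

/-- If `w ∈ P ∩ R` is central in `R` and not centralized by `n ∈ N_P(R)`, where `|N_P(R) : P ∩ R| = p` and `P ∩ R` is abelian,
then `C_P(w) ≤ R`. -/
theorem centralizer_inf_le_of_line [Finite S] {p : ℕ} [hp : Fact p.Prime] (hS : IsPGroup p S) {P R : Subgroup Ω}
    (hPS : P ≤ S) (hRS : R ≤ S) (hSN : S ≤ Subgroup.normalizer (P : Set Ω))
    (hidx : (R.subgroupOf (P ⊓ Subgroup.normalizer (R : Set Ω))).index = p)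
    (hab : ∀ a ∈ P ⊓ R, ∀ b ∈ P ⊓ R, a * b = b * a)
    {w n : Ω} (hwP : w ∈ P) (hwR : w ∈ R) (hwc : ∀ r ∈ R, r * w = w * r)
    (hnP : n ∈ P) (hnN : n ∈ Subgroup.normalizer (R : Set Ω)) (hnw : n * w ≠ w * n) :
    P ⊓ Subgroup.centralizer {w} ≤ R := by
  by_contra hnot
  set PC : Subgroup Ω := P ⊓ Subgroup.centralizer {w} with hPC
  have hPCS : PC ≤ S := inf_le_left.trans hPS
  have hmemPC : ∀ x, x ∈ PC ↔ x ∈ P ∧ x * w = w * x := by
    intro x
    rw [hPC, Subgroup.mem_inf, Subgroup.mem_centralizer_singleton_iff]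
  have hconjP : ∀ s ∈ S, ∀ x ∈ P, s * x * s⁻¹ ∈ P := by
    intro s hs x hx
    exact (Subgroup.mem_normalizer_iff.mp (hSN hs) x).mp hx
  have hRN : R ≤ Subgroup.normalizer (PC : Set Ω) := by
    have key : ∀ r ∈ R, ∀ x ∈ PC, r * x * r⁻¹ ∈ PC := by
      intro r hr x hx
      rw [hmemPC] at hx ⊢
      refine ⟨hconjP r (hRS hr) x hx.1, ?_⟩
      have h1 : r⁻¹ * w = w * r⁻¹ := hwc r⁻¹ (R.inv_mem hr)
      calc r * x * r⁻¹ * w = r * x * (r⁻¹ * w) := by group
        _ = r * (x * w) * r⁻¹ := by rw [h1]; group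
        _ = (r * w) * x * r⁻¹ := by rw [hx.2]; group
        _ = w * (r * x * r⁻¹) := by rw [hwc r hr]; group
    intro r hr
    apply mem_normalizer_of_conj_mem_of_inv_conj_mem (key r hr)
    intro y hy
    have := key r⁻¹ (R.inv_mem hr) y hy
    rwa [inv_inv] at this
  obtain ⟨c, hcPC, hcN, hcR⟩ := exists_mem_normalizer_not_mem hS hRS hPCS hRN hnot
  have hcP : c ∈ P := ((hmemPC c).mp hcPC).1
  have hcw : c * w = w * c := ((hmemPC c).mp hcPC).2
  set N : Subgroup Ω := P ⊓ Subgroup.normalizer (R : Set Ω) with hN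
  have hnorm : (R.subgroupOf N).Normal := by
    refine ⟨fun x hx g => ?_⟩
    rw [Subgroup.mem_subgroupOf] at hx ⊢
    have hg : (g : Ω) ∈ Subgroup.normalizer (R : Set Ω) := g.2.2
    exact (Subgroup.mem_normalizer_iff.mp hg _).mp hx
  have hcv : (⟨c, hcP, hcN⟩ : N) ∉ R.subgroupOf N := fun h => hcR (Subgroup.mem_subgroupOf.mp h)
  obtain ⟨i, hi⟩ := Cfsg.Agent.Helper86.exists_mul_pow_mem_of_index_prime hp.out (R.subgroupOf N) hidx hcv
    (⟨n, hnP, hnN⟩ : N)
  rw [Subgroup.mem_subgroupOf] at hi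
  have hyR : n * c ^ i ∈ R := by simpa using hi
  have hyP : n * c ^ i ∈ P := P.mul_mem hnP (P.pow_mem hcP i)
  have h1 : (n * c ^ i) * w = w * (n * c ^ i) := hab _ ⟨hyP, hyR⟩ _ ⟨hwP, hwR⟩
  have h2 : c ^ i * w = w * c ^ i := by
    have : Commute c w := hcw
    exact (this.pow_left i).eq
  apply hnw
  calc n * w = n * (c ^ i * w) * (c ^ i)⁻¹ := by rw [h2]; group
    _ = (n * c ^ i * w) * (c ^ i)⁻¹ := by group
    _ = w * n := by rw [h1]; group

/-- Under the hypotheses of `centralizer_inf_le_of_line`, with all commutators of `P` in the central subgroup `Z` of order `p`: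
`|P : P ∩ R| = p`. -/
theorem index_inf_eq_prime_of_line [Finite S] {p : ℕ} [hp : Fact p.Prime] (hS : IsPGroup p S) {P R Z : Subgroup Ω}
    (hPS : P ≤ S) (hRS : R ≤ S) (hSN : S ≤ Subgroup.normalizer (P : Set Ω))
    (hZP : Z ≤ P) (hZcard : Nat.card Z = p) (hZc : ∀ z ∈ Z, ∀ x ∈ P, x * z = z * x)
    (hcomm : ∀ a ∈ P, ∀ b ∈ P, a * b * a⁻¹ * b⁻¹ ∈ Z)
    (hidx : (R.subgroupOf (P ⊓ Subgroup.normalizer (R : Set Ω))).index = p)
    (hab : ∀ a ∈ P ⊓ R, ∀ b ∈ P ⊓ R, a * b = b * a)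
    {w n : Ω} (hwP : w ∈ P) (hwR : w ∈ R) (hwc : ∀ r ∈ R, r * w = w * r)
    (hnP : n ∈ P) (hnN : n ∈ Subgroup.normalizer (R : Set Ω)) (hnw : n * w ≠ w * n) :
    ((P ⊓ R).subgroupOf P).index = p := by
  have : Finite P := finite_of_le hPS
  have hle := centralizer_inf_le_of_line hS hPS hRS hSN hidx hab hwP hwR hwc hnP hnN hnw
  have heq : (P ⊓ R).subgroupOf P = Subgroup.centralizer {(⟨w, hwP⟩ : P)} := by
    ext x
    rw [Subgroup.mem_subgroupOf, Subgroup.mem_centralizer_singleton_iff]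
    constructor
    · intro hx
      apply Subtype.ext
      exact hab _ hx _ ⟨hwP, hwR⟩
    · intro hx
      refine ⟨x.2, hle ⟨x.2, ?_⟩⟩
      show (x : Ω) ∈ Subgroup.centralizer {w}
      rw [Subgroup.mem_centralizer_singleton_iff]
      exact congrArg Subtype.val hx
  have hZ'card : Nat.card (Z.subgroupOf P) = p := by
    rw [← hZcard]
    exact Nat.card_congr (Subgroup.subgroupOfEquivOfLe hZP).toEquiv
  have hdvd : (Subgroup.centralizer {(⟨w, hwP⟩ : P)}).index ∣ Nat.card (Z.subgroupOf P) := by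
    apply index_centralizer_dvd_card
    · intro z hz
      rw [Subgroup.mem_subgroupOf] at hz
      rw [Subgroup.mem_center_iff]
      intro g
      exact Subtype.ext (hZc z hz g g.2)
    · intro x
      rw [Subgroup.mem_subgroupOf]
      have := hcomm x x.2 w hwP
      simpa [commutatorElement_def] using this
  rw [hZ'card, ← heq] at hdvd
  rcases (Nat.dvd_prime hp.out).mp hdvd with h | h
  · exfalso
    rw [Subgroup.index_eq_one] at h
    have : (⟨n, hnP⟩ : P) ∈ (P ⊓ R).subgroupOf P := by rw [h]; exact Subgroup.mem_top _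
    rw [Subgroup.mem_subgroupOf] at this
    exact hnw (hwc n this.2)
  · exact h

end Cfsg.Agent.Helper87
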