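import Cfsg.Agent.Helper87.GenExtraPG
import Cfsg.Agent.S0206
import Cfsg.Agent.Helper37.ExtraP3

set_option autoImplicit false

/-!
# Generalized extraspecial groups: the exceptional isomorphism types

Let `T` be a finite group with a central subgroup `Z` of order `p` containing all commutators and `p`-th powers, `U ≥ Z` elementary
abelian of order `p²`, `C` central with `U ∩ C = 1` and `|T| = p³ |C|`, and `n`, `w ∈ U` not commuting.
* `genExtra_dihedral`: for `p = 2`, `T ≅ D₈ × A` with `A` elementary abelian.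
* `genExtra_odd`: for `p` odd and `n ^ p = 1`, `T ≅ E × A` with `E` extraspecial of order `p³` and exponent `p`.
-/

namespace Cfsg.Agent.Helper87

open scoped commutatorElement

variable {T : Type*} [Group T]

theorem genExtra_dihedral [Finite T] (Z U C : Subgroup T)
    (hZcen : Z ≤ Subgroup.center T) (hZcard : Nat.card Z = 2) (hcomm : ∀ a b : T, ⁅a, b⁆ ∈ Z)
    (hpow : ∀ a : T, a ^ 2 ∈ Z) (hZU : Z ≤ U) (hUcard : Nat.card U = 2 ^ 2) (hUexp : ∀ u ∈ U, u ^ 2 = 1)
    (hC : C ≤ Subgroup.center T) (hUC : U ⊓ C = ⊥) (n w : T) (hw : w ∈ U) (hnw : n * w ≠ w * n)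
    (hcard : Nat.card T = 2 ^ 3 * Nat.card C) :
    ∃ (A : Type) (_ : CommGroup A), (∀ a : A, a ^ 2 = 1) ∧ Nonempty (T ≃* DihedralGroup 4 × A) := by
  haveI : Fact (Nat.Prime 2) := ⟨Nat.prime_two⟩
  obtain ⟨E₀, hUE, hnE, hE₀card, ⟨e⟩, hCexp, -⟩ :=
    genExtra_prod (p := 2) Z U C hZcen hZcard hcomm hpow hZU hUcard hC hUC n w hw hnw hcard
  have hwE : w ∈ E₀ := hUE hw
  -- the elements of `Z`
  set z₀ : T := ⁅n, w⁆ with hz₀
  have hz₀Z : z₀ ∈ Z := hcomm n w
  have hz₀1 : z₀ ≠ 1 := by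
    intro h
    rw [hz₀, commutatorElement_eq_one_iff_mul_comm] at h
    exact hnw h
  have hZelts : ∀ z ∈ Z, z = 1 ∨ z = z₀ := by
    intro z hz
    obtain ⟨b, hb1, hb2⟩ := (Nat.card_eq_two_iff' (1 : Z)).mp hZcard
    by_cases h1 : z = 1
    · exact Or.inl h1
    · right
      have e1 : (⟨z, hz⟩ : Z) = b := hb2 _ (fun h => h1 (congrArg Subtype.val h))
      have e2 : (⟨z₀, hz₀Z⟩ : Z) = b := hb2 _ (fun h => hz₀1 (congrArg Subtype.val h))
      exact congrArg Subtype.val (e1.trans e2.symm)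
  have hz₀sq : z₀ ^ 2 = 1 := by
    have := pow_card_eq_one' (G := Z) (x := ⟨z₀, hz₀Z⟩)
    rw [hZcard] at this
    simpa using congrArg Subtype.val this
  have hz₀c : ∀ g : T, g * z₀ = z₀ * g := fun g => Subgroup.mem_center_iff.mp (hZcen hz₀Z) g
  have hw2 : w ^ 2 = 1 := hUexp w hw
  have hw1 : w ≠ 1 := by
    intro h
    apply hnw
    rw [h, mul_one, one_mul]
  have hn1 : n ≠ 1 := by
    intro h
    apply hnw
    rw [h, mul_one, one_mul]
  have hwinv : w⁻¹ = w := by
    rw [inv_eq_iff_mul_eq_one, ← sq, hw2]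
  have hord2 : ∀ g : T, g ^ 2 = 1 → g ≠ 1 → orderOf g = 2 := fun g h1 h2 => orderOf_eq_prime h1 h2
  have hord4 : ∀ g : T, g ^ 2 = z₀ → orderOf g = 4 := by
    intro g hg
    have h1 : ¬ g ^ 2 ^ 1 = 1 := by
      rw [pow_one, hg]
      exact hz₀1
    have h2 : g ^ 2 ^ (1 + 1) = 1 := by
      have : (2 : ℕ) ^ (1 + 1) = 2 * 2 := by norm_num
      rw [this, pow_mul, hg, hz₀sq]
    have := orderOf_eq_prime_pow h1 h2
    simpa using this
  -- two involutions with product of order `4`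
  obtain ⟨x, y, hxE, hyE, hx, hy, hxy, hxy4⟩ : ∃ x y : T, x ∈ E₀ ∧ y ∈ E₀ ∧ orderOf x = 2 ∧ orderOf y = 2 ∧ x ≠ y ∧
      orderOf (x * y) = 4 := by
    rcases hZelts _ (hpow n) with hn2 | hn2
    · refine ⟨n, w, hnE, hwE, hord2 n hn2 hn1, hord2 w hw2 hw1, fun h => hnw (by rw [h]), hord4 _ ?_⟩
      have hninv : n⁻¹ = n := by
        rw [inv_eq_iff_mul_eq_one, ← sq, hn2]
      rw [hz₀, commutatorElement_def, hninv, hwinv, sq]
      group
    · -- `n ^ 2 = z₀`
      have hc2 : ⁅n⁻¹, w⁆ = z₀ := by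
        rcases hZelts _ (hcomm n⁻¹ w) with h | h
        · exfalso
          rw [commutatorElement_eq_one_iff_mul_comm] at h
          apply hnw
          calc n * w = n * (w * n⁻¹) * n := by group
            _ = n * (n⁻¹ * w) * n := by rw [h]
            _ = w * n := by group
        · exact h
      have hnw2 : (n * w) ^ 2 = 1 := by
        have e1 : (n * w) ^ 2 = n ^ 2 * ⁅n⁻¹, w⁆ * w ^ 2 := by
          rw [commutatorElement_def, sq, sq, sq]
          group
        rw [e1, hn2, hc2, hw2, mul_one, ← sq, hz₀sq]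
      have hnw1 : n * w ≠ 1 := by
        intro h
        apply hnw
        have : n = w⁻¹ := eq_inv_of_mul_eq_one_left h
        rw [this]
        group
      refine ⟨w, n * w, hwE, E₀.mul_mem hnE hwE, hord2 w hw2 hw1, hord2 _ hnw2 hnw1, ?_, hord4 _ ?_⟩
      · intro h
        apply hn1
        have : n * w = 1 * w := by rw [one_mul]; exact h.symm
        exact mul_right_cancel this
      · have e1 : (w * (n * w)) ^ 2 = w * n * w ^ 2 * n * w := by
          rw [sq, sq]
          group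
        rw [e1, hw2, mul_one]
        have e2 : w * n * n * w = w * n ^ 2 * w := by
          rw [sq]
          group
        rw [e2, hn2, mul_assoc, ← hz₀c w, ← mul_assoc, ← sq, hw2, one_mul]
  -- `E₀` is dihedral
  set x' : E₀ := ⟨x, hxE⟩ with hx'
  set y' : E₀ := ⟨y, hyE⟩ with hy'
  have hx'o : orderOf x' = 2 := by
    rw [← hx, ← Subgroup.orderOf_coe]
  have hy'o : orderOf y' = 2 := by
    rw [← hy, ← Subgroup.orderOf_coe]
  have hxy'o : orderOf (x' * y') = 4 := by
    rw [← hxy4, ← Subgroup.orderOf_coe]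
    rfl
  have hx'y' : x' ≠ y' := fun h => hxy (congrArg Subtype.val h)
  obtain ⟨f⟩ := Cfsg.Agent.S0206.result x' y' hx'o hy'o hx'y'
  rw [hxy'o] at f
  have hcl : Subgroup.closure ({x', y'} : Set E₀) = ⊤ := by
    apply Subgroup.eq_top_of_card_eq
    rw [Nat.card_congr f.toEquiv, DihedralGroup.nat_card, hE₀card]
    norm_num
  have g : E₀ ≃* DihedralGroup 4 :=
    (Subgroup.topEquiv.symm.trans (MulEquiv.subgroupCongr hcl.symm)).trans f
  -- the elementary abelian factor
  let instA : CommGroup (Shrink.{0} C) :=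
    { (inferInstance : Group (Shrink.{0} C)) with
      mul_comm := fun a b => by
        apply (Shrink.mulEquiv.{0} (α := C)).injective
        rw [map_mul, map_mul]
        apply Subtype.ext
        rw [Subgroup.coe_mul, Subgroup.coe_mul]
        exact (Subgroup.mem_center_iff.mp (hC (Shrink.mulEquiv.{0} (α := C) a).2) _).symm }
  refine ⟨Shrink.{0} C, instA, ?_, ?_⟩
  · intro a
    apply (Shrink.mulEquiv.{0} (α := C)).injective
    rw [map_pow, map_one]
    apply Subtype.ext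
    rw [Subgroup.coe_pow]
    exact hCexp _ (Shrink.mulEquiv.{0} (α := C) a).2
  · exact ⟨e.trans (MulEquiv.prodCongr g (Shrink.mulEquiv.{0} (α := C)).symm)⟩

theorem genExtra_odd [Finite T] {p : ℕ} [hp : Fact p.Prime] (hodd : p ≠ 2) (Z U C : Subgroup T)
    (hZcen : Z ≤ Subgroup.center T) (hZcard : Nat.card Z = p) (hcomm : ∀ a b : T, ⁅a, b⁆ ∈ Z)
    (hpow : ∀ a : T, a ^ p ∈ Z) (hZU : Z ≤ U) (hUcard : Nat.card U = p ^ 2) (hUexp : ∀ u ∈ U, u ^ p = 1)
    (hC : C ≤ Subgroup.center T) (hUC : U ⊓ C = ⊥) (n w : T) (hw : w ∈ U) (hnw : n * w ≠ w * n)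
    (hcard : Nat.card T = p ^ 3 * Nat.card C) (hn : n ^ p = 1) :
    ∃ (E : Type) (_ : Group E) (A : Type) (_ : CommGroup A), Cfsg.IsExtraspecial p E ∧ Nat.card E = p ^ 3 ∧
      Monoid.exponent E = p ∧ (∀ a : A, a ^ p = 1) ∧ Nonempty (T ≃* E × A) := by
  have hpp : p.Prime := hp.out
  obtain ⟨E₀, hUE, hnE, hE₀card, ⟨e⟩, hCexp, hgen⟩ :=
    genExtra_prod Z U C hZcen hZcard hcomm hpow hZU hUcard hC hUC n w hw hnw hcard
  have hwE : w ∈ E₀ := hUE hw
  have hexp : ∀ x ∈ E₀, x ^ p = 1 := by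
    intro x hx
    obtain ⟨u, hu, i, rfl⟩ := hgen x hx
    rw [mul_pow_prime_of_comm_mem hodd Z hZcen hZcard hcomm, hUexp u hu, one_mul, ← pow_mul, mul_comm, pow_mul, hn,
      one_pow]
  have hfinE : Finite (Shrink.{0} E₀) := Finite.of_equiv E₀ (equivShrink.{0} E₀)
  have hcardE' : Nat.card (Shrink.{0} E₀) = p ^ 3 := by
    rw [← hE₀card]
    exact Nat.card_congr (equivShrink.{0} E₀).symm
  have hexpE' : ∀ x : Shrink.{0} E₀, x ^ p = 1 := by
    intro x
    apply (Shrink.mulEquiv.{0} (α := E₀)).injective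
    rw [map_pow, map_one]
    apply Subtype.ext
    rw [Subgroup.coe_pow]
    exact hexp _ (Shrink.mulEquiv.{0} (α := E₀) x).2
  have hncE' : ∃ x y : Shrink.{0} E₀, x * y ≠ y * x := by
    refine ⟨(Shrink.mulEquiv.{0} (α := E₀)).symm ⟨n, hnE⟩, (Shrink.mulEquiv.{0} (α := E₀)).symm ⟨w, hwE⟩, ?_⟩
    intro h
    rw [← map_mul, ← map_mul] at h
    have h2 := (Shrink.mulEquiv.{0} (α := E₀)).symm.injective h
    exact hnw (congrArg Subtype.val h2)
  have hexpE : Monoid.exponent (Shrink.{0} E₀) = p := by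
    have hd : Monoid.exponent (Shrink.{0} E₀) ∣ p := Monoid.exponent_dvd_of_forall_pow_eq_one hexpE'
    rcases (Nat.dvd_prime hpp).1 hd with h1 | h1
    · exfalso
      obtain ⟨x, y, hxy⟩ := hncE'
      have hx : x = 1 := by
        have := Monoid.pow_exponent_eq_one x
        rwa [h1, pow_one] at this
      have hy : y = 1 := by
        have := Monoid.pow_exponent_eq_one y
        rwa [h1, pow_one] at this
      apply hxy
      rw [hx, hy]
    · exact h1
  let instA : CommGroup (Shrink.{0} C) :=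
    { (inferInstance : Group (Shrink.{0} C)) with
      mul_comm := fun a b => by
        apply (Shrink.mulEquiv.{0} (α := C)).injective
        rw [map_mul, map_mul]
        apply Subtype.ext
        rw [Subgroup.coe_mul, Subgroup.coe_mul]
        exact (Subgroup.mem_center_iff.mp (hC (Shrink.mulEquiv.{0} (α := C) a).2) _).symm }
  refine ⟨Shrink.{0} E₀, inferInstance, Shrink.{0} C, instA,
    Cfsg.Agent.Helper37.isExtraspecial_of_card_cube hcardE' hncE' hexpE', hcardE', hexpE, ?_, ?_⟩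
  · intro a
    apply (Shrink.mulEquiv.{0} (α := C)).injective
    rw [map_pow, map_one]
    apply Subtype.ext
    rw [Subgroup.coe_pow]
    exact hCexp _ (Shrink.mulEquiv.{0} (α := C) a).2
  · exact ⟨e.trans (MulEquiv.prodCongr (Shrink.mulEquiv.{0} (α := E₀)).symm (Shrink.mulEquiv.{0} (α := C)).symm)⟩

end Cfsg.Agent.Helper87
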