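import Cfsg.Agent.Helper87.SigmaA
import Cfsg.Agent.Helper87.Eigen2

set_option autoImplicit false

/-!
# The `SL₂(p)`-configuration on an invariant abelian section

`sigma_main`: let `A` be a group of automorphisms of the `p`-group `R` such that `A / I` has a strongly `p`-embedded subgroup,
`P₀ ≤ R` an `A`-invariant abelian subgroup, `Z ≤ P₀` central of order `p`, and `t ∈ A` a `p`-element, non-trivial modulo
`I`, with `[R, t] ≤ P₀`, `[P₀, t] ≤ Z`, `[Z, t] = 1`. Then `P₀ = U × C` with `U ≥ Z` central elementary abelian of order `p²`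
on which `t` acts non-trivially, `C` centralized by `t`, and some `h ∈ A` inverts `U`, centralizes `C`, acts trivially on
`R / P₀` and commutes with `t` modulo `I`. It is assumed that the elements of `A` stabilizing a chain lie in `I` as soon as
they are trivial in `A / I`, which is automatic.
-/

namespace Cfsg.Agent.Helper87

open Cfsg

variable {R : Type*} [Group R]

open Cfsg.Agent.Helper48 in
theorem sigma_main [Finite R] {p : ℕ} [hp : Fact p.Prime] (hR : IsPGroup p R)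
    (A : Subgroup (MulAut R)) (I : Subgroup A) [I.Normal] (M : Subgroup (A ⧸ I)) (hM : IsStronglyPEmbedded p M)
    (P₀ : Subgroup R) (hP₀inv : ∀ α ∈ A, ∀ x ∈ P₀, α x ∈ P₀) (hP₀c : ∀ a ∈ P₀, ∀ b ∈ P₀, a * b = b * a)
    (Z : Subgroup R) (hZP : Z ≤ P₀) (hZ : Nat.card Z = p) (hZc : ∀ z ∈ Z, ∀ r : R, r * z = z * r)
    (t : MulAut R) (htA : t ∈ A) (htR : ∀ x, x⁻¹ * t x ∈ P₀) (htP : ∀ x ∈ P₀, x⁻¹ * t x ∈ Z)
    (htZ : ∀ z ∈ Z, t z = z) (htp : ∃ k : ℕ, t ^ p ^ k = 1) (ht1 : QuotientGroup.mk' I ⟨t, htA⟩ ≠ 1) :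
    ∃ (U C : Subgroup R) (h : MulAut R) (w : R), h ∈ A ∧ Z ≤ U ∧ U ≤ P₀ ∧ C ≤ P₀ ∧ U ⊓ C = ⊥ ∧
      Nat.card U = p ^ 2 ∧ Nat.card P₀ = p ^ 2 * Nat.card C ∧ (∀ x ∈ P₀, ∃ u ∈ U, x * u⁻¹ ∈ C) ∧
      (∀ u ∈ U, u ^ p = 1) ∧ (∀ u ∈ U, ∀ r : R, r * u = u * r) ∧ w ∈ U ∧ t w ≠ w ∧ (∀ c ∈ C, t c = c) ∧
      (∀ c ∈ C, h c = c) ∧ (∀ x, x⁻¹ * h x ∈ P₀) ∧ (∀ u ∈ U, h u = u⁻¹) ∧
      ∃ hc : h * t * h⁻¹ * t⁻¹ ∈ A, (⟨h * t * h⁻¹ * t⁻¹, hc⟩ : A) ∈ I := by
  have hfinA : Finite (MulAut R) := MulEquiv.finite_left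
  have hpp : p.Prime := hp.out
  -- 1. a strongly `p`-embedded subgroup containing the image of `t`
  set tbar : A ⧸ I := QuotientGroup.mk' I ⟨t, htA⟩ with htbar
  have htbarp : IsPGroup p (Subgroup.zpowers tbar) := by
    obtain ⟨k, hk⟩ := htp
    rintro ⟨y, hy⟩
    obtain ⟨j, rfl⟩ := Subgroup.mem_zpowers_iff.mp hy
    refine ⟨k, Subtype.ext ?_⟩
    show (tbar ^ j) ^ p ^ k = 1
    have h1 : tbar ^ p ^ k = 1 := by
      rw [htbar, ← map_pow]
      have : (⟨t, htA⟩ : A) ^ p ^ k = 1 := Subtype.ext (by simpa using hk)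
      rw [this, map_one]
    rw [← zpow_natCast, ← zpow_mul, mul_comm, zpow_mul, zpow_natCast, h1, one_zpow]
  obtain ⟨M', hM', htM'⟩ := exists_stronglyPEmbedded_ge hM _ htbarp
  have htM : tbar ∈ M' := htM' (Subgroup.mem_zpowers _)
  -- 2. an element outside
  obtain ⟨gbar, hgbar⟩ : ∃ gbar : A ⧸ I, gbar ∉ M' := by
    by_contra hc
    push Not at hc
    exact hM'.2.1 (eq_top_iff.mpr (fun x _ => hc x))
  obtain ⟨⟨g, hgA⟩, rfl⟩ := QuotientGroup.mk'_surjective I gbar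
  have hginvA : g⁻¹ ∈ A := A.inv_mem hgA
  set t₂ : MulAut R := g * t * g⁻¹ with ht₂
  have ht₂A : t₂ ∈ A := A.mul_mem (A.mul_mem hgA htA) hginvA
  have ht₂app : ∀ x : R, t₂ x = g (t (g⁻¹ x)) := fun x => rfl
  have ht₂bar : QuotientGroup.mk' I ⟨t₂, ht₂A⟩ =
      QuotientGroup.mk' I ⟨g, hgA⟩ * tbar * (QuotientGroup.mk' I ⟨g, hgA⟩)⁻¹ := by
    have e : (⟨t₂, ht₂A⟩ : A) = ⟨g, hgA⟩ * ⟨t, htA⟩ * (⟨g, hgA⟩ : A)⁻¹ := Subtype.ext rfl
    rw [e, map_mul, map_mul, map_inv]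
  set Z₁ : Subgroup R := Z.map (g : R ≃* R).toMonoidHom with hZ₁
  have hZ₁P : Z₁ ≤ P₀ := by
    rintro _ ⟨z, hz, rfl⟩
    exact hP₀inv g hgA z (hZP hz)
  have hZ₁c : ∀ z ∈ Z₁, ∀ r : R, r * z = z * r := by
    rintro _ ⟨z, hz, rfl⟩ r
    have := hZc z hz (g⁻¹ r)
    have h2 := congrArg g this
    rw [map_mul, map_mul, MulAut.apply_inv_self] at h2
    exact h2
  have ht₂R : ∀ x, x⁻¹ * t₂ x ∈ P₀ := by
    intro x
    have h1 := htR (g⁻¹ x)
    have h2 := hP₀inv g hgA _ h1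
    have e : g ((g⁻¹ x)⁻¹ * t (g⁻¹ x)) = x⁻¹ * t₂ x := by
      rw [map_mul, map_inv, MulAut.apply_inv_self, ht₂app]
    rwa [e] at h2
  have ht₂P : ∀ x ∈ P₀, x⁻¹ * t₂ x ∈ Z₁ := by
    intro x hx
    have h1 := htP (g⁻¹ x) (hP₀inv g⁻¹ hginvA x hx)
    have e : g ((g⁻¹ x)⁻¹ * t (g⁻¹ x)) = x⁻¹ * t₂ x := by
      rw [map_mul, map_inv, MulAut.apply_inv_self, ht₂app]
    rw [← e]
    exact ⟨_, h1, rfl⟩
  have ht₂Z : ∀ z ∈ Z₁, t₂ z = z := by
    rintro _ ⟨z, hz, rfl⟩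
    show t₂ (g z) = g z
    rw [ht₂app, MulAut.inv_apply_self, htZ z hz]
  have hZ₁card : Nat.card Z₁ = p := by
    rw [← hZ]
    exact Subgroup.card_map_of_injective (g : R ≃* R).injective
  -- 3. a generator of `Z`
  obtain ⟨⟨w₀, hw₀Z⟩, hw₀1'⟩ : ∃ z : Z, z ≠ 1 := by
    have : Nontrivial Z := by
      rw [← Finite.one_lt_card_iff_nontrivial, hZ]
      exact hpp.one_lt
    exact exists_ne 1
  have hw₀1 : w₀ ≠ 1 := fun h => hw₀1' (Subtype.ext h)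
  have hgen : ∀ z ∈ Z, z ∈ Subgroup.zpowers w₀ := by
    intro z hz
    have h2 : (⟨z, hz⟩ : Z) ∈ Subgroup.zpowers (⟨w₀, hw₀Z⟩ : Z) := mem_zpowers_of_prime_card hZ hw₀1'
    obtain ⟨k, hk⟩ := Subgroup.mem_zpowers_iff.mp h2
    exact Subgroup.mem_zpowers_iff.mpr ⟨k, by simpa using congrArg Subtype.val hk⟩
  have hw₀P : w₀ ∈ P₀ := hZP hw₀Z
  have hw₀p : w₀ ^ p = 1 := by
    have := pow_card_eq_one' (G := Z) (x := ⟨w₀, hw₀Z⟩)
    rw [hZ] at this
    simpa using congrArg Subtype.val this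
  -- 4. the chains
  set U : Subgroup R := Z ⊔ Z₁ with hU
  have hUP : U ≤ P₀ := sup_le hZP hZ₁P
  have hUc : ∀ u ∈ U, ∀ r : R, r * u = u * r := by
    have hle : U ≤ Subgroup.center R := by
      apply sup_le
      · intro z hz
        rw [Subgroup.mem_center_iff]
        exact fun r => hZc z hz r
      · intro z hz
        rw [Subgroup.mem_center_iff]
        exact fun r => hZ₁c z hz r
    intro u hu r
    exact Subgroup.mem_center_iff.mp (hle hu) r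
  have hfixU : ∀ β : MulAut R, (∀ z ∈ Z, β z = z) → (∀ z ∈ Z₁, β z = z) → ∀ x ∈ U, β x = x := by
    intro β h0 h1
    have hle : U ≤ fixSub β := sup_le (fun z hz => h0 z hz) (fun z hz => h1 z hz)
    intro x hx
    exact hle hx
  have htU : ∀ u ∈ U, t u ∈ U := by
    intro u hu
    have : t u = u * (u⁻¹ * t u) := by group
    rw [this]
    exact U.mul_mem hu (Subgroup.mem_sup_left (htP u (hUP hu)))
  have ht₂U : ∀ u ∈ U, t₂ u ∈ U := by
    intro u hu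
    have : t₂ u = u * (u⁻¹ * t₂ u) := by group
    rw [this]
    exact U.mul_mem hu (Subgroup.mem_sup_right (ht₂P u (hUP hu)))
  have hinvA : ∀ τ ∈ A, τ⁻¹ ∈ A := fun τ hτ => A.inv_mem hτ
  set K := chainStab (chain3 P₀ U) (chain3_antitone hUP) with hK
  have hKp : IsPGroup p K := isPGroup_chainStab_chain3 hR hUP
  -- conjugation by `t`, `t₂` and their inverses preserves `K`
  have hconjK : ∀ τ ∈ A, (∀ u ∈ U, τ u ∈ U) → ∀ k ∈ K, τ * k * τ⁻¹ ∈ K ∧ τ⁻¹ * k * τ ∈ K := by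
    intro τ hτA hτU k hk
    have hτ'U := inv_apply_mem_of_forall_apply_mem τ U hτU
    have hpres := chain3_pres (A := P₀) (B := U) τ (hP₀inv τ hτA) hτU
    have hpres' := chain3_pres (A := P₀) (B := U) τ⁻¹ (hP₀inv τ⁻¹ (hinvA τ hτA)) hτ'U
    refine ⟨conj_mem_chainStab _ _ τ k hpres hpres' hk, ?_⟩
    have := conj_mem_chainStab _ (chain3_antitone hUP) τ⁻¹ k hpres' (by rw [inv_inv]; exact hpres) hk
    rwa [inv_inv] at this
  -- Lemma D: the elements of `A ∩ K` are trivial modulo `I`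
  have hKI : ∀ α (hαA : α ∈ A), α ∈ K → QuotientGroup.mk' I ⟨α, hαA⟩ = 1 := by
    set Y : Subgroup (A ⧸ I) := (K.subgroupOf A).map (QuotientGroup.mk' I) with hY
    have hYp : IsPGroup p Y := (hKp.comap_subtype).map _
    have hnorm : ∀ τ (hτA : τ ∈ A), (∀ u ∈ U, τ u ∈ U) →
        QuotientGroup.mk' I ⟨τ, hτA⟩ ∈ Subgroup.normalizer (Y : Set (A ⧸ I)) := by
      intro τ hτA hτU
      rw [Subgroup.mem_normalizer_iff]
      intro y
      constructor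
      · rintro ⟨⟨k, hkA⟩, hk, rfl⟩
        have hk' : k ∈ K := hk
        have h1 := (hconjK τ hτA hτU k hk').1
        refine ⟨⟨τ * k * τ⁻¹, A.mul_mem (A.mul_mem hτA hkA) (hinvA τ hτA)⟩, Subgroup.mem_subgroupOf.mpr h1, ?_⟩
        have e : (⟨τ * k * τ⁻¹, A.mul_mem (A.mul_mem hτA hkA) (hinvA τ hτA)⟩ : A) =
            ⟨τ, hτA⟩ * ⟨k, hkA⟩ * (⟨τ, hτA⟩ : A)⁻¹ := Subtype.ext rfl
        rw [e, map_mul, map_mul, map_inv]
      · rintro ⟨⟨k, hkA⟩, hk, hky⟩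
        have hk' : k ∈ K := hk
        have h1 := (hconjK τ hτA hτU k hk').2
        refine ⟨⟨τ⁻¹ * k * τ, A.mul_mem (A.mul_mem (hinvA τ hτA) hkA) hτA⟩, Subgroup.mem_subgroupOf.mpr h1, ?_⟩
        have e : (⟨τ⁻¹ * k * τ, A.mul_mem (A.mul_mem (hinvA τ hτA) hkA) hτA⟩ : A) =
            (⟨τ, hτA⟩ : A)⁻¹ * ⟨k, hkA⟩ * ⟨τ, hτA⟩ := Subtype.ext rfl
        rw [e, map_mul, map_mul, map_inv, hky]
        group
    have hYbot : Y = ⊥ := by
      apply eq_bot_of_normalized_by_conj hM' htM ht1 htbarp hgbar Y hYp (hnorm t htA htU)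
      rw [← ht₂bar]
      exact hnorm t₂ ht₂A ht₂U
    intro α hαA hαK
    have : QuotientGroup.mk' I ⟨α, hαA⟩ ∈ Y := ⟨⟨α, hαA⟩, Subgroup.mem_subgroupOf.mpr hαK, rfl⟩
    rw [hYbot, Subgroup.mem_bot] at this
    exact this
  -- 5. `t₂` moves `w₀`
  have h5 : t₂ w₀ ≠ w₀ := by
    intro h
    have hfixZ : ∀ z ∈ Z, t₂ z = z := by
      intro z hz
      obtain ⟨k, rfl⟩ := Subgroup.mem_zpowers_iff.mp (hgen z hz)
      rw [map_zpow, h]
    have h1 : t₂ ∈ K := mem_chainStab_chain3 hUP t₂ ht₂R (fun x hx => Subgroup.mem_sup_right (ht₂P x hx))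
      (hfixU t₂ hfixZ ht₂Z)
    have h2 := hKI t₂ ht₂A h1
    rw [ht₂bar] at h2
    apply ht1
    have h3 : tbar = (QuotientGroup.mk' I ⟨g, hgA⟩)⁻¹ *
        (QuotientGroup.mk' I ⟨g, hgA⟩ * tbar * (QuotientGroup.mk' I ⟨g, hgA⟩)⁻¹) * QuotientGroup.mk' I ⟨g, hgA⟩ := by
      group
    rw [h3, h2]
    group
  obtain ⟨w, hw⟩ : ∃ w : R, w = w₀⁻¹ * t₂ w₀ := ⟨_, rfl⟩
  have hwZ₁ : w ∈ Z₁ := hw ▸ ht₂P w₀ hw₀P
  have hw1 : w ≠ 1 := by
    intro h
    apply h5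
    have : t₂ w₀ = w₀ * w := by rw [hw]; group
    rw [this, h, mul_one]
  have hgen₁ : ∀ z ∈ Z₁, z ∈ Subgroup.zpowers w := by
    intro z hz
    have hw1' : (⟨w, hwZ₁⟩ : Z₁) ≠ 1 := fun h => hw1 (congrArg Subtype.val h)
    have h2 : (⟨z, hz⟩ : Z₁) ∈ Subgroup.zpowers (⟨w, hwZ₁⟩ : Z₁) := mem_zpowers_of_prime_card hZ₁card hw1'
    obtain ⟨k, hk⟩ := Subgroup.mem_zpowers_iff.mp h2
    exact Subgroup.mem_zpowers_iff.mpr ⟨k, by simpa using congrArg Subtype.val hk⟩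
  have hwp : w ^ p = 1 := by
    have := pow_card_eq_one' (G := Z₁) (x := ⟨w, hwZ₁⟩)
    rw [hZ₁card] at this
    simpa using congrArg Subtype.val this
  have hwU : w ∈ U := Subgroup.mem_sup_right hwZ₁
  -- 6. `t` moves `w`
  have h6 : t w ≠ w := by
    intro h
    have h1 : t ∈ K := mem_chainStab_chain3 hUP t htR (fun x hx => Subgroup.mem_sup_left (htP x hx))
      (hfixU t htZ (fun z hz => by
        obtain ⟨k, rfl⟩ := Subgroup.mem_zpowers_iff.mp (hgen₁ z hz)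
        rw [map_zpow, h]))
    exact ht1 (hKI t htA h1)
  have hwZ : w ∉ Z := fun h => h6 (htZ w h)
  obtain ⟨z₁, hz₁⟩ : ∃ z₁ : R, z₁ = w⁻¹ * t w := ⟨_, rfl⟩
  have hz₁Z : z₁ ∈ Z := hz₁ ▸ htP w (hZ₁P hwZ₁)
  have hz₁1 : z₁ ≠ 1 := by
    intro h
    apply h6
    have : t w = w * z₁ := by rw [hz₁]; group
    rw [this, h, mul_one]
  have htw : t w = w * z₁ := by rw [hz₁]; group
  -- the exponent `a`
  obtain ⟨a, ha⟩ : ∃ a : ℕ, z₁ ^ a = w₀⁻¹ := by
    have hz₁1' : (⟨z₁, hz₁Z⟩ : Z) ≠ 1 := fun h => hz₁1 (congrArg Subtype.val h)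
    have h2 : (⟨w₀⁻¹, Z.inv_mem hw₀Z⟩ : Z) ∈ Submonoid.powers (⟨z₁, hz₁Z⟩ : Z) :=
      mem_powers_of_prime_card hZ hz₁1'
    obtain ⟨a, ha⟩ := h2
    exact ⟨a, by simpa using congrArg Subtype.val ha⟩
  set x : MulAut R := t ^ a with hx
  have hxA : x ∈ A := A.pow_mem htA a
  have hpowZ : ∀ k : ℕ, ∀ z ∈ Z, (t ^ k) z = z := by
    intro k
    induction k with
    | zero => intro z _; simp
    | succ k ih =>
      intro z hz
      rw [pow_succ, MulAut.mul_apply, htZ z hz, ih z hz]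
  have hpoww : ∀ k : ℕ, (t ^ k) w = w * z₁ ^ k := by
    intro k
    induction k with
    | zero => simp
    | succ k ih =>
      rw [pow_succ, MulAut.mul_apply, htw, map_mul, ih, hpowZ k z₁ hz₁Z, pow_succ]
      group
  have hx0 : x w₀ = w₀ := hpowZ a w₀ hw₀Z
  have hxw : x w = w * w₀⁻¹ := by rw [hx, hpoww, ha]
  have hy0 : t₂ w₀ = w₀ * w := by rw [hw]; group
  have hyw : t₂ w = w := ht₂Z w hwZ₁
  have hcomm : w₀ * w = w * w₀ := hZc w₀ hw₀Z w |>.symm ▸ rfl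
  obtain ⟨hm0, hmw, hh0, hhw⟩ := sl2_words x t₂ w₀ w hcomm hx0 hxw hy0 hyw
  set m : MulAut R := x * t₂ with hm
  set h : MulAut R := m ^ 3 with hh
  have hmA : m ∈ A := A.mul_mem hxA ht₂A
  have hhA : h ∈ A := A.pow_mem hmA 3
  -- the group `G₁` of automorphisms trivial on `R / P₀` and `P₀ / U`
  set G₁ := chainStab (chainU P₀ U) (chainU_antitone hUP) with hG₁
  have htG : t ∈ G₁ := mem_chainStab_chainU hUP t htR (fun x hx => Subgroup.mem_sup_left (htP x hx))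
  have ht₂G : t₂ ∈ G₁ := mem_chainStab_chainU hUP t₂ ht₂R (fun x hx => Subgroup.mem_sup_right (ht₂P x hx))
  have hxG : x ∈ G₁ := G₁.pow_mem htG a
  have hmG : m ∈ G₁ := G₁.mul_mem hxG ht₂G
  have hhG : h ∈ G₁ := G₁.pow_mem hmG 3
  -- 7. description of `U`
  have hUdesc : ∀ u ∈ U, ∃ i j : ℤ, u = w₀ ^ i * w ^ j := by
    intro u hu
    rw [hU, Subgroup.sup_eq_closure] at hu
    induction hu using Subgroup.closure_induction with
    | mem y hy =>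
      rcases hy with hy | hy
      · obtain ⟨i, rfl⟩ := Subgroup.mem_zpowers_iff.mp (hgen y hy)
        exact ⟨i, 0, by simp⟩
      · obtain ⟨j, rfl⟩ := Subgroup.mem_zpowers_iff.mp (hgen₁ y hy)
        exact ⟨0, j, by simp⟩
    | one => exact ⟨0, 0, by simp⟩
    | mul y y' _ _ hy hy' =>
      obtain ⟨i, j, rfl⟩ := hy
      obtain ⟨i', j', rfl⟩ := hy'
      refine ⟨i + i', j + j', ?_⟩
      have hc : Commute w₀ w := hcomm
      have h1 : w ^ j * w₀ ^ i' = w₀ ^ i' * w ^ j := ((hc.zpow_zpow i' j).symm).eq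
      calc w₀ ^ i * w ^ j * (w₀ ^ i' * w ^ j') = w₀ ^ i * (w ^ j * w₀ ^ i') * w ^ j' := by group
        _ = w₀ ^ i * (w₀ ^ i' * w ^ j) * w ^ j' := by rw [h1]
        _ = w₀ ^ (i + i') * w ^ (j + j') := by rw [zpow_add, zpow_add]; group
    | inv y _ hy =>
      obtain ⟨i, j, rfl⟩ := hy
      refine ⟨-i, -j, ?_⟩
      have hc : Commute w₀ w := hcomm
      have h1 : (w ^ j)⁻¹ * (w₀ ^ i)⁻¹ = (w₀ ^ i)⁻¹ * (w ^ j)⁻¹ :=
        ((hc.zpow_zpow i j).inv_inv.symm).eq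
      rw [mul_inv_rev, h1, zpow_neg, zpow_neg]
  have hUexp : ∀ u ∈ U, u ^ p = 1 := by
    intro u hu
    obtain ⟨i, j, rfl⟩ := hUdesc u hu
    have hc : Commute (w₀ ^ i) (w ^ j) := (show Commute w₀ w from hcomm).zpow_zpow i j
    rw [hc.mul_pow, ← zpow_natCast, ← zpow_mul, mul_comm, zpow_mul, zpow_natCast, hw₀p, one_zpow, one_mul,
      ← zpow_natCast, ← zpow_mul, mul_comm, zpow_mul, zpow_natCast, hwp, one_zpow]
  -- orders
  have hw₀ord : orderOf w₀ = p := orderOf_eq_prime hw₀p hw₀1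
  have hword : orderOf w = p := orderOf_eq_prime hwp hw1
  have hdisj : ∀ y ∈ Z, y ∈ Subgroup.zpowers w → y = 1 := by
    intro y hyZ hyw
    by_contra hy1
    -- then `y` generates `⟨w⟩`, so `w ∈ Z`
    have hcardw : Nat.card (Subgroup.zpowers w) = p := by rw [Nat.card_zpowers, hword]
    have hy1' : (⟨y, hyw⟩ : Subgroup.zpowers w) ≠ 1 := fun h => hy1 (congrArg Subtype.val h)
    have h2 : (⟨w, Subgroup.mem_zpowers w⟩ : Subgroup.zpowers w) ∈
        Subgroup.zpowers (⟨y, hyw⟩ : Subgroup.zpowers w) := mem_zpowers_of_prime_card hcardw hy1'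
    obtain ⟨k, hk⟩ := Subgroup.mem_zpowers_iff.mp h2
    have : y ^ k = w := by simpa using congrArg Subtype.val hk
    exact hwZ (this ▸ Z.zpow_mem hyZ k)
  -- 8. `m` has no non-trivial fixed point on `U`
  have hmfix : ∀ u ∈ U, m u = u → u = 1 := by
    intro u hu hmu
    obtain ⟨i, j, rfl⟩ := hUdesc u hu
    have hc : Commute w₀ w := hcomm
    rw [map_mul, map_zpow, map_zpow, hm0, hmw] at hmu
    have hc2 : Commute w w₀⁻¹ := hc.symm.inv_right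
    rw [hc2.mul_zpow] at hmu
    -- `w ^ i * (w ^ j * w₀⁻¹ ^ j) = w₀ ^ i * w ^ j`
    have h1 : w₀ ^ (i + j) = w ^ i := by
      have h2 : w ^ i * (w ^ j * w₀⁻¹ ^ j) = w ^ i * w₀⁻¹ ^ j * w ^ j := by
        have : Commute (w ^ j) (w₀⁻¹ ^ j) := hc2.zpow_zpow j j
        rw [mul_assoc, this.eq]
      rw [h2] at hmu
      have h3 : w ^ i * w₀⁻¹ ^ j = w₀ ^ i := mul_right_cancel hmu
      rw [zpow_add]
      have h4 : w₀⁻¹ ^ j = (w₀ ^ j)⁻¹ := inv_zpow w₀ j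
      rw [h4] at h3
      rw [← h3]
      group
    have h2 : w ^ i = 1 := hdisj _ (h1 ▸ Z.zpow_mem hw₀Z _) (Subgroup.zpow_mem_zpowers w i)
    have h3 : w₀ ^ (i + j) = 1 := h1.trans h2
    have hi : (p : ℤ) ∣ i := by rw [← hword]; exact orderOf_dvd_iff_zpow_eq_one.mpr h2
    have hij : (p : ℤ) ∣ i + j := by rw [← hw₀ord]; exact orderOf_dvd_iff_zpow_eq_one.mpr h3
    have hj : (p : ℤ) ∣ j := (Int.dvd_add_right hi).mp hij
    have h4 : w₀ ^ i = 1 := by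
      apply orderOf_dvd_iff_zpow_eq_one.mp
      rw [hw₀ord]; exact hi
    have h5' : w ^ j = 1 := by
      apply orderOf_dvd_iff_zpow_eq_one.mp
      rw [hword]; exact hj
    rw [h4, h5', one_mul]
  -- 9. the decomposition
  set C : Subgroup R := P₀ ⊓ fixSub m with hC
  obtain ⟨hdec, hcard⟩ := fix_decomp P₀ U hUP hP₀c m (fun y hy => chainStab_chainU_mid hUP hmG hy) hmfix
  have hUcard : Nat.card U = p ^ 2 := by
    have hZn : Z.Normal := ⟨fun n hn g' => by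
      have := hZc n hn g'
      rw [this, mul_inv_cancel_right]
      exact hn⟩
    have h1 := card_sup_zpowers hpp Z w hwZ (by rw [hwp]; exact Z.one_mem)
    have h2 : Z₁ = Subgroup.zpowers w := by
      apply le_antisymm
      · exact fun z hz => hgen₁ z hz
      · rw [Subgroup.zpowers_le]; exact hwZ₁
    rw [hU, h2, h1, hZ]
    ring
  have hUC : U ⊓ C = ⊥ := by
    rw [eq_bot_iff]
    rintro u ⟨huU, -, huf⟩
    rw [Subgroup.mem_bot]
    exact hmfix u huU huf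
  -- 10. `C` is centralized by `t`
  have hCt : ∀ c ∈ C, t c = c := by
    set D : Subgroup R := (P₀ ⊓ fixSub t) ⊓ fixSub t₂ with hD
    have hDC : D ≤ C := by
      rintro y ⟨⟨hyP, hyt⟩, hyt₂⟩
      refine ⟨hyP, ?_⟩
      have hyt' : t y = y := hyt
      have hyt₂' : t₂ y = y := hyt₂
      show m y = y
      rw [hm, MulAut.mul_apply, hyt₂', hx]
      have : ∀ k : ℕ, (t ^ k) y = y := by
        intro k
        induction k with
        | zero => simp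
        | succ k ih => rw [pow_succ, MulAut.mul_apply, hyt', ih]
      exact this a
    have h1 := card_le_card_mul_card_fix P₀ P₀ Z le_rfl hP₀c t (hP₀inv t htA) htP
    have h2 := card_le_card_mul_card_fix P₀ (P₀ ⊓ fixSub t) Z₁ inf_le_left hP₀c t₂ (hP₀inv t₂ ht₂A)
      (fun y hy => ht₂P y hy.1)
    rw [hZ] at h1
    rw [hZ₁card] at h2
    have h3 : p ^ 2 * Nat.card C ≤ p ^ 2 * Nat.card D := by
      calc p ^ 2 * Nat.card C = Nat.card P₀ := by rw [hcard, hUcard]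
        _ ≤ p * Nat.card (P₀ ⊓ fixSub t : Subgroup R) := h1
        _ ≤ p * (p * Nat.card D) := Nat.mul_le_mul_left p h2
        _ = p ^ 2 * Nat.card D := by ring
    have h4 : Nat.card C ≤ Nat.card D := Nat.le_of_mul_le_mul_left h3 (pow_pos hpp.pos 2)
    have hDC' : D = C := Subgroup.eq_of_le_of_card_ge hDC h4
    intro c hc
    rw [← hDC'] at hc
    exact hc.1.2
  -- 11. properties of `h`
  have hhC : ∀ c ∈ C, h c = c := by
    intro c hc
    have hmc : m c = c := hc.2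
    rw [hh, pow_succ, pow_two, MulAut.mul_apply, MulAut.mul_apply, hmc, hmc, hmc]
  have hhU : ∀ u ∈ U, h u = u⁻¹ := by
    intro u hu
    obtain ⟨i, j, rfl⟩ := hUdesc u hu
    have hc : Commute w₀ w := hcomm
    rw [map_mul, map_zpow, map_zpow, hh0, hhw, mul_inv_rev, inv_zpow, inv_zpow]
    exact ((hc.zpow_zpow i j).inv_inv).eq
  have hhinvU : ∀ u ∈ U, h⁻¹ u = u⁻¹ := by
    intro u hu
    have h1 := hhU u⁻¹ (U.inv_mem hu)
    rw [inv_inv] at h1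
    apply h.injective
    rw [MulAut.apply_inv_self, h1]
  -- 12. the commutator of `h` and `t`
  set q : MulAut R := h * t * h⁻¹ * t⁻¹ with hq
  have hqA : q ∈ A := A.mul_mem (A.mul_mem (A.mul_mem hhA htA) (hinvA h hhA)) (hinvA t htA)
  have hqG : q ∈ G₁ := G₁.mul_mem (G₁.mul_mem (G₁.mul_mem hhG htG) (G₁.inv_mem hhG)) (G₁.inv_mem htG)
  have hqU : ∀ u ∈ U, q u = u := by
    intro u hu
    have h1 : t⁻¹ u ∈ U := inv_apply_mem_of_forall_apply_mem t U htU u hu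
    show h (t (h⁻¹ (t⁻¹ u))) = u
    rw [hhinvU _ h1, map_inv, MulAut.apply_inv_self, hhU _ (U.inv_mem hu), inv_inv]
  have hqK : q ∈ K := mem_chainStab_chain3 hUP q (fun y => chainStab_chainU_top hUP hqG y)
    (fun y hy => chainStab_chainU_mid hUP hqG hy) hqU
  have hqI : (⟨q, hqA⟩ : A) ∈ I := (QuotientGroup.eq_one_iff _).mp (hKI q hqA hqK)
  refine ⟨U, C, h, w, hhA, le_sup_left, hUP, inf_le_left, hUC, hUcard, ?_, ?_, hUexp, hUc, hwU, h6, hCt, hhC,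
    fun y => chainStab_chainU_top hUP hhG y, hhU, hqA, hqI⟩
  · rw [hcard, hUcard]
  · intro y hy
    obtain ⟨u, hu, huf⟩ := hdec y hy
    exact ⟨u, hu, P₀.mul_mem hy (P₀.inv_mem (hUP hu)), huf⟩

end Cfsg.Agent.Helper87
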