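import Cfsg.Agent.Helper87.GenExtra1
import Cfsg.Agent.Helper87.SigmaB
import Cfsg.Agent.Helper87.EssentialLine
import Cfsg.Agent.Helper87.FusionAlperin
import Cfsg.Agent.Helper87.FusionRS
import Cfsg.Agent.Helper63.Frattini
import Cfsg.Agent.Helper63.PGroup
import Cfsg.Agent.S5111

set_option autoImplicit false

/-!
# Strongly closed generalized extraspecial subgroups and essential subgroups
-/

namespace Cfsg.Agent.Helper87

open Cfsg Cfsg.FusionSystem
open scoped commutatorElement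

variable {Ω : Type*} [Group Ω] {S : Subgroup Ω}

/-- Basic facts on a subgroup `P ≤ S` normalized by `S` with `Φ(P) = P'` of order `p`. -/
theorem genExtra_basic [Finite S] {p : ℕ} [hp : Fact p.Prime] (hS : IsPGroup p S) {P : Subgroup Ω} (hPS : P ≤ S)
    (hSN : S ≤ Subgroup.normalizer (P : Set Ω))
    (hge : frattini ↥P = commutator ↥P ∧ Nat.card ↥(commutator ↥P) = p) :
    commutator P ≤ Subgroup.center P ∧ (∀ a : P, a ^ p ∈ commutator P) ∧
    ∃ Z : Subgroup Ω, Z = (commutator P).map P.subtype ∧ Z ≤ P ∧ Nat.card Z = p ∧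
      (∀ a ∈ P, ∀ b ∈ P, a * b * a⁻¹ * b⁻¹ ∈ Z) ∧ (∀ a ∈ P, a ^ p ∈ Z) ∧ (∀ z ∈ Z, ∀ s ∈ S, s * z = z * s) := by
  have hpp : p.Prime := hp.out
  haveI : Finite P := finite_of_le hPS
  have hPp : IsPGroup p P := hS.to_le hPS
  have hcen : commutator P ≤ Subgroup.center P :=
    Cfsg.Agent.Helper63.le_center_of_normal_of_card_eq_prime hPp (commutator P) hge.2
  have hpowT : ∀ a : P, a ^ p ∈ commutator P := by
    intro a
    rw [← hge.1]
    exact Cfsg.Agent.Helper63.pow_prime_mem_frattini hPp a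
  refine ⟨hcen, hpowT, (commutator P).map P.subtype, rfl, ?_, ?_, ?_, ?_, ?_⟩
  · rintro _ ⟨z, -, rfl⟩
    exact z.2
  · rw [← hge.2]
    exact Subgroup.card_map_of_injective P.subtype_injective
  · intro a ha b hb
    refine ⟨⁅(⟨a, ha⟩ : P), ⟨b, hb⟩⁆, ?_, ?_⟩
    · exact Subgroup.commutator_mem_commutator (Subgroup.mem_top _) (Subgroup.mem_top _)
    · simp [commutatorElement_def]
  · intro a ha
    exact ⟨(⟨a, ha⟩ : P) ^ p, hpowT _, by simp⟩
  · -- `Z` is normal in `S`, of order `p`, hence central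
    set Z : Subgroup Ω := (commutator P).map P.subtype with hZ
    have hZcard : Nat.card Z = p := by
      rw [← hge.2]
      exact Subgroup.card_map_of_injective P.subtype_injective
    have hZS : Z ≤ S := by
      rintro _ ⟨z, -, rfl⟩
      exact hPS z.2
    have hchar : ∀ α : MulAut P, ∀ z ∈ commutator P, α z ∈ commutator P := by
      intro α z hz
      have h := (Subgroup.characteristic_iff_map_le.mp (inferInstance : (commutator P).Characteristic)) α
      exact h ⟨z, hz, rfl⟩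
    have hconj : ∀ s ∈ S, ∀ z ∈ Z, s * z * s⁻¹ ∈ Z := by
      rintro s hs _ ⟨z, hz, rfl⟩
      refine ⟨conjAut P s (hSN hs) z, hchar _ z hz, ?_⟩
      simp [conjAut_apply]
    haveI hn : (Z.subgroupOf S).Normal := by
      refine ⟨fun x hx g => ?_⟩
      rw [Subgroup.mem_subgroupOf] at hx ⊢
      simpa using hconj g g.2 x hx
    have hcard' : Nat.card (Z.subgroupOf S) = p := by
      rw [← hZcard]
      exact Nat.card_congr (Subgroup.subgroupOfEquivOfLe hZS).toEquiv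
    have hle := Cfsg.Agent.Helper63.le_center_of_normal_of_card_eq_prime hS (Z.subgroupOf S) hcard'
    intro z hz s hs
    have h1 : (⟨z, hZS hz⟩ : S) ∈ Subgroup.center S := hle (Subgroup.mem_subgroupOf.mpr hz)
    have h2 := Subgroup.mem_center_iff.mp h1 ⟨s, hs⟩
    exact congrArg Subtype.val h2

/-- The configuration around an essential subgroup `R` not containing the strongly closed subgroup `P`. -/
theorem essential_line_data [Finite S] {p : ℕ} [hp : Fact p.Prime] (hS : IsPGroup p S) (F : FusionSystem S)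
    {P Z : Subgroup Ω} (hP : F.StronglyClosed P) (hSN : S ≤ Subgroup.normalizer (P : Set Ω))
    (hZP : Z ≤ P) (hZcard : Nat.card Z = p) (hcomm : ∀ a ∈ P, ∀ b ∈ P, a * b * a⁻¹ * b⁻¹ ∈ Z)
    (hZc : ∀ z ∈ Z, ∀ s ∈ S, s * z = z * s) {R : Subgroup Ω} (hR : F.IsEssential p R) (hPR : ¬ P ≤ R) :
    ∃ (n w : Ω) (U C : Subgroup Ω) (h : MulAut R) (hnN : n ∈ Subgroup.normalizer (R : Set Ω)),
      n ∈ P ∧ (R.subgroupOf (P ⊓ Subgroup.normalizer (R : Set Ω))).index = p ∧
      (∀ a ∈ P ⊓ R, ∀ b ∈ P ⊓ R, a * b = b * a) ∧ Z ≤ U ∧ U ≤ P ⊓ R ∧ C ≤ P ⊓ R ∧ U ⊓ C = ⊥ ∧ Nat.card U = p ^ 2 ∧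
      Nat.card (P ⊓ R : Subgroup Ω) = p ^ 2 * Nat.card C ∧ (∀ x ∈ P ⊓ R, ∃ u ∈ U, x * u⁻¹ ∈ C) ∧
      (∀ u ∈ U, u ^ p = 1) ∧ (∀ u ∈ U, ∀ r ∈ R, r * u = u * r) ∧
      w ∈ U ∧ n * w ≠ w * n ∧ (∀ c ∈ C, n * c = c * n) ∧ h ∈ F.autGroup R ∧
      (∀ x : R, (x : Ω) ∈ U → ((h x : R) : Ω) = (x : Ω)⁻¹) ∧
      ∃ r ∈ R, ∀ x : R, ((h (conjAut R n hnN x) : R) : Ω) = (r * n) * (h x : Ω) * (r * n)⁻¹ := by
  have hpp : p.Prime := hp.out
  have hPS : P ≤ S := hP.1
  obtain ⟨hRc, -, hnorm, M, hM⟩ := hR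
  have hRS : R ≤ S := hRc.1
  have hcen : centralizerIn S R ≤ R := hRc.2 R (isConj_refl F hRS)
  haveI : Finite R := finite_of_le hRS
  haveI := hnorm
  have hZR : Z ≤ R := by
    intro z hz
    apply hcen
    refine ⟨hPS (hZP hz), ?_⟩
    show z ∈ Subgroup.centralizer (R : Set Ω)
    rw [Subgroup.mem_centralizer_iff]
    intro r hr
    exact hZc z hz r (hRS hr)
  have hconjP : ∀ s ∈ S, ∀ x ∈ P, s * x * s⁻¹ ∈ P := by
    intro s hs x hx
    exact (Subgroup.mem_normalizer_iff.mp (hSN hs) x).mp hx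
  -- invariance of `P ∩ R`
  have hinvP : ∀ α ∈ F.autGroup R, ∀ x : R, (x : Ω) ∈ P → ((α x : R) : Ω) ∈ P := by
    intro α hα x hx
    have hαiso := (mem_autGroup_iff F hRS α).mp hα
    have h1 := restrict_mem F hαiso (inf_le_right : P ⊓ R ≤ R)
    exact hP.2 (P ⊓ R) inf_le_left _ h1 ⟨x, hx, x.2⟩
  obtain ⟨n, hnP, hnN, hnR⟩ := exists_mem_normalizer_not_mem hS hRS hPS (hRS.trans hSN) hPR
  have hnS : n ∈ S := hPS hnP
  -- the action of `N_P(R)`
  have hN1 : ∀ x ∈ P ⊓ Subgroup.normalizer (R : Set Ω), ∀ y ∈ R, y⁻¹ * (x * y * x⁻¹) ∈ P := by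
    intro x hx y hy
    have h1 : y⁻¹ * x * y⁻¹⁻¹ ∈ P := hconjP y⁻¹ (S.inv_mem (hRS hy)) x hx.1
    have e : y⁻¹ * (x * y * x⁻¹) = (y⁻¹ * x * y⁻¹⁻¹) * x⁻¹ := by group
    rw [e]
    exact P.mul_mem h1 (P.inv_mem hx.1)
  have hN2 : ∀ x ∈ P ⊓ Subgroup.normalizer (R : Set Ω), ∀ y ∈ R, y ∈ P → y⁻¹ * (x * y * x⁻¹) ∈ Z := by
    intro x hx y _ hyP
    have h1 := hcomm y⁻¹ (P.inv_mem hyP) x hx.1
    have e : y⁻¹ * (x * y * x⁻¹) = y⁻¹ * x * y⁻¹⁻¹ * x⁻¹ := by group
    rw [e]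
    exact h1
  have hN3 : ∀ x ∈ P ⊓ Subgroup.normalizer (R : Set Ω), ∀ z ∈ Z, x * z * x⁻¹ = z := by
    intro x hx z hz
    rw [hZc z hz x (hPS hx.1)]
    group
  have hnNN : n ∈ P ⊓ Subgroup.normalizer (R : Set Ω) := ⟨hnP, hnN⟩
  -- `P ∩ R` is abelian
  have hab : ∀ a ∈ P ⊓ R, ∀ b ∈ P ⊓ R, a * b = b * a := by
    by_contra hab
    push Not at hab
    obtain ⟨a, ha, b, hb, hab⟩ := hab
    set D₁ : Subgroup R := P.subgroupOf R with hD₁
    set D₂ : Subgroup R := Z.subgroupOf R with hD₂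
    have hD₂card : Nat.card D₂ = p := by
      rw [← hZcard]
      exact Nat.card_congr (Subgroup.subgroupOfEquivOfLe hZR).toEquiv
    have hD₂₁ : D₂ ≤ D₁ := by
      intro x hx
      rw [hD₂, Subgroup.mem_subgroupOf] at hx
      rw [hD₁, Subgroup.mem_subgroupOf]
      exact hZP hx
    set c : R := ⁅(⟨a, ha.2⟩ : R), ⟨b, hb.2⟩⁆ with hc
    have hcD : c ∈ D₂ := by
      rw [hD₂, Subgroup.mem_subgroupOf]
      have := hcomm a ha.1 b hb.1
      simpa [hc, commutatorElement_def] using this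
    have hc1 : c ≠ 1 := by
      intro h
      rw [hc, commutatorElement_eq_one_iff_mul_comm] at h
      exact hab (congrArg Subtype.val h)
    have hgen : ∀ x ∈ D₂, ∃ k : ℤ, x = c ^ k := by
      intro x hx
      have h1 : (⟨c, hcD⟩ : D₂) ≠ 1 := fun h => hc1 (congrArg Subtype.val h)
      have h2 : (⟨x, hx⟩ : D₂) ∈ Subgroup.zpowers (⟨c, hcD⟩ : D₂) := mem_zpowers_of_prime_card hD₂card h1
      obtain ⟨k, hk⟩ := Subgroup.mem_zpowers_iff.mp h2
      exact ⟨k, by simpa using (congrArg Subtype.val hk).symm⟩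
    have hD₁inv : ∀ α ∈ F.autGroup R, ∀ x ∈ D₁, α x ∈ D₁ := by
      intro α hα x hx
      rw [hD₁, Subgroup.mem_subgroupOf] at hx ⊢
      exact hinvP α hα x hx
    have hD₂inv : ∀ α ∈ F.autGroup R, ∀ x ∈ D₂, α x ∈ D₂ := by
      intro α hα x hx
      obtain ⟨k, rfl⟩ := hgen x hx
      rw [map_zpow]
      apply Subgroup.zpow_mem
      rw [hc, map_commutatorElement, hD₂, Subgroup.mem_subgroupOf]
      have h1 := hinvP α hα ⟨a, ha.2⟩ ha.1
      have h2 := hinvP α hα ⟨b, hb.2⟩ hb.1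
      have := hcomm _ h1 _ h2
      simpa [commutatorElement_def] using this
    apply hnR
    refine mem_of_conjAut_mem_chainStab hS F hRS hcen M hM (chain3 D₁ D₂) (chain3_antitone hD₂₁)
      (by simp [chain3]) 3 (by simp [chain3]) (fun α hα => chain3_pres α (hD₁inv α hα) (hD₂inv α hα)) hnS hnN ?_
    apply mem_chainStab_chain3 hD₂₁
    · intro x
      rw [hD₁, Subgroup.mem_subgroupOf]
      have := hN1 n hnNN x x.2
      simpa [conjAut_apply] using this
    · intro x hx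
      rw [hD₁, Subgroup.mem_subgroupOf] at hx
      rw [hD₂, Subgroup.mem_subgroupOf]
      have := hN2 n hnNN x x.2 hx
      simpa [conjAut_apply] using this
    · intro x hx
      rw [hD₂, Subgroup.mem_subgroupOf] at hx
      apply Subtype.ext
      have := hN3 n hnNN x hx
      simp [conjAut_apply, this]
  -- the index of `R ∩ N_P(R)` in `N_P(R)`
  have hidx : (R.subgroupOf (P ⊓ Subgroup.normalizer (R : Set Ω))).index = p := by
    have hdvd := index_subgroupOf_dvd_of_line hS F hRS hcen M hM P hinvP Z hZP hZR hZcard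
      (P ⊓ Subgroup.normalizer (R : Set Ω)) (inf_le_left.trans hPS) inf_le_right hN1 hN2 hN3
    rcases (Nat.dvd_prime hpp).mp hdvd with h | h
    · exfalso
      rw [Subgroup.index_eq_one, Subgroup.subgroupOf_eq_top] at h
      exact hnR (h hnNN)
    · exact h
  -- the `SL₂(p)`-configuration
  set A := F.autGroup R with hA
  set t : MulAut R := conjAut R n hnN with ht
  have htA : t ∈ A := (mem_autGroup_iff F hRS _).mpr (isIso_conjAut F hRS hnS hnN)
  have htapp : ∀ x : R, ((t x : R) : Ω) = n * x * n⁻¹ := fun x => conjAut_apply R n hnN x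
  have hone : ∀ (g : Ω) (hg : g ∈ Subgroup.normalizer (R : Set Ω)), g = 1 → conjAut R g hg = 1 := by
    rintro g hg rfl
    exact conjAut_one R hg
  have htp : ∃ k : ℕ, t ^ p ^ k = 1 := by
    obtain ⟨k, hk⟩ := hS ⟨n, hnS⟩
    refine ⟨k, ?_⟩
    rw [ht, conjAut_pow]
    apply hone
    simpa using congrArg Subtype.val hk
  have ht1 : QuotientGroup.mk' ((Inn R).subgroupOf A) ⟨t, htA⟩ ≠ 1 := by
    intro h
    have h4 : (⟨t, htA⟩ : A) ∈ (Inn R).subgroupOf A := (QuotientGroup.eq_one_iff _).mp h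
    rw [Subgroup.mem_subgroupOf] at h4
    obtain ⟨r, hr⟩ := h4
    apply hnR
    refine mem_of_conj_eq_inner hcen hnS hRS r (fun x => ?_)
    have := congrArg (fun β : MulAut R => ((β x : R) : Ω)) hr
    exact this
  have hZ'card : Nat.card (Z.subgroupOf R) = p := by
    rw [← hZcard]
    exact Nat.card_congr (Subgroup.subgroupOfEquivOfLe hZR).toEquiv
  obtain ⟨U', C', h, w', hhA, hZU', hU'P, hC'P, hUC', hU'card, hP₀card, hdec, hU'exp, hU'c, hw'U, htw, htC, -, -, hhU,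
      hc, hcI⟩ :=
    sigma_main (hS.to_le hRS) A ((Inn R).subgroupOf A) M hM (P.subgroupOf R)
      (fun α hα x hx => Subgroup.mem_subgroupOf.mpr (hinvP α hα x (Subgroup.mem_subgroupOf.mp hx)))
      (fun a ha b hb => Subtype.ext (hab a ⟨Subgroup.mem_subgroupOf.mp ha, a.2⟩ b ⟨Subgroup.mem_subgroupOf.mp hb, b.2⟩))
      (Z.subgroupOf R) (fun x hx => Subgroup.mem_subgroupOf.mpr (hZP (Subgroup.mem_subgroupOf.mp hx))) hZ'card
      (fun z hz r => Subtype.ext (hZc z (Subgroup.mem_subgroupOf.mp hz) r (hRS r.2)))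
      t htA
      (by
        intro x
        rw [Subgroup.mem_subgroupOf]
        have := hN1 n hnNN x x.2
        simpa [htapp] using this)
      (by
        intro x hx
        rw [Subgroup.mem_subgroupOf] at hx ⊢
        have := hN2 n hnNN x x.2 hx
        simpa [htapp] using this)
      (by
        intro z hz
        rw [Subgroup.mem_subgroupOf] at hz
        apply Subtype.ext
        rw [htapp]
        exact hN3 n hnNN z hz)
      htp ht1
  have hsubinj : Function.Injective R.subtype := R.subtype_injective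
  refine ⟨n, (w' : Ω), U'.map R.subtype, C'.map R.subtype, h, hnN, hnP, hidx, hab, ?_, ?_, ?_, ?_, ?_, ?_, ?_, ?_, ?_, ?_,
    ?_, ?_, hhA, ?_, ?_⟩
  · intro z hz
    exact ⟨⟨z, hZR hz⟩, hZU' (Subgroup.mem_subgroupOf.mpr hz), rfl⟩
  · rintro _ ⟨u, hu, rfl⟩
    exact ⟨Subgroup.mem_subgroupOf.mp (hU'P hu), u.2⟩
  · rintro _ ⟨c, hc', rfl⟩
    exact ⟨Subgroup.mem_subgroupOf.mp (hC'P hc'), c.2⟩
  · rw [← Subgroup.map_inf_eq _ _ _ hsubinj, hUC', Subgroup.map_bot]
  · rw [← hU'card]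
    exact Subgroup.card_map_of_injective hsubinj
  · rw [Subgroup.card_map_of_injective hsubinj, ← hP₀card, ← Subgroup.inf_subgroupOf_right P R]
    exact (Nat.card_congr (Subgroup.subgroupOfEquivOfLe (inf_le_right : P ⊓ R ≤ R)).toEquiv).symm
  · intro x hx
    obtain ⟨u, hu, hxu⟩ := hdec ⟨x, hx.2⟩ (Subgroup.mem_subgroupOf.mpr hx.1)
    exact ⟨u, ⟨u, hu, rfl⟩, ⟨_, hxu, rfl⟩⟩
  · rintro _ ⟨u, hu, rfl⟩
    have := hU'exp u hu
    simpa using congrArg Subtype.val this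
  · rintro _ ⟨u, hu, rfl⟩ r hr
    exact congrArg Subtype.val (hU'c u hu ⟨r, hr⟩)
  · exact ⟨w', hw'U, rfl⟩
  · intro hcomm'
    apply htw
    apply Subtype.ext
    rw [htapp, hcomm']
    group
  · rintro _ ⟨c, hc', rfl⟩
    have := congrArg Subtype.val (htC c hc')
    rw [htapp] at this
    calc n * (c : Ω) = (n * c * n⁻¹) * n := by group
      _ = c * n := by rw [this]
  · intro x hx
    obtain ⟨u, hu, hux⟩ := hx
    have : u = x := Subtype.ext hux
    rw [← this, hhU u hu]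
    rfl
  · rw [Subgroup.mem_subgroupOf] at hcI
    obtain ⟨r, hr⟩ := hcI
    refine ⟨r, r.2, fun x => ?_⟩
    have h1 := congrArg (fun β : MulAut R => ((β (t (h x)) : R) : Ω)) hr
    simp only [MulAut.conj_apply, MulAut.mul_apply, MulAut.inv_apply_self] at h1
    rw [← ht, ← h1]
    simp only [Subgroup.coe_mul, Subgroup.coe_inv, htapp]
    group

end Cfsg.Agent.Helper87
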