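import Cfsg.Agent.Helper87.GenExtra3

set_option autoImplicit false

/-!
# Strongly closed generalized extraspecial subgroups: the exceptional structure

If the strongly closed subgroup `P` with `Φ(P) = P'` of order `p` is not contained in the essential subgroup `R`, then `P` has
the structure of the exceptional cases: `P = E₀ × C` with `E₀` of order `p³` generated by `U` (of order `p²`) and `n`, where
`n ^ p = 1` when `p` is odd.
-/

namespace Cfsg.Agent.Helper87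

open Cfsg Cfsg.FusionSystem
open scoped commutatorElement

variable {Ω : Type*} [Group Ω] {S : Subgroup Ω}

theorem exceptional_of_not_le_essential [Finite S] {p : ℕ} [hp : Fact p.Prime] (hS : IsPGroup p S) (F : FusionSystem S)
    (hF : F.IsSaturated p) {P : Subgroup Ω} (hP : F.StronglyClosed P)
    (hge : frattini ↥P = commutator ↥P ∧ Nat.card ↥(commutator ↥P) = p)
    {R : Subgroup Ω} (hR : F.IsEssential p R) (hPR : ¬ P ≤ R) :
    ∃ (U C : Subgroup P) (n w : P), commutator P ≤ Subgroup.center P ∧ (∀ a b : P, ⁅a, b⁆ ∈ commutator P) ∧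
      (∀ a : P, a ^ p ∈ commutator P) ∧
      commutator P ≤ U ∧ Nat.card U = p ^ 2 ∧ (∀ u ∈ U, u ^ p = 1) ∧ C ≤ Subgroup.center P ∧ U ⊓ C = ⊥ ∧ w ∈ U ∧
      n * w ≠ w * n ∧ Nat.card P = p ^ 3 * Nat.card C ∧ (p ≠ 2 → n ^ p = 1) := by
  have hpp : p.Prime := hp.out
  have hPS : P ≤ S := hP.1
  have hRS : R ≤ S := hR.1.1
  haveI : Finite P := finite_of_le hPS
  have hSN : S ≤ Subgroup.normalizer (P : Set Ω) := le_normalizer_of_stronglyClosed F hP
  obtain ⟨hZTcen, hpowT, Z, hZdef, hZP, hZcard, hcomm, hpow, hZc⟩ := genExtra_basic hS hPS hSN hge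
  have hcommT : ∀ a b : P, ⁅a, b⁆ ∈ commutator P :=
    fun a b => Subgroup.commutator_mem_commutator (Subgroup.mem_top _) (Subgroup.mem_top _)
  obtain ⟨n, w, U, C, h, hnN, hnP, hidx, hab, hZU, hUP₀, hCP₀, hUC, hUcard, hP₀card, hdec, hUexp, hUc, hwU, hnw, hCn,
    hhA, hhU, r, hrR, hhr⟩ := essential_line_data hS F hP hSN hZP hZcard hcomm hZc hR hPR
  have hnS : n ∈ S := hPS hnP
  have hwP : w ∈ P := (hUP₀ hwU).1
  have hwR : w ∈ R := (hUP₀ hwU).2
  have hUP : U ≤ P := hUP₀.trans inf_le_left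
  have hCP : C ≤ P := hCP₀.trans inf_le_left
  have hZcP : ∀ z ∈ Z, ∀ x ∈ P, x * z = z * x := fun z hz x hx => hZc z hz x (hPS hx)
  have hle := centralizer_inf_le_of_line hS hPS hRS hSN hidx hab hwP hwR (hUc w hwU) hnP hnN hnw
  have hidxP := index_inf_eq_prime_of_line hS hPS hRS hSN hZP hZcard hZcP hcomm hidx hab hwP hwR (hUc w hwU) hnP hnN hnw
  have hnR : n ∉ R := fun h => hnw (hUc w hwU n h)
  -- `P ∩ R` has exponent `p`
  have hP₀exp : ∀ y ∈ P ⊓ R, y ^ p = 1 := by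
    intro y hy
    obtain ⟨u, hu, hyu⟩ := hdec y hy
    have hc1 : (y * u⁻¹) ^ p = 1 := by
      have h1 : (y * u⁻¹) ^ p ∈ C := C.pow_mem hyu p
      have h2 : (y * u⁻¹) ^ p ∈ U := hZU (hpow _ (P.mul_mem hy.1 (P.inv_mem (hUP hu))))
      have : (y * u⁻¹) ^ p ∈ U ⊓ C := ⟨h2, h1⟩
      rw [hUC] at this
      exact this
    have hcomm1 : Commute (y * u⁻¹) u := hab _ (hCP₀ hyu) _ (hUP₀ hu)
    have e : y = (y * u⁻¹) * u := by group
    rw [e, hcomm1.mul_pow, hc1, hUexp u hu, one_mul]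
  -- `P = (P ∩ R) ⟨n⟩`
  haveI hnorm : ((P ⊓ R).subgroupOf P).Normal := by
    apply normal_of_commutators_mem
    intro a b
    rw [Subgroup.mem_subgroupOf]
    have h1 := hcomm a a.2 b b.2
    have h2 : ((⁅a, b⁆ : P) : Ω) = (a : Ω) * b * (a : Ω)⁻¹ * (b : Ω)⁻¹ := by simp [commutatorElement_def]
    rw [h2]
    exact hUP₀ (hZU h1)
  have hgenP : ∀ x ∈ P, ∃ i : ℕ, x * n ^ i ∈ P ⊓ R := by
    intro x hx
    have hv : (⟨n, hnP⟩ : P) ∉ (P ⊓ R).subgroupOf P := by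
      intro h
      rw [Subgroup.mem_subgroupOf] at h
      exact hnR h.2
    obtain ⟨i, hi⟩ := Cfsg.Agent.Helper86.exists_mul_pow_mem_of_index_prime hpp _ hidxP hv ⟨x, hx⟩
    rw [Subgroup.mem_subgroupOf] at hi
    exact ⟨i, by simpa using hi⟩
  have hCcen : ∀ c ∈ C, ∀ x ∈ P, x * c = c * x := by
    intro c hc x hx
    obtain ⟨i, hi⟩ := hgenP x hx
    have h1 : (x * n ^ i) * c = c * (x * n ^ i) := hab _ hi _ (hCP₀ hc)
    have h2 : n ^ i * c = c * n ^ i := by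
      have : Commute n c := hCn c hc
      exact (this.pow_left i).eq
    calc x * c = x * (n ^ i * c) * (n ^ i)⁻¹ := by rw [h2]; group
      _ = (x * n ^ i * c) * (n ^ i)⁻¹ := by group
      _ = c * x := by rw [h1]; group
  have hcardP : Nat.card P = p ^ 3 * Nat.card C := by
    rw [← Subgroup.card_mul_index ((P ⊓ R).subgroupOf P), hidxP,
      Nat.card_congr (Subgroup.subgroupOfEquivOfLe (inf_le_left : P ⊓ R ≤ P)).toEquiv, hP₀card]
    ring
  refine ⟨U.subgroupOf P, C.subgroupOf P, ⟨n, hnP⟩, ⟨w, hwP⟩, hZTcen, hcommT, hpowT, ?_, ?_, ?_, ?_, ?_, ?_, ?_, ?_, ?_⟩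
  · intro z hz
    rw [Subgroup.mem_subgroupOf]
    apply hZU
    rw [hZdef]
    exact ⟨z, hz, rfl⟩
  · rw [← hUcard]
    exact Nat.card_congr (Subgroup.subgroupOfEquivOfLe hUP).toEquiv
  · intro u hu
    rw [Subgroup.mem_subgroupOf] at hu
    apply Subtype.ext
    rw [Subgroup.coe_pow]
    exact hUexp _ hu
  · intro c hc
    rw [Subgroup.mem_subgroupOf] at hc
    rw [Subgroup.mem_center_iff]
    intro g
    exact Subtype.ext (hCcen _ hc g g.2)
  · rw [eq_bot_iff]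
    rintro x ⟨hxU, hxC⟩
    have hxU' : (x : Ω) ∈ U := hxU
    have hxC' : (x : Ω) ∈ C := hxC
    have : (x : Ω) ∈ U ⊓ C := ⟨hxU', hxC'⟩
    rw [hUC, Subgroup.mem_bot] at this
    rw [Subgroup.mem_bot]
    exact Subtype.ext this
  · rw [Subgroup.mem_subgroupOf]
    exact hwU
  · intro h
    exact hnw (congrArg Subtype.val h)
  · rw [hcardP]
    congr 1
    exact (Nat.card_congr (Subgroup.subgroupOfEquivOfLe hCP).toEquiv).symm
  · intro hodd
    apply Subtype.ext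
    rw [Subgroup.coe_pow]
    show n ^ p = 1
    -- extend `h` to its extender, which contains `n`
    have hRr : F.IsReceptive R := ((Cfsg.Agent.S5111.result p hS F).mp hF).2 R hR.2.1
    have hhiso : IsIso F (h : R ≃* R) := (mem_autGroup_iff F hRS h).mp hhA
    obtain ⟨ψ, hψ, hψx⟩ := hRr.2 R _ hhiso (range_subtype_comp_equiv (h : R ≃* R))
    have hRle := le_extender_of_aut hRS h
    have hnext : n ∈ extender S R (R.subtype.comp (h : R ≃* R).toMonoidHom) := by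
      rw [mem_extender_iff]
      refine ⟨hnS, hnN, r * n, S.mul_mem (hRS hrR) hnS, fun x hx => ?_⟩
      have e1 : (⟨n * (x : Ω) * n⁻¹, hx⟩ : R) = conjAut R n hnN x := Subtype.ext (conjAut_apply R n hnN x).symm
      rw [e1]
      exact hhr x
    have hψR : ∀ (y : Ω) (hy : y ∈ R), ψ ⟨y, hRle hy⟩ = ((h ⟨y, hy⟩ : R) : Ω) := fun y hy => hψx y hy (hRle hy)
    obtain ⟨x₁, hx₁⟩ : ∃ x₁ : Ω, x₁ = ψ ⟨n, hnext⟩ := ⟨_, rfl⟩
    have hx₁P : x₁ ∈ P := by
      have h1 := restrict_mem F hψ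
        (inf_le_right : P ⊓ extender S R (R.subtype.comp (h : R ≃* R).toMonoidHom) ≤
          extender S R (R.subtype.comp (h : R ≃* R).toMonoidHom))
      have h2 := hP.2 (P ⊓ extender S R (R.subtype.comp (h : R ≃* R).toMonoidHom)) inf_le_left _ h1 ⟨n, hnP, hnext⟩
      rw [hx₁]
      exact h2
    -- the action of `x₁` on `R`
    have hact : ∀ (y : Ω) (hy : y ∈ R) (hy' : n * y * n⁻¹ ∈ R),
        x₁ * ((h ⟨y, hy⟩ : R) : Ω) * x₁⁻¹ = ((h ⟨n * y * n⁻¹, hy'⟩ : R) : Ω) := by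
      intro y hy hy'
      rw [← hψR y hy, ← hψR _ hy', hx₁, ← map_inv, ← map_mul, ← map_mul]
      rfl
    -- `x₁ ^ p = (n ^ p)⁻¹`
    have hnpZ : n ^ p ∈ Z := hpow n hnP
    have hnpU : n ^ p ∈ U := hZU hnpZ
    have hnpR : n ^ p ∈ R := (hUP₀ hnpU).2
    have hx₁p : x₁ ^ p = (n ^ p)⁻¹ := by
      rw [hx₁, ← map_pow]
      have e1 : (⟨n, hnext⟩ : extender S R (R.subtype.comp (h : R ≃* R).toMonoidHom)) ^ p = ⟨n ^ p, hRle hnpR⟩ :=
        Subtype.ext (by rw [Subgroup.coe_pow])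
      rw [e1, hψR _ hnpR]
      exact hhU ⟨n ^ p, hnpR⟩ hnpU
    -- `x₁` and `n` act in the same way on `w`
    have hwiU : w⁻¹ ∈ U := U.inv_mem hwU
    have hwiR : w⁻¹ ∈ R := R.inv_mem hwR
    have hnwi : n * w⁻¹ * n⁻¹ ∈ U := by
      have h1 := hZU (hcomm n hnP w⁻¹ (P.inv_mem hwP))
      have e : n * w⁻¹ * n⁻¹ = (n * w⁻¹ * n⁻¹ * w⁻¹⁻¹) * w⁻¹ := by group
      rw [e]
      exact U.mul_mem h1 hwiU
    have hx₁w : x₁ * w * x₁⁻¹ = n * w * n⁻¹ := by
      have h1 := hact w⁻¹ hwiR (hUP₀ hnwi).2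
      have h2 : ((h ⟨w⁻¹, hwiR⟩ : R) : Ω) = w := by
        rw [hhU ⟨w⁻¹, hwiR⟩ hwiU]
        simp
      have h3 : ((h ⟨n * w⁻¹ * n⁻¹, (hUP₀ hnwi).2⟩ : R) : Ω) = n * w * n⁻¹ := by
        rw [hhU ⟨n * w⁻¹ * n⁻¹, (hUP₀ hnwi).2⟩ hnwi]
        simp only []
        group
      rw [h2, h3] at h1
      exact h1
    -- `y₁ = n⁻¹ x₁` lies in `P ∩ R`
    have hy₁ : n⁻¹ * x₁ ∈ P ⊓ R := by
      have hy₁P : n⁻¹ * x₁ ∈ P := P.mul_mem (P.inv_mem hnP) hx₁P
      refine ⟨hy₁P, hle ⟨hy₁P, ?_⟩⟩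
      show n⁻¹ * x₁ ∈ Subgroup.centralizer {w}
      rw [Subgroup.mem_centralizer_singleton_iff]
      calc n⁻¹ * x₁ * w = n⁻¹ * (x₁ * w * x₁⁻¹) * x₁ := by group
        _ = w * (n⁻¹ * x₁) := by rw [hx₁w]; group
    -- `x₁ ^ p = n ^ p`
    have hx₁p' : x₁ ^ p = n ^ p := by
      have h1 := mul_pow_prime_of_comm_mem hodd (commutator P) hZTcen hge.2 hcommT (⟨n, hnP⟩ : P) ⟨n⁻¹ * x₁, hy₁.1⟩
      have h2 := congrArg Subtype.val h1
      simp only [Subgroup.coe_mul, Subgroup.coe_pow] at h2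
      rw [hP₀exp _ hy₁, mul_one] at h2
      have e : n * (n⁻¹ * x₁) = x₁ := by group
      rw [e] at h2
      exact h2
    -- conclusion
    have hsq : (n ^ p) ^ 2 = 1 := by
      have : n ^ p = (n ^ p)⁻¹ := hx₁p'.symm.trans hx₁p
      rw [sq]
      nth_rewrite 1 [this]
      exact inv_mul_cancel _
    have hpp' : (n ^ p) ^ p = 1 := by
      have := pow_card_eq_one' (G := Z) (x := ⟨n ^ p, hnpZ⟩)
      rw [hZcard] at this
      simpa using congrArg Subtype.val this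
    have hd2 : orderOf (n ^ p) ∣ 2 := orderOf_dvd_of_pow_eq_one hsq
    have hdp : orderOf (n ^ p) ∣ p := orderOf_dvd_of_pow_eq_one hpp'
    have hcop : Nat.Coprime 2 p := (Nat.coprime_primes Nat.prime_two hpp).mpr (Ne.symm hodd)
    have h1 : orderOf (n ^ p) = 1 := Nat.eq_one_of_dvd_coprimes hcop hd2 hdp
    exact orderOf_eq_one_iff.mp h1

end Cfsg.Agent.Helper87
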