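import Mathlib
set_option autoImplicit false

namespace Cfsg.Agent.Helper87

/-- Internal direct product of a subgroup with a central cyclic subgroup. -/
theorem nonempty_mulEquiv_prod_zpowers {T : Type*} [Group T] [Finite T] (E : Subgroup T) (d : T)
    (hd : d ∈ Subgroup.center T) (hdisj : ∀ x ∈ E, x ∈ Subgroup.zpowers d → x = 1)
    (hcard : Nat.card E * orderOf d = Nat.card T) : Nonempty (T ≃* E × Subgroup.zpowers d) := by
  have hcent : ∀ z ∈ Subgroup.zpowers d, ∀ g : T, g * z = z * g := by
    intro z hz g
    have : Subgroup.zpowers d ≤ Subgroup.center T := by rwa [Subgroup.zpowers_le]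
    exact Subgroup.mem_center_iff.mp (this hz) g
  let f : E × Subgroup.zpowers d →* T :=
    { toFun := fun x => (x.1 : T) * (x.2 : T)
      map_one' := by simp
      map_mul' := by
        rintro ⟨e, z⟩ ⟨e', z'⟩
        show ((e * e' : E) : T) * ((z * z' : Subgroup.zpowers d) : T) = (e : T) * (z : T) * ((e' : T) * (z' : T))
        rw [Subgroup.coe_mul, Subgroup.coe_mul]
        have h := hcent z z.2 e'
        calc (e : T) * e' * (z * z') = e * (e' * z) * z' := by group
          _ = e * (z * e') * z' := by rw [h]
          _ = e * z * (e' * z') := by group }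
  have hinj : Function.Injective f := by
    rw [injective_iff_map_eq_one]
    rintro ⟨e, z⟩ h
    have h1 : (e : T) * (z : T) = 1 := h
    have h2 : (e : T) = (z : T)⁻¹ := eq_inv_of_mul_eq_one_left h1
    have h3 : (e : T) = 1 := hdisj e e.2 (by rw [h2]; exact Subgroup.inv_mem _ z.2)
    have h4 : (z : T) = 1 := by
      rw [h3, one_mul] at h1
      exact h1
    exact Prod.ext (Subtype.ext h3) (Subtype.ext h4)
  have hbij : Function.Bijective f := by
    apply hinj.bijective_of_nat_card_le
    rw [Nat.card_prod, Nat.card_zpowers, hcard]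
  exact ⟨(MulEquiv.ofBijective f hbij).symm⟩

/-- A cyclic subgroup of order `n` is isomorphic to `Z/n`. -/
theorem nonempty_mulEquiv_zpowers_zmod {T : Type*} [Group T] (d : T) (n : ℕ) (hn : orderOf d = n) :
    Nonempty (Subgroup.zpowers d ≃* Multiplicative (ZMod n)) := by
  have h : Nat.card (Subgroup.zpowers d) = n := by rw [Nat.card_zpowers, hn]
  have e1 := zmodCyclicMulEquiv (inferInstance : IsCyclic (Subgroup.zpowers d))
  have e2 : Multiplicative (ZMod (Nat.card (Subgroup.zpowers d))) ≃* Multiplicative (ZMod n) :=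
    (ZMod.ringEquivCongr h).toAddEquiv.toMultiplicative
  exact ⟨e1.symm.trans e2⟩

end Cfsg.Agent.Helper87
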