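import Cfsg.Agent.Helper87.P4CaseB
import Cfsg.Agent.Helper87.P4Product
import Cfsg.Agent.Helper87.CubeOdd
import Cfsg.Agent.Helper37.ExtraP3
set_option autoImplicit false

namespace Cfsg.Agent.Helper87

open scoped commutatorElement

/-- The intersection of a noncommutative subgroup `E` of order `p ^ 3` with the centre of `T` has order at most `p`. -/
theorem card_inf_center_le {T : Type*} [Group T] [Finite T] {p : ℕ} [Fact p.Prime] (E : Subgroup T)
    (hE : Nat.card E = p ^ 3) (a b : T) (ha : a ∈ E) (hb : b ∈ E) (hab : a * b ≠ b * a) :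
    Nat.card (E ⊓ Subgroup.center T : Subgroup T) ≤ p := by
  have hEnab : ¬ ∀ x y : E, x * y = y * x := by
    intro h
    apply hab
    have := h ⟨a, ha⟩ ⟨b, hb⟩
    exact congrArg Subtype.val this
  obtain ⟨hZE, -⟩ := center_of_card_cube hE hEnab
  rw [← hZE]
  have hmem : ∀ x : (E ⊓ Subgroup.center T : Subgroup T), (⟨x.1, x.2.1⟩ : E) ∈ Subgroup.center E := by
    intro x
    rw [Subgroup.mem_center_iff]
    intro g
    apply Subtype.ext
    exact Subgroup.mem_center_iff.mp x.2.2 g
  exact Nat.card_le_card_of_injective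
    (fun x => (⟨⟨x.1, x.2.1⟩, hmem x⟩ : Subgroup.center E))
    (fun x y hxy => Subtype.ext (by
      have h1 : (⟨⟨x.1, x.2.1⟩, hmem x⟩ : Subgroup.center E) = ⟨⟨y.1, y.2.1⟩, hmem y⟩ := hxy
      have h2 := Subtype.mk_eq_mk.mp h1
      exact Subtype.mk_eq_mk.mp h2))


/-- A group `T` of order `p ^ 4` whose centre has order `p ^ 2` and exponent `p`, with a noncommutative subgroup `E` of
order `p ^ 3`, is the direct product of `E` and a group of order `p`. -/
theorem nonempty_mulEquiv_prod_of_subgroup {T : Type*} [Group T] [Finite T] {p : ℕ} [Fact p.Prime]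
    (hcard : Nat.card T = p ^ 4) (hZ : Nat.card (Subgroup.center T) = p ^ 2)
    (hZp : ∀ z ∈ Subgroup.center T, z ^ p = 1) (E : Subgroup T) (hE : Nat.card E = p ^ 3) (a b : T) (ha : a ∈ E)
    (hb : b ∈ E) (hab : a * b ≠ b * a) : Nonempty (T ≃* E × Multiplicative (ZMod p)) := by
  have hp : p.Prime := Fact.out
  have hle := card_inf_center_le E hE a b ha hb hab
  obtain ⟨d, hdZ, hdE⟩ : ∃ d ∈ Subgroup.center T, d ∉ E := by
    by_contra hcon
    push Not at hcon
    have h1 : Subgroup.center T ≤ E ⊓ Subgroup.center T := fun z hz => ⟨hcon z hz, hz⟩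
    have h2 := Subgroup.card_le_of_le h1
    rw [hZ] at h2
    have : p < p ^ 2 := by
      have := hp.one_lt
      nlinarith
    omega
  have hd1 : d ≠ 1 := by
    rintro rfl
    exact hdE (Subgroup.one_mem _)
  have hord : orderOf d = p := orderOf_eq_prime (hZp d hdZ) hd1
  have hdisj : ∀ x ∈ E, x ∈ Subgroup.zpowers d → x = 1 := by
    intro x hxE hxd
    have hcd : Nat.card (E ⊓ Subgroup.zpowers d : Subgroup T) ∣ p := by
      have := Subgroup.card_dvd_of_le (inf_le_right : E ⊓ Subgroup.zpowers d ≤ Subgroup.zpowers d)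
      rwa [Nat.card_zpowers, hord] at this
    rcases (Nat.dvd_prime hp).mp hcd with h | h
    · have hbot := Subgroup.card_eq_one.mp h
      have : x ∈ (E ⊓ Subgroup.zpowers d : Subgroup T) := ⟨hxE, hxd⟩
      rw [hbot, Subgroup.mem_bot] at this
      exact this
    · exfalso
      apply hdE
      have heq : E ⊓ Subgroup.zpowers d = Subgroup.zpowers d :=
        Subgroup.eq_of_le_of_card_ge inf_le_right (by rw [h, Nat.card_zpowers, hord])
      have : d ∈ (E ⊓ Subgroup.zpowers d : Subgroup T) := by
        rw [heq]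
        exact Subgroup.mem_zpowers d
      exact this.1
  obtain ⟨e1⟩ := nonempty_mulEquiv_prod_zpowers E d hdZ hdisj (by rw [hE, hord, hcard]; ring)
  obtain ⟨e2⟩ := nonempty_mulEquiv_zpowers_zmod d p hord
  exact ⟨e1.trans (MulEquiv.prodCongr (MulEquiv.refl _) e2)⟩

/-- A noncommutative group of order `p ^ 4` and exponent `p` with centre of order `p ^ 2` is the direct product of an
extraspecial group of order `p ^ 3` and exponent `p` with a group of order `p`. -/
theorem caseB_exp {T : Type*} [Group T] [Finite T] {p : ℕ} [Fact p.Prime] (hcard : Nat.card T = p ^ 4)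
    (hnab : ¬ ∀ a b : T, a * b = b * a) (hZ : Nat.card (Subgroup.center T) = p ^ 2) (hexp : ∀ x : T, x ^ p = 1) :
    ∃ (E : Type) (_ : Group E) (_ : Finite E), Cfsg.IsExtraspecial p E ∧ Nat.card E = p ^ 3 ∧
      (∀ x : E, x ^ p = 1) ∧ Nonempty (T ≃* E × Multiplicative (ZMod p)) := by
  have hp : p.Prime := Fact.out
  obtain ⟨hc, hpow, hcp⟩ := class_two_of_card_center_sq hcard hnab hZ
  obtain ⟨a, b, hab, haZ, -, -, -, hcomeq, hRcard, hc1⟩ := caseB_structure hcard hnab hZ
  have hRZ : commutator T ≤ Subgroup.center T := by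
    rw [commutator_def, Subgroup.commutator_le]
    exact fun x _ y _ => hc x y
  -- the subgroup generated by the derived subgroup and `a`
  have haR : a ∉ commutator T := fun h => haZ (hRZ h)
  have hN1 : Nat.card (commutator T ⊔ Subgroup.zpowers a : Subgroup T) = p ^ 2 := by
    rw [card_sup_zpowers hp _ a haR (by rw [hexp a]; exact Subgroup.one_mem _), hRcard]
    ring
  have hN1n : (commutator T ⊔ Subgroup.zpowers a : Subgroup T).Normal :=
    normal_of_commutators_mem _ (fun x y => le_sup_left (α := Subgroup T)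
      (Subgroup.commutator_mem_commutator (Subgroup.mem_top x) (Subgroup.mem_top y)))
  have hN1cent : commutator T ⊔ Subgroup.zpowers a ≤ Subgroup.centralizer {a} := by
    apply sup_le
    · exact hRZ.trans (Subgroup.center_le_centralizer _)
    · rw [Subgroup.zpowers_le, Subgroup.mem_centralizer_iff]
      intro g hg
      rw [Set.mem_singleton_iff.mp hg]
  have hbN1 : b ∉ commutator T ⊔ Subgroup.zpowers a := by
    intro h
    exact hab (Subgroup.mem_centralizer_iff.mp (hN1cent h) a rfl)
  set E : Subgroup T := (commutator T ⊔ Subgroup.zpowers a) ⊔ Subgroup.zpowers b with hEdef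
  have hE : Nat.card E = p ^ 3 := by
    rw [hEdef, card_sup_zpowers hp _ b hbN1 (by rw [hexp b]; exact Subgroup.one_mem _), hN1]
    ring
  have haE : a ∈ E :=
    le_sup_left (α := Subgroup T) (le_sup_right (α := Subgroup T) (Subgroup.mem_zpowers a))
  have hbE : b ∈ E := le_sup_right (α := Subgroup T) (Subgroup.mem_zpowers b)
  obtain ⟨e⟩ := nonempty_mulEquiv_prod_of_subgroup hcard hZ (fun z _ => hexp z) E hE a b haE hbE hab
  -- a copy of `E` in the lowest universe
  have hfinE : Finite (Shrink.{0} E) := Finite.of_equiv E (equivShrink.{0} E)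
  have hcardE' : Nat.card (Shrink.{0} E) = p ^ 3 := by
    rw [← hE]
    exact Nat.card_congr (equivShrink.{0} E).symm
  have hexpE' : ∀ x : Shrink.{0} E, x ^ p = 1 := by
    intro x
    apply (Shrink.mulEquiv.{0} (α := E)).injective
    rw [map_pow, map_one]
    apply Subtype.ext
    rw [Subgroup.coe_pow]
    exact hexp _
  have hncE' : ∃ x y : Shrink.{0} E, x * y ≠ y * x := by
    refine ⟨(Shrink.mulEquiv.{0} (α := E)).symm ⟨a, haE⟩, (Shrink.mulEquiv.{0} (α := E)).symm ⟨b, hbE⟩, ?_⟩
    intro h
    rw [← map_mul, ← map_mul] at h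
    have h2 := (Shrink.mulEquiv.{0} (α := E)).symm.injective h
    exact hab (congrArg Subtype.val h2)
  refine ⟨Shrink.{0} E, inferInstance, hfinE,
    Cfsg.Agent.Helper37.isExtraspecial_of_card_cube hcardE' hncE' hexpE', hcardE', hexpE', ?_⟩
  exact ⟨e.trans (MulEquiv.prodCongr (Shrink.mulEquiv.{0} (α := E)).symm (MulEquiv.refl _))⟩

end Cfsg.Agent.Helper87
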