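import Cfsg.Agent.Helper87.Class2
import Cfsg.Agent.Helper87.P4CaseBd
import Mathlib.GroupTheory.NoncommCoprod

set_option autoImplicit false

/-!
# Generalized extraspecial groups: the decomposition `E₀ × C`

Pure group theory for groups `T` with a central subgroup `Z` of order `p` containing all commutators and `p`-th powers.
-/

namespace Cfsg.Agent.Helper87

open scoped commutatorElement

variable {T : Type*} [Group T]

/-- If all commutators `⁅x, y⁆` lie in the central subgroup `Z`, the index of `C(y)` divides `|Z|`. -/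
theorem index_centralizer_dvd_card [Finite T] (y : T) (Z : Subgroup T) (hZ : Z ≤ Subgroup.center T)
    (hy : ∀ x : T, ⁅x, y⁆ ∈ Z) : (Subgroup.centralizer {y}).index ∣ Nat.card Z := by
  rw [← ker_commHomLOf y (fun x => hZ (hy x)), Subgroup.index_ker]
  apply Subgroup.card_dvd_of_le
  rintro _ ⟨x, rfl⟩
  exact hy x

/-- For `p` odd, the `p`-th power map is multiplicative when all commutators lie in a central subgroup of order `p`. -/
theorem mul_pow_prime_of_comm_mem [Finite T] {p : ℕ} [hp : Fact p.Prime] (hodd : p ≠ 2) (Z : Subgroup T)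
    (hZ : Z ≤ Subgroup.center T) (hZcard : Nat.card Z = p) (hcomm : ∀ a b : T, ⁅a, b⁆ ∈ Z) (a b : T) :
    (a * b) ^ p = a ^ p * b ^ p := by
  apply mul_pow_of_comm_central (fun a b => hZ (hcomm a b)) p
  intro a b
  obtain ⟨k, hk⟩ := hp.out.eq_two_or_odd'.resolve_left hodd
  have hsum : ∑ i ∈ Finset.range p, i = p * k := by
    have h2 := Finset.sum_range_id_mul_two p
    have : p - 1 = 2 * k := by omega
    rw [this] at h2
    have : (∑ i ∈ Finset.range p, i) * 2 = (p * k) * 2 := by rw [h2]; ring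
    exact Nat.eq_of_mul_eq_mul_right (by norm_num) this
  have hzp : ⁅a, b⁆ ^ p = 1 := by
    have h1 := pow_card_eq_one' (G := Z) (x := ⟨⁅a, b⁆, hcomm a b⟩)
    rw [hZcard] at h1
    exact congrArg Subtype.val h1
  rw [hsum, pow_mul, hzp, one_pow]

/-- **Decomposition.** Let `Z ≤ Z(T)` of order `p` contain all commutators and `p`-th powers, let `U ≥ Z` have order `p²`,
let `C` be central with `U ∩ C = 1` and `|T| = p³ |C|`, and let `n` not commute with some `w ∈ U`. Then
`E₀ = U ⟨n⟩` has order `p³` and `T ≅ E₀ × C`. -/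
theorem genExtra_prod [Finite T] {p : ℕ} [hp : Fact p.Prime] (Z U C : Subgroup T)
    (hZcen : Z ≤ Subgroup.center T) (hZcard : Nat.card Z = p) (hcomm : ∀ a b : T, ⁅a, b⁆ ∈ Z)
    (hpow : ∀ a : T, a ^ p ∈ Z) (hZU : Z ≤ U) (hUcard : Nat.card U = p ^ 2)
    (hC : C ≤ Subgroup.center T) (hUC : U ⊓ C = ⊥) (n w : T) (hw : w ∈ U) (hnw : n * w ≠ w * n)
    (hcard : Nat.card T = p ^ 3 * Nat.card C) :
    ∃ E₀ : Subgroup T, U ≤ E₀ ∧ n ∈ E₀ ∧ Nat.card E₀ = p ^ 3 ∧ Nonempty (T ≃* E₀ × C) ∧ (∀ c ∈ C, c ^ p = 1) ∧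
      ∀ x ∈ E₀, ∃ u ∈ U, ∃ i : ℕ, x = u * n ^ i := by
  have hpp : p.Prime := hp.out
  haveI hUn : U.Normal := normal_of_commutators_mem U (fun a b => hZU (hcomm a b))
  have hUcomm : ∀ a ∈ U, ∀ b ∈ U, a * b = b * a := by
    intro a ha b hb
    haveI : IsMulCommutative U := IsPGroup.isMulCommutative_of_card_eq_prime_sq hUcard
    have := mul_comm' (⟨a, ha⟩ : U) ⟨b, hb⟩
    exact congrArg Subtype.val this
  have hnU : n ∉ U := fun h => hnw (hUcomm n h w hw)
  set E₀ : Subgroup T := U ⊔ Subgroup.zpowers n with hE₀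
  have hE₀card : Nat.card E₀ = p ^ 3 := by
    rw [hE₀, card_sup_zpowers hpp U n hnU (hZU (hpow n)), hUcard]
    ring
  have hnE : n ∈ E₀ := Subgroup.mem_sup_right (Subgroup.mem_zpowers n)
  have hUE : U ≤ E₀ := le_sup_left
  -- `E₀ ∩ Z(T) = Z`
  have h1 : Nat.card (E₀ ⊓ Subgroup.center T : Subgroup T) ≤ p :=
    card_inf_center_le E₀ hE₀card n w hnE (hUE hw) hnw
  have h2 : Z ≤ E₀ ⊓ Subgroup.center T := le_inf (hZU.trans hUE) hZcen
  have h3 : Z = E₀ ⊓ Subgroup.center T := Subgroup.eq_of_le_of_card_ge h2 (by rw [hZcard]; exact h1)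
  have hEC : E₀ ⊓ C = ⊥ := by
    rw [eq_bot_iff]
    rintro x ⟨hxE, hxC⟩
    have hxZ : x ∈ Z := by
      rw [h3]
      exact ⟨hxE, hC hxC⟩
    have : x ∈ U ⊓ C := ⟨hZU hxZ, hxC⟩
    rwa [hUC] at this
  -- the isomorphism
  have hcommEC : ∀ (e : E₀) (c : C), Commute (E₀.subtype e) (C.subtype c) := by
    intro e c
    exact Subgroup.mem_center_iff.mp (hC c.2) e
  set φ : E₀ × C →* T := MonoidHom.noncommCoprod E₀.subtype C.subtype hcommEC with hφ
  have hinj : Function.Injective φ := by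
    rw [MonoidHom.noncommCoprod_injective]
    refine ⟨E₀.subtype_injective, C.subtype_injective, ?_⟩
    rw [Subgroup.range_subtype, Subgroup.range_subtype, disjoint_iff]
    exact hEC
  have hbij : Function.Bijective φ := by
    rw [Nat.bijective_iff_injective_and_card]
    refine ⟨hinj, ?_⟩
    rw [Nat.card_prod, hE₀card, hcard]
  refine ⟨E₀, hUE, hnE, hE₀card, ⟨(MulEquiv.ofBijective φ hbij).symm⟩, ?_, ?_⟩
  · intro c hc
    have h4 : c ^ p ∈ U ⊓ C := ⟨hZU (hpow c), C.pow_mem hc p⟩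
    rw [hUC, Subgroup.mem_bot] at h4
    exact h4
  · intro x hx
    have hx' : x ∈ ((U ⊔ Subgroup.zpowers n : Subgroup T) : Set T) := hx
    rw [Subgroup.normal_mul] at hx'
    obtain ⟨u, hu, y, hy, rfl⟩ := hx'
    have hy' : y ∈ Submonoid.powers n := mem_powers_iff_mem_zpowers.mpr hy
    obtain ⟨i, rfl⟩ := hy'
    exact ⟨u, hu, i, rfl⟩

end Cfsg.Agent.Helper87
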