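import Mathlib

/-!
# (B1) of #4013: good elements of a coset `xN` are `N`-conjugate up to the centre

`N` normal in `G` with `[N,N] ≤ Z(G)` and `C_N(N) ≤ Z(G)`, `μ` a faithful linear character of
`Z(G)`.  If `xn` and `xn'` both centralize `D_x = {d ∈ N | [x,d] ∈ Z(G)}` then
`xn' = m⁻¹(xn)m z` for some `m ∈ N`, `z ∈ Z(G)`.  The proof is finite abelian duality
applied to the image of `N → Hom(N, ℂˣ)`, `w ↦ μ[·,w]`.
-/

namespace Cfsg.Agent.Helper87.GoodConj

universe u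

open Subgroup

variable {G : Type u} [Group G]

/-- the commutator `a⁻¹ b⁻¹ a b`. -/
abbrev cm (a b : G) : G := a⁻¹ * b⁻¹ * a * b

theorem cm_mul_left {a a' b : G} (h : cm a b ∈ center G) :
    cm (a * a') b = cm a b * cm a' b := by
  have hc := (mem_center_iff.mp h) (a'⁻¹)
  -- a'⁻¹ * cm a b = cm a b * a'⁻¹
  calc cm (a * a') b = a'⁻¹ * (a⁻¹ * b⁻¹ * a * b) * (b⁻¹ * a' * b) := by
        simp only [cm]; group
    _ = (a⁻¹ * b⁻¹ * a * b) * a'⁻¹ * (b⁻¹ * a' * b) := by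
        have : a'⁻¹ * (a⁻¹ * b⁻¹ * a * b) = (a⁻¹ * b⁻¹ * a * b) * a'⁻¹ := hc
        rw [this]
    _ = cm a b * cm a' b := by simp only [cm]; group

theorem cm_mul_right {a b b' : G} (h : cm a b ∈ center G) :
    cm a (b * b') = cm a b * cm a b' := by
  have hc := (mem_center_iff.mp h) (a⁻¹ * b'⁻¹ * a)
  calc cm a (b * b') = (a⁻¹ * b'⁻¹ * a) * (a⁻¹ * b⁻¹ * a * b) * b' := by
        simp only [cm]; group
    _ = (a⁻¹ * b⁻¹ * a * b) * (a⁻¹ * b'⁻¹ * a) * b' := by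
        have : (a⁻¹ * b'⁻¹ * a) * (a⁻¹ * b⁻¹ * a * b) = (a⁻¹ * b⁻¹ * a * b) * (a⁻¹ * b'⁻¹ * a) := hc
        rw [this]
    _ = cm a b * cm a b' := by simp only [cm]; group

section
variable [Finite G] (N : Subgroup G)
  (hcomm : ∀ a ∈ N, ∀ b ∈ N, a⁻¹ * b⁻¹ * a * b ∈ Subgroup.center G)
  (μ : ↥(Subgroup.center G) →* ℂˣ)

/-- `w ↦ (v ↦ μ [v,w])`. -/
noncomputable def Om : ↥N →* (↥N →* ℂˣ) where
  toFun w :=
    { toFun := fun v => μ ⟨cm (v : G) (w : G), hcomm v v.2 w w.2⟩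
      map_one' := by
        have : (⟨cm ((1 : ↥N) : G) (w : G), hcomm _ (1 : ↥N).2 w w.2⟩ : ↥(center G)) = 1 := by
          apply Subtype.ext; simp [cm]
        rw [this, map_one]
      map_mul' := fun v v' => by
        have : (⟨cm ((v * v' : ↥N) : G) (w : G), hcomm _ (v * v').2 w w.2⟩ : ↥(center G))
            = ⟨cm (v : G) (w : G), hcomm v v.2 w w.2⟩ * ⟨cm (v' : G) (w : G), hcomm v' v'.2 w w.2⟩ := by
          apply Subtype.ext
          simpa using cm_mul_left (a := (v : G)) (a' := (v' : G)) (b := (w : G)) (hcomm v v.2 w w.2)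
        rw [this, map_mul] }
  map_one' := by
    ext v
    have : (⟨cm (v : G) ((1 : ↥N) : G), hcomm v v.2 _ (1 : ↥N).2⟩ : ↥(center G)) = 1 := by
      apply Subtype.ext; simp [cm]
    simp only [MonoidHom.coe_mk, OneHom.coe_mk, this, map_one, MonoidHom.one_apply]
  map_mul' := fun w w' => by
    ext v
    have : (⟨cm (v : G) ((w * w' : ↥N) : G), hcomm v v.2 _ (w * w').2⟩ : ↥(center G))
        = ⟨cm (v : G) (w : G), hcomm v v.2 w w.2⟩ * ⟨cm (v : G) (w' : G), hcomm v v.2 w' w'.2⟩ := by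
      apply Subtype.ext
      simpa using cm_mul_right (a := (v : G)) (b := (w : G)) (b' := (w' : G)) (hcomm v v.2 w w.2)
    simp only [MonoidHom.coe_mk, OneHom.coe_mk, this, map_mul, MonoidHom.mul_apply]

theorem Om_apply (w v : ↥N) :
    Om N hcomm μ w v = μ ⟨cm (v : G) (w : G), hcomm v v.2 w w.2⟩ := rfl

theorem cm_swap (a b : G) : cm a b = (cm b a)⁻¹ := by simp only [cm]; group

theorem Om_swap (w v : ↥N) : Om N hcomm μ w v = (Om N hcomm μ v w)⁻¹ := by
  rw [Om_apply, Om_apply, ← map_inv]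
  congr 1
  apply Subtype.ext
  simp only [Subgroup.coe_inv]
  exact cm_swap _ _

theorem Om_eq_one_iff
    (hcent : ∀ a ∈ N, (∀ b ∈ N, a * b = b * a) → a ∈ Subgroup.center G)
    (hμ : Function.Injective μ) (w : ↥N) :
    Om N hcomm μ w = 1 ↔ (w : G) ∈ center G := by
  constructor
  · intro h
    apply hcent w w.2
    intro b hb
    have h1 : Om N hcomm μ w ⟨b, hb⟩ = 1 := by rw [h]; rfl
    rw [Om_apply, ← map_one μ] at h1
    have h2 := congrArg Subtype.val (hμ h1)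
    simp only [cm, Subgroup.coe_one] at h2
    -- b⁻¹ * w⁻¹ * b * w = 1
    calc (w : G) * b = b * (w : G) * (b⁻¹ * (w : G)⁻¹ * b * (w : G))⁻¹ := by group
      _ = b * (w : G) := by rw [h2]; group
  · intro h
    ext v
    rw [Om_apply]
    have : (⟨cm (v : G) (w : G), hcomm v v.2 w w.2⟩ : ↥(center G)) = 1 := by
      apply Subtype.ext
      have hc := (mem_center_iff.mp h) (v : G)
      simp only [cm, Subgroup.coe_one]
      calc (v : G)⁻¹ * (w : G)⁻¹ * (v : G) * (w : G)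
          = (v : G)⁻¹ * (w : G)⁻¹ * ((v : G) * (w : G)) := by group
        _ = (v : G)⁻¹ * (w : G)⁻¹ * ((w : G) * (v : G)) := by rw [hc]
        _ = 1 := by group
    rw [this, map_one]; rfl

/-- evaluation `w ↦ (χ ↦ χ w)` on the image of `Om`. -/
noncomputable def ev : ↥N →* (↥(Om N hcomm μ).range →* ℂˣ) where
  toFun w :=
    { toFun := fun χ => (χ : ↥N →* ℂˣ) w
      map_one' := rfl
      map_mul' := fun _ _ => rfl }
  map_one' := by ext χ; simp
  map_mul' := fun w w' => by ext χ; simp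

theorem ev_apply (w : ↥N) (χ : ↥(Om N hcomm μ).range) :
    ev N hcomm μ w χ = (χ : ↥N →* ℂˣ) w := rfl

theorem ev_ker : (ev N hcomm μ).ker = (Om N hcomm μ).ker := by
  ext w
  rw [MonoidHom.mem_ker, MonoidHom.mem_ker]
  constructor
  · intro h
    ext v
    rw [Om_swap]
    have := DFunLike.congr_fun h ⟨Om N hcomm μ v, v, rfl⟩
    rw [ev_apply] at this
    simp only [MonoidHom.one_apply] at this
    simp [this]
  · intro h
    ext χ
    obtain ⟨v, hv⟩ := χ.2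
    rw [ev_apply, ← hv, Om_swap, h]
    simp

theorem ev_surjective : Function.Surjective (ev N hcomm μ) := by
  set V := (Om N hcomm μ).range with hV
  haveI : Finite ↥V := by
    rw [hV]
    exact Finite.of_surjective (Om N hcomm μ).rangeRestrict (Om N hcomm μ).rangeRestrict_surjective
  haveI : NeZero (Monoid.exponent ↥V) := ⟨Monoid.exponent_ne_zero_of_finite⟩
  have hcard : Nat.card (↥V →* ℂˣ) = Nat.card ↥V :=
    CommGroup.card_monoidHom_of_hasEnoughRootsOfUnity ↥V ℂ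
  haveI : Finite (↥V →* ℂˣ) :=
    Nat.finite_of_card_ne_zero (by rw [hcard]; exact Nat.card_pos.ne')
  have h1 : Nat.card (ev N hcomm μ).range = Nat.card (↥V →* ℂˣ) := by
    rw [hcard, ← Subgroup.index_ker, ev_ker, Subgroup.index_ker]
  rw [← MonoidHom.range_eq_top]
  exact Subgroup.eq_top_of_card_eq _ h1

theorem cm_inv_right {a b : G} (h : cm a b ∈ center G) : cm a b⁻¹ = (cm a b)⁻¹ := by
  have h1 := cm_mul_right (a := a) (b := b) (b' := b⁻¹) h
  have h2 : cm a (b * b⁻¹) = 1 := by simp [cm]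
  rw [h2] at h1
  exact eq_inv_of_mul_eq_one_right h1.symm

theorem cm_inv_left {a b : G} (h : cm a b ∈ center G) : cm a⁻¹ b = (cm a b)⁻¹ := by
  have h1 := cm_mul_left (a := a) (a' := a⁻¹) (b := b) h
  have h2 : cm (a * a⁻¹) b = 1 := by simp [cm]
  rw [h2] at h1
  exact eq_inv_of_mul_eq_one_right h1.symm

theorem comm_of_cm_eq_one {a b : G} (h : cm a b = 1) : a * b = b * a := by
  calc a * b = b * a * (a⁻¹ * b⁻¹ * a * b) := by group
    _ = b * a := by
      have : a⁻¹ * b⁻¹ * a * b = 1 := h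
      rw [this, mul_one]

theorem cm_eq_one_of_comm {a b : G} (h : a * b = b * a) : cm a b = 1 := by
  calc cm a b = a⁻¹ * b⁻¹ * (a * b) := by simp only [cm]; group
    _ = a⁻¹ * b⁻¹ * (b * a) := by rw [h]
    _ = 1 := by group

include hcomm in
/-- adjointness step: if `w` commutes with all `[x,m]`, `m ∈ N`, then `[x,w]` centralizes `N`. -/
theorem cm_comm_of_forall [N.Normal] {x w : G} (hw : w ∈ N)
    (H : ∀ m ∈ N, cm w (cm x m) = 1) : ∀ m ∈ N, cm x w * m = m * cm x w := by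
  intro m hm
  apply comm_of_cm_eq_one
  set p := x * m * x⁻¹ with hp
  have hpN : p ∈ N := ‹N.Normal›.conj_mem m hm x
  have hwx : x⁻¹ * w * x ∈ N := by
    have := ‹N.Normal›.conj_mem w hw x⁻¹
    simpa using this
  have e1 : cm x p = m⁻¹ * p := by simp only [cm, hp]; group
  have h1 := H p hpN
  rw [e1, cm_mul_right (hcomm w hw m⁻¹ (N.inv_mem hm)), cm_inv_right (hcomm w hw m hm)] at h1
  -- (cm w m)⁻¹ * cm w p = 1
  have h2 : cm w p = cm w m := by
    have := inv_mul_eq_one.mp h1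
    exact this.symm
  have e2 : cm w p = x * cm (x⁻¹ * w * x) m * x⁻¹ := by simp only [cm, hp]; group
  have hz := hcomm (x⁻¹ * w * x) hwx m hm
  have e3 : x * cm (x⁻¹ * w * x) m * x⁻¹ = cm (x⁻¹ * w * x) m := by
    have hc : x * cm (x⁻¹ * w * x) m = cm (x⁻¹ * w * x) m * x := (mem_center_iff.mp hz) x
    rw [hc, mul_assoc, mul_inv_cancel, mul_one]
  have h3 : cm (x⁻¹ * w * x) m = cm w m := by rw [← e3, ← e2, h2]
  have e4 : cm x w = (x⁻¹ * w * x)⁻¹ * w := by simp only [cm]; group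
  rw [e4, cm_mul_left (by rw [cm_inv_left hz]; exact (center G).inv_mem hz), cm_inv_left hz, h3]
  exact inv_mul_cancel _

end

theorem good_conj_central {G : Type u} [Group G] [Finite G] (N : Subgroup G) [N.Normal]
    (hcomm : ∀ a ∈ N, ∀ b ∈ N, a⁻¹ * b⁻¹ * a * b ∈ Subgroup.center G)
    (hcent : ∀ a ∈ N, (∀ b ∈ N, a * b = b * a) → a ∈ Subgroup.center G)
    (μ : ↥(Subgroup.center G) →* ℂˣ) (hμ : Function.Injective μ)
    (x n n' : G) (hn : n ∈ N) (hn' : n' ∈ N)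
    (hgood : ∀ d ∈ N, x⁻¹ * d⁻¹ * x * d ∈ Subgroup.center G → (x * n) * d = d * (x * n))
    (hgood' : ∀ d ∈ N, x⁻¹ * d⁻¹ * x * d ∈ Subgroup.center G → (x * n') * d = d * (x * n')) :
    ∃ m ∈ N, ∃ z ∈ Subgroup.center G, x * n' = m⁻¹ * (x * n) * m * z := by
  classical
  have hNn : N.Normal := inferInstance
  set Ω := Om N hcomm μ with hΩ
  set V := Ω.range with hV
  haveI : Finite ↥V :=
    Finite.of_surjective Ω.rangeRestrict Ω.rangeRestrict_surjective
  haveI : NeZero (Monoid.exponent ↥V) := ⟨Monoid.exponent_ne_zero_of_finite⟩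
  have hcxm : ∀ m : G, m ∈ N → x⁻¹ * m * x ∈ N := fun m hm => by
    simpa using hNn.conj_mem m hm x⁻¹
  let cx : ↥N →* ↥N :=
    { toFun := fun m => ⟨x⁻¹ * m * x, hcxm m m.2⟩
      map_one' := by apply Subtype.ext; simp
      map_mul' := fun a b => by apply Subtype.ext; simp only [Subgroup.coe_mul]; group }
  let Ωr : ↥N →* ↥V := Ω.rangeRestrict
  let τ : ↥N →* ↥V := (Ωr.comp cx)⁻¹ * Ωr
  have hcmN : ∀ m : G, m ∈ N → cm x m ∈ N := fun m hm => by
    have : cm x m = (x⁻¹ * m * x)⁻¹ * m := by simp only [cm]; group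
    rw [this]
    exact N.mul_mem (N.inv_mem (hcxm m hm)) hm
  have hτ : ∀ (m : G) (hm : m ∈ N), τ ⟨m, hm⟩ = Ωr ⟨cm x m, hcmN m hm⟩ := by
    intro m hm
    have : (⟨cm x m, hcmN m hm⟩ : ↥N) = (cx ⟨m, hm⟩)⁻¹ * ⟨m, hm⟩ := by
      apply Subtype.ext
      simp only [cm, cx, MonoidHom.coe_mk, OneHom.coe_mk, Subgroup.coe_mul, Subgroup.coe_inv]
      group
    rw [this, map_mul, map_inv]
    rfl
  have hcN : n⁻¹ * n' ∈ N := N.mul_mem (N.inv_mem hn) hn'
  have key : Ωr ⟨n⁻¹ * n', hcN⟩ ∈ τ.range := by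
    rw [← CommGroup.forall_monoidHom_apply_eq_one_iff (M := ℂ)]
    intro φ hφ
    obtain ⟨w, rfl⟩ := ev_surjective N hcomm μ φ
    have H : ∀ m ∈ N, cm (w : G) (cm x m) = 1 := by
      intro m hm
      have h1 := hφ (τ ⟨m, hm⟩) ⟨_, rfl⟩
      rw [hτ m hm, ev_apply] at h1
      have h2 : Ω ⟨cm x m, hcmN m hm⟩ w = 1 := h1
      rw [hΩ, Om_apply, ← map_one μ] at h2
      exact congrArg Subtype.val (hμ h2)
    have hD := cm_comm_of_forall N hcomm w.2 H
    have hz : cm x (w : G) ∈ center G := hcent _ (hcmN w w.2) hD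
    have g1 := hgood w w.2 hz
    have g2 := hgood' w w.2 hz
    have hcw : (w : G) * (n⁻¹ * n') = (n⁻¹ * n') * (w : G) := by
      have e : n⁻¹ * n' = (x * n)⁻¹ * (x * n') := by group
      rw [e]
      calc (w : G) * ((x * n)⁻¹ * (x * n'))
          = (x * n)⁻¹ * ((x * n) * (w : G)) * (x * n)⁻¹ * (x * n') := by group
        _ = (x * n)⁻¹ * ((w : G) * (x * n)) * (x * n)⁻¹ * (x * n') := by rw [g1]
        _ = (x * n)⁻¹ * ((w : G) * (x * n')) := by group
        _ = (x * n)⁻¹ * ((x * n') * (w : G)) := by rw [g2]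
        _ = (x * n)⁻¹ * (x * n') * (w : G) := by group
    rw [ev_apply]
    show Ω ⟨n⁻¹ * n', hcN⟩ w = 1
    rw [hΩ, Om_apply]
    have : (⟨cm (w : G) (n⁻¹ * n'), hcomm w w.2 _ hcN⟩ : ↥(center G)) = 1 := by
      apply Subtype.ext
      exact cm_eq_one_of_comm hcw
    rw [this, map_one]
  obtain ⟨⟨m, hm⟩, hmτ⟩ := key
  rw [hτ m hm] at hmτ
  -- Ω (cm x m) = Ω c
  have h3 : Ω (⟨cm x m, hcmN m hm⟩⁻¹ * ⟨n⁻¹ * n', hcN⟩) = 1 := by
    have h4 : Ω ⟨cm x m, hcmN m hm⟩ = Ω ⟨n⁻¹ * n', hcN⟩ := congrArg Subtype.val hmτ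
    rw [map_mul, map_inv, h4, inv_mul_cancel]
  have hz' : (cm x m)⁻¹ * (n⁻¹ * n') ∈ center G := by
    have := (Om_eq_one_iff N hcomm μ hcent hμ _).mp h3
    simpa using this
  refine ⟨m, hm, cm m n * cm n (cm x m) * ((cm x m)⁻¹ * (n⁻¹ * n')),
    (center G).mul_mem ((center G).mul_mem (hcomm m hm n hn) (hcomm n hn _ (hcmN m hm))) hz', ?_⟩
  simp only [cm]
  group

end Cfsg.Agent.Helper87.GoodConj
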