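import Mathlib

/-!
# (FAM) for helper91's S3486: groups of unbounded order with the spectrum of `S₈` (and `J₂`)

Mazurov's family: `H = V_A ⋊ A₈` where `V_A` is the heart of the permutation module
`Fin 8 → A` over an elementary abelian `2`-group `A` (sums-zero vectors modulo constants).
We realise it as the image of `{(v, g) | ∑ v = 0, g ∈ A₈}` in the quotient of the wreath product
`(Fin 8 → A) ⋊ S₈` by the central subgroup of constant vectors.
-/

set_option autoImplicit false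
set_option linter.unusedSectionVars false
set_option linter.unusedSimpArgs false

namespace Cfsg.Agent.Helper87.J2Spec

open Equiv Equiv.Perm

/-! ## The wreath product `(Fin 8 → A) ⋊ S₈` -/

section Wr

variable {A : Type} [AddCommGroup A]

/-- the permutation action on vectors -/
def act (g : Perm (Fin 8)) (v : Fin 8 → A) : Fin 8 → A := fun i => v (g⁻¹ i)

@[simp] theorem act_apply (g : Perm (Fin 8)) (v : Fin 8 → A) (i : Fin 8) :
    act g v i = v (g⁻¹ i) := rfl

theorem act_one (v : Fin 8 → A) : act 1 v = v := by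
  funext i; simp

theorem act_mul (g h : Perm (Fin 8)) (v : Fin 8 → A) : act (g * h) v = act g (act h v) := by
  funext i; simp [mul_inv_rev, Perm.mul_apply]

theorem act_add (g : Perm (Fin 8)) (v w : Fin 8 → A) : act g (v + w) = act g v + act g w := by
  funext i; simp

theorem act_zero (g : Perm (Fin 8)) : act g (0 : Fin 8 → A) = 0 := by
  funext i; simp

theorem act_neg (g : Perm (Fin 8)) (v : Fin 8 → A) : act g (-v) = - act g v := by
  funext i; simp

theorem act_sum (g : Perm (Fin 8)) {ι : Type} (s : Finset ι) (f : ι → Fin 8 → A) :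
    act g (∑ i ∈ s, f i) = ∑ i ∈ s, act g (f i) := by
  classical
  induction s using Finset.induction_on with
  | empty => simp [act_zero]
  | insert a s ha ih => rw [Finset.sum_insert ha, Finset.sum_insert ha, act_add, ih]

theorem sum_act (g : Perm (Fin 8)) (v : Fin 8 → A) : ∑ i, act g v i = ∑ i, v i := by
  simp only [act_apply]
  exact Equiv.sum_comp (g⁻¹ : Perm (Fin 8)) v

variable (A) in
/-- the wreath product `(Fin 8 → A) ⋊ S₈` -/
@[ext] structure Wr where
  /-- the vector part -/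
  v : Fin 8 → A
  /-- the permutation part -/
  g : Perm (Fin 8)

instance : Mul (Wr A) := ⟨fun x y => ⟨x.v + act x.g y.v, x.g * y.g⟩⟩
instance : One (Wr A) := ⟨⟨0, 1⟩⟩
instance : Inv (Wr A) := ⟨fun x => ⟨- act x.g⁻¹ x.v, x.g⁻¹⟩⟩

@[simp] theorem mul_v (x y : Wr A) : (x * y).v = x.v + act x.g y.v := rfl
@[simp] theorem mul_g (x y : Wr A) : (x * y).g = x.g * y.g := rfl
@[simp] theorem one_v : (1 : Wr A).v = 0 := rfl
@[simp] theorem one_g : (1 : Wr A).g = 1 := rfl
@[simp] theorem inv_v (x : Wr A) : (x⁻¹).v = - act x.g⁻¹ x.v := rfl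
@[simp] theorem inv_g (x : Wr A) : (x⁻¹).g = x.g⁻¹ := rfl

instance : Group (Wr A) where
  mul_assoc x y z := by
    apply Wr.ext
    · simp only [mul_v, mul_g, act_add, act_mul, add_assoc]
    · simp only [mul_g, mul_assoc]
  one_mul x := by
    apply Wr.ext
    · simp only [mul_v, one_v, one_g, act_one, zero_add]
    · simp only [mul_g, one_g, one_mul]
  mul_one x := by
    apply Wr.ext
    · simp only [mul_v, one_v, act_zero, add_zero]
    · simp only [mul_g, one_g, mul_one]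
  inv_mul_cancel x := by
    apply Wr.ext
    · simp only [mul_v, inv_v, inv_g, one_v, neg_add_cancel]
    · simp only [mul_g, inv_g, inv_mul_cancel, one_g]

theorem pow_v_g (x : Wr A) (n : ℕ) :
    (x ^ n).v = ∑ i ∈ Finset.range n, act (x.g ^ i) x.v ∧ (x ^ n).g = x.g ^ n := by
  induction n with
  | zero => simp
  | succ n ih =>
    rw [pow_succ, mul_v, mul_g, ih.1, ih.2, Finset.sum_range_succ, pow_succ]
    exact ⟨rfl, rfl⟩

theorem pow_g (x : Wr A) (n : ℕ) : (x ^ n).g = x.g ^ n := (pow_v_g x n).2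

theorem pow_v (x : Wr A) (n : ℕ) :
    (x ^ n).v = ∑ i ∈ Finset.range n, act (x.g ^ i) x.v := (pow_v_g x n).1

instance [Finite A] : Finite (Wr A) :=
  Finite.of_injective (fun x : Wr A => (x.v, x.g)) (by
    intro x y h
    simp only [Prod.mk.injEq] at h
    exact Wr.ext h.1 h.2)

/-- the central subgroup of the constant vectors -/
def Zc : Subgroup (Wr A) where
  carrier := {x | x.g = 1 ∧ ∀ i j, x.v i = x.v j}
  one_mem' := ⟨rfl, fun _ _ => rfl⟩
  mul_mem' := by
    rintro x y ⟨hx1, hx2⟩ ⟨hy1, hy2⟩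
    refine ⟨by simp [hx1, hy1], fun i j => ?_⟩
    simp only [mul_v, Pi.add_apply, act_apply]
    rw [hx2 i j, hy2 (x.g⁻¹ i) (x.g⁻¹ j)]
  inv_mem' := by
    rintro x ⟨hx1, hx2⟩
    refine ⟨by simp [hx1], fun i j => ?_⟩
    simp only [inv_v, Pi.neg_apply, act_apply]
    rw [hx2 _ (x.g⁻¹⁻¹ j)]

theorem mem_Zc {x : Wr A} : x ∈ Zc (A := A) ↔ x.g = 1 ∧ ∀ i j, x.v i = x.v j := Iff.rfl

instance : (Zc (A := A)).Normal := by
  constructor
  rintro z ⟨hz1, hz2⟩ x
  refine ⟨by simp [hz1], fun i j => ?_⟩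
  simp only [mul_v, inv_v, inv_g, Pi.add_apply, act_apply, Pi.neg_apply, mul_g, hz1, mul_one,
    mul_inv_cancel, inv_one, Perm.one_apply]
  rw [hz2 (x.g⁻¹ i) (x.g⁻¹ j)]
  simp

/-- the subgroup `E ⋊ A₈`: vectors of sum zero, even permutations -/
def Ht : Subgroup (Wr A) where
  carrier := {x | ∑ i, x.v i = 0 ∧ Perm.sign x.g = 1}
  one_mem' := ⟨by simp, by simp⟩
  mul_mem' := by
    rintro x y ⟨hx1, hx2⟩ ⟨hy1, hy2⟩
    refine ⟨?_, by simp [hx2, hy2]⟩
    simp only [mul_v, Pi.add_apply, Finset.sum_add_distrib, hx1, zero_add]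
    rw [sum_act, hy1]
  inv_mem' := by
    rintro x ⟨hx1, hx2⟩
    refine ⟨?_, by simp [hx2]⟩
    simp only [inv_v, Pi.neg_apply, Finset.sum_neg_distrib, neg_eq_zero]
    rw [sum_act, hx1]

theorem mem_Ht {x : Wr A} : x ∈ Ht (A := A) ↔ ∑ i, x.v i = 0 ∧ Perm.sign x.g = 1 := Iff.rfl

end Wr

/-! ## Orders in the quotient by the constants -/

section Ord

variable {A : Type} [AddCommGroup A]

/-- the norm vector `∑_{i < o(g)} gⁱ v` -/
noncomputable def nrm (x : Wr A) : Fin 8 → A := ∑ i ∈ Finset.range (orderOf x.g), act (x.g ^ i) x.v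

theorem pow_orderOf_g (x : Wr A) : x ^ orderOf x.g = ⟨nrm x, 1⟩ := by
  apply Wr.ext
  · exact pow_v x _
  · rw [pow_g, pow_orderOf_eq_one]

theorem act_nrm (x : Wr A) : act x.g (nrm x) = nrm x := by
  unfold nrm
  rw [act_sum]
  have h1 : ∀ i, act x.g (act (x.g ^ i) x.v) = act (x.g ^ (i + 1)) x.v := by
    intro i
    rw [← act_mul, pow_succ']
  simp only [h1]
  have h2 := Finset.sum_range_succ (fun i => act (x.g ^ i) x.v) (orderOf x.g)
  have h3 := Finset.sum_range_succ' (fun i => act (x.g ^ i) x.v) (orderOf x.g)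
  rw [h3] at h2
  simp only [pow_orderOf_eq_one, pow_zero] at h2
  exact add_right_cancel h2

theorem sum_nrm (x : Wr A) (h : ∑ i, x.v i = 0) : ∑ i, nrm x i = 0 := by
  unfold nrm
  simp only [Finset.sum_apply]
  rw [Finset.sum_comm]
  apply Finset.sum_eq_zero
  intro k _
  rw [sum_act, h]

/-- the quotient map -/
def pi : Wr A →* Wr A ⧸ Zc (A := A) := QuotientGroup.mk' Zc

theorem pi_eq_one_iff (x : Wr A) : pi x = 1 ↔ x.g = 1 ∧ ∀ i j, x.v i = x.v j := by
  unfold pi
  rw [QuotientGroup.mk'_apply, QuotientGroup.eq_one_iff]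
  exact mem_Zc

theorem orderOf_g_dvd_of_pi_pow {x : Wr A} {m : ℕ} (h : pi x ^ m = 1) : orderOf x.g ∣ m := by
  rw [← map_pow, pi_eq_one_iff, pow_g] at h
  exact orderOf_dvd_of_pow_eq_one h.1

theorem pi_pow_orderOf_iff (x : Wr A) :
    pi x ^ orderOf x.g = 1 ↔ ∀ i j, nrm x i = nrm x j := by
  rw [← map_pow, pi_eq_one_iff, pow_orderOf_g]
  simp

theorem pi_pow_two_mul (hA : ∀ a : A, a + a = 0) (x : Wr A) :
    pi x ^ (2 * orderOf x.g) = 1 := by
  rw [← map_pow, mul_comm, pow_mul, pow_orderOf_g, pi_eq_one_iff, pow_two]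
  refine ⟨by simp, fun i j => ?_⟩
  simp [act_one, hA]

theorem orderOf_pi_cases (hA : ∀ a : A, a + a = 0) (x : Wr A) :
    orderOf (pi x) = orderOf x.g ∨ orderOf (pi x) = 2 * orderOf x.g := by
  have h1 : orderOf x.g ∣ orderOf (pi x) := orderOf_g_dvd_of_pi_pow (pow_orderOf_eq_one _)
  have h2 : orderOf (pi x) ∣ 2 * orderOf x.g := orderOf_dvd_of_pow_eq_one (pi_pow_two_mul hA x)
  have hpos : 0 < orderOf x.g := orderOf_pos _
  obtain ⟨c, hc⟩ := h1
  rw [hc, mul_comm 2] at h2
  have h3 : c ∣ 2 := (Nat.mul_dvd_mul_iff_left hpos).mp h2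
  have h4 : c = 1 ∨ c = 2 := (Nat.dvd_prime Nat.prime_two).mp h3
  rcases h4 with rfl | rfl
  · left; rw [hc, mul_one]
  · right; rw [hc, mul_comm]

theorem orderOf_pi_of_const (x : Wr A)
    (h : ∀ i j, nrm x i = nrm x j) : orderOf (pi x) = orderOf x.g := by
  have h1 : orderOf x.g ∣ orderOf (pi x) := orderOf_g_dvd_of_pi_pow (pow_orderOf_eq_one _)
  have h2 : orderOf (pi x) ∣ orderOf x.g :=
    orderOf_dvd_of_pow_eq_one ((pi_pow_orderOf_iff x).mpr h)
  exact Nat.dvd_antisymm h2 h1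

theorem orderOf_pi_of_not_const (hA : ∀ a : A, a + a = 0) (x : Wr A)
    (h : ¬ ∀ i j, nrm x i = nrm x j) : orderOf (pi x) = 2 * orderOf x.g := by
  rcases orderOf_pi_cases hA x with h1 | h1
  · exfalso
    apply h
    rw [← pi_pow_orderOf_iff, ← h1]
    exact pow_orderOf_eq_one _
  · exact h1

end Ord

/-! ## Cycle types of the even permutations of `Fin 8` -/

section Cyc

/-- all multisets of naturals `≥ 2` of sum `≤ s` (with fuel) -/
def enumCT : ℕ → ℕ → List (Multiset ℕ)
  | 0, _ => [0]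
  | fuel + 1, s =>
    0 :: (List.range' 2 (s - 1)).flatMap (fun x => (enumCT fuel (s - x)).map (fun m => x ::ₘ m))

theorem mem_enumCT : ∀ (fuel s : ℕ) (m : Multiset ℕ), s ≤ fuel → (∀ x ∈ m, 2 ≤ x) → m.sum ≤ s →
    m ∈ enumCT fuel s := by
  intro fuel
  induction fuel with
  | zero =>
    intro s m hs h2 hsum
    have hm : m = 0 := by
      rcases Multiset.empty_or_exists_mem m with h | ⟨x, hx⟩
      · exact h
      · exfalso
        have h1 := h2 x hx
        have h3 : x ≤ m.sum := Multiset.single_le_sum (fun _ _ => Nat.zero_le _) x hx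
        omega
    simp [enumCT, hm]
  | succ fuel ih =>
    intro s m hs h2 hsum
    rcases Multiset.empty_or_exists_mem m with h | ⟨x, hx⟩
    · simp [enumCT, h]
    · obtain ⟨m', rfl⟩ := Multiset.exists_cons_of_mem hx
      have h1 := h2 x (Multiset.mem_cons_self x m')
      rw [Multiset.sum_cons] at hsum
      have hm' : m' ∈ enumCT fuel (s - x) := by
        apply ih
        · omega
        · intro y hy; exact h2 y (Multiset.mem_cons_of_mem hy)
        · omega
      simp only [enumCT, List.mem_cons, List.mem_flatMap, List.mem_map, List.mem_range']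
      right
      refine ⟨x, ⟨x - 2, by omega, by omega⟩, m', hm', rfl⟩

set_option maxRecDepth 100000 in
theorem enumCT_check : ∀ m ∈ enumCT 8 8, (m.map fun n => -(-1 : ℤˣ) ^ n).prod = 1 →
    (m.lcm ∈ ({1, 2, 3, 4, 5, 6} : Finset ℕ) ∨ m = {7} ∨ m = {5, 3}) := by
  decide

theorem even_perm_cases (g : Perm (Fin 8)) (hg : Perm.sign g = 1) :
    orderOf g ∈ ({1, 2, 3, 4, 5, 6} : Finset ℕ) ∨ g.cycleType = {7} ∨ g.cycleType = {5, 3} := by
  have hm : g.cycleType ∈ enumCT 8 8 := by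
    apply mem_enumCT 8 8 _ le_rfl
    · intro x hx; exact Perm.two_le_of_mem_cycleType hx
    · rw [Perm.sum_cycleType]
      exact (Finset.card_le_univ _).trans (by simp)
  have h := enumCT_check _ hm (by rw [← Perm.sign_of_cycleType']; exact hg)
  rwa [Perm.lcm_cycleType] at h

end Cyc

/-! ## Invariant vectors of the elements of orders `7` and `15` -/

section Inv

variable {A : Type} [AddCommGroup A]

theorem const_of_isConj {r g : Perm (Fin 8)} (hrg : IsConj r g)
    (hr : ∀ u : Fin 8 → A, (∀ i, u (r i) = u i) → ∑ i, u i = 0 → ∀ i j, u i = u j)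
    {u : Fin 8 → A} (hu : act g u = u) (hs : ∑ i, u i = 0) : ∀ i j, u i = u j := by
  obtain ⟨c, rfl⟩ := isConj_iff.mp hrg
  have h1 : ∀ i, u (c (r i)) = u (c i) := by
    intro i
    have := congrFun hu (c (r i))
    rw [act_apply] at this
    rw [← this]
    congr 1
    simp [Perm.mul_apply]
  have h2 : ∑ i, u (c i) = 0 := by
    rw [← hs]
    exact Equiv.sum_comp c u
  have h3 := hr (fun i => u (c i)) h1 h2
  intro i j
  have := h3 (c⁻¹ i) (c⁻¹ j)
  simpa using this

/-- the `7`-cycle -/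
def r7 : Perm (Fin 8) := c[0, 1, 2, 3, 4, 5, 6]

/-- the element of order `15` -/
def r15 : Perm (Fin 8) := c[0, 1, 2, 3, 4] * c[5, 6, 7]

theorem r7_const (hA : ∀ a : A, a + a = 0) (u : Fin 8 → A) (h : ∀ i, u (r7 i) = u i)
    (hs : ∑ i, u i = 0) : ∀ i j, u i = u j := by
  have h0 : u 1 = u 0 := by have := h 0; rwa [show r7 0 = 1 by decide] at this
  have h1 : u 2 = u 0 := by have := h 1; rw [show r7 1 = 2 by decide] at this; rw [this, h0]
  have h2 : u 3 = u 0 := by have := h 2; rw [show r7 2 = 3 by decide] at this; rw [this, h1]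
  have h3 : u 4 = u 0 := by have := h 3; rw [show r7 3 = 4 by decide] at this; rw [this, h2]
  have h4 : u 5 = u 0 := by have := h 4; rw [show r7 4 = 5 by decide] at this; rw [this, h3]
  have h5 : u 6 = u 0 := by have := h 5; rw [show r7 5 = 6 by decide] at this; rw [this, h4]
  rw [Fin.sum_univ_eight, h0, h1, h2, h3, h4, h5] at hs
  have e : u 0 + u 0 + u 0 + u 0 + u 0 + u 0 + u 0 + u 7
      = (u 0 + u 7) + ((u 0 + u 0) + (u 0 + u 0) + (u 0 + u 0)) := by abel
  rw [e] at hs
  simp only [hA, add_zero] at hs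
  have h6 : u 7 = u 0 := add_left_cancel (hs.trans (hA (u 0)).symm)
  have hall : ∀ i, u i = u 0 := by
    intro i
    fin_cases i
    exacts [rfl, h0, h1, h2, h3, h4, h5, h6]
  intro i j
  rw [hall i, hall j]

theorem r15_const (hA : ∀ a : A, a + a = 0) (u : Fin 8 → A) (h : ∀ i, u (r15 i) = u i)
    (hs : ∑ i, u i = 0) : ∀ i j, u i = u j := by
  have h0 : u 1 = u 0 := by have := h 0; rwa [show r15 0 = 1 by decide] at this
  have h1 : u 2 = u 0 := by have := h 1; rw [show r15 1 = 2 by decide] at this; rw [this, h0]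
  have h2 : u 3 = u 0 := by have := h 2; rw [show r15 2 = 3 by decide] at this; rw [this, h1]
  have h3 : u 4 = u 0 := by have := h 3; rw [show r15 3 = 4 by decide] at this; rw [this, h2]
  have h4 : u 6 = u 5 := by have := h 5; rwa [show r15 5 = 6 by decide] at this
  have h5 : u 7 = u 5 := by have := h 6; rw [show r15 6 = 7 by decide] at this; rw [this, h4]
  rw [Fin.sum_univ_eight, h0, h1, h2, h3, h4, h5] at hs
  have e : u 0 + u 0 + u 0 + u 0 + u 0 + u 5 + u 5 + u 5
      = (u 0 + u 5) + ((u 0 + u 0) + (u 0 + u 0) + (u 5 + u 5)) := by abel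
  rw [e] at hs
  simp only [hA, add_zero] at hs
  have h6 : u 5 = u 0 := add_left_cancel (hs.trans (hA (u 0)).symm)
  have hall : ∀ i, u i = u 0 := by
    intro i
    fin_cases i
    exacts [rfl, h0, h1, h2, h3, h6, h4.trans h6, h5.trans h6]
  intro i j
  rw [hall i, hall j]

theorem const_of_cycleType_seven (hA : ∀ a : A, a + a = 0) {g : Perm (Fin 8)}
    (hg : g.cycleType = {7}) {u : Fin 8 → A} (hu : act g u = u) (hs : ∑ i, u i = 0) :
    ∀ i j, u i = u j := by
  have hc : IsConj r7 g := by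
    rw [Perm.isConj_iff_cycleType_eq, hg]
    decide
  exact const_of_isConj hc (r7_const hA) hu hs

theorem const_of_cycleType_fifteen (hA : ∀ a : A, a + a = 0) {g : Perm (Fin 8)}
    (hg : g.cycleType = {5, 3}) {u : Fin 8 → A} (hu : act g u = u) (hs : ∑ i, u i = 0) :
    ∀ i j, u i = u j := by
  have hc : IsConj r15 g := by
    rw [Perm.isConj_iff_cycleType_eq, hg]
    decide
  exact const_of_isConj hc (r15_const hA) hu hs

end Inv

/-! ## The spectrum is contained in the spectrum of `S₈` -/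

section Spec

variable {A : Type} [AddCommGroup A]

theorem orderOf_of_cycleType {g : Perm (Fin 8)} {m : Multiset ℕ} (h : g.cycleType = m) :
    orderOf g = m.lcm := by
  rw [← Perm.lcm_cycleType, h]

theorem orderOf_pi_mem (hA : ∀ a : A, a + a = 0) (x : Wr A) (hx : x ∈ Ht (A := A)) :
    orderOf (pi x) ∈ ({1, 2, 3, 4, 5, 6, 7, 8, 10, 12, 15} : Set ℕ) := by
  obtain ⟨hx1, hx2⟩ := mem_Ht.mp hx
  rcases even_perm_cases x.g hx2 with h | h | h
  · simp only [Finset.mem_insert, Finset.mem_singleton] at h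
    simp only [Set.mem_insert_iff, Set.mem_singleton_iff]
    rcases orderOf_pi_cases hA x with h' | h' <;> rw [h'] <;> omega
  · have ho : orderOf x.g = 7 := by rw [orderOf_of_cycleType h]; rfl
    have hc := const_of_cycleType_seven hA h (act_nrm x) (sum_nrm x hx1)
    rw [orderOf_pi_of_const x hc, ho]
    simp
  · have ho : orderOf x.g = 15 := by rw [orderOf_of_cycleType h]; decide
    have hc := const_of_cycleType_fifteen hA h (act_nrm x) (sum_nrm x hx1)
    rw [orderOf_pi_of_const x hc, ho]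
    simp

end Spec

/-! ## Witnesses -/

section Wit

variable {A : Type} [AddCommGroup A]

/-- `a` at the coordinates `p`, `q` -/
def vec (a : A) (p q : Fin 8) : Fin 8 → A := fun i => if i = p ∨ i = q then a else 0

theorem odd_nsmul (hA : ∀ a : A, a + a = 0) (a : A) {n : ℕ} (hn : Odd n) : n • a = a := by
  obtain ⟨k, rfl⟩ := hn
  rw [add_nsmul, mul_comm, mul_nsmul, two_nsmul, hA]
  simp

theorem sum_vec (hA : ∀ a : A, a + a = 0) (a : A) {p q : Fin 8} (hpq : p ≠ q) :
    ∑ i, vec a p q i = 0 := by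
  unfold vec
  rw [Finset.sum_ite, Finset.sum_const, Finset.sum_const_zero, add_zero]
  have : (Finset.univ.filter fun i : Fin 8 => i = p ∨ i = q) = {p, q} := by
    ext i; simp
  rw [this, Finset.card_pair hpq, two_nsmul, hA]

theorem nrm_vec_apply (a : A) (p q : Fin 8) (g : Perm (Fin 8)) (j : Fin 8) :
    nrm ⟨vec a p q, g⟩ j =
      ((Finset.range (orderOf g)).filter
        (fun i => ((g ^ i)⁻¹ : Perm (Fin 8)) j = p ∨ ((g ^ i)⁻¹ : Perm (Fin 8)) j = q)).card • a := by
  unfold nrm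
  simp only [Finset.sum_apply, act_apply, vec]
  rw [Finset.sum_ite, Finset.sum_const, Finset.sum_const_zero, add_zero]

/-- elements `(0, g)` -/
theorem orderOf_pi_zero (g : Perm (Fin 8)) : orderOf (pi (⟨0, g⟩ : Wr A)) = orderOf g := by
  apply orderOf_pi_of_const
  intro i j
  unfold nrm
  simp [act_zero]

theorem zero_mem_Ht {g : Perm (Fin 8)} (hg : Perm.sign g = 1) : (⟨0, g⟩ : Wr A) ∈ Ht (A := A) :=
  mem_Ht.mpr ⟨by simp, hg⟩

theorem exists_order_of_perm {g : Perm (Fin 8)} (hg : Perm.sign g = 1) :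
    ∃ x ∈ Ht (A := A), orderOf (pi x) = orderOf g :=
  ⟨⟨0, g⟩, zero_mem_Ht hg, orderOf_pi_zero g⟩

theorem exists_order_two_mul (hA : ∀ a : A, a + a = 0) {a : A} (ha : a ≠ 0) {g : Perm (Fin 8)}
    (hg : Perm.sign g = 1) {p q : Fin 8} (hpq : p ≠ q) (j₁ j₂ : Fin 8)
    (h1 : Odd ((Finset.range (orderOf g)).filter
        (fun i => ((g ^ i)⁻¹ : Perm (Fin 8)) j₁ = p ∨ ((g ^ i)⁻¹ : Perm (Fin 8)) j₁ = q)).card)
    (h2 : ((Finset.range (orderOf g)).filter
        (fun i => ((g ^ i)⁻¹ : Perm (Fin 8)) j₂ = p ∨ ((g ^ i)⁻¹ : Perm (Fin 8)) j₂ = q)).card = 0) :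
    ∃ x ∈ Ht (A := A), orderOf (pi x) = 2 * orderOf g := by
  refine ⟨⟨vec a p q, g⟩, mem_Ht.mpr ⟨sum_vec hA a hpq, hg⟩, ?_⟩
  have := orderOf_pi_of_not_const hA (⟨vec a p q, g⟩ : Wr A) (by
    intro hc
    have h := hc j₁ j₂
    rw [nrm_vec_apply, nrm_vec_apply, h2, zero_nsmul, odd_nsmul hA a h1] at h
    exact ha h)
  exact this

/-- the witnesses in `A₈` -/
def w2 : Perm (Fin 8) := c[0, 1] * c[2, 3]
/-- order `3` -/
def w3 : Perm (Fin 8) := c[0, 1, 2]
/-- order `4` -/
def w4 : Perm (Fin 8) := c[0, 1, 2, 3] * c[4, 5]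
/-- order `5` -/
def w5 : Perm (Fin 8) := c[0, 1, 2, 3, 4]
/-- order `6` -/
def w6 : Perm (Fin 8) := c[0, 1, 2] * c[3, 4] * c[5, 6]

theorem orderOf_w2 : orderOf w2 = 2 := by
  rw [orderOf_of_cycleType (show w2.cycleType = {2, 2} by decide)]; decide
theorem orderOf_w3 : orderOf w3 = 3 := by
  rw [orderOf_of_cycleType (show w3.cycleType = {3} by decide)]; decide
theorem orderOf_w4 : orderOf w4 = 4 := by
  rw [orderOf_of_cycleType (show w4.cycleType = {4, 2} by decide)]; decide
theorem orderOf_w5 : orderOf w5 = 5 := by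
  rw [orderOf_of_cycleType (show w5.cycleType = {5} by decide)]; decide
theorem orderOf_w6 : orderOf w6 = 6 := by
  rw [orderOf_of_cycleType (show w6.cycleType = {3, 2, 2} by decide)]; decide
theorem orderOf_r7 : orderOf r7 = 7 := by
  rw [orderOf_of_cycleType (show r7.cycleType = {7} by decide)]; decide
theorem orderOf_r15 : orderOf r15 = 15 := by
  rw [orderOf_of_cycleType (show r15.cycleType = {5, 3} by decide)]; decide

set_option maxRecDepth 100000 in
theorem exists_of_mem (hA : ∀ a : A, a + a = 0) {a : A} (ha : a ≠ 0) {n : ℕ}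
    (hn : n ∈ ({1, 2, 3, 4, 5, 6, 7, 8, 10, 12, 15} : Set ℕ)) :
    ∃ x ∈ Ht (A := A), orderOf (pi x) = n := by
  simp only [Set.mem_insert_iff, Set.mem_singleton_iff] at hn
  rcases hn with rfl | rfl | rfl | rfl | rfl | rfl | rfl | rfl | rfl | rfl | rfl
  · obtain ⟨x, hx, h⟩ := exists_order_of_perm (A := A) (g := 1) (by simp)
    exact ⟨x, hx, by rw [h, orderOf_one]⟩
  · obtain ⟨x, hx, h⟩ := exists_order_of_perm (A := A) (g := w2) (by decide)
    exact ⟨x, hx, by rw [h, orderOf_w2]⟩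
  · obtain ⟨x, hx, h⟩ := exists_order_of_perm (A := A) (g := w3) (by decide)
    exact ⟨x, hx, by rw [h, orderOf_w3]⟩
  · obtain ⟨x, hx, h⟩ := exists_order_of_perm (A := A) (g := w4) (by decide)
    exact ⟨x, hx, by rw [h, orderOf_w4]⟩
  · obtain ⟨x, hx, h⟩ := exists_order_of_perm (A := A) (g := w5) (by decide)
    exact ⟨x, hx, by rw [h, orderOf_w5]⟩
  · obtain ⟨x, hx, h⟩ := exists_order_of_perm (A := A) (g := w6) (by decide)
    exact ⟨x, hx, by rw [h, orderOf_w6]⟩
  · obtain ⟨x, hx, h⟩ := exists_order_of_perm (A := A) (g := r7) (by decide)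
    exact ⟨x, hx, by rw [h, orderOf_r7]⟩
  · obtain ⟨x, hx, h⟩ := exists_order_two_mul hA ha (g := w4) (by decide) (p := 0) (q := 4)
      (by decide) 0 7 (by rw [orderOf_w4]; decide) (by rw [orderOf_w4]; decide)
    exact ⟨x, hx, by rw [h, orderOf_w4]⟩
  · obtain ⟨x, hx, h⟩ := exists_order_two_mul hA ha (g := w5) (by decide) (p := 0) (q := 5)
      (by decide) 0 7 (by rw [orderOf_w5]; decide) (by rw [orderOf_w5]; decide)
    exact ⟨x, hx, by rw [h, orderOf_w5]⟩
  · obtain ⟨x, hx, h⟩ := exists_order_two_mul hA ha (g := w6) (by decide) (p := 0) (q := 3)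
      (by decide) 3 7 (by rw [orderOf_w6]; decide) (by rw [orderOf_w6]; decide)
    exact ⟨x, hx, by rw [h, orderOf_w6]⟩
  · obtain ⟨x, hx, h⟩ := exists_order_of_perm (A := A) (g := r15) (by decide)
    exact ⟨x, hx, by rw [h, orderOf_r15]⟩

end Wit

/-! ## The family -/

section Fam

variable {A : Type} [AddCommGroup A]

/-- the group `V_A ⋊ A₈` -/
abbrev HA (A : Type) [AddCommGroup A] : Subgroup (Wr A ⧸ Zc (A := A)) := (Ht (A := A)).map pi

theorem range_orderOf_HA (hA : ∀ a : A, a + a = 0) {a : A} (ha : a ≠ 0) :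
    Set.range (orderOf : HA A → ℕ) = {1, 2, 3, 4, 5, 6, 7, 8, 10, 12, 15} := by
  ext n
  constructor
  · rintro ⟨⟨h, hh⟩, rfl⟩
    obtain ⟨x, hx, rfl⟩ := Subgroup.mem_map.mp hh
    rw [← Subgroup.orderOf_coe]
    exact orderOf_pi_mem hA x hx
  · intro hn
    obtain ⟨x, hx, hxn⟩ := exists_of_mem hA ha hn
    refine ⟨⟨pi x, Subgroup.mem_map_of_mem pi hx⟩, ?_⟩
    rw [← Subgroup.orderOf_coe]
    exact hxn

/-- an injection of `A` into the group -/
def iotaA (hA : ∀ a : A, a + a = 0) (a : A) : HA A :=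
  ⟨pi ⟨vec a 0 1, 1⟩, Subgroup.mem_map_of_mem pi (mem_Ht.mpr ⟨sum_vec hA a (by decide), by simp⟩)⟩

theorem iotaA_injective (hA : ∀ a : A, a + a = 0) : Function.Injective (iotaA hA) := by
  intro a b h
  have h1 : pi (⟨vec a 0 1, 1⟩ : Wr A) = pi ⟨vec b 0 1, 1⟩ := congrArg Subtype.val h
  have h2 : pi ((⟨vec a 0 1, 1⟩ : Wr A)⁻¹ * ⟨vec b 0 1, 1⟩) = 1 := by
    rw [map_mul, map_inv, h1, inv_mul_cancel]
  rw [pi_eq_one_iff] at h2
  have h3 := h2.2 0 7
  simp only [mul_v, inv_v, inv_g, inv_one, act_one, Pi.add_apply, Pi.neg_apply, vec] at h3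
  simp only [true_or, if_true, show ¬ ((7 : Fin 8) = 0 ∨ (7 : Fin 8) = 1) by decide, if_false,
    neg_zero, add_zero] at h3
  exact (neg_add_eq_zero.mp h3)

end Fam

/-- (FAM) groups of unbounded order with the spectrum of `S₈` -/
theorem exists_large_spectrum_S8 (N : ℕ) : ∃ (H : Type) (_ : Group H) (_ : Fintype H),
    N < Fintype.card H ∧
      Set.range (orderOf : H → ℕ) = {1, 2, 3, 4, 5, 6, 7, 8, 10, 12, 15} := by
  classical
  let A : Type := Fin (N + 1) → ZMod 2
  have hA : ∀ a : A, a + a = 0 := by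
    intro a
    funext i
    exact CharTwo.add_self_eq_zero (a i)
  have ha : (fun _ => 1 : A) ≠ 0 := by
    intro h
    have := congrFun h 0
    simp at this
  have : Finite (Wr A) := inferInstance
  refine ⟨HA A, inferInstance, Fintype.ofFinite _, ?_, range_orderOf_HA hA ha⟩
  have h1 : Fintype.card A ≤ @Fintype.card (HA A) (Fintype.ofFinite _) :=
    @Fintype.card_le_of_injective _ _ _ (Fintype.ofFinite _) (iotaA hA) (iotaA_injective hA)
  have h2 : Fintype.card A = 2 ^ (N + 1) := by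
    simp [A, ZMod.card]
  have h3 : N < 2 ^ (N + 1) := (Nat.lt_succ_self N).trans (Nat.lt_two_pow_self)
  omega

end Cfsg.Agent.Helper87.J2Spec
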