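import Mathlib
import Cfsg.Agent.Helper87.J2SpecFAM

/-!
# (S8) for helper91's S3485: the spectrum of `S₈`
-/

set_option autoImplicit false

namespace Cfsg.Agent.Helper87.J2Spec

open Equiv Equiv.Perm

set_option maxRecDepth 100000 in
theorem enumCT_check_lcm : ∀ m ∈ enumCT 8 8,
    m.lcm ∈ ({1, 2, 3, 4, 5, 6, 7, 8, 10, 12, 15} : Finset ℕ) := by
  decide

theorem orderOf_perm8_mem (g : Perm (Fin 8)) :
    orderOf g ∈ ({1, 2, 3, 4, 5, 6, 7, 8, 10, 12, 15} : Finset ℕ) := by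
  have hm : g.cycleType ∈ enumCT 8 8 := by
    apply mem_enumCT 8 8 _ le_rfl
    · intro x hx; exact Perm.two_le_of_mem_cycleType hx
    · rw [Perm.sum_cycleType]
      exact (Finset.card_le_univ _).trans (by simp)
  have h := enumCT_check_lcm _ hm
  rwa [Perm.lcm_cycleType] at h

/-- order `8` -/
def w8 : Perm (Fin 8) := c[0, 1, 2, 3, 4, 5, 6, 7]
/-- order `10` -/
def w10 : Perm (Fin 8) := c[0, 1, 2, 3, 4] * c[5, 6]
/-- order `12` -/
def w12 : Perm (Fin 8) := c[0, 1, 2, 3] * c[4, 5, 6]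

theorem orderOf_w8 : orderOf w8 = 8 := by
  rw [orderOf_of_cycleType (show w8.cycleType = {8} by decide)]; decide
theorem orderOf_w10 : orderOf w10 = 10 := by
  rw [orderOf_of_cycleType (show w10.cycleType = {5, 2} by decide)]; decide
theorem orderOf_w12 : orderOf w12 = 12 := by
  rw [orderOf_of_cycleType (show w12.cycleType = {4, 3} by decide)]; decide

/-- (S8) the spectrum of `S₈` -/
theorem range_orderOf_perm8 :
    Set.range (orderOf : Equiv.Perm (Fin 8) → ℕ) = {1, 2, 3, 4, 5, 6, 7, 8, 10, 12, 15} := by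
  ext n
  constructor
  · rintro ⟨g, rfl⟩
    have := orderOf_perm8_mem g
    simpa only [Finset.mem_insert, Finset.mem_singleton, Set.mem_insert_iff,
      Set.mem_singleton_iff] using this
  · intro hn
    simp only [Set.mem_insert_iff, Set.mem_singleton_iff] at hn
    rcases hn with rfl | rfl | rfl | rfl | rfl | rfl | rfl | rfl | rfl | rfl | rfl
    · exact ⟨1, orderOf_one⟩
    · exact ⟨w2, orderOf_w2⟩
    · exact ⟨w3, orderOf_w3⟩
    · exact ⟨w4, orderOf_w4⟩
    · exact ⟨w5, orderOf_w5⟩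
    · exact ⟨w6, orderOf_w6⟩
    · exact ⟨r7, orderOf_r7⟩
    · exact ⟨w8, orderOf_w8⟩
    · exact ⟨w10, orderOf_w10⟩
    · exact ⟨w12, orderOf_w12⟩
    · exact ⟨r15, orderOf_r15⟩

end Cfsg.Agent.Helper87.J2Spec
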