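import Cfsg.Agent.Helper84.KNormSys

set_option autoImplicit false

/-! # The `K`-normalizer system `N_F^K(Q)` as a fusion system over `N_S^K(Q)` (helper87)

`Helper84.KHom F Q K` gives the maps; here they are assembled into a `FusionSystem (NK S Q K)`.  Together with
`Helper84.KSystem_saturated` this gives a saturated fusion system whenever `Q` is fully `K`-normalized. -/

namespace Cfsg.Agent.Helper87.KNorm

open Cfsg Cfsg.FusionSystem Cfsg.Agent.Helper87 Cfsg.Agent.Helper84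

variable {Ω : Type*} [Group Ω] {S : Subgroup Ω}

theorem conj_mem_KHom (F : FusionSystem S) {Q : Subgroup Ω} (hQ : Q ≤ S) (K : Subgroup (MulAut Q)) {P : Subgroup Ω}
    {g : Ω} (hP : P ≤ NK S Q K) (hg : g ∈ NK S Q K) : conjHom P g ∈ KHom F Q K P := by
  obtain ⟨hgS, hgN, hgK⟩ := (mem_NK_iff S Q K g).mp hg
  have hPS : P ≤ S := hP.trans (NK_le S Q K)
  refine ⟨F.conj_mem hPS hgS, hP, fun x => ?_, conjHom (P ⊔ Q) g, F.conj_mem (sup_le hPS hQ) hgS, fun x => rfl,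
    conjAut Q g hgN, hgK, fun x => rfl⟩
  exact (NK S Q K).mul_mem ((NK S Q K).mul_mem hg (hP x.2)) ((NK S Q K).inv_mem hg)

theorem comp_mem_KHom (F : FusionSystem S) {Q : Subgroup Ω} (K : Subgroup (MulAut Q)) {P P' : Subgroup Ω}
    {φ : P →* Ω} {ψ : P' →* Ω} (hφ : φ ∈ KHom F Q K P) (hψ : ψ ∈ KHom F Q K P') (h : ∀ x : P, φ x ∈ P') :
    ψ.comp (φ.codRestrict P' h) ∈ KHom F Q K P := by
  obtain ⟨hφF, hPN, hφN, φ', hφ', hφext, κ₁, hκ₁, hφQ⟩ := hφ
  obtain ⟨hψF, hP'N, hψN, ψ', hψ', hψext, κ₂, hκ₂, hψQ⟩ := hψ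
  have h' : ∀ x : ↥(P ⊔ Q), φ' x ∈ P' ⊔ Q := by
    refine map_sup_mem φ' (fun x => ?_) (fun x => ?_)
    · rw [hφext]; exact h x
    · rw [hφQ]; exact (κ₁ x).2
  refine ⟨F.comp_mem hφF hψF h, hPN, fun x => hψN _, ψ'.comp (φ'.codRestrict (P' ⊔ Q) h'),
    F.comp_mem hφ' hψ' h', fun x => ?_, κ₂ * κ₁, K.mul_mem hκ₂ hκ₁, fun x => ?_⟩
  · show ψ' _ = ψ _
    rw [← hψext]
    congr 1
    apply Subtype.ext
    show φ' _ = φ x
    exact hφext x
  · show ψ' _ = _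
    have : (φ'.codRestrict (P' ⊔ Q) h') (Subgroup.inclusion le_sup_right x) =
        Subgroup.inclusion le_sup_right (κ₁ x) := Subtype.ext (hφQ x)
    rw [this, hψQ]
    rfl

theorem inv_mem_KHom (F : FusionSystem S) {Q : Subgroup Ω} (K : Subgroup (MulAut Q)) {P : Subgroup Ω} {φ : P →* Ω}
    (hφ : φ ∈ KHom F Q K P) : ∃ ψ ∈ KHom F Q K φ.range, ∀ x : P, ψ ⟨φ x, ⟨x, rfl⟩⟩ = (x : Ω) := by
  obtain ⟨hφF, hPN, hφN, φ', hφ', hφext, κ, hκ, hφQ⟩ := hφ
  obtain ⟨ψ, hψ, hψinv⟩ := F.inv_mem hφF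
  obtain ⟨ψ', hψ', hψ'inv⟩ := F.inv_mem hφ'
  have hle : φ.range ⊔ Q ≤ φ'.range := by
    refine sup_le ?_ ?_
    · rintro _ ⟨x, rfl⟩
      exact ⟨_, hφext x⟩
    · intro y hy
      refine ⟨Subgroup.inclusion le_sup_right (κ⁻¹ ⟨y, hy⟩), ?_⟩
      rw [hφQ, MulAut.apply_inv_self]
  refine ⟨ψ, ⟨hψ, ?_, ?_, ψ'.comp (Subgroup.inclusion hle), Cfsg.Agent.Helper87.restrict_mem F hψ' hle, ?_,
    κ⁻¹, K.inv_mem hκ, ?_⟩, hψinv⟩
  · rintro _ ⟨x, rfl⟩
    exact hφN x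
  · rintro ⟨_, x, rfl⟩
    rw [hψinv]
    exact hPN x.2
  · rintro ⟨_, x, rfl⟩
    rw [hψinv]
    have : (Subgroup.inclusion hle (Subgroup.inclusion le_sup_left (⟨φ x, ⟨x, rfl⟩⟩ : φ.range))) =
        ⟨φ' (Subgroup.inclusion le_sup_left x), ⟨_, rfl⟩⟩ := Subtype.ext (hφext x).symm
    show ψ' _ = _
    rw [this, hψ'inv]
    rfl
  · intro y
    have : Subgroup.inclusion hle (Subgroup.inclusion le_sup_right y) =
        ⟨φ' (Subgroup.inclusion le_sup_right (κ⁻¹ y)), ⟨_, rfl⟩⟩ := by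
      apply Subtype.ext
      show (y : Ω) = φ' _
      rw [hφQ, MulAut.apply_inv_self]
    show ψ' _ = _
    rw [this, hψ'inv]
    rfl

/-- The `K`-normalizer system of `Q ≤ S`, as a fusion system over `N_S^K(Q)`. -/
def kNormSystem (F : FusionSystem S) (Q : Subgroup Ω) (hQ : Q ≤ S) (K : Subgroup (MulAut Q)) :
    FusionSystem (NK S Q K) where
  Hom P := KHom F Q K P
  le_of_mem h := ⟨h.2.1, h.2.2.1⟩
  injective_of_mem h := F.injective_of_mem h.1
  conj_mem hP hg := conj_mem_KHom F hQ K hP hg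
  comp_mem hφ hψ h := comp_mem_KHom F K hφ hψ h
  inv_mem hφ := inv_mem_KHom F K hφ

theorem kNormSystem_hom (F : FusionSystem S) (Q : Subgroup Ω) (hQ : Q ≤ S) (K : Subgroup (MulAut Q)) (P : Subgroup Ω) :
    (kNormSystem F Q hQ K).Hom P = KHom F Q K P := rfl

theorem kNormSystem_hom_subset (F : FusionSystem S) (Q : Subgroup Ω) (hQ : Q ≤ S) (K : Subgroup (MulAut Q))
    (P : Subgroup Ω) : (kNormSystem F Q hQ K).Hom P ⊆ F.Hom P := fun _ h => h.1

/-- If `K ≤ Aut_S(Q)` and `Q` is receptive, then `Q` is fully `K`-normalized. -/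
theorem isFullyKNormalized_of_le_autInducedBy [Finite S] {p : ℕ} [Fact p.Prime] (hS : IsPGroup p S) (F : FusionSystem S)
    {Q : Subgroup Ω} (K : Subgroup (MulAut Q)) (hrec : F.IsReceptive Q) (hK : K ≤ autInducedBy S Q) :
    IsFullyKNormalized F Q K := by
  apply isFullyKNormalized_of_receptive hS F K hrec
  unfold IsKAutomized
  have h1 : K ⊓ autInducedBy S Q = K := inf_eq_left.mpr hK
  have h2 : K ⊓ F.autGroup Q = K := inf_eq_left.mpr (hK.trans (autInducedBy_le_autGroup F hrec.1))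
  rw [h1, h2, Subgroup.relIndex_self]
  exact (Fact.out : p.Prime).one_lt.ne' ∘ Nat.dvd_one.mp

/-- The `K`-normalizer system of a receptive subgroup for `K ≤ Aut_S(Q)` is saturated. -/
theorem kNormSystem_saturated [Finite S] {p : ℕ} [Fact p.Prime] (hS : IsPGroup p S) (F : FusionSystem S)
    (hF : F.IsSaturated p) {Q : Subgroup Ω} (K : Subgroup (MulAut Q)) (hrec : F.IsReceptive Q)
    (hK : K ≤ autInducedBy S Q) : (kNormSystem F Q hrec.1 K).IsSaturated p :=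
  KSystem_saturated hS F hF K (isFullyKNormalized_of_le_autInducedBy hS F K hrec hK) rfl _ (fun _ => rfl)

end Cfsg.Agent.Helper87.KNorm
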