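import Mathlib
import Cfsg.Prelude.Def_LocalStructure
import Cfsg.Agent.Helper21.Quasisimple
import Cfsg.Agent.Helper70.Commutator

/-!
# Quasisimple sections (tools for S2860)
-/

set_option autoImplicit false

namespace Cfsg.Agent.Helper87.LargeQS

open Cfsg Cfsg.Agent.Helper21
open scoped commutatorElement

section QS

variable {X : Type*} [Group X]

/-- A quasisimple subgroup is perfect. -/
theorem qs_comm_self {L : Subgroup X} (hL : IsQuasisimple ↥L) : ⁅L, L⁆ = L := by
  haveI := hL.1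
  exact Subgroup.commutator_eq_self

/-- A subgroup of a quasisimple subgroup `L` normalized by `L` is `L` or centralized by `L`. -/
theorem qs_normal_dichotomy {L : Subgroup X} (hL : IsQuasisimple ↥L) {N : Subgroup X}
    (hNL : N ≤ L) (hLN : L ≤ Subgroup.normalizer (N : Set X)) : N = L ∨ ⁅N, L⁆ = ⊥ := by
  haveI : (N.subgroupOf L).Normal :=
    (Subgroup.normal_subgroupOf_iff_le_normalizer hNL).mpr hLN
  rcases IsQuasisimple.normal_eq_top_or_le_center hL (N.subgroupOf L) with h | h
  · left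
    apply le_antisymm hNL
    rw [Subgroup.subgroupOf_eq_top] at h
    exact h
  · right
    rw [Subgroup.commutator_eq_bot_iff_le_centralizer]
    intro n hn l hl
    have h1 : (⟨n, hNL hn⟩ : ↥L) ∈ Subgroup.center ↥L := h (Subgroup.mem_subgroupOf.mpr hn)
    have h2 := Subgroup.mem_center_iff.mp h1 ⟨l, hl⟩
    exact congrArg Subtype.val h2

/-- If `[L,B]` is centralized by the quasisimple `L` then `B` centralizes `L`. -/
theorem qs_comm_eq_bot {L : Subgroup X} (hL : IsQuasisimple ↥L) {B : Subgroup X}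
    (h : ⁅⁅L, B⁆, L⁆ = ⊥) : ⁅L, B⁆ = ⊥ := by
  have h1 : ⁅⁅B, L⁆, L⁆ = ⊥ := by rw [Subgroup.commutator_comm B L]; exact h
  have h2 := Subgroup.commutator_commutator_eq_bot_of_rotate (H₁ := L) (H₂ := L) (H₃ := B) h h1
  rwa [qs_comm_self hL] at h2

/-- Perfect, nontrivial, every normal subgroup is everything or central: quasisimple. -/
theorem isQuasisimple_of_forall_normal [hP : Group.IsPerfect X] [Nontrivial X]
    (h : ∀ N : Subgroup X, N.Normal → N = ⊤ ∨ N ≤ Subgroup.center X) : IsQuasisimple X := by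
  refine ⟨hP, ?_⟩
  have hne : Subgroup.center X ≠ ⊤ := by
    intro htop
    have hc : ∀ a b : X, a * b = b * a := fun a b =>
      (Subgroup.mem_center_iff.mp (htop ▸ Subgroup.mem_top b) a)
    have : commutator X = ⊥ := by
      rw [commutator_def, Subgroup.commutator_eq_bot_iff_le_centralizer]
      intro a _ b _
      exact hc b a
    rw [hP.commutator_eq_top] at this
    exact top_ne_bot this
  haveI : Nontrivial (X ⧸ Subgroup.center X) := by
    rw [← not_subsingleton_iff_nontrivial]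
    intro hs
    apply hne
    rw [eq_top_iff]
    intro x _
    have : (QuotientGroup.mk' (Subgroup.center X)) x = 1 := Subsingleton.elim _ _
    rwa [QuotientGroup.mk'_apply, QuotientGroup.eq_one_iff] at this
  refine ⟨fun M hM => ?_⟩
  have hcn : (M.comap (QuotientGroup.mk' (Subgroup.center X))).Normal := hM.comap _
  rcases h _ hcn with h1 | h1
  · right
    rw [eq_top_iff]
    intro y _
    obtain ⟨x, rfl⟩ := QuotientGroup.mk'_surjective (Subgroup.center X) y
    have : x ∈ M.comap (QuotientGroup.mk' (Subgroup.center X)) := h1 ▸ Subgroup.mem_top x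
    exact this
  · left
    rw [eq_bot_iff]
    intro y hy
    obtain ⟨x, rfl⟩ := QuotientGroup.mk'_surjective (Subgroup.center X) y
    have hx : x ∈ Subgroup.center X := h1 hy
    rw [Subgroup.mem_bot, QuotientGroup.mk'_apply, QuotientGroup.eq_one_iff]
    exact hx

/-- `m` maps into the centre of `X ⧸ N` iff all commutators with `m` lie in `N`. -/
theorem mk_mem_center_iff (N : Subgroup X) [N.Normal] (m : X) :
    (QuotientGroup.mk' N m) ∈ Subgroup.center (X ⧸ N) ↔ ∀ y : X, ⁅y, m⁆ ∈ N := by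
  rw [Subgroup.mem_center_iff]
  constructor
  · intro h y
    have h1 := h (QuotientGroup.mk' N y)
    rw [← map_mul, ← map_mul] at h1
    have h2 : (QuotientGroup.mk' N) ⁅y, m⁆ = 1 := by
      rw [commutatorElement_def, map_mul, map_mul, h1, map_mul, map_inv, map_inv]
      group
    rwa [QuotientGroup.mk'_apply, QuotientGroup.eq_one_iff] at h2
  · intro h g
    obtain ⟨y, rfl⟩ := QuotientGroup.mk'_surjective N g
    have h1 : (QuotientGroup.mk' N) ⁅y, m⁆ = 1 := by
      rw [QuotientGroup.mk'_apply, QuotientGroup.eq_one_iff]; exact h y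
    rw [commutatorElement_def, map_mul, map_mul, map_mul, map_inv, map_inv] at h1
    calc (QuotientGroup.mk' N) y * (QuotientGroup.mk' N) m
        = ((QuotientGroup.mk' N) y * (QuotientGroup.mk' N) m * ((QuotientGroup.mk' N) y)⁻¹ *
            ((QuotientGroup.mk' N) m)⁻¹) * ((QuotientGroup.mk' N) m * (QuotientGroup.mk' N) y) := by
          group
      _ = (QuotientGroup.mk' N) m * (QuotientGroup.mk' N) y := by rw [h1, one_mul]

/-- Transfer of quasisimplicity to a central extension quotient: `X` perfect, `N₁ ≤ N₂` normal,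
`[N₂, X] ≤ N₁`, `X/N₂` quasisimple; then `X/N₁` is quasisimple. -/
theorem isQuasisimple_quotient_of_le [hP : Group.IsPerfect X] (N₁ N₂ : Subgroup X) [N₁.Normal]
    [N₂.Normal] (h12 : N₁ ≤ N₂) (hc : ⁅N₂, (⊤ : Subgroup X)⁆ ≤ N₁)
    (hq : IsQuasisimple (X ⧸ N₂)) : IsQuasisimple (X ⧸ N₁) := by
  haveI : Nontrivial (X ⧸ N₂) := IsQuasisimple.nontrivial hq
  haveI : Nontrivial (X ⧸ N₁) := by
    rw [← not_subsingleton_iff_nontrivial]
    intro hs
    have h1 : N₁ = ⊤ := by
      rw [eq_top_iff]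
      intro x _
      have : (QuotientGroup.mk' N₁) x = 1 := Subsingleton.elim _ _
      rwa [QuotientGroup.mk'_apply, QuotientGroup.eq_one_iff] at this
    have h2 : N₂ = ⊤ := top_le_iff.mp (h1 ▸ h12)
    obtain ⟨a, b, hab⟩ := exists_pair_ne (X ⧸ N₂)
    apply hab
    obtain ⟨x, rfl⟩ := QuotientGroup.mk'_surjective N₂ a
    obtain ⟨y, rfl⟩ := QuotientGroup.mk'_surjective N₂ b
    rw [QuotientGroup.mk'_apply, QuotientGroup.mk'_apply, QuotientGroup.eq]
    rw [h2]; exact Subgroup.mem_top _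
  have htop : ⁅(⊤ : Subgroup X), (⊤ : Subgroup X)⁆ = ⊤ := by
    rw [← commutator_def]; exact hP.commutator_eq_top
  apply isQuasisimple_of_forall_normal
  intro M hM
  set M' : Subgroup X := M.comap (QuotientGroup.mk' N₁) with hM'
  haveI hM'n : M'.Normal := hM.comap _
  have hN₁M' : N₁ ≤ M' := by
    intro x hx
    show (QuotientGroup.mk' N₁) x ∈ M
    have : (QuotientGroup.mk' N₁) x = 1 := by
      rw [QuotientGroup.mk'_apply, QuotientGroup.eq_one_iff]; exact hx
    rw [this]; exact one_mem _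
  have hMM' : M'.map (QuotientGroup.mk' N₁) = M :=
    Subgroup.map_comap_eq_self_of_surjective (QuotientGroup.mk'_surjective N₁) M
  haveI hn2 : (M'.map (QuotientGroup.mk' N₂)).Normal :=
    hM'n.map _ (QuotientGroup.mk'_surjective N₂)
  rcases IsQuasisimple.normal_eq_top_or_le_center hq (M'.map (QuotientGroup.mk' N₂)) with h | h
  · left
    have hsup : M' ⊔ N₂ = ⊤ := by
      have := congrArg (Subgroup.comap (QuotientGroup.mk' N₂)) h
      rwa [Subgroup.comap_map_eq, QuotientGroup.ker_mk', Subgroup.comap_top] at this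
    have h1 : ⁅M' ⊔ N₂, (⊤ : Subgroup X)⁆ ≤ M' :=
      Cfsg.Agent.Helper70.sup_commutator_le ⊤ M' N₂ M'
        (Subgroup.commutator_le_left M' ⊤) (hc.trans hN₁M')
    rw [hsup, htop] at h1
    have h2 : M' = ⊤ := top_le_iff.mp h1
    rw [← hMM', h2, eq_top_iff]
    intro y _
    obtain ⟨x, rfl⟩ := QuotientGroup.mk'_surjective N₁ y
    exact Subgroup.mem_map_of_mem _ (Subgroup.mem_top x)
  · right
    have h1 : ⁅M', (⊤ : Subgroup X)⁆ ≤ N₂ := by
      rw [Subgroup.commutator_le]
      intro m hm y _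
      have hm2 := h (Subgroup.mem_map_of_mem (QuotientGroup.mk' N₂) hm)
      have := (mk_mem_center_iff N₂ m).mp hm2 y
      rw [← Subgroup.inv_mem_iff, commutatorElement_inv] at this
      exact this
    have h2 : ⁅⁅M', (⊤ : Subgroup X)⁆, (⊤ : Subgroup X)⁆ ≤ N₁ :=
      (Subgroup.commutator_mono h1 le_rfl).trans hc
    have h3 : ⁅⁅(⊤ : Subgroup X), M'⁆, (⊤ : Subgroup X)⁆ ≤ N₁ := by
      rw [Subgroup.commutator_comm ⊤ M']; exact h2
    have h4 := Cfsg.Agent.Helper70.three_subgroups_mod N₁ ⊤ ⊤ M' h3 h2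
    rw [htop] at h4
    rw [← hMM']
    rintro _ ⟨m, hm, rfl⟩
    rw [mk_mem_center_iff]
    intro y
    exact h4 (Subgroup.commutator_mem_commutator (Subgroup.mem_top y) hm)

end QS

section Bar

variable {G : Type*} [Group G] (E CU : Subgroup G) [hn : (CU.subgroupOf E).Normal]

/-- image of `A ∩ E` in `E / C_E(U)`. -/
def bar (A : Subgroup G) : Subgroup (↥E ⧸ CU.subgroupOf E) :=
  (A.subgroupOf E).map (QuotientGroup.mk' (CU.subgroupOf E))

theorem bar_mono {A B : Subgroup G} (h : A ≤ B) : bar E CU A ≤ bar E CU B :=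
  Subgroup.map_mono (Subgroup.subgroupOf_mono E h)

omit hn in
theorem commutator_le_of_le {A B : Subgroup G} (hA : A ≤ E) (hB : B ≤ E) : ⁅A, B⁆ ≤ E := by
  rw [Subgroup.commutator_le]
  intro a ha b hb
  exact E.mul_mem (E.mul_mem (E.mul_mem (hA ha) (hB hb)) (E.inv_mem (hA ha))) (E.inv_mem (hB hb))

omit hn in
theorem subgroupOf_commutator {A B : Subgroup G} (hA : A ≤ E) (hB : B ≤ E) :
    (⁅A, B⁆).subgroupOf E = ⁅A.subgroupOf E, B.subgroupOf E⁆ := by
  apply Subgroup.map_injective E.subtype_injective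
  rw [Subgroup.map_commutator, Subgroup.map_subgroupOf_eq_of_le hA,
    Subgroup.map_subgroupOf_eq_of_le hB,
    Subgroup.map_subgroupOf_eq_of_le (commutator_le_of_le E hA hB)]

theorem bar_commutator {A B : Subgroup G} (hA : A ≤ E) (hB : B ≤ E) :
    bar E CU ⁅A, B⁆ = ⁅bar E CU A, bar E CU B⁆ := by
  unfold bar
  rw [subgroupOf_commutator E hA hB, Subgroup.map_commutator]

theorem bar_le_bar_iff {A B : Subgroup G} (hA : A ≤ E) (hB : B ≤ E) :
    bar E CU A ≤ bar E CU B ↔ A ≤ B ⊔ (E ⊓ CU) := by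
  unfold bar
  rw [Subgroup.map_le_iff_le_comap, Subgroup.comap_map_eq, QuotientGroup.ker_mk']
  constructor
  · intro h a ha
    have h1 : (⟨a, hA ha⟩ : ↥E) ∈ B.subgroupOf E ⊔ CU.subgroupOf E :=
      h (Subgroup.mem_subgroupOf.mpr ha)
    rw [Subgroup.mem_sup_of_normal_right] at h1
    obtain ⟨b, hb, c, hc, e⟩ := h1
    have e' : (b : G) * (c : G) = a := congrArg Subtype.val e
    rw [← e']
    exact Subgroup.mul_mem_sup (Subgroup.mem_subgroupOf.mp hb)
      ⟨c.2, Subgroup.mem_subgroupOf.mp hc⟩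
  · intro h a ha
    have ha' : (a : G) ∈ B ⊔ (E ⊓ CU) := h (Subgroup.mem_subgroupOf.mp ha)
    have hle : B ⊔ (E ⊓ CU) ≤ (B.subgroupOf E ⊔ CU.subgroupOf E).map E.subtype := by
      rw [Subgroup.map_sup, Subgroup.map_subgroupOf_eq_of_le hB, Subgroup.subgroupOf_map_subtype,
        inf_comm]
    obtain ⟨x, hx, e⟩ := hle ha'
    have : x = a := Subtype.ext e
    rwa [this] at hx

theorem bar_eq_bot_iff {A : Subgroup G} (hA : A ≤ E) : bar E CU A = ⊥ ↔ A ≤ CU := by
  unfold bar
  rw [Subgroup.map_eq_bot_iff, QuotientGroup.ker_mk']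
  constructor
  · intro h a ha
    exact Subgroup.mem_subgroupOf.mp (h (Subgroup.mem_subgroupOf.mpr (show ((⟨a, hA ha⟩ : ↥E) : G) ∈ A from ha)))
  · intro h a ha
    exact Subgroup.mem_subgroupOf.mpr (h (Subgroup.mem_subgroupOf.mp ha))

theorem bar_normal {A : Subgroup G} (hA : A ≤ E) (hEA : E ≤ Subgroup.normalizer (A : Set G)) :
    (bar E CU A).Normal := by
  haveI : (A.subgroupOf E).Normal := (Subgroup.normal_subgroupOf_iff_le_normalizer hA).mpr hEA
  exact Subgroup.Normal.map inferInstance _ (QuotientGroup.mk'_surjective _)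

theorem bar_sup {A B : Subgroup G} (hA : A ≤ E) (hB : B ≤ E) :
    bar E CU (A ⊔ B) = bar E CU A ⊔ bar E CU B := by
  unfold bar
  rw [Subgroup.subgroupOf_sup hA hB, Subgroup.map_sup]

theorem bar_isPGroup {p : ℕ} {A : Subgroup G} (hA : IsPGroup p A) : IsPGroup p (bar E CU A) := by
  unfold bar
  exact (hA.comap_subtype).map _

theorem bar_self : bar E CU E = ⊤ := by
  unfold bar
  rw [Subgroup.subgroupOf_self, ← MonoidHom.range_eq_map, MonoidHom.range_eq_top]
  exact QuotientGroup.mk'_surjective _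

end Bar

end Cfsg.Agent.Helper87.LargeQS
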