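import Mathlib
import Cfsg.Prelude.Def_LocalStructure
import Cfsg.Agent.Helper87.LargeQS
import Cfsg.Agent.Helper87.WCFactor
import Cfsg.Agent.Helper21.LargeSub
import Cfsg.Agent.Helper87.AsymH3

/-!
# S2860: the quasisimple section of a large subgroup on a module (core argument)
-/

set_option autoImplicit false

namespace Cfsg.Agent.Helper87.LargeQS

open Cfsg Cfsg.Agent.Helper21 Cfsg.Agent.Helper46 Cfsg.Agent.Helper47 Cfsg.Agent.Helper48
open Cfsg.Agent.Helper51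
open Cfsg.Agent.Helper87.WCF
open scoped commutatorElement

variable {G : Type*} [Group G] [Finite G] {p : ℕ} [Fact p.Prime] {Q E CU : Subgroup G}

/-- `E ≤ N(E ∩ CU)` when `CU ∩ E` is normal in `E`. -/
theorem le_normalizer_inf_of_normal [hn : (CU.subgroupOf E).Normal] :
    E ≤ Subgroup.normalizer ((E ⊓ CU : Subgroup G) : Set G) := by
  intro e he
  apply mem_normalizer_of_conjSub_le
  rintro _ ⟨x, hx, rfl⟩
  have h1 : (⟨x, hx.1⟩ : ↥E) ∈ CU.subgroupOf E := Subgroup.mem_subgroupOf.mpr hx.2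
  have h2 := hn.conj_mem _ h1 ⟨e, he⟩
  refine ⟨E.mul_mem (E.mul_mem he hx.1) (E.inv_mem he), ?_⟩
  exact Subgroup.mem_subgroupOf.mp h2

/-- Step A1: `Q` does not centralize `O^p(E)` modulo `CU`. -/
theorem not_comm_le (hQp : IsPGroup p Q) (hwc : Cfsg.IsWeaklyClosedSubgroup p Q) (hQE : Q ≤ E)
    (hCQ : CU ≤ Subgroup.normalizer (Q : Set G))
    (hQn : ¬ E ≤ Subgroup.normalizer (Q : Set G)) : ¬ ⁅opOf p E, Q⁆ ≤ CU := by
  intro h
  apply hQn
  obtain ⟨S, hS⟩ := exists_sylow_ge_in hQp hQE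
  have hsup := opOf_sup_sylow (p := p) E S
  rw [← hsup]
  apply sup_le
  · intro k hk
    rw [← conjSub_eq_self_iff]
    have h1 : conjSub k Q ≤ Q ⊔ ⁅opOf p E, Q⁆ := conjSub_le_comm_sup hk
    have h2 : conjSub k Q ≤ Subgroup.normalizer (Q : Set G) :=
      h1.trans (sup_le Subgroup.le_normalizer (h.trans hCQ))
    have hRp : IsPGroup p ↥(Q ⊔ conjSub k Q) :=
      IsPGroup.to_sup_of_normal_left' hQp (isPGroup_conjSub hQp) h2
    exact wc_conj_eq_of_le hwc hRp le_sup_left le_sup_right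
  · intro t ht
    rw [← conjSub_eq_self_iff]
    exact wc_conj_eq_of_le hwc (S.2.map _) hS (conjSub_le_of_mem hS ht)

/-- Basic containments. -/
theorem wcY_le_of_le (hQE : Q ≤ E) : wcY Q E ≤ E := (wcY_le Q E).trans (sup_le le_rfl hQE)

theorem le_normalizer_wcY' : E ≤ Subgroup.normalizer ((wcY Q E : Subgroup G) : Set G) :=
  le_sup_left.trans (le_normalizer_wcY Q E)

/-- Steps A2, A3: `O^p(E) ≤ E_∘ C_E(U)`. -/
theorem opOf_le_sup [hn : (CU.subgroupOf E).Normal] (hQp : IsPGroup p Q)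
    (hwc : Cfsg.IsWeaklyClosedSubgroup p Q) (hQE : Q ≤ E)
    (hCQ : CU ≤ Subgroup.normalizer (Q : Set G))
    (hQn : ¬ E ≤ Subgroup.normalizer (Q : Set G))
    (hqs : IsQuasisimple ↥(bar E CU (opOf p E))) :
    opOf p E ≤ opOf p (wcY Q E) ⊔ (E ⊓ CU) := by
  have hKE : opOf p E ≤ E := opOf_le E
  have hEK : E ≤ Subgroup.normalizer ((opOf p E : Subgroup G) : Set G) :=
    le_normalizer_opOf Subgroup.le_normalizer
  have hEoE : wcY Q E ≤ E := wcY_le_of_le hQE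
  have hEEo : E ≤ Subgroup.normalizer ((wcY Q E : Subgroup G) : Set G) := le_normalizer_wcY'
  have hErE : opOf p (wcY Q E) ≤ E := (opOf_le _).trans hEoE
  have hEEr : E ≤ Subgroup.normalizer ((opOf p (wcY Q E) : Subgroup G) : Set G) :=
    le_normalizer_opOf hEEo
  haveI hLn : (bar E CU (opOf p E)).Normal := bar_normal E CU hKE hEK
  haveI hMn : (bar E CU (wcY Q E)).Normal := bar_normal E CU hEoE hEEo
  -- A2
  have hA2 : opOf p E ≤ wcY Q E ⊔ (E ⊓ CU) := by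
    rw [← bar_le_bar_iff E CU hKE hEoE]
    rcases qs_normal_dichotomy hqs
      (inf_le_left : bar E CU (opOf p E) ⊓ bar E CU (wcY Q E) ≤ bar E CU (opOf p E))
      (le_normalizer_of_normal _ _) with h | h
    · rw [← h]; exact inf_le_right
    · exfalso
      have hQM : bar E CU Q ≤ bar E CU (wcY Q E) := bar_mono E CU (le_wcY Q E)
      have h1 : ⁅bar E CU (opOf p E), bar E CU Q⁆ ≤
          bar E CU (opOf p E) ⊓ bar E CU (wcY Q E) :=
        le_inf (Subgroup.commutator_le_left _ _)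
          ((Subgroup.commutator_mono le_rfl hQM).trans (Subgroup.commutator_le_right _ _))
      have h2 : ⁅⁅bar E CU (opOf p E), bar E CU Q⁆, bar E CU (opOf p E)⁆ = ⊥ := by
        rw [eq_bot_iff, ← h]
        exact Subgroup.commutator_mono h1 le_rfl
      have h3 := qs_comm_eq_bot hqs h2
      rw [← bar_commutator E CU hKE hQE,
        bar_eq_bot_iff E CU (commutator_le_of_le E hKE hQE)] at h3
      exact not_comm_le hQp hwc hQE hCQ hQn h3
  -- A3
  have hCn : E ≤ Subgroup.normalizer ((E ⊓ CU : Subgroup G) : Set G) :=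
    le_normalizer_inf_of_normal
  have h4 : opOf p E ≤ Q ⊔ (opOf p (wcY Q E) ⊔ (E ⊓ CU)) := by
    refine hA2.trans (sup_le ((wcY_le_opOf_sup hQp hwc E).trans ?_) ?_)
    · exact sup_le (le_sup_left.trans le_sup_right) le_sup_left
    · exact le_sup_right.trans le_sup_right
  have h5 := opOf_le_of_le_sup (p := p) hQp
    (hQE.trans (le_normalizer_sup hEEr hCn)) h4
  rwa [opOf_idem] at h5

/-- Conclusion (1). -/
theorem opOf_sup_eq [hn : (CU.subgroupOf E).Normal] (hQp : IsPGroup p Q)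
    (hwc : Cfsg.IsWeaklyClosedSubgroup p Q) (hQE : Q ≤ E)
    (hCQ : CU ≤ Subgroup.normalizer (Q : Set G))
    (hQn : ¬ E ≤ Subgroup.normalizer (Q : Set G))
    (hqs : IsQuasisimple ↥(bar E CU (opOf p E))) :
    opOf p E ⊔ (E ⊓ CU) = opOf p (wcY Q E) ⊔ (E ⊓ CU) := by
  apply le_antisymm
  · exact sup_le (opOf_le_sup hQp hwc hQE hCQ hQn hqs) le_sup_right
  · exact sup_le_sup_right (opOf_mono (wcY_le_of_le hQE)) _

theorem bar_opOf_eq [hn : (CU.subgroupOf E).Normal] (hQp : IsPGroup p Q)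
    (hwc : Cfsg.IsWeaklyClosedSubgroup p Q) (hQE : Q ≤ E)
    (hCQ : CU ≤ Subgroup.normalizer (Q : Set G))
    (hQn : ¬ E ≤ Subgroup.normalizer (Q : Set G))
    (hqs : IsQuasisimple ↥(bar E CU (opOf p E))) :
    bar E CU (opOf p E) = bar E CU (opOf p (wcY Q E)) := by
  have hKE : opOf p E ≤ E := opOf_le E
  have hErE : opOf p (wcY Q E) ≤ E := (opOf_le _).trans (wcY_le_of_le hQE)
  apply le_antisymm
  · rw [bar_le_bar_iff E CU hKE hErE]
    exact opOf_le_sup hQp hwc hQE hCQ hQn hqs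
  · exact bar_mono E CU (opOf_mono (wcY_le_of_le hQE))

/-- Conclusion (2): `E_∘` is perfect. -/
theorem opOf_wcY_perfect [hn : (CU.subgroupOf E).Normal] (hQp : IsPGroup p Q)
    (hwc : Cfsg.IsWeaklyClosedSubgroup p Q) (hQE : Q ≤ E)
    (hCQ : CU ≤ Subgroup.normalizer (Q : Set G))
    (hQn : ¬ E ≤ Subgroup.normalizer (Q : Set G))
    (hqs : IsQuasisimple ↥(bar E CU (opOf p E))) :
    ⁅opOf p (wcY Q E), opOf p (wcY Q E)⁆ = opOf p (wcY Q E) := by
  set Er := opOf p (wcY Q E) with hErdef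
  have hErE : Er ≤ E := (opOf_le _).trans (wcY_le_of_le hQE)
  have hEEr : E ≤ Subgroup.normalizer ((Er : Subgroup G) : Set G) :=
    le_normalizer_opOf le_normalizer_wcY'
  have hE₁Er : ⁅Er, Er⁆ ≤ Er := commutator_le_of_le Er le_rfl le_rfl
  have hE₁E : ⁅Er, Er⁆ ≤ E := hE₁Er.trans hErE
  have hEE₁ : E ≤ Subgroup.normalizer ((⁅Er, Er⁆ : Subgroup G) : Set G) :=
    le_normalizer_commutator_of_le hEEr hEEr
  have hCn : E ≤ Subgroup.normalizer ((E ⊓ CU : Subgroup G) : Set G) :=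
    le_normalizer_inf_of_normal
  have hqs' : IsQuasisimple ↥(bar E CU Er) := by
    rw [← bar_opOf_eq hQp hwc hQE hCQ hQn hqs]; exact hqs
  -- (2a)
  have h2a : Er ≤ ⁅Er, Er⁆ ⊔ (E ⊓ CU) := by
    rw [← bar_le_bar_iff E CU hErE hE₁E, bar_commutator E CU hErE hErE, qs_comm_self hqs']
  apply le_antisymm hE₁Er
  have h5 : ⁅Er, Q⁆ = Er := comm_opOf_wcY hQp hwc E
  have hP₀Q : ⁅Er ⊓ CU, Q⁆ ≤ Q := by
    rw [Subgroup.commutator_le]
    intro c hc q hq
    have hcn := hCQ hc.2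
    have : c * q * c⁻¹ ∈ Q := (Subgroup.mem_normalizer_iff.mp hcn q).mp hq
    rw [commutatorElement_def]
    exact Q.mul_mem this (Q.inv_mem hq)
  have key : ⁅Er, Q⁆ ≤ ⁅Er ⊓ CU, Q⁆ ⊔ ⁅Er, Er⁆ := by
    rw [Subgroup.commutator_le]
    intro x hx q hq
    obtain ⟨a, ha, c, hc, rfl⟩ :=
      Cfsg.Agent.Helper47.exists_mul_of_mem_sup (hE₁E.trans hCn) (h2a hx)
    have hcEr : c ∈ Er := by
      have : c = a⁻¹ * (a * c) := by group
      rw [this]; exact Er.mul_mem (Er.inv_mem (hE₁Er ha)) hx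
    have e : ⁅a * c, q⁆ = a * ⁅c, q⁆ * (q * a⁻¹ * q⁻¹) := by
      simp only [commutatorElement_def]; group
    rw [e]
    have hqa : q * a⁻¹ * q⁻¹ ∈ ⁅Er, Er⁆ :=
      (Subgroup.mem_normalizer_iff.mp (hEE₁ (hQE hq)) a⁻¹).mp (inv_mem ha)
    exact mul_mem (mul_mem (le_sup_right (a := ⁅Er ⊓ CU, Q⁆) ha)
      (le_sup_left (b := ⁅Er, Er⁆) (Subgroup.commutator_mem_commutator ⟨hcEr, hc.2⟩ hq)))
      (le_sup_right (a := ⁅Er ⊓ CU, Q⁆) hqa)
  rw [h5] at key
  have h6 := opOf_le_of_le_sup (p := p) (hQp.to_le hP₀Q)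
    (hP₀Q.trans (hQE.trans hEE₁)) key
  rwa [hErdef, opOf_idem] at h6

/-- Fact X: `[C_{E_∘}(U), E°] ≤ O_p(C_{E_∘}(U))`. -/
theorem comm_inf_wcY_le [hn : (CU.subgroupOf E).Normal] (hQp : IsPGroup p Q) (hQE : Q ≤ E)
    (hCQ : CU ≤ Subgroup.normalizer (Q : Set G)) :
    ⁅opOf p (wcY Q E) ⊓ CU, wcY Q E⁆ ≤ Cfsg.pCoreOf p (opOf p (wcY Q E) ⊓ CU) := by
  set Er := opOf p (wcY Q E) with hErdef
  have hErE : Er ≤ E := (opOf_le _).trans (wcY_le_of_le hQE)
  have hEEr : E ≤ Subgroup.normalizer ((Er : Subgroup G) : Set G) :=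
    le_normalizer_opOf le_normalizer_wcY'
  have hCn : E ≤ Subgroup.normalizer ((E ⊓ CU : Subgroup G) : Set G) :=
    le_normalizer_inf_of_normal
  have e0 : Er ⊓ CU = Er ⊓ (E ⊓ CU) := by
    rw [← inf_assoc, inf_eq_left.mpr hErE]
  have hEC₀ : E ≤ Subgroup.normalizer ((Er ⊓ CU : Subgroup G) : Set G) := by
    rw [e0]; exact le_normalizer_inf hEEr hCn
  have hED : E ≤ Subgroup.normalizer ((Cfsg.pCoreOf p (Er ⊓ CU) : Subgroup G) : Set G) :=
    Cfsg.Agent.Helper21.le_normalizer_pCoreOf hEC₀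
  have hEQ : E ⊔ Q = E := sup_eq_left.mpr hQE
  -- `Q ∩ C₀ ≤ O_p(C₀)`
  have h1 : Q ⊓ (Er ⊓ CU) ≤ Cfsg.pCoreOf p (Er ⊓ CU) := by
    apply le_pCoreOf inf_le_right (hQp.to_le inf_le_left)
    exact le_normalizer_inf (inf_le_right.trans hCQ) Subgroup.le_normalizer
  have h2 : ⁅Er ⊓ CU, Q⁆ ≤ Q ⊓ (Er ⊓ CU) := by
    apply le_inf
    · rw [Subgroup.commutator_le]
      intro c hc q hq
      have : c * q * c⁻¹ ∈ Q := (Subgroup.mem_normalizer_iff.mp (hCQ hc.2) q).mp hq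
      rw [commutatorElement_def]
      exact Q.mul_mem this (Q.inv_mem hq)
    · rw [Subgroup.commutator_le]
      intro c hc q hq
      have : q * c⁻¹ * q⁻¹ ∈ Er ⊓ CU :=
        (Subgroup.mem_normalizer_iff.mp (hEC₀ (hQE hq)) c⁻¹).mp (inv_mem hc)
      have e : ⁅c, q⁆ = c * (q * c⁻¹ * q⁻¹) := by simp only [commutatorElement_def]; group
      rw [e]; exact mul_mem hc this
  unfold wcY
  apply Cfsg.Agent.Helper87.AsymM.commutator_iSup_le_of_normalized
  · intro h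
    have hhE : (h : G) ∈ E := (sup_le le_rfl hQE : E ⊔ Q ≤ E) h.2
    exact (conjSub_le_of_mem hQE hhE).trans hED
  · intro h
    have hhE : (h : G) ∈ E := (sup_le le_rfl hQE : E ⊔ Q ≤ E) h.2
    have e1 : conjSub (h : G) (Er ⊓ CU) = Er ⊓ CU := conjSub_eq_self_iff.mpr (hEC₀ hhE)
    have e2 : conjSub (h : G) (Cfsg.pCoreOf p (Er ⊓ CU)) = Cfsg.pCoreOf p (Er ⊓ CU) :=
      conjSub_eq_self_iff.mpr (hED hhE)
    have e3 : ⁅Er ⊓ CU, conjSub (h : G) Q⁆ = conjSub (h : G) ⁅Er ⊓ CU, Q⁆ := by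
      conv_lhs => rw [← e1]
      exact (Subgroup.map_commutator _ _ _).symm
    rw [e3, ← e2]
    exact Subgroup.map_mono (h2.trans h1)

/-- `[C_{E_∘}(U), E_∘] ≤ O_p(E_∘)`. -/
theorem comm_inf_opOf_le [hn : (CU.subgroupOf E).Normal] (hQp : IsPGroup p Q) (hQE : Q ≤ E)
    (hCQ : CU ≤ Subgroup.normalizer (Q : Set G)) :
    ⁅opOf p (wcY Q E) ⊓ CU, opOf p (wcY Q E)⁆ ≤ Cfsg.pCoreOf p (opOf p (wcY Q E)) := by
  refine (Subgroup.commutator_mono le_rfl (opOf_le _)).trans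
    ((comm_inf_wcY_le hQp hQE hCQ).trans ?_)
  apply Cfsg.Agent.Helper87.AsymM.pCoreOf_le_pCoreOf_of_normalized inf_le_left
  have hErE : opOf p (wcY Q E) ≤ E := (opOf_le _).trans (wcY_le_of_le hQE)
  have hEEr : E ≤ Subgroup.normalizer ((opOf p (wcY Q E) : Subgroup G) : Set G) :=
    le_normalizer_opOf le_normalizer_wcY'
  have hCn : E ≤ Subgroup.normalizer ((E ⊓ CU : Subgroup G) : Set G) :=
    le_normalizer_inf_of_normal
  have e0 : opOf p (wcY Q E) ⊓ CU = opOf p (wcY Q E) ⊓ (E ⊓ CU) := by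
    rw [← inf_assoc, inf_eq_left.mpr hErE]
  rw [e0]
  exact hErE.trans (le_normalizer_inf hEEr hCn)

/-- A `p`-subgroup of `E` centralizing `O^p(E)` modulo `C_E(U)` lies in `C_E(U)`, when
`O_p(E/C_E(U)) = 1`. -/
theorem le_of_bar_comm_eq_bot [hn : (CU.subgroupOf E).Normal]
    (hred : Cfsg.pCore p (↥E ⧸ CU.subgroupOf E) = ⊥) {Y : Subgroup G} (hYE : Y ≤ E)
    (hYp : IsPGroup p Y) (h : ⁅bar E CU (opOf p E), bar E CU Y⁆ = ⊥) : Y ≤ CU := by
  rw [← bar_eq_bot_iff E CU hYE]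
  obtain ⟨S, hS⟩ := exists_sylow_ge_in hYp hYE
  obtain ⟨T, hT⟩ : ∃ T : Subgroup G, T = (S : Subgroup ↥E).map E.subtype := ⟨_, rfl⟩
  rw [← hT] at hS
  have hTE : T ≤ E := by rw [hT]; rintro _ ⟨x, -, rfl⟩; exact x.2
  have hTp : IsPGroup p T := by rw [hT]; exact S.2.map _
  have hKE : opOf p E ≤ E := opOf_le E
  have hEK : E ≤ Subgroup.normalizer ((opOf p E : Subgroup G) : Set G) :=
    le_normalizer_opOf Subgroup.le_normalizer
  haveI hLn : (bar E CU (opOf p E)).Normal := bar_normal E CU hKE hEK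
  have hsup : bar E CU T ⊔ bar E CU (opOf p E) = ⊤ := by
    rw [← bar_sup E CU hTE hKE, sup_comm, hT, opOf_sup_sylow (p := p) E S, bar_self]
  have hcent : ∀ l ∈ bar E CU (opOf p E), ∀ y ∈ bar E CU Y, l * y * l⁻¹ = y := by
    intro l hl y hy
    have h1 : ⁅l, y⁆ ∈ ⁅bar E CU (opOf p E), bar E CU Y⁆ :=
      Subgroup.commutator_mem_commutator hl hy
    rw [h, Subgroup.mem_bot, commutatorElement_def] at h1
    calc l * y * l⁻¹ = (l * y * l⁻¹ * y⁻¹) * y := by group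
      _ = y := by rw [h1, one_mul]
  have hncl : Subgroup.normalClosure ((bar E CU Y : Subgroup (↥E ⧸ CU.subgroupOf E)) : Set _) ≤
      bar E CU T := by
    rw [Subgroup.normalClosure, Subgroup.closure_le]
    intro z hz
    rw [Group.mem_conjugatesOfSet_iff] at hz
    obtain ⟨y, hy, hyz⟩ := hz
    rw [isConj_iff] at hyz
    obtain ⟨g, rfl⟩ := hyz
    have hg : g ∈ bar E CU T ⊔ bar E CU (opOf p E) := by rw [hsup]; exact Subgroup.mem_top g
    rw [Subgroup.mem_sup_of_normal_right] at hg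
    obtain ⟨t, ht, l, hl, rfl⟩ := hg
    have e : t * l * y * (t * l)⁻¹ = t * (l * y * l⁻¹) * t⁻¹ := by group
    show t * l * y * (t * l)⁻¹ ∈ bar E CU T
    rw [e, hcent l hl y hy]
    exact mul_mem (mul_mem ht (bar_mono E CU hS hy)) (inv_mem ht)
  have hp1 : IsPGroup p ↥(bar E CU T) := bar_isPGroup E CU hTp
  have hp := IsPGroup.to_le hp1 hncl
  have h2 := Cfsg.Agent.Helper47.le_pCore Subgroup.normalClosure_normal hp
  rw [hred] at h2
  exact eq_bot_iff.mpr (Subgroup.le_normalClosure.trans h2)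

/-- Conclusion (6). -/
theorem comm_opOf_wcY_eq [hn : (CU.subgroupOf E).Normal] (hQp : IsPGroup p Q)
    (hwc : Cfsg.IsWeaklyClosedSubgroup p Q) (hQE : Q ≤ E)
    (hCQ : CU ≤ Subgroup.normalizer (Q : Set G))
    (hQn : ¬ E ≤ Subgroup.normalizer (Q : Set G))
    (hred : Cfsg.pCore p (↥E ⧸ CU.subgroupOf E) = ⊥)
    (hqs : IsQuasisimple ↥(bar E CU (opOf p E)))
    {Y : Subgroup G} (hYE : Y ≤ E) (hYp : IsPGroup p Y) (hYC : ¬ Y ≤ CU) :
    ⁅opOf p (wcY Q E), Y⁆ = opOf p (wcY Q E) := by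
  have hbar := bar_opOf_eq hQp hwc hQE hCQ hQn hqs
  have hperf := opOf_wcY_perfect hQp hwc hQE hCQ hQn hqs
  have hX := comm_inf_opOf_le (p := p) (CU := CU) hQp hQE hCQ
  set Er := opOf p (wcY Q E) with hErdef
  have hErE : Er ≤ E := (opOf_le _).trans (wcY_le_of_le hQE)
  have hEEr : E ≤ Subgroup.normalizer ((Er : Subgroup G) : Set G) :=
    le_normalizer_opOf le_normalizer_wcY'
  have hCn : E ≤ Subgroup.normalizer ((E ⊓ CU : Subgroup G) : Set G) :=
    le_normalizer_inf_of_normal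
  have hFEr : ⁅Er, Y⁆ ≤ Er := by
    rw [Subgroup.commutator_le]
    intro x hx y hy
    have : y * x⁻¹ * y⁻¹ ∈ Er :=
      (Subgroup.mem_normalizer_iff.mp (hEEr (hYE hy)) x⁻¹).mp (inv_mem hx)
    have e : ⁅x, y⁆ = x * (y * x⁻¹ * y⁻¹) := by simp only [commutatorElement_def]; group
    rw [e]; exact mul_mem hx this
  have hFE : ⁅Er, Y⁆ ≤ E := hFEr.trans hErE
  have hErF : Er ≤ Subgroup.normalizer ((⁅Er, Y⁆ : Subgroup G) : Set G) :=
    le_normalizer_commutator_left Er Y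
  apply le_antisymm hFEr
  have hqs' : IsQuasisimple ↥(bar E CU Er) := by rw [← hbar]; exact hqs
  have hbF : bar E CU ⁅Er, Y⁆ = ⁅bar E CU Er, bar E CU Y⁆ := bar_commutator E CU hErE hYE
  rcases qs_normal_dichotomy hqs' (bar_mono E CU hFEr)
      (by rw [hbF]; exact le_normalizer_commutator_left _ _) with h | h
  · -- `Er ≤ F C`
    have h1 : Er ≤ ⁅Er, Y⁆ ⊔ (E ⊓ CU) := by
      rw [← bar_le_bar_iff E CU hErE hFE, h]
    have key : ⁅Er, Er⁆ ≤ Cfsg.pCoreOf p Er ⊔ ⁅Er, Y⁆ := by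
      rw [Subgroup.commutator_le]
      intro x hx y hy
      obtain ⟨f, hf, c, hc, rfl⟩ :=
        Cfsg.Agent.Helper47.exists_mul_of_mem_sup (hFE.trans hCn) (h1 hx)
      have hfEr : f ∈ Er := hFEr hf
      have hcEr : c ∈ Er := by
        have : c = f⁻¹ * (f * c) := by group
        rw [this]; exact Er.mul_mem (Er.inv_mem hfEr) hx
      have e : ⁅f * c, y⁆ = f * ⁅c, y⁆ * f⁻¹ * ⁅f, y⁆ := by
        simp only [commutatorElement_def]; group
      rw [e]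
      have h2 : ⁅c, y⁆ ∈ Cfsg.pCoreOf p Er :=
        hX (Subgroup.commutator_mem_commutator ⟨hcEr, hc.2⟩ hy)
      have h3 : f * ⁅c, y⁆ * f⁻¹ ∈ Cfsg.pCoreOf p Er :=
        (Subgroup.mem_normalizer_iff.mp (pCoreOf_normalized Er hfEr) _).mp h2
      have h4 : ⁅f, y⁆ ∈ ⁅Er, Y⁆ := by
        have : y * f⁻¹ * y⁻¹ ∈ ⁅Er, Y⁆ :=
          (Subgroup.mem_normalizer_iff.mp (hErF hy) f⁻¹).mp (inv_mem hf)
        have e' : ⁅f, y⁆ = f * (y * f⁻¹ * y⁻¹) := by simp only [commutatorElement_def]; group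
        rw [e']; exact mul_mem hf this
      exact mul_mem (le_sup_left (b := ⁅Er, Y⁆) h3) (le_sup_right (a := Cfsg.pCoreOf p Er) h4)
    rw [hperf] at key
    have h6 := opOf_le_of_le_sup (p := p) (pCoreOf_isPGroup Er)
      ((pCoreOf_le Er).trans hErF) key
    rwa [hErdef, opOf_idem] at h6
  · exfalso
    rw [hbF] at h
    have h1 := qs_comm_eq_bot hqs' h
    rw [← hbar] at h1
    exact hYC (le_of_bar_comm_eq_bot hred hYE hYp h1)

omit [Finite G] [Fact p.Prime] in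
/-- `A / C_A(U) ≅` the image of `A` in `E / C_E(U)`. -/
theorem exists_mulEquiv_bar [hn : (CU.subgroupOf E).Normal] {A : Subgroup G} (hAE : A ≤ E)
    [hnA : (CU.subgroupOf A).Normal] :
    Nonempty ((↥A ⧸ CU.subgroupOf A) ≃* ↥(bar E CU A)) := by
  set f : ↥A →* ↥E ⧸ CU.subgroupOf E :=
    (QuotientGroup.mk' (CU.subgroupOf E)).comp (Subgroup.inclusion hAE) with hf
  have hker : f.ker = CU.subgroupOf A := by
    ext x
    rw [MonoidHom.mem_ker, hf, MonoidHom.comp_apply, QuotientGroup.mk'_apply,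
      QuotientGroup.eq_one_iff, Subgroup.mem_subgroupOf, Subgroup.mem_subgroupOf]
    rfl
  have hrange : f.range = bar E CU A := by
    unfold bar
    rw [hf, MonoidHom.range_comp, Subgroup.inclusion_range]
  have e1 : (↥A ⧸ CU.subgroupOf A) ≃* (↥A ⧸ f.ker) :=
    QuotientGroup.quotientMulEquivOfEq hker.symm
  have e2 : (↥A ⧸ f.ker) ≃* ↥f.range := QuotientGroup.quotientKerEquivRange f
  have e3 : ↥f.range ≃* ↥(bar E CU A) := MulEquiv.subgroupCongr hrange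
  exact ⟨(e1.trans e2).trans e3⟩

/-- Conclusion (4). -/
theorem isQuasisimple_quotient_centralizer [hn : (CU.subgroupOf E).Normal] (hQp : IsPGroup p Q)
    (hwc : Cfsg.IsWeaklyClosedSubgroup p Q) (hQE : Q ≤ E)
    (hCQ : CU ≤ Subgroup.normalizer (Q : Set G))
    (hQn : ¬ E ≤ Subgroup.normalizer (Q : Set G))
    (hqs : IsQuasisimple ↥(bar E CU (opOf p E)))
    [hn2 : (CU.subgroupOf (opOf p (wcY Q E))).Normal] :
    IsQuasisimple (↥(opOf p (wcY Q E)) ⧸ CU.subgroupOf (opOf p (wcY Q E))) := by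
  have hbar := bar_opOf_eq hQp hwc hQE hCQ hQn hqs
  have hErE : opOf p (wcY Q E) ≤ E := (opOf_le _).trans (wcY_le_of_le hQE)
  have hqs' : IsQuasisimple ↥(bar E CU (opOf p (wcY Q E))) := by rw [← hbar]; exact hqs
  obtain ⟨e⟩ := exists_mulEquiv_bar (CU := CU) hErE
  exact IsQuasisimple.of_mulEquiv e.symm hqs'

/-- `O_p(E_∘) ≤ C_E(U)` when `O_p(E/C_E(U)) = 1`. -/
theorem pCoreOf_opOf_wcY_le [hn : (CU.subgroupOf E).Normal] (hQE : Q ≤ E)
    (hred : Cfsg.pCore p (↥E ⧸ CU.subgroupOf E) = ⊥) :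
    Cfsg.pCoreOf p (opOf p (wcY Q E)) ≤ CU := by
  have hErE : opOf p (wcY Q E) ≤ E := (opOf_le _).trans (wcY_le_of_le hQE)
  have hEEr : E ≤ Subgroup.normalizer ((opOf p (wcY Q E) : Subgroup G) : Set G) :=
    le_normalizer_opOf le_normalizer_wcY'
  have hDE : Cfsg.pCoreOf p (opOf p (wcY Q E)) ≤ E := (pCoreOf_le _).trans hErE
  rw [← bar_eq_bot_iff E CU hDE]
  have hnorm : (bar E CU (Cfsg.pCoreOf p (opOf p (wcY Q E)))).Normal :=
    bar_normal E CU hDE (Cfsg.Agent.Helper21.le_normalizer_pCoreOf hEEr)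
  have hp1 : IsPGroup p ↥(bar E CU (Cfsg.pCoreOf p (opOf p (wcY Q E)))) :=
    bar_isPGroup E CU (pCoreOf_isPGroup _)
  have h2 := Cfsg.Agent.Helper47.le_pCore hnorm hp1
  rw [hred] at h2
  exact eq_bot_iff.mpr h2

/-- Conclusion (5). -/
theorem isQuasisimple_quotient_pCore [hn : (CU.subgroupOf E).Normal] (hQp : IsPGroup p Q)
    (hwc : Cfsg.IsWeaklyClosedSubgroup p Q) (hQE : Q ≤ E)
    (hCQ : CU ≤ Subgroup.normalizer (Q : Set G))
    (hQn : ¬ E ≤ Subgroup.normalizer (Q : Set G))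
    (hred : Cfsg.pCore p (↥E ⧸ CU.subgroupOf E) = ⊥)
    (hqs : IsQuasisimple ↥(bar E CU (opOf p E)))
    [hn2 : (CU.subgroupOf (opOf p (wcY Q E))).Normal] :
    IsQuasisimple (↥(opOf p (wcY Q E)) ⧸ Cfsg.pCore p ↥(opOf p (wcY Q E))) := by
  have hperf := opOf_wcY_perfect hQp hwc hQE hCQ hQn hqs
  have hX := comm_inf_opOf_le (p := p) (CU := CU) hQp hQE hCQ
  have h4 := isQuasisimple_quotient_centralizer hQp hwc hQE hCQ hQn hqs
  have hD := pCoreOf_opOf_wcY_le (p := p) (Q := Q) hQE hred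
  set Er := opOf p (wcY Q E) with hErdef
  haveI : Group.IsPerfect ↥Er := Subgroup.isPerfect_iff.mpr hperf
  haveI : (Cfsg.pCore p ↥Er).Normal := normal_pCore
  refine isQuasisimple_quotient_of_le (Cfsg.pCore p ↥Er) (CU.subgroupOf Er) ?_ ?_ h4
  · intro x hx
    rw [Subgroup.mem_subgroupOf]
    exact hD ⟨x, hx, rfl⟩
  · rw [← Subgroup.map_le_map_iff_of_injective Er.subtype_injective, Subgroup.map_commutator,
      Subgroup.subgroupOf_map_subtype, ← MonoidHom.range_eq_map, Subgroup.range_subtype, inf_comm]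
    exact hX

end Cfsg.Agent.Helper87.LargeQS
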