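import Cfsg.Agent.Helper87.StableAut
import Cfsg.Agent.Helper48.StronglyEmbedded
import Cfsg.Agent.S2797

set_option autoImplicit false

/-!
# Automorphism groups with a commutator of prime order on an invariant section

* `chain3`: the chain `⊤ ≥ A ≥ B ≥ ⊥`, its stability group is a `p`-group.
* `isStronglyPEmbedded_conjSub`: conjugates of strongly `p`-embedded subgroups.
* `exists_stronglyPEmbedded_ge`: a strongly `p`-embedded subgroup may be chosen to contain a given `p`-subgroup.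
* `card_map_lt_sq_of_line`: the "line lemma", dual to the hyperplane lemma of `Helper86.Hyperplane`.
-/

namespace Cfsg.Agent.Helper87

open Cfsg

section chain3

variable {R : Type*} [Group R]

/-- The chain `⊤ ≥ A ≥ B ≥ ⊥ ≥ ⊥ ≥ ...`. -/
def chain3 (A B : Subgroup R) : ℕ → Subgroup R :=
  fun k => if k = 0 then ⊤ else if k = 1 then A else if k = 2 then B else ⊥

theorem chain3_antitone {A B : Subgroup R} (h : B ≤ A) : Antitone (chain3 A B) := by
  intro i j hij
  unfold chain3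
  by_cases hi0 : i = 0
  · simp [hi0]
  · have hj0 : j ≠ 0 := by omega
    by_cases hi1 : i = 1
    · by_cases hj1 : j = 1
      · simp [hi1, hj1]
      · by_cases hj2 : j = 2
        · simp [hi1, hj2, h]
        · simp [hi1, hj0, hj1, hj2]
    · have hj1 : j ≠ 1 := by omega
      by_cases hi2 : i = 2
      · by_cases hj2 : j = 2
        · simp [hi2, hj2]
        · simp [hi2, hj0, hj1, hj2]
      · have hj2 : j ≠ 2 := by omega
        simp [hi0, hi1, hi2, hj0, hj1, hj2]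

theorem mem_chainStab_chain3 [Finite R] {A B : Subgroup R} (h : B ≤ A) (β : MulAut R)
    (h0 : ∀ x : R, x⁻¹ * β x ∈ A) (h1 : ∀ x ∈ A, x⁻¹ * β x ∈ B) (h2 : ∀ x ∈ B, β x = x) :
    β ∈ chainStab (chain3 A B) (chain3_antitone h) := by
  intro k x hx
  by_cases hk0 : k = 0
  · subst hk0
    simpa [chain3] using h0 x
  · by_cases hk1 : k = 1
    · subst hk1
      have hx' : x ∈ A := by simpa [chain3] using hx
      simpa [chain3] using h1 x hx'
    · by_cases hk2 : k = 2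
      · subst hk2
        have hx' : x ∈ B := by simpa [chain3] using hx
        rw [h2 x hx']
        simp
      · have hx' : x = 1 := by
          have : x ∈ (⊥ : Subgroup R) := by simpa [chain3, hk0, hk1, hk2] using hx
          simpa using this
        subst hx'
        simp

theorem isPGroup_chainStab_chain3 [Finite R] {p : ℕ} [Fact p.Prime] (hR : IsPGroup p R) {A B : Subgroup R}
    (h : B ≤ A) : IsPGroup p (chainStab (chain3 A B) (chain3_antitone h)) :=
  isPGroup_chainStab hR _ _ (by simp [chain3]) 3 (by simp [chain3])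

/-- A map preserving `A` and `B` preserves every term of `chain3 A B`. -/
theorem chain3_pres {A B : Subgroup R} (τ : MulAut R) (hA : ∀ x ∈ A, τ x ∈ A) (hB : ∀ x ∈ B, τ x ∈ B) :
    ∀ k, ∀ x ∈ chain3 A B k, τ x ∈ chain3 A B k := by
  intro k x hx
  unfold chain3 at hx ⊢
  by_cases hk0 : k = 0
  · simp [hk0]
  · by_cases hk1 : k = 1
    · simp only [hk1] at hx ⊢
      simpa using hA x (by simpa using hx)
    · by_cases hk2 : k = 2
      · simp only [hk2] at hx ⊢
        simpa using hB x (by simpa using hx)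
      · have hx1 : x = 1 := by simpa [hk0, hk1, hk2] using hx
        subst hx1
        simp

/-- The chain `⊤ ≥ A ≥ B ≥ B ≥ ...`. -/
def chainU (A B : Subgroup R) : ℕ → Subgroup R :=
  fun k => if k = 0 then ⊤ else if k = 1 then A else B

theorem chainU_antitone {A B : Subgroup R} (h : B ≤ A) : Antitone (chainU A B) := by
  intro i j hij
  unfold chainU
  by_cases hi0 : i = 0
  · simp [hi0]
  · have hj0 : j ≠ 0 := by omega
    by_cases hi1 : i = 1
    · by_cases hj1 : j = 1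
      · simp [hi1, hj1]
      · simp [hi1, hj0, hj1, h]
    · have hj1 : j ≠ 1 := by omega
      simp [hi0, hi1, hj0, hj1]

theorem mem_chainStab_chainU [Finite R] {A B : Subgroup R} (h : B ≤ A) (β : MulAut R)
    (h0 : ∀ x : R, x⁻¹ * β x ∈ A) (h1 : ∀ x ∈ A, x⁻¹ * β x ∈ B) :
    β ∈ chainStab (chainU A B) (chainU_antitone h) := by
  intro k x hx
  by_cases hk0 : k = 0
  · subst hk0
    simpa [chainU] using h0 x
  · by_cases hk1 : k = 1
    · subst hk1
      have hx' : x ∈ A := by simpa [chainU] using hx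
      simpa [chainU] using h1 x hx'
    · have hx' : x ∈ B := by simpa [chainU, hk0, hk1] using hx
      have : x⁻¹ * β x ∈ B := h1 x (h hx')
      simpa [chainU, hk0, hk1] using this

theorem chainStab_chainU_top [Finite R] {A B : Subgroup R} (h : B ≤ A) {β : MulAut R}
    (hβ : β ∈ chainStab (chainU A B) (chainU_antitone h)) (x : R) : x⁻¹ * β x ∈ A := by
  have := hβ 0 x (by simp [chainU])
  simpa [chainU] using this

theorem chainStab_chainU_mid [Finite R] {A B : Subgroup R} (h : B ≤ A) {β : MulAut R}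
    (hβ : β ∈ chainStab (chainU A B) (chainU_antitone h)) {x : R} (hx : x ∈ A) : x⁻¹ * β x ∈ B := by
  have := hβ 1 x (by simpa [chainU] using hx)
  simpa [chainU] using this

end chain3

section conj

variable {X : Type*} [Group X] [Finite X] {p : ℕ} [Fact p.Prime]

open Cfsg.Agent.Helper48

/-- A conjugate of a strongly `p`-embedded subgroup is strongly `p`-embedded. -/
theorem isStronglyPEmbedded_conjSub {M : Subgroup X} (hM : IsStronglyPEmbedded p M) (a : X) :
    IsStronglyPEmbedded p (conjSub a M) := by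
  obtain ⟨P, hPM, hPne⟩ := exists_sylow_le_of_stronglyPEmbedded hM
  have hcard : Nat.card (conjSub a M) = Nat.card M := card_conjSub a M
  apply Cfsg.Agent.S2797.spe_of_normalizers
  · intro htop
    apply hM.2.1
    apply Subgroup.eq_top_of_card_eq
    rw [← hcard, htop, Subgroup.card_top]
  · rw [hcard]
    have h1 : p ∣ Nat.card (P : Subgroup X) := Cfsg.Agent.S2797.p_dvd_card_of_ne_bot P.2 hPne
    exact h1.trans (Subgroup.card_dvd_of_le hPM)
  · intro A hA hAp hAne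
    have h1 : conjSub a⁻¹ A ≤ M := by
      intro x hx
      rw [mem_conjSub] at hx
      have := hA hx
      rw [mem_conjSub] at this
      have e : a⁻¹ * (a⁻¹⁻¹ * x * a⁻¹) * a = x := by group
      rwa [e] at this
    have h2 := normalizer_le_of_stronglyPEmbedded hM h1 (isPGroup_conjSub hAp) (conjSub_ne_bot hAne)
    rw [normalizer_conjSub] at h2
    intro x hx
    rw [mem_conjSub]
    apply h2
    rw [mem_conjSub]
    have e : a⁻¹⁻¹ * (a⁻¹ * x * a) * a⁻¹ = x := by group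
    rwa [e]

/-- If a group has a strongly `p`-embedded subgroup, it has one containing any given `p`-subgroup. -/
theorem exists_stronglyPEmbedded_ge {M : Subgroup X} (hM : IsStronglyPEmbedded p M) (T : Subgroup X)
    (hT : IsPGroup p T) : ∃ M' : Subgroup X, IsStronglyPEmbedded p M' ∧ T ≤ M' := by
  obtain ⟨P, hPM, -⟩ := exists_sylow_le_of_stronglyPEmbedded hM
  obtain ⟨Q, hQ⟩ := hT.exists_le_sylow
  obtain ⟨k, hk⟩ := MulAction.exists_smul_eq X P Q
  refine ⟨conjSub k M, isStronglyPEmbedded_conjSub hM k, ?_⟩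
  intro x hx
  have hxQ : x ∈ (Q : Subgroup X) := hQ hx
  rw [← hk] at hxQ
  have hxQ' : x ∈ conjSub k (P : Subgroup X) := hxQ
  obtain ⟨y, hy, rfl⟩ := hxQ'
  exact ⟨y, hPM hy, rfl⟩

/-- In a group with a strongly `p`-embedded subgroup `M`, a `p`-subgroup cannot contain both a non-identity element `s` of
`M` and a conjugate `g s g⁻¹` with `g ∉ M`. -/
theorem false_of_pGroup_of_conj {M : Subgroup X} (hM : IsStronglyPEmbedded p M) {s g : X} (hsM : s ∈ M)
    (hs1 : s ≠ 1) (hgM : g ∉ M) (Y : Subgroup X) (hY : IsPGroup p Y) (hsY : s ∈ Y) (hgs : g * s * g⁻¹ ∈ Y) :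
    False := by
  have hYM : Y ≤ M := by
    apply pSubgroup_le_of_inf_ne_bot hM hY
    intro hbot
    have : s ∈ Y ⊓ M := ⟨hsY, hsM⟩
    rw [hbot, Subgroup.mem_bot] at this
    exact hs1 this
  have hQp : IsPGroup p (Subgroup.zpowers s) := hY.to_le (by rw [Subgroup.zpowers_le]; exact hsY)
  have hQne : Subgroup.zpowers s ≠ ⊥ := by
    intro h
    rw [Subgroup.zpowers_eq_bot] at h
    exact hs1 h
  exact hgM (mem_of_conjSub_le hM (by rw [Subgroup.zpowers_le]; exact hsM) hQp hQne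
    (conjSub_zpowers_le (hYM hgs)))

/-- In a group with a strongly `p`-embedded subgroup `M`, a `p`-subgroup normalized by a non-identity `p`-element `s` of
`M` and by a conjugate `g s g⁻¹` with `g ∉ M` is trivial. -/
theorem eq_bot_of_normalized_by_conj {M : Subgroup X} (hM : IsStronglyPEmbedded p M) {s g : X} (hsM : s ∈ M)
    (hs1 : s ≠ 1) (hsp : IsPGroup p (Subgroup.zpowers s)) (hgM : g ∉ M) (Y : Subgroup X) (hY : IsPGroup p Y)
    (hsY : s ∈ Subgroup.normalizer (Y : Set X)) (hgsY : g * s * g⁻¹ ∈ Subgroup.normalizer (Y : Set X)) :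
    Y = ⊥ := by
  by_contra hne
  have hW : IsPGroup p (Y ⊔ Subgroup.zpowers s : Subgroup X) :=
    IsPGroup.to_sup_of_normal_left' hY hsp (by rw [Subgroup.zpowers_le]; exact hsY)
  have hWM : Y ⊔ Subgroup.zpowers s ≤ M := by
    apply pSubgroup_le_of_inf_ne_bot hM hW
    intro hbot
    have : s ∈ (Y ⊔ Subgroup.zpowers s) ⊓ M := ⟨Subgroup.mem_sup_right (Subgroup.mem_zpowers s), hsM⟩
    rw [hbot, Subgroup.mem_bot] at this
    exact hs1 this
  have hYM : Y ≤ M := le_sup_left.trans hWM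
  have hN := normalizer_le_of_stronglyPEmbedded hM hYM hY hne
  have hQne : Subgroup.zpowers s ≠ ⊥ := by
    intro h
    rw [Subgroup.zpowers_eq_bot] at h
    exact hs1 h
  exact hgM (mem_of_conjSub_le hM (by rw [Subgroup.zpowers_le]; exact hsM) hsp hQne
    (conjSub_zpowers_le (hN hgsY)))

end conj

section line

variable {R : Type*} [Group R]

open Cfsg.Agent.Helper48

/-- Kernel step: if the image of `T` modulo `I` has order at least `p²` and `t ↦ w⁻¹ t(w)` takes values in the group `Z₀`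
of order `p` centralized by `T`, some element of `T` non-trivial modulo `I` fixes `w`. -/
theorem exists_fix_of_card_map [Finite R] {p : ℕ} [hp : Fact p.Prime] (A : Subgroup (MulAut R)) (I : Subgroup A)
    [I.Normal] (T : Subgroup (MulAut R)) (hTA : T ≤ A) (Z₀ : Subgroup R) (hZ₀ : Nat.card Z₀ = p) (w : R)
    (hw : ∀ t ∈ T, w⁻¹ * t w ∈ Z₀) (hTZ : ∀ t ∈ T, ∀ z ∈ Z₀, t z = z)
    (hcard : p ^ 2 ≤ Nat.card ((T.subgroupOf A).map (QuotientGroup.mk' I))) :
    ∃ t, ∃ ht : t ∈ T, t w = w ∧ QuotientGroup.mk' I ⟨t, hTA ht⟩ ≠ 1 := by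
  have : Finite (MulAut R) := MulEquiv.finite_left
  by_contra hcon
  push Not at hcon
  -- the homomorphism `t ↦ w⁻¹ t(w)`
  let θ : T →* R :=
    { toFun := fun t => w⁻¹ * (t : MulAut R) w
      map_one' := by simp
      map_mul' := by
        intro t s
        have h1 : (s : MulAut R) w = w * (w⁻¹ * (s : MulAut R) w) := by group
        have h2 := hTZ t t.2 _ (hw s s.2)
        show w⁻¹ * ((t : MulAut R) * (s : MulAut R)) w = _
        rw [MulAut.mul_apply, h1, map_mul, h2]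
        group }
  have hθ : ∀ t : T, θ t = w⁻¹ * (t : MulAut R) w := fun t => rfl
  have hrange : θ.range ≤ Z₀ := by
    rintro _ ⟨t, rfl⟩
    exact hw t t.2
  let f : T →* A ⧸ I := (QuotientGroup.mk' I).comp (Subgroup.inclusion hTA)
  have hker : θ.ker ≤ f.ker := by
    intro t ht
    rw [MonoidHom.mem_ker] at ht ⊢
    have h1 : (t : MulAut R) w = w := by
      rw [hθ] at ht
      have : (t : MulAut R) w = w * (w⁻¹ * (t : MulAut R) w) := by group
      rw [this, ht, mul_one]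
    exact hcon t t.2 h1
  have hfr : f.range = (T.subgroupOf A).map (QuotientGroup.mk' I) := by
    ext y
    constructor
    · rintro ⟨t, rfl⟩
      exact ⟨⟨t, hTA t.2⟩, Subgroup.mem_subgroupOf.mpr t.2, rfl⟩
    · rintro ⟨⟨t, htA⟩, ht, rfl⟩
      exact ⟨⟨t, Subgroup.mem_subgroupOf.mp ht⟩, rfl⟩
  have h1 : Nat.card f.range ≤ Nat.card θ.range := by
    rw [← Subgroup.index_ker, ← Subgroup.index_ker]
    exact Nat.le_of_dvd (Nat.pos_of_ne_zero Subgroup.index_ne_zero_of_finite) (Subgroup.index_dvd_of_le hker)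
  have h2 : Nat.card θ.range ≤ p := by
    rw [← hZ₀]
    exact Subgroup.card_le_of_le hrange
  rw [← hfr] at hcard
  have : p ^ 2 ≤ p := hcard.trans (h1.trans h2)
  have hp1 := hp.out.one_lt
  nlinarith

/-- Normalized form of the line lemma: the image of `T` lies in the strongly `p`-embedded subgroup. -/
theorem card_map_lt_sq_of_line_aux [Finite R] {p : ℕ} [hp : Fact p.Prime] (hR : IsPGroup p R)
    (A : Subgroup (MulAut R)) (I : Subgroup A) [I.Normal] (M : Subgroup (A ⧸ I)) (hM : IsStronglyPEmbedded p M)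
    (P₀ : Subgroup R) (hP₀ : ∀ α ∈ A, ∀ x ∈ P₀, α x ∈ P₀)
    (Z₀ : Subgroup R) (hZ₀P : Z₀ ≤ P₀) (hZ₀ : Nat.card Z₀ = p)
    (T : Subgroup (MulAut R)) (hTA : T ≤ A) (hTp : IsPGroup p T)
    (hTR : ∀ t ∈ T, ∀ x : R, x⁻¹ * t x ∈ P₀) (hTP : ∀ t ∈ T, ∀ x ∈ P₀, x⁻¹ * t x ∈ Z₀)
    (hTZ : ∀ t ∈ T, ∀ z ∈ Z₀, t z = z)
    (hTM : ∀ t (ht : t ∈ T), QuotientGroup.mk' I ⟨t, hTA ht⟩ ∈ M) :
    Nat.card ((T.subgroupOf A).map (QuotientGroup.mk' I)) < p ^ 2 := by
  have : Finite (MulAut R) := MulEquiv.finite_left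
  by_contra hcon
  push Not at hcon
  obtain ⟨gbar, hgbar⟩ : ∃ gbar : A ⧸ I, gbar ∉ M := by
    by_contra hc
    push Not at hc
    exact hM.2.1 (eq_top_iff.mpr (fun x _ => hc x))
  obtain ⟨⟨g, hgA⟩, rfl⟩ := QuotientGroup.mk'_surjective I gbar
  have hginvA : g⁻¹ ∈ A := A.inv_mem hgA
  -- a generator of `Z₀`
  obtain ⟨⟨w₀, hw₀Z⟩, hw₀1⟩ : ∃ z : Z₀, z ≠ 1 := by
    have : Nontrivial Z₀ := by
      rw [← Finite.one_lt_card_iff_nontrivial, hZ₀]
      exact hp.out.one_lt
    exact exists_ne 1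
  have hgen : ∀ z ∈ Z₀, z ∈ Subgroup.zpowers w₀ := by
    intro z hz
    have h2 : (⟨z, hz⟩ : Z₀) ∈ Subgroup.zpowers (⟨w₀, hw₀Z⟩ : Z₀) := mem_zpowers_of_prime_card hZ₀ hw₀1
    obtain ⟨k, hk⟩ := Subgroup.mem_zpowers_iff.mp h2
    exact Subgroup.mem_zpowers_iff.mpr ⟨k, by simpa using congrArg Subtype.val hk⟩
  have hw₀P : w₀ ∈ P₀ := hZ₀P hw₀Z
  -- first element
  obtain ⟨t₁, ht₁T, ht₁w, ht₁1⟩ := exists_fix_of_card_map A I T hTA Z₀ hZ₀ (g w₀)
    (fun t ht => hTP t ht _ (hP₀ g hgA _ hw₀P)) hTZ hcon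
  -- second element
  obtain ⟨s, hsT, hsw, hs1⟩ := exists_fix_of_card_map A I T hTA Z₀ hZ₀ (g⁻¹ w₀)
    (fun t ht => hTP t ht _ (hP₀ g⁻¹ hginvA _ hw₀P)) hTZ hcon
  set t₂ : MulAut R := g * s * g⁻¹ with ht₂
  have hsA : s ∈ A := hTA hsT
  have ht₂A : t₂ ∈ A := A.mul_mem (A.mul_mem hgA hsA) hginvA
  set Z₁ : Subgroup R := Z₀.map (g : R ≃* R).toMonoidHom with hZ₁
  have hZ₁P : Z₁ ≤ P₀ := by
    rintro _ ⟨z, hz, rfl⟩
    exact hP₀ g hgA z (hZ₀P hz)
  set U : Subgroup R := Z₀ ⊔ Z₁ with hU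
  have hUP : U ≤ P₀ := sup_le hZ₀P hZ₁P
  -- fixed points
  have hfix : ∀ β : MulAut R, (∀ z ∈ Z₀, β z = z) → (∀ z ∈ Z₁, β z = z) → ∀ x ∈ U, β x = x := by
    intro β h0 h1
    have hle : U ≤ (β : R ≃* R).toMonoidHom.eqLocus (MonoidHom.id R) := by
      apply sup_le
      · intro z hz
        exact h0 z hz
      · intro z hz
        exact h1 z hz
    intro x hx
    exact hle hx
  have ht₁K : t₁ ∈ chainStab (chain3 P₀ U) (chain3_antitone hUP) := by
    apply mem_chainStab_chain3 hUP t₁ (hTR t₁ ht₁T)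
    · intro x hx
      exact (le_sup_left : Z₀ ≤ U) (hTP t₁ ht₁T x hx)
    · apply hfix t₁ (hTZ t₁ ht₁T)
      rintro _ ⟨z, hz, rfl⟩
      obtain ⟨k, rfl⟩ := Subgroup.mem_zpowers_iff.mp (hgen z hz)
      show t₁ (g (w₀ ^ k)) = g (w₀ ^ k)
      rw [map_zpow, map_zpow, ht₁w]
  have ht₂app : ∀ x : R, t₂ x = g (s (g⁻¹ x)) := fun x => rfl
  have ht₂K : t₂ ∈ chainStab (chain3 P₀ U) (chain3_antitone hUP) := by
    apply mem_chainStab_chain3 hUP t₂
    · intro x
      have h1 := hTR s hsT (g⁻¹ x)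
      have h2 := hP₀ g hgA _ h1
      have e : g ((g⁻¹ x)⁻¹ * s (g⁻¹ x)) = x⁻¹ * t₂ x := by
        rw [map_mul, map_inv, MulAut.apply_inv_self, ht₂app]
      rwa [e] at h2
    · intro x hx
      have h1 := hTP s hsT (g⁻¹ x) (hP₀ g⁻¹ hginvA x hx)
      have e : g ((g⁻¹ x)⁻¹ * s (g⁻¹ x)) = x⁻¹ * t₂ x := by
        rw [map_mul, map_inv, MulAut.apply_inv_self, ht₂app]
      rw [← e]
      exact (le_sup_right : Z₁ ≤ U) ⟨_, h1, rfl⟩
    · apply hfix t₂
      · intro z hz
        obtain ⟨k, rfl⟩ := Subgroup.mem_zpowers_iff.mp (hgen z hz)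
        rw [map_zpow, ht₂app, hsw, MulAut.apply_inv_self]
      · rintro _ ⟨z, hz, rfl⟩
        show t₂ (g z) = g z
        rw [ht₂app, MulAut.inv_apply_self, hTZ s hsT z hz]
  set K := chainStab (chain3 P₀ U) (chain3_antitone hUP) with hK
  have hKp : IsPGroup p K := isPGroup_chainStab_chain3 hR hUP
  set Kbar : Subgroup (A ⧸ I) := (K.subgroupOf A).map (QuotientGroup.mk' I) with hKbar
  have hKbarp : IsPGroup p Kbar := (hKp.comap_subtype).map _
  have hsbarK : QuotientGroup.mk' I ⟨g, hgA⟩ * QuotientGroup.mk' I ⟨s, hsA⟩ * (QuotientGroup.mk' I ⟨g, hgA⟩)⁻¹ ∈ Kbar := by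
    have e : (⟨t₂, ht₂A⟩ : A) = ⟨g, hgA⟩ * ⟨s, hsA⟩ * (⟨g, hgA⟩ : A)⁻¹ := by
      apply Subtype.ext
      rfl
    rw [← map_inv, ← map_mul, ← map_mul, ← e]
    exact ⟨⟨t₂, ht₂A⟩, Subgroup.mem_subgroupOf.mpr ht₂K, rfl⟩
  -- `t₁` lies in `K` and in `M`; `K` is a `p`-group containing also a conjugate
  have hsM : QuotientGroup.mk' I ⟨s, hsA⟩ ∈ M := hTM s hsT
  -- use the element `s` : both `s̄`? no: use `t̄₁` to put `K̄` in `M`, then conjugate of `s̄` in `M`
  have hKbarM : Kbar ≤ M := by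
    apply pSubgroup_le_of_inf_ne_bot hM hKbarp
    intro hbot
    have h1 : QuotientGroup.mk' I ⟨t₁, hTA ht₁T⟩ ∈ Kbar ⊓ M :=
      ⟨⟨⟨t₁, hTA ht₁T⟩, Subgroup.mem_subgroupOf.mpr ht₁K, rfl⟩, hTM t₁ ht₁T⟩
    rw [hbot, Subgroup.mem_bot] at h1
    exact ht₁1 h1
  have hQp : IsPGroup p (Subgroup.zpowers (QuotientGroup.mk' I ⟨s, hsA⟩)) := by
    have h1 : IsPGroup p ((T.subgroupOf A).map (QuotientGroup.mk' I)) := (hTp.comap_subtype).map _
    apply h1.to_le
    rw [Subgroup.zpowers_le]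
    exact ⟨⟨s, hsA⟩, Subgroup.mem_subgroupOf.mpr hsT, rfl⟩
  have hQne : Subgroup.zpowers (QuotientGroup.mk' I ⟨s, hsA⟩) ≠ ⊥ := by
    intro h
    rw [Subgroup.zpowers_eq_bot] at h
    exact hs1 h
  exact hgbar (mem_of_conjSub_le hM (by rw [Subgroup.zpowers_le]; exact hsM) hQp hQne
    (conjSub_zpowers_le (hKbarM hsbarK)))

/-- **Line lemma**: let `T` be a `p`-group of automorphisms of the `p`-group `R`, inside a group `A` of automorphisms
leaving the subgroup `P₀` invariant, with `[R, T] ≤ P₀`, `[P₀, T] ≤ Z₀` and `[Z₀, T] = 1` for a subgroup `Z₀ ≤ P₀` of order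
`p`. If `A / I` has a strongly `p`-embedded subgroup, the image of `T` in `A / I` has order less than `p²`. -/
theorem card_map_lt_sq_of_line [Finite R] {p : ℕ} [hp : Fact p.Prime] (hR : IsPGroup p R)
    (A : Subgroup (MulAut R)) (I : Subgroup A) [I.Normal] (M : Subgroup (A ⧸ I)) (hM : IsStronglyPEmbedded p M)
    (P₀ : Subgroup R) (hP₀ : ∀ α ∈ A, ∀ x ∈ P₀, α x ∈ P₀)
    (Z₀ : Subgroup R) (hZ₀P : Z₀ ≤ P₀) (hZ₀ : Nat.card Z₀ = p)
    (T : Subgroup (MulAut R)) (hTA : T ≤ A) (hTp : IsPGroup p T)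
    (hTR : ∀ t ∈ T, ∀ x : R, x⁻¹ * t x ∈ P₀) (hTP : ∀ t ∈ T, ∀ x ∈ P₀, x⁻¹ * t x ∈ Z₀)
    (hTZ : ∀ t ∈ T, ∀ z ∈ Z₀, t z = z) :
    Nat.card ((T.subgroupOf A).map (QuotientGroup.mk' I)) < p ^ 2 := by
  have : Finite (MulAut R) := MulEquiv.finite_left
  have hTbarp : IsPGroup p ((T.subgroupOf A).map (QuotientGroup.mk' I)) := (hTp.comap_subtype).map _
  obtain ⟨M', hM', hTM'⟩ := exists_stronglyPEmbedded_ge hM _ hTbarp
  exact card_map_lt_sq_of_line_aux hR A I M' hM' P₀ hP₀ Z₀ hZ₀P hZ₀ T hTA hTp hTR hTP hTZ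
    (fun t ht => hTM' ⟨⟨t, hTA ht⟩, Subgroup.mem_subgroupOf.mpr ht, rfl⟩)

end line

end Cfsg.Agent.Helper87
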