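import Mathlib
import Cfsg.Agent.Helper99.O9.Defs
import Cfsg.Agent.Helper99.O9.C7Defs
import Cfsg.Agent.Helper44.Spinor

set_option autoImplicit false
set_option linter.unusedSectionVars false
set_option linter.unusedVariables false

/-!
helper87, piece (CHEV1) `charpoly_eval_one` of helper99's S2517 (C7) sub-farm (#13864).
-/

namespace Cfsg.Agent.Helper87.O9

open Matrix Polynomial QuadraticMap Cfsg.Agent.Helper44 Cfsg.Agent.Helper44.QType Cfsg.Agent.Helper94
  Cfsg.Agent.Helper99.O9

universe u

variable {F : Type u} [Field F] [Fintype F]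

/-- generic: `charpoly.eval t ≠ 0` when `M - t • 1` is invertible -/
theorem CHEV1_eval_ne_zero {n : Type*} [Fintype n] [DecidableEq n] {R : Type*} [Field R]
    (M : Matrix n n R) (t : R) (h : IsUnit (M - Matrix.scalar n t)) : M.charpoly.eval t ≠ 0 := by
  rw [Matrix.eval_charpoly]
  have h1 : Matrix.scalar n t - M = -(M - Matrix.scalar n t) := by abel
  rw [h1, Matrix.det_neg]
  have h2 : IsUnit (M - Matrix.scalar n t).det := (Matrix.isUnit_iff_isUnit_det _).mp h
  exact mul_ne_zero (pow_ne_zero _ (neg_ne_zero.mpr one_ne_zero)) h2.ne_zero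

/-- (CHEV1) `charpoly.eval 1 = det (1 - M)` -/
theorem charpoly_eval_one {P : OPair F} (hf : P.Fpf) : P.M.charpoly.eval 1 ≠ 0 := by
  apply CHEV1_eval_ne_zero
  have : (Matrix.scalar P.ι (1 : F)) = 1 := by simp
  rw [this]
  exact hf

end Cfsg.Agent.Helper87.O9
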