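import Cfsg.Agent.Helper88.OMinus.YDefs

/-!
# Values of the short root elements `xE p z`, `xF p z` of `Ω⁻` on the standard basis (helper87, for helper88's S2415)
-/

set_option autoImplicit false

namespace Cfsg.Agent.Helper87.OMinus

open Matrix QuadraticMap Cfsg.Agent.Helper44 Cfsg.Agent.Helper45.OmegaParity Cfsg.Agent.Helper5
open Cfsg.Agent.Helper40.Frame Cfsg.Agent.Helper88.OMinus

variable {F : Type*} [Field F] {k : ℕ} {a b : F}

theorem polar_eV_W (i : Fin k) {z : Idx k → F} (hz : z ∈ (frame k F a b).W) :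
    polar ⇑(minusForm k F a b) (eV i) z = 0 := (frame k F a b).polar_e_W hz i

theorem polar_fV_W (i : Fin k) {z : Idx k → F} (hz : z ∈ (frame k F a b).W) :
    polar ⇑(minusForm k F a b) (fV i) z = 0 := (frame k F a b).polar_f_W hz i

theorem polar_W_eV (i : Fin k) {z : Idx k → F} (hz : z ∈ (frame k F a b).W) :
    polar ⇑(minusForm k F a b) z (eV i) = 0 := by
  rw [QuadraticMap.polar_comm]; exact polar_eV_W i hz

theorem polar_W_fV (i : Fin k) {z : Idx k → F} (hz : z ∈ (frame k F a b).W) :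
    polar ⇑(minusForm k F a b) z (fV i) = 0 := by
  rw [QuadraticMap.polar_comm]; exact polar_fV_W i hz

theorem polar_eV_eV (i j : Fin k) : polar ⇑(minusForm k F a b) (eV i) (eV j) = 0 := (frame k F a b).ee i j

theorem polar_fV_fV (i j : Fin k) : polar ⇑(minusForm k F a b) (fV i) (fV j) = 0 := (frame k F a b).ff i j

theorem polar_eV_fV_self (i : Fin k) : polar ⇑(minusForm k F a b) (eV i) (fV i) = 1 :=
  (frame k F a b).ef_self i

theorem polar_fV_eV_self (i : Fin k) : polar ⇑(minusForm k F a b) (fV i) (eV i) = 1 :=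
  (frame k F a b).fe_self i

theorem polar_eV_fV_ne {i j : Fin k} (h : i ≠ j) : polar ⇑(minusForm k F a b) (eV i) (fV j) = 0 :=
  (frame k F a b).ef_ne h

theorem polar_fV_eV_ne {i j : Fin k} (h : i ≠ j) : polar ⇑(minusForm k F a b) (fV i) (eV j) = 0 :=
  (frame k F a b).fe_ne h

theorem lin_xE (p : Fin k) {z : Idx k → F} (hz : z ∈ (frame k F a b).W) (x : Idx k → F) :
    lin (minusForm k F a b) (xE p z) x
      = x + polar ⇑(minusForm k F a b) z x • eV p - polar ⇑(minusForm k F a b) (eV p) x • z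
        - (minusForm k F a b z * polar ⇑(minusForm k F a b) (eV p) x) • eV p :=
  (frame k F a b).lin_xe p hz x

theorem lin_xF (p : Fin k) {z : Idx k → F} (hz : z ∈ (frame k F a b).W) (x : Idx k → F) :
    lin (minusForm k F a b) (xF p z) x
      = x + polar ⇑(minusForm k F a b) z x • fV p - polar ⇑(minusForm k F a b) (fV p) x • z
        - (minusForm k F a b z * polar ⇑(minusForm k F a b) (fV p) x) • fV p :=
  (frame k F a b).lin_xf p hz x

theorem xE_eV (p j : Fin k) {z : Idx k → F} (hz : z ∈ (frame k F a b).W) :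
    lin (minusForm k F a b) (xE p z) (eV j) = eV j := by
  rw [lin_xE p hz, polar_W_eV j hz, polar_eV_eV]
  module

theorem xE_fV_self (p : Fin k) {z : Idx k → F} (hz : z ∈ (frame k F a b).W) :
    lin (minusForm k F a b) (xE p z) (fV p) = fV p - z - minusForm k F a b z • eV p := by
  rw [lin_xE p hz, polar_W_fV p hz, polar_eV_fV_self]
  module

theorem xE_fV_ne {i p : Fin k} (hip : i ≠ p) {z : Idx k → F} (hz : z ∈ (frame k F a b).W) :
    lin (minusForm k F a b) (xE p z) (fV i) = fV i := by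
  rw [lin_xE p hz, polar_W_fV i hz, polar_eV_fV_ne hip.symm]
  module

theorem xE_W (p : Fin k) {z w : Idx k → F} (hz : z ∈ (frame k F a b).W) (hw : w ∈ (frame k F a b).W) :
    lin (minusForm k F a b) (xE p z) w = w + polar ⇑(minusForm k F a b) z w • eV p := by
  rw [lin_xE p hz, polar_eV_W p hw]
  module

theorem xF_fV (p j : Fin k) {z : Idx k → F} (hz : z ∈ (frame k F a b).W) :
    lin (minusForm k F a b) (xF p z) (fV j) = fV j := by
  rw [lin_xF p hz, polar_W_fV j hz, polar_fV_fV]
  module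

theorem xF_eV_self (p : Fin k) {z : Idx k → F} (hz : z ∈ (frame k F a b).W) :
    lin (minusForm k F a b) (xF p z) (eV p) = eV p - z - minusForm k F a b z • fV p := by
  rw [lin_xF p hz, polar_W_eV p hz, polar_fV_eV_self]
  module

theorem xF_eV_ne {i p : Fin k} (hip : i ≠ p) {z : Idx k → F} (hz : z ∈ (frame k F a b).W) :
    lin (minusForm k F a b) (xF p z) (eV i) = eV i := by
  rw [lin_xF p hz, polar_W_eV i hz, polar_fV_eV_ne hip.symm]
  module

theorem xF_W (p : Fin k) {z w : Idx k → F} (hz : z ∈ (frame k F a b).W) (hw : w ∈ (frame k F a b).W) :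
    lin (minusForm k F a b) (xF p z) w = w + polar ⇑(minusForm k F a b) z w • fV p := by
  rw [lin_xF p hz, polar_fV_W p hw]
  module

/-- an isometry fixing `e_p` and `z` commutes with `xE p z` -/
theorem commute_xE (g : OG k F a b) (p : Fin k) {z : Idx k → F} (hz : z ∈ (frame k F a b).W)
    (h1 : lin (minusForm k F a b) g (eV p) = eV p) (h3 : lin (minusForm k F a b) g z = z) :
    Commute g (xE p z) := by
  have h := (frame k F a b).conj_xe g p hz
  rw [frame_e, h1, h3] at h
  show g * xE p z = xE p z * g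
  rw [mul_inv_eq_iff_eq_mul] at h
  exact h

/-- an isometry fixing `f_p` and `z` commutes with `xF p z` -/
theorem commute_xF (g : OG k F a b) (p : Fin k) {z : Idx k → F} (hz : z ∈ (frame k F a b).W)
    (h2 : lin (minusForm k F a b) g (fV p) = fV p) (h3 : lin (minusForm k F a b) g z = z) :
    Commute g (xF p z) := by
  have h := (frame k F a b).conj_xf g p hz
  rw [frame_f, h2, h3] at h
  show g * xF p z = xF p z * g
  rw [mul_inv_eq_iff_eq_mul] at h
  exact h

theorem xE_mem_Omega [Fintype F]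
    (hab : ∀ z₁ z₂ : F, z₁ ^ 2 + a * z₁ * z₂ + b * z₂ ^ 2 = 0 → z₁ = 0 ∧ z₂ = 0) (hk : 2 ≤ k)
    (p : Fin k) (z : Idx k → F) : (xE p z : OG k F a b) ∈ Cfsg.Omega F ⇑(minusForm k F a b) :=
  eichlerO_mem_Omega' hab hk _ _

theorem xF_mem_Omega [Fintype F]
    (hab : ∀ z₁ z₂ : F, z₁ ^ 2 + a * z₁ * z₂ + b * z₂ ^ 2 = 0 → z₁ = 0 ∧ z₂ = 0) (hk : 2 ≤ k)
    (p : Fin k) (z : Idx k → F) : (xF p z : OG k F a b) ∈ Cfsg.Omega F ⇑(minusForm k F a b) :=
  eichlerO_mem_Omega' hab hk _ _

end Cfsg.Agent.Helper87.OMinus
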