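import Cfsg.Agent.Helper88.OMinus.YDefs
import Cfsg.Agent.Helper87.OMinusXVal

/-!
# (M-YE) for helper88's S2415: the element `yE p z z' = E(e_p, z) E(f_p, z')`
-/

set_option autoImplicit false

namespace Cfsg.Agent.Helper87.OMinus

open Matrix QuadraticMap Cfsg.Agent.Helper44 Cfsg.Agent.Helper45.OmegaParity Cfsg.Agent.Helper5
open Cfsg.Agent.Helper40.Frame Cfsg.Agent.Helper88.OMinus

variable {F : Type*} [Field F] {k : ℕ} {a b : F}

theorem yE_fV (p : Fin k) {z z' : Idx k → F} (hz : z ∈ (frame k F a b).W) (hz' : z' ∈ (frame k F a b).W) :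
    lin (minusForm k F a b) (yE p z z') (fV p)
      = (1 : F) • fV p + (-(minusForm k F a b z)) • eV p + (-z) := by
  unfold yE
  rw [lin_mul_apply, xF_fV p p hz', xE_fV_self p hz]
  module

theorem yE_eV (p : Fin k) {z z' : Idx k → F} (hz : z ∈ (frame k F a b).W) (hz' : z' ∈ (frame k F a b).W) :
    lin (minusForm k F a b) (yE p z z') (eV p)
      = (1 - polar ⇑(minusForm k F a b) z z' + minusForm k F a b z * minusForm k F a b z') • eV p
        + (-(minusForm k F a b z')) • fV p + (minusForm k F a b z' • z - z') := by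
  unfold yE
  rw [lin_mul_apply, xF_eV_self p hz']
  simp only [map_sub, map_smul, xE_eV p p hz, xE_W p hz hz', xE_fV_self p hz]
  module

theorem yE_fix_eV {i p : Fin k} (hip : i ≠ p) {z z' : Idx k → F} (hz : z ∈ (frame k F a b).W)
    (hz' : z' ∈ (frame k F a b).W) :
    lin (minusForm k F a b) (yE p z z') (eV i) = eV i := by
  unfold yE
  rw [lin_mul_apply, xF_eV_ne hip hz', xE_eV p i hz]

theorem yE_fix_fV {i p : Fin k} (hip : i ≠ p) {z z' : Idx k → F} (hz : z ∈ (frame k F a b).W)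
    (hz' : z' ∈ (frame k F a b).W) :
    lin (minusForm k F a b) (yE p z z') (fV i) = fV i := by
  unfold yE
  rw [lin_mul_apply, xF_fV p i hz', xE_fV_ne hip hz]

/-- an isometry fixing `e_p`, `f_p`, `z`, `z'` commutes with `yE p z z'` -/
theorem commute_yE (g : OG k F a b) (p : Fin k) {z z' : Idx k → F} (hz : z ∈ (frame k F a b).W)
    (hz' : z' ∈ (frame k F a b).W)
    (h1 : lin (minusForm k F a b) g (eV p) = eV p) (h2 : lin (minusForm k F a b) g (fV p) = fV p)
    (h3 : lin (minusForm k F a b) g z = z) (h4 : lin (minusForm k F a b) g z' = z') :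
    Commute g (yE p z z') :=
  (commute_xE g p hz h1 h3).mul_right (commute_xF g p hz' h2 h4)

theorem yE_mem_Omega [Fintype F]
    (hab : ∀ z₁ z₂ : F, z₁ ^ 2 + a * z₁ * z₂ + b * z₂ ^ 2 = 0 → z₁ = 0 ∧ z₂ = 0) (hk : 2 ≤ k)
    (p : Fin k) (z z' : Idx k → F) :
    (yE p z z' : OG k F a b) ∈ Cfsg.Omega F ⇑(minusForm k F a b) :=
  mul_mem (xE_mem_Omega hab hk p z) (xF_mem_Omega hab hk p z')

end Cfsg.Agent.Helper87.OMinus
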