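import Cfsg.Agent.Helper88.OMinus.YDefs
import Cfsg.Agent.Helper87.OMinusXVal

/-!
# (M-YU) for helper88's S2415: the unipotent element `yU p z z' = E(f_p, z') E(e_p, z) E(f_p, z')⁻¹`
-/

set_option autoImplicit false

namespace Cfsg.Agent.Helper87.OMinus

open Matrix QuadraticMap Cfsg.Agent.Helper44 Cfsg.Agent.Helper45.OmegaParity Cfsg.Agent.Helper5
open Cfsg.Agent.Helper40.Frame Cfsg.Agent.Helper88.OMinus

variable {F : Type*} [Field F] {k : ℕ} {a b : F}

theorem neg_mem_W {z : Idx k → F} (hz : z ∈ (frame k F a b).W) : -z ∈ (frame k F a b).W :=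
  (frame k F a b).W.neg_mem hz

theorem yU_fV (p : Fin k) {z z' : Idx k → F} (hz : z ∈ (frame k F a b).W) (hz' : z' ∈ (frame k F a b).W) :
    lin (minusForm k F a b) (yU p z z') (fV p)
      = (1 - polar ⇑(minusForm k F a b) z z' + minusForm k F a b z * minusForm k F a b z') • fV p
        + (-(minusForm k F a b z)) • eV p + (-z + minusForm k F a b z • z') := by
  unfold yU
  rw [lin_mul_apply, lin_mul_apply, xF_fV p p (neg_mem_W hz'), xE_fV_self p hz]
  simp only [map_sub, map_smul, xF_fV p p hz', xF_W p hz' hz, xF_eV_self p hz']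
  rw [QuadraticMap.polar_comm (⇑(minusForm k F a b)) z' z]
  module

theorem yU_eV (p : Fin k) {z z' : Idx k → F} (hz : z ∈ (frame k F a b).W) (hz' : z' ∈ (frame k F a b).W) :
    lin (minusForm k F a b) (yU p z z') (eV p)
      = (1 + polar ⇑(minusForm k F a b) z z' + minusForm k F a b z * minusForm k F a b z') • eV p
        + (-(minusForm k F a b z * minusForm k F a b z' ^ 2)) • fV p
        + ((-(polar ⇑(minusForm k F a b) z z' + minusForm k F a b z * minusForm k F a b z')) • z'
            + minusForm k F a b z' • z) := by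
  have hself : polar ⇑(minusForm k F a b) z' z' = 2 * minusForm k F a b z' := by
    rw [QuadraticMap.polar_self, two_nsmul, two_mul]
  unfold yU
  rw [lin_mul_apply, lin_mul_apply, xF_eV_self p (neg_mem_W hz'), QuadraticMap.map_neg]
  simp only [map_sub, map_add, map_smul, map_neg, xE_eV p p hz, xE_W p hz hz', xE_fV_self p hz,
    xF_fV p p hz', xF_W p hz' hz, xF_W p hz' hz', xF_eV_self p hz', hself]
  rw [QuadraticMap.polar_comm (⇑(minusForm k F a b)) z' z]
  module

theorem yU_fix_eV {i p : Fin k} (hip : i ≠ p) {z z' : Idx k → F} (hz : z ∈ (frame k F a b).W)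
    (hz' : z' ∈ (frame k F a b).W) :
    lin (minusForm k F a b) (yU p z z') (eV i) = eV i := by
  unfold yU
  rw [lin_mul_apply, lin_mul_apply, xF_eV_ne hip (neg_mem_W hz'), xE_eV p i hz, xF_eV_ne hip hz']

theorem yU_fix_fV {i p : Fin k} (hip : i ≠ p) {z z' : Idx k → F} (hz : z ∈ (frame k F a b).W)
    (hz' : z' ∈ (frame k F a b).W) :
    lin (minusForm k F a b) (yU p z z') (fV i) = fV i := by
  unfold yU
  rw [lin_mul_apply, lin_mul_apply, xF_fV p i (neg_mem_W hz'), xE_fV_ne hip hz, xF_fV p i hz']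

theorem yU_pow (p : Fin k) {z z' : Idx k → F} (hz : z ∈ (frame k F a b).W)
    (hz' : z' ∈ (frame k F a b).W) (n : ℕ) (hn : (n : F) = 0) :
    (yU p z z' : OG k F a b) ^ n = 1 := by
  have h : (yU p z z' : OG k F a b) = xF p z' * xE p z * (xF p z')⁻¹ := by
    unfold yU xF
    rw [(frame k F a b).xf_inv p hz']
  rw [h, conj_pow]
  have h2 : (xE p z : OG k F a b) ^ n = 1 := by
    unfold xE
    rw [(frame k F a b).xe_pow p hz, hn, zero_smul, (frame k F a b).xe_zero]
  rw [h2, mul_one, mul_inv_cancel]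

/-- an isometry fixing `e_p`, `f_p`, `z`, `z'` commutes with `yU p z z'` -/
theorem commute_yU (g : OG k F a b) (p : Fin k) {z z' : Idx k → F} (hz : z ∈ (frame k F a b).W)
    (hz' : z' ∈ (frame k F a b).W)
    (h1 : lin (minusForm k F a b) g (eV p) = eV p) (h2 : lin (minusForm k F a b) g (fV p) = fV p)
    (h3 : lin (minusForm k F a b) g z = z) (h4 : lin (minusForm k F a b) g z' = z') :
    Commute g (yU p z z') :=
  ((commute_xF g p hz' h2 h4).mul_right (commute_xE g p hz h1 h3)).mul_right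
    (commute_xF g p (neg_mem_W hz') h2 (by rw [map_neg, h4]))

theorem yU_mem_Omega [Fintype F]
    (hab : ∀ z₁ z₂ : F, z₁ ^ 2 + a * z₁ * z₂ + b * z₂ ^ 2 = 0 → z₁ = 0 ∧ z₂ = 0) (hk : 2 ≤ k)
    (p : Fin k) (z z' : Idx k → F) :
    (yU p z z' : OG k F a b) ∈ Cfsg.Omega F ⇑(minusForm k F a b) :=
  mul_mem (mul_mem (xF_mem_Omega hab hk p z') (xE_mem_Omega hab hk p z)) (xF_mem_Omega hab hk p (-z'))

end Cfsg.Agent.Helper87.OMinus
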