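import Mathlib
import Cfsg.Agent.Helper45.OddBN.SgDefs
import Cfsg.Agent.Helper5.SuBN.Defs
import Cfsg.Agent.Helper47.OddStSG1
import Cfsg.Agent.Helper87.OddStSG2

/-!
# (SG2) of S2547 (helper45), verbatim: the Siegel elements are commutators
-/

set_option autoImplicit false

namespace Cfsg.Agent.Helper87.OddStSG2

open Matrix Cfsg Cfsg.Agent.Helper5.SuBN Cfsg.Agent.Helper45.OddBN

variable {F : Type*} [Field F] {n : ℕ}

/-- (SG2) the Siegel elements are commutators: `[h, ρ(-w/2)] = ρ(w)` for `h = diag(-1 at j and rev j)` -/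
theorem sg_mem_commutator (h2 : (2 : F) ≠ 0) (j : Fin n) (hj : j < Fin.rev j) (w : Fin n → F)
    (hw1 : ∀ b : Fin n, b ≤ j → w b = 0) (hw2 : ∀ b : Fin n, Fin.rev j ≤ b → w b = 0)
    (r : SOJ n F) (hr : mat r = sgMat j w) : r ∈ commutator (SOJ n F) :=
  sg_mem_commutator_of
    (fun w j hj a b => Cfsg.Agent.Helper47.OddStSG1.sgMat_isUJ h2 j hj w a b) h2 j hj w hw1 hw2 r hr

end Cfsg.Agent.Helper87.OddStSG2
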