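import Mathlib
import Cfsg.Agent.Helper47.Frattini
set_option autoImplicit false

namespace Cfsg.Agent.Helper87

open scoped commutatorElement

/-- If `p` divides the order of `G`, there are at least `p` solutions of `x ^ p = 1`. -/
theorem le_card_pow_eq_one {G : Type*} [Group G] [Finite G] {p : ℕ} [Fact p.Prime] (h : p ∣ Nat.card G) :
    p ≤ Nat.card {a : G // a ^ p = 1} := by
  obtain ⟨g, hg⟩ := exists_prime_orderOf_dvd_card' p h
  have hc : Nat.card (Subgroup.zpowers g) = p := by rw [Nat.card_zpowers, hg]
  have hmem : ∀ a : Subgroup.zpowers g, (a : G) ^ p = 1 := by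
    rintro ⟨a, ha⟩
    obtain ⟨k, rfl⟩ := Subgroup.mem_zpowers_iff.mp ha
    show (g ^ k) ^ p = 1
    rw [← zpow_natCast, ← zpow_mul, mul_comm, zpow_mul, zpow_natCast, ← hg, pow_orderOf_eq_one, one_zpow]
  calc p = Nat.card (Subgroup.zpowers g) := hc.symm
    _ ≤ Nat.card {a : G // a ^ p = 1} :=
      Nat.card_le_card_of_injective (fun a => (⟨a.1, hmem a⟩ : {a : G // a ^ p = 1}))
        (fun a b hab => Subtype.ext (by
          have h1 : (⟨a.1, hmem a⟩ : {a : G // a ^ p = 1}) = ⟨b.1, hmem b⟩ := hab
          exact Subtype.mk_eq_mk.mp h1))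

/-- Isomorphic groups have the same number of solutions of `x ^ p = 1`. -/
theorem card_pow_eq_one_congr {G G' : Type*} [Group G] [Group G'] (e : G ≃* G') (p : ℕ) :
    Nat.card {a : G // a ^ p = 1} = Nat.card {a : G' // a ^ p = 1} := by
  apply Nat.card_congr
  refine Equiv.subtypeEquiv e.toEquiv ?_
  intro a
  constructor
  · intro h
    show (e a) ^ p = 1
    rw [← map_pow, h, map_one]
  · intro h
    have h' : (e a) ^ p = 1 := h
    rw [← map_pow] at h'
    exact e.injective (by rw [h', map_one])

/-- The number of solutions of `x ^ p = 1` in a product. -/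
theorem card_pow_eq_one_prod (G G' : Type*) [Group G] [Group G'] (p : ℕ) :
    Nat.card {a : G × G' // a ^ p = 1} = Nat.card {a : G // a ^ p = 1} * Nat.card {a : G' // a ^ p = 1} := by
  rw [← Nat.card_prod]
  apply Nat.card_congr
  refine (Equiv.subtypeEquivRight ?_).trans Equiv.subtypeProdEquivProd
  intro a
  rw [Prod.ext_iff]
  exact Iff.rfl

/-- In a finite commutative group the index of the subgroup of `p`-th powers is the number of solutions of
`x ^ p = 1`. -/
theorem index_range_powMonoidHom {T : Type*} [CommGroup T] [Finite T] (p : ℕ) :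
    (powMonoidHom p : T →* T).range.index = Nat.card {a : T // a ^ p = 1} := by
  have h1 := Subgroup.card_mul_index (powMonoidHom p : T →* T).ker
  have h2 := Subgroup.card_mul_index (powMonoidHom p : T →* T).range
  rw [Subgroup.index_ker] at h1
  have hpos : 0 < Nat.card (powMonoidHom p : T →* T).range := Nat.card_pos
  have h3 : Nat.card (powMonoidHom p : T →* T).range * (powMonoidHom p : T →* T).range.index =
      Nat.card (powMonoidHom p : T →* T).range * Nat.card (powMonoidHom p : T →* T).ker := by
    rw [h2, mul_comm, h1]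
  rw [Nat.eq_of_mul_eq_mul_left hpos h3]
  apply Nat.card_congr
  refine Equiv.subtypeEquivRight ?_
  intro a
  rw [MonoidHom.mem_ker]
  exact Iff.rfl

/-- In a finite commutative group the number of solutions of `x ^ p = 1` divides the index of the Frattini subgroup. -/
theorem card_pow_eq_one_dvd_frattini_index {T : Type*} [CommGroup T] [Finite T] (p : ℕ) [Fact p.Prime] :
    Nat.card {a : T // a ^ p = 1} ∣ (frattini T).index := by
  rw [← index_range_powMonoidHom]
  apply Subgroup.index_dvd_of_le
  apply Cfsg.Agent.Helper47.frattini_le_of_commutator_pow_mem (p := p)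
  · intro a b
    have : ⁅a, b⁆ = 1 := commutatorElement_eq_one_iff_mul_comm.mpr (mul_comm a b)
    rw [this]
    exact Subgroup.one_mem _
  · intro a
    exact ⟨a, rfl⟩

end Cfsg.Agent.Helper87
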