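import Mathlib
import Cfsg.Agent.Helper19.OpBN.Defs
import Cfsg.Agent.Helper87.OpBNXLem

/-!
# (XOM1) for helper19's S2548: the root elements are commutators with torus elements when `|F| > 2`
-/

set_option autoImplicit false

namespace Cfsg.Agent.Helper87.OpBN

open Matrix Cfsg Cfsg.Agent.Helper19.OpBN

variable {F : Type*} [Field F] {m : ℕ}

/-- the diagonal of the torus element: `c` at `a`, `c⁻¹` at `rev a`, `1` elsewhere -/
def dVec (a : Fin (2 * m)) (c : F) : Fin (2 * m) → F :=
  fun i => if i = a then c else if i = Fin.rev a then c⁻¹ else 1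

theorem dVec_self (a : Fin (2 * m)) (c : F) : dVec a c a = c := by
  unfold dVec
  rw [if_pos rfl]

theorem dVec_rev (a : Fin (2 * m)) (c : F) : dVec a c (Fin.rev a) = c⁻¹ := by
  unfold dVec
  rw [if_neg (rev_ne a), if_pos rfl]

theorem dVec_of_ne (a : Fin (2 * m)) (c : F) {i : Fin (2 * m)} (h1 : i ≠ a) (h2 : i ≠ Fin.rev a) :
    dVec a c i = 1 := by
  unfold dVec
  rw [if_neg h1, if_neg h2]

theorem dVec_mul_rev (a : Fin (2 * m)) (c : F) (hc : c ≠ 0) (i : Fin (2 * m)) :
    dVec a c i * dVec a c (Fin.rev i) = 1 := by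
  by_cases h1 : i = a
  · rw [h1, dVec_self, dVec_rev, mul_inv_cancel₀ hc]
  · by_cases h2 : i = Fin.rev a
    · rw [h2, Fin.rev_rev, dVec_self, dVec_rev, inv_mul_cancel₀ hc]
    · rw [dVec_of_ne a c h1 h2, dVec_of_ne a c (i := Fin.rev i), mul_one]
      · intro h
        apply h2
        rw [← h, Fin.rev_rev]
      · intro h
        exact h1 (Fin.rev_injective h)

/-- the diagonal matrix is an isometry -/
theorem diagonal_dVec_isOJ (a : Fin (2 * m)) (c : F) (hc : c ≠ 0) :
    IsOJ (Matrix.diagonal (dVec a c)) := by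
  constructor
  · intro b
    apply Finset.sum_eq_zero
    intro i _
    by_cases h : lo i = b
    · have h2 : hi i ≠ b := fun h' => lo_ne_hi i i (h.trans h'.symm)
      rw [Matrix.diagonal_apply_ne _ h2, mul_zero]
    · rw [Matrix.diagonal_apply_ne _ h, zero_mul]
  · intro b c'
    rw [Finset.sum_eq_single b]
    · rw [Matrix.diagonal_apply_eq]
      by_cases h : b = Fin.rev c'
      · rw [if_pos h]
        have h' : Fin.rev b = c' := by rw [h, Fin.rev_rev]
        rw [← h', Matrix.diagonal_apply_eq, dVec_mul_rev a c hc]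
      · rw [if_neg h, Matrix.diagonal_apply_ne, mul_zero]
        intro h'
        apply h
        rw [← h', Fin.rev_rev]
    · intro i _ hi
      rw [Matrix.diagonal_apply_ne _ hi, zero_mul]
    · intro hh; exact absurd (Finset.mem_univ _) hh

theorem diagonal_mul_single_one (d : Fin (2 * m) → F) (a b : Fin (2 * m)) :
    Matrix.diagonal d * Matrix.single a b (1 : F) = d a • Matrix.single a b (1 : F) := by
  ext i j
  rw [Matrix.diagonal_mul, Matrix.smul_apply, Matrix.single_apply, smul_eq_mul]
  by_cases h : a = i ∧ b = j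
  · rw [if_pos h, h.1]
  · rw [if_neg h, mul_zero, mul_zero]

theorem single_one_mul_diagonal (d : Fin (2 * m) → F) (a b : Fin (2 * m)) :
    Matrix.single a b (1 : F) * Matrix.diagonal d = d b • Matrix.single a b (1 : F) := by
  ext i j
  rw [Matrix.mul_diagonal, Matrix.smul_apply, Matrix.single_apply, smul_eq_mul]
  by_cases h : a = i ∧ b = j
  · rw [if_pos h, h.2, mul_comm]
  · rw [if_neg h, zero_mul, mul_zero]

/-- conjugating a root element by the torus element scales the parameter -/
theorem diagonal_mul_xMat {a b : Fin (2 * m)} (hab : a ≠ b) (hab' : a ≠ Fin.rev b) (c : F)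
    (hc : c ≠ 0) (t : F) :
    Matrix.diagonal (dVec a c) * xMat a b t = xMat a b (c * t) * Matrix.diagonal (dVec a c) := by
  have hb1 : dVec a c b = 1 := dVec_of_ne a c hab.symm (fun h => hab' (by rw [h, Fin.rev_rev]))
  have hb2 : dVec a c (Fin.rev b) = 1 :=
    dVec_of_ne a c hab'.symm (fun h => hab (Fin.rev_injective h).symm)
  rw [xMat_eq, xMat_eq, mul_add, add_mul, mul_one, one_mul]
  congr 1
  unfold nMat
  rw [Matrix.mul_sub, Matrix.sub_mul]
  simp only [Matrix.smul_mul, Matrix.mul_smul]
  rw [diagonal_mul_single_one, diagonal_mul_single_one, single_one_mul_diagonal,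
    single_one_mul_diagonal, dVec_self, dVec_rev, hb1, hb2]
  simp only [smul_smul]
  congr 2
  · rw [mul_one, mul_comm]
  · field_simp

/-- (XOM1) the root elements are commutators with torus elements, if the field has an element `≠ 0, 1` -/
theorem Xset_subset_commutator_of_ne
    (hX : ∀ (a b : Fin (2 * m)), a ≠ b → a ≠ Fin.rev b → ∀ t : F, IsOJ (xMat a b t))
    (c : F) (hc0 : c ≠ 0) (hc1 : c ≠ 1) (k : Fin (m - 1)) :
    Xset k ⊆ ((commutator (OG m F) : Subgroup (OG m F)) : Set (OG m F)) := by
  intro g hg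
  obtain ⟨t, ht⟩ := hg
  have hk := k.2
  have hab : ia k ≠ ib k := by
    intro h
    have := congrArg Fin.val h
    rw [val_ia, val_ib] at this
    omega
  have hab' : ia k ≠ Fin.rev (ib k) := by
    intro h
    have := congrArg Fin.val h
    rw [val_rev, val_ia, val_ib] at this
    omega
  have hc1' : c - 1 ≠ 0 := sub_ne_zero.2 hc1
  obtain ⟨h, hh⟩ := exists_of_isOJ (diagonal_dVec_isOJ (ia k) c hc0)
  obtain ⟨x, hx⟩ := exists_of_isOJ (hX (ia k) (ib k) hab hab' (t / (c - 1)))
  obtain ⟨x'', hx''⟩ := exists_of_isOJ (hX (ia k) (ib k) hab hab' (c * (t / (c - 1))))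
  have e1 : h * x = x'' * h := by
    apply mat_injective
    rw [mat_mul, mat_mul, hh, hx, hx'', diagonal_mul_xMat hab hab' c hc0]
  have e2 : g * x = x'' := by
    apply mat_injective
    rw [mat_mul, ht, hx, hx'', xMat_mul_xMat hab]
    congr 1
    field_simp
    ring
  have hgc : g = h * x * h⁻¹ * x⁻¹ := by
    rw [e1, mul_inv_cancel_right, ← e2, mul_inv_cancel_right]
  have hmem := Subgroup.commutator_mem_commutator (Subgroup.mem_top h) (Subgroup.mem_top x)
  rw [commutatorElement_def] at hmem
  rw [hgc]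
  exact hmem

end Cfsg.Agent.Helper87.OpBN
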