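import Cfsg.Agent.Helper87.P4Center
set_option autoImplicit false

namespace Cfsg.Agent.Helper87

open scoped commutatorElement

/-- In a finite cyclic group there are at most `n` solutions of `x ^ n = 1`. -/
theorem natCard_pow_eq_one_le_of_isCyclic {G : Type*} [Group G] [Finite G] [IsCyclic G] {n : ℕ} (hn : 0 < n) :
    Nat.card {a : G // a ^ n = 1} ≤ n := by
  classical
  haveI : Fintype G := Fintype.ofFinite G
  rw [Nat.card_eq_fintype_card, Fintype.card_subtype]
  exact IsCyclic.card_pow_eq_one_le hn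

/-- `p` divides `0 + 1 + ⋯ + (p ^ 2 - 1)`. -/
theorem dvd_sum_range_sq (p : ℕ) : p ∣ ∑ i ∈ Finset.range (p ^ 2), i := by
  have h2 := Finset.sum_range_id_mul_two (p ^ 2)
  have hev : ∃ m, p * (p ^ 2 - 1) = 2 * m := by
    rcases Nat.even_or_odd' p with ⟨k, hk | hk⟩
    · exact ⟨k * (p ^ 2 - 1), by rw [hk]; ring⟩
    · refine ⟨p * (2 * k ^ 2 + 2 * k), ?_⟩
      have : p ^ 2 - 1 = 2 * (2 * k ^ 2 + 2 * k) := by
        rw [hk]
        have : (2 * k + 1) ^ 2 = 2 * (2 * k ^ 2 + 2 * k) + 1 := by ring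
        rw [this]
        omega
      rw [this]
      ring
  obtain ⟨m, hm⟩ := hev
  refine ⟨m, ?_⟩
  have : (∑ i ∈ Finset.range (p ^ 2), i) * 2 = (p * m) * 2 := by
    rw [h2]
    calc p ^ 2 * (p ^ 2 - 1) = p * (p * (p ^ 2 - 1)) := by ring
      _ = p * (2 * m) := by rw [hm]
      _ = p * m * 2 := by ring
  exact Nat.eq_of_mul_eq_mul_right (by norm_num) this

/-- In a noncommutative group of order `p ^ 4` the order of every element divides `p ^ 3`. -/
theorem pow_cube_eq_one_of_card_p4 {T : Type*} [Group T] [Finite T] {p : ℕ} [Fact p.Prime] (hcard : Nat.card T = p ^ 4)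
    (hnab : ¬ ∀ a b : T, a * b = b * a) (a : T) : a ^ (p ^ 3) = 1 := by
  have hp : p.Prime := Fact.out
  have hdvd : orderOf a ∣ p ^ 4 := hcard ▸ orderOf_dvd_natCard a
  obtain ⟨k, hk, hk'⟩ := (Nat.dvd_prime_pow hp).mp hdvd
  have hk4 : k ≠ 4 := by
    rintro rfl
    have hc := isCyclic_of_orderOf_eq_card a (by rw [hk', hcard])
    apply hnab
    intro a b
    obtain ⟨g, hg⟩ := IsCyclic.exists_generator (α := T)
    obtain ⟨m, rfl⟩ := Subgroup.mem_zpowers_iff.mp (hg a)
    obtain ⟨n, rfl⟩ := Subgroup.mem_zpowers_iff.mp (hg b)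
    rw [← zpow_add, ← zpow_add, add_comm]
  apply orderOf_dvd_iff_pow_eq_one.mp
  rw [hk']
  exact pow_dvd_pow p (by omega)

/-- A noncommutative group of order `p ^ 4` with cyclic centre of order `p ^ 2` has exponent dividing `p ^ 2` or a chain
of characteristic subgroups with cyclic steps. -/
theorem caseA {T : Type*} [Group T] [Finite T] {p : ℕ} [Fact p.Prime] (hcard : Nat.card T = p ^ 4)
    (hnab : ¬ ∀ a b : T, a * b = b * a) (hZ : Nat.card (Subgroup.center T) = p ^ 2)
    (hcyc : IsCyclic (Subgroup.center T)) : (∀ x : T, x ^ (p ^ 2) = 1) ∨ HasCharChain T := by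
  have hp : p.Prime := Fact.out
  obtain ⟨hc, hpow, hcp⟩ := class_two_of_card_center_sq hcard hnab hZ
  have hmul : ∀ a b : T, (a * b) ^ (p ^ 2) = a ^ (p ^ 2) * b ^ (p ^ 2) := by
    apply mul_pow_of_comm_central hc
    intro a b
    obtain ⟨m, hm⟩ := dvd_sum_range_sq p
    rw [hm, pow_mul, hcp, one_pow]
  by_cases h : ∀ x : T, x ^ (p ^ 2) = 1
  · exact Or.inl h
  right
  push Not at h
  obtain ⟨x₀, hx₀⟩ := h
  set φ := powHom (p ^ 2) hmul with hφ
  have hRZ : φ.range ≤ Subgroup.center T := by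
    rintro _ ⟨x, rfl⟩
    rw [powHom_apply, sq, pow_mul]
    exact Subgroup.pow_mem _ (hpow x) p
  have hZK : Subgroup.center T ≤ φ.ker := by
    intro z hz
    rw [MonoidHom.mem_ker, powHom_apply]
    have h1 := pow_card_eq_one' (G := Subgroup.center T) (x := ⟨z, hz⟩)
    rw [hZ] at h1
    exact congrArg Subtype.val h1
  have hRne : φ.range ≠ ⊥ := by
    intro h
    apply hx₀
    have : φ x₀ ∈ φ.range := ⟨x₀, rfl⟩
    rw [h, Subgroup.mem_bot] at this
    exact this
  have hRle : Nat.card φ.range ≤ p := by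
    have hmem : ∀ r : φ.range, (⟨r.1, hRZ r.2⟩ : Subgroup.center T) ^ p = 1 := by
      rintro ⟨_, ⟨x, rfl⟩⟩
      apply Subtype.ext
      show (φ x) ^ p = 1
      rw [powHom_apply, ← pow_mul, ← pow_succ]
      exact pow_cube_eq_one_of_card_p4 hcard hnab x
    calc Nat.card φ.range ≤ Nat.card {z : Subgroup.center T // z ^ p = 1} :=
          Nat.card_le_card_of_injective (fun r => (⟨⟨r.1, hRZ r.2⟩, hmem r⟩ : {z : Subgroup.center T // z ^ p = 1}))
            (fun a b hab => Subtype.ext (by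
              have h1 : (⟨⟨a.1, hRZ a.2⟩, hmem a⟩ : {z : Subgroup.center T // z ^ p = 1}) = ⟨⟨b.1, hRZ b.2⟩, hmem b⟩ := hab
              have h2 := Subtype.mk_eq_mk.mp h1
              exact Subtype.mk_eq_mk.mp h2))
      _ ≤ p := natCard_pow_eq_one_le_of_isCyclic hp.pos
  have hprod : Nat.card φ.ker * Nat.card φ.range = p ^ 4 := by
    rw [← Subgroup.index_ker, Subgroup.card_mul_index, hcard]
  have hR : Nat.card φ.range = p := by
    obtain ⟨i, -, hi⟩ := (Nat.dvd_prime_pow hp).mp (hprod ▸ Dvd.intro_left _ rfl : Nat.card φ.range ∣ p ^ 4)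
    have hi0 : i ≠ 0 := by
      rintro rfl
      rw [pow_zero] at hi
      exact hRne (Subgroup.card_eq_one.mp hi)
    have hi1 : i ≤ 1 := by
      rw [hi] at hRle
      by_contra hcon
      have : p ^ 2 ≤ p ^ i := Nat.pow_le_pow_right hp.pos (by omega)
      have h2 : p < p ^ 2 := by
        have := hp.one_lt
        nlinarith
      omega
    have : i = 1 := by omega
    rw [hi, this, pow_one]
  have hK : Nat.card φ.ker = p ^ 3 := by
    rw [hR] at hprod
    have : Nat.card φ.ker * p = p ^ 3 * p := by rw [hprod]; ring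
    exact Nat.eq_of_mul_eq_mul_right hp.pos this
  exact hasCharChain_of_three hcard φ.range (Subgroup.center T) φ.ker hRZ hZK hR hZ hK
    (isChar_range_of_comm φ (powHom_comm _ hmul)) (isChar_center T) (isChar_ker_of_comm φ (powHom_comm _ hmul))

end Cfsg.Agent.Helper87
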