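import Cfsg.Agent.Helper87.P4Center
import Cfsg.Agent.Helper87.P4CaseA
set_option autoImplicit false

namespace Cfsg.Agent.Helper87

open scoped commutatorElement

/-- In a noncyclic group of order `p ^ 2` every element has order dividing `p`. -/
theorem pow_eq_one_of_card_sq_of_not_isCyclic {G : Type*} [Group G] {p : ℕ} [Fact p.Prime] (hcard : Nat.card G = p ^ 2)
    (hncyc : ¬ IsCyclic G) (g : G) : g ^ p = 1 := by
  have hp : p.Prime := Fact.out
  have : Finite G := Nat.finite_of_card_ne_zero (by rw [hcard]; exact pow_ne_zero _ hp.ne_zero)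
  have hdvd : orderOf g ∣ p ^ 2 := hcard ▸ orderOf_dvd_natCard g
  obtain ⟨k, hk, hk'⟩ := (Nat.dvd_prime_pow hp).mp hdvd
  have hk2 : k ≠ 2 := by
    rintro rfl
    exact hncyc (isCyclic_of_orderOf_eq_card _ (by rw [hk', hcard]))
  apply orderOf_dvd_iff_pow_eq_one.mp
  rw [hk']
  have : k ≤ 1 := by omega
  calc p ^ k ∣ p ^ 1 := pow_dvd_pow p this
    _ = p := pow_one p

/-- The structure of a noncommutative group of order `p ^ 4` with centre of order `p ^ 2`: generators, and the derived
subgroup is generated by one commutator of order `p`. -/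
theorem caseB_structure {T : Type*} [Group T] [Finite T] {p : ℕ} [Fact p.Prime] (hcard : Nat.card T = p ^ 4)
    (hnab : ¬ ∀ a b : T, a * b = b * a) (hZ : Nat.card (Subgroup.center T) = p ^ 2) :
    ∃ a b : T, a * b ≠ b * a ∧ a ∉ Subgroup.center T ∧
      Nat.card (Subgroup.center T ⊔ Subgroup.zpowers a : Subgroup T) = p ^ 3 ∧
      b ∉ Subgroup.center T ⊔ Subgroup.zpowers a ∧
      (Subgroup.center T ⊔ Subgroup.zpowers a) ⊔ Subgroup.zpowers b = ⊤ ∧
      commutator T = Subgroup.zpowers ⁅a, b⁆ ∧ Nat.card (commutator T) = p ∧ ⁅a, b⁆ ≠ 1 := by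
  have hp : p.Prime := Fact.out
  obtain ⟨hc, hpow, hcp⟩ := class_two_of_card_center_sq hcard hnab hZ
  push Not at hnab
  obtain ⟨a, b, hab⟩ := hnab
  have haZ : a ∉ Subgroup.center T := by
    intro h
    exact hab (Subgroup.mem_center_iff.mp h b).symm
  have hBa : Nat.card (Subgroup.center T ⊔ Subgroup.zpowers a : Subgroup T) = p ^ 3 := by
    rw [card_sup_zpowers hp _ a haZ (hpow a), hZ]
    ring
  have hBcent : Subgroup.center T ⊔ Subgroup.zpowers a ≤ Subgroup.centralizer {a} := by
    apply sup_le
    · exact Subgroup.center_le_centralizer _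
    · rw [Subgroup.zpowers_le, Subgroup.mem_centralizer_iff]
      intro g hg
      rw [Set.mem_singleton_iff.mp hg]
  have hbB : b ∉ Subgroup.center T ⊔ Subgroup.zpowers a := by
    intro h
    exact hab (Subgroup.mem_centralizer_iff.mp (hBcent h) a rfl)
  have hgen : (Subgroup.center T ⊔ Subgroup.zpowers a) ⊔ Subgroup.zpowers b = ⊤ := by
    apply eq_of_lt_of_le_of_card hp (Subgroup.center T ⊔ Subgroup.zpowers a) _ ⊤ _ le_top
    · rw [Subgroup.card_top, hcard, hBa]; ring
    · refine lt_of_le_of_ne le_sup_left ?_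
      intro h
      apply hbB
      rw [h]
      exact le_sup_right (α := Subgroup T) (Subgroup.mem_zpowers b)
  have hc1 : ⁅a, b⁆ ≠ 1 := by
    rw [Ne, commutatorElement_eq_one_iff_mul_comm]
    exact hab
  -- a subgroup containing the centre, `a` and `b` is everything
  have htop : ∀ S : Subgroup T, Subgroup.center T ≤ S → a ∈ S → b ∈ S → ∀ x : T, x ∈ S := by
    intro S hZS ha hb x
    have : (Subgroup.center T ⊔ Subgroup.zpowers a) ⊔ Subgroup.zpowers b ≤ S :=
      sup_le (sup_le hZS (by rwa [Subgroup.zpowers_le])) (by rwa [Subgroup.zpowers_le])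
    rw [hgen] at this
    exact this (Subgroup.mem_top x)
  have hcomm_one : ∀ (x z : T), z ∈ Subgroup.center T → ⁅x, z⁆ = 1 := by
    intro x z hz
    rw [commutatorElement_eq_one_iff_mul_comm]
    exact (Subgroup.mem_center_iff.mp hz x)
  have hcomm_one' : ∀ (x z : T), z ∈ Subgroup.center T → ⁅z, x⁆ = 1 := by
    intro x z hz
    rw [commutatorElement_eq_one_iff_mul_comm]
    exact (Subgroup.mem_center_iff.mp hz x).symm
  set R := Subgroup.zpowers ⁅a, b⁆ with hR
  have hcR : ⁅a, b⁆ ∈ R := Subgroup.mem_zpowers _
  have h1 : ∀ y : T, ⁅a, y⁆ ∈ R := by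
    intro y
    have := htop (R.comap (commHomR hc a))
      (fun z hz => by rw [Subgroup.mem_comap, commHomR_apply, hcomm_one a z hz]; exact Subgroup.one_mem _)
      (by rw [Subgroup.mem_comap, commHomR_apply, commutatorElement_self]; exact Subgroup.one_mem _)
      (by rw [Subgroup.mem_comap, commHomR_apply]; exact hcR) y
    rwa [Subgroup.mem_comap, commHomR_apply] at this
  have h2 : ∀ y : T, ⁅b, y⁆ ∈ R := by
    intro y
    have := htop (R.comap (commHomR hc b))
      (fun z hz => by rw [Subgroup.mem_comap, commHomR_apply, hcomm_one b z hz]; exact Subgroup.one_mem _)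
      (by
        rw [Subgroup.mem_comap, commHomR_apply, ← commutatorElement_inv]
        exact Subgroup.inv_mem _ hcR)
      (by rw [Subgroup.mem_comap, commHomR_apply, commutatorElement_self]; exact Subgroup.one_mem _) y
    rwa [Subgroup.mem_comap, commHomR_apply] at this
  have h3 : ∀ x y : T, ⁅x, y⁆ ∈ R := by
    intro x y
    have := htop (R.comap (commHomL hc y))
      (fun z hz => by rw [Subgroup.mem_comap, commHomL_apply, hcomm_one' y z hz]; exact Subgroup.one_mem _)
      (by rw [Subgroup.mem_comap, commHomL_apply]; exact h1 y)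
      (by rw [Subgroup.mem_comap, commHomL_apply]; exact h2 y) x
    rwa [Subgroup.mem_comap, commHomL_apply] at this
  have hcomeq : commutator T = R := by
    apply le_antisymm
    · rw [commutator_def, Subgroup.commutator_le]
      exact fun x _ y _ => h3 x y
    · rw [hR, Subgroup.zpowers_le]
      exact Subgroup.commutator_mem_commutator (Subgroup.mem_top a) (Subgroup.mem_top b)
  have hRcard : Nat.card (commutator T) = p := by
    rw [hcomeq, hR, Nat.card_zpowers]
    exact orderOf_eq_prime (hcp a b) hc1
  exact ⟨a, b, hab, haZ, hBa, hbB, hgen, hcomeq, hRcard, hc1⟩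


/-- A noncommutative group of order `p ^ 4`, `p` odd, with noncyclic centre of order `p ^ 2` has exponent `p` or a chain
of characteristic subgroups with cyclic steps. -/
theorem caseB_odd {T : Type*} [Group T] [Finite T] {p : ℕ} [Fact p.Prime] (hodd : Odd p) (hcard : Nat.card T = p ^ 4)
    (hnab : ¬ ∀ a b : T, a * b = b * a) (hZ : Nat.card (Subgroup.center T) = p ^ 2)
    (hncyc : ¬ IsCyclic (Subgroup.center T)) : (∀ x : T, x ^ p = 1) ∨ HasCharChain T := by
  have hp : p.Prime := Fact.out
  obtain ⟨hc, hpow, hcp⟩ := class_two_of_card_center_sq hcard hnab hZ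
  obtain ⟨a, b, -, -, -, -, -, hcomeq, hRcard, -⟩ := caseB_structure hcard hnab hZ
  have hRZ : commutator T ≤ Subgroup.center T := by
    rw [commutator_def, Subgroup.commutator_le]
    exact fun x _ y _ => hc x y
  have hZp : ∀ z ∈ Subgroup.center T, z ^ p = 1 := by
    intro z hz
    have := pow_eq_one_of_card_sq_of_not_isCyclic hZ hncyc (⟨z, hz⟩ : Subgroup.center T)
    exact congrArg Subtype.val this
  have hmul : ∀ a b : T, (a * b) ^ p = a ^ p * b ^ p := by
    apply mul_pow_of_comm_central hc
    intro a b
    obtain ⟨k, hk⟩ := hodd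
    have hsum : ∑ i ∈ Finset.range p, i = p * k := by
      have h2 := Finset.sum_range_id_mul_two p
      have : p - 1 = 2 * k := by omega
      rw [this] at h2
      have : (∑ i ∈ Finset.range p, i) * 2 = (p * k) * 2 := by rw [h2]; ring
      exact Nat.eq_of_mul_eq_mul_right (by norm_num) this
    rw [hsum, pow_mul, hcp, one_pow]
  set φ := powHom p hmul with hφ
  have hφchar := powHom_comm p hmul
  have hZK : Subgroup.center T ≤ φ.ker := by
    intro z hz
    rw [MonoidHom.mem_ker, powHom_apply]
    exact hZp z hz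
  have hrangeZ : φ.range ≤ Subgroup.center T := by
    rintro _ ⟨x, rfl⟩
    exact hpow x
  have hprod : Nat.card φ.ker * Nat.card φ.range = p ^ 4 := by
    rw [← Subgroup.index_ker, Subgroup.card_mul_index, hcard]
  obtain ⟨j, hj4, hj⟩ := (Nat.dvd_prime_pow hp).mp (hprod ▸ Dvd.intro _ rfl : Nat.card φ.ker ∣ p ^ 4)
  have hj2 : 2 ≤ j := by
    have h := Subgroup.card_le_of_le hZK
    rw [hZ, hj] at h
    exact (Nat.pow_le_pow_iff_right hp.one_lt).mp h
  have hj234 : j = 2 ∨ j = 3 ∨ j = 4 := by omega
  rcases hj234 with rfl | rfl | rfl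
  · -- the kernel is the centre
    right
    have hrange : Nat.card φ.range = p ^ 2 := by
      rw [hj] at hprod
      have : p ^ 2 * Nat.card φ.range = p ^ 2 * p ^ 2 := by rw [hprod]; ring
      exact Nat.eq_of_mul_eq_mul_left (pow_pos hp.pos 2) this
    have hrangeeq : φ.range = Subgroup.center T :=
      Subgroup.eq_of_le_of_card_ge hrangeZ (by rw [hrange, hZ])
    have hrel : (commutator T).relIndex (Subgroup.center T) = p := by
      have h := Subgroup.relIndex_mul_relIndex ⊥ (commutator T) (Subgroup.center T) bot_le hRZ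
      rw [Subgroup.relIndex_bot_left, Subgroup.relIndex_bot_left, hRcard, hZ] at h
      have : p * (commutator T).relIndex (Subgroup.center T) = p * p := by rw [h]; ring
      exact Nat.eq_of_mul_eq_mul_left hp.pos this
    have hC3idx : ((commutator T).comap φ).index = p := by
      rw [Subgroup.index_comap, hrangeeq, hrel]
    have hC3 : Nat.card ((commutator T).comap φ) = p ^ 3 := by
      have h := Subgroup.card_mul_index ((commutator T).comap φ)
      rw [hC3idx, hcard] at h
      have : Nat.card ((commutator T).comap φ) * p = p ^ 3 * p := by rw [h]; ring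
      exact Nat.eq_of_mul_eq_mul_right hp.pos this
    have hZC3 : Subgroup.center T ≤ (commutator T).comap φ := by
      intro z hz
      rw [Subgroup.mem_comap, powHom_apply, hZp z hz]
      exact Subgroup.one_mem _
    exact hasCharChain_of_three hcard (commutator T) (Subgroup.center T) ((commutator T).comap φ) hRZ hZC3
      hRcard hZ hC3 (isChar_commutator T) (isChar_center T) (isChar_comap_of_comm φ hφchar (isChar_commutator T))
  · right
    exact hasCharChain_of_three hcard (commutator T) (Subgroup.center T) φ.ker hRZ hZK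
      hRcard hZ hj (isChar_commutator T) (isChar_center T) (isChar_ker_of_comm φ hφchar)
  · left
    intro x
    have htop : φ.ker = ⊤ := by
      rw [← Subgroup.card_eq_iff_eq_top, hj, hcard]
    have : x ∈ φ.ker := htop ▸ Subgroup.mem_top x
    rwa [MonoidHom.mem_ker, powHom_apply] at this

end Cfsg.Agent.Helper87
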