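import Cfsg.Agent.Helper87.RankTwoB
import Cfsg.Agent.Helper87.P4CaseB
set_option autoImplicit false

namespace Cfsg.Agent.Helper87

open Cfsg
open scoped commutatorElement

/-- A commutative group of order `p ^ 4` with a group of automorphisms having a strongly `p`-embedded subgroup. -/
theorem p4_abelian {T : Type*} [CommGroup T] [Finite T] (p : ℕ) [Fact p.Prime] (hcard : Nat.card T = p ^ 4)
    (A : Subgroup (MulAut T)) (N : Subgroup A) [N.Normal] (hN : N = ⊥)
    (Y : Subgroup (A ⧸ N)) (hY : IsStronglyPEmbedded p Y) :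
    (∀ x : T, x ^ p = 1) ∨ Nonempty (T ≃* Multiplicative (ZMod (p ^ 2) × ZMod p × ZMod p)) ∨
      ((p = 2 ∨ p = 3) ∧ Nonempty (T ≃* Multiplicative (ZMod (p ^ 2) × ZMod (p ^ 2)))) := by
  have hp : p.Prime := Fact.out
  have hT : IsPGroup p T := IsPGroup.of_card hcard
  have hfinA : Finite (MulAut T) := MulEquiv.finite_left
  by_cases hno : ∃ (n : ℕ) (H : Type) (_ : CommGroup H), 0 < n ∧
      Nonempty (T ≃* (Multiplicative (ZMod (p ^ n)) × Multiplicative (ZMod (p ^ n))) × H)
  swap
  · exfalso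
    obtain ⟨K, hKp, hKc⟩ := exists_pGroup_commutators_of_no_repeat (fun a b : T => mul_comm a b) hT hno
    exact false_of_mulAut_commutators A N Y hY K hKp (fun α _ β _ => hKc α β)
  obtain ⟨n, H', instH', hn, ⟨e⟩⟩ := hno
  have hc1 : Nat.card T = (p ^ n * p ^ n) * Nat.card H' := by
    rw [Nat.card_congr e.toEquiv, Nat.card_prod, Nat.card_prod]
    have : Nat.card (Multiplicative (ZMod (p ^ n))) = p ^ n := Nat.card_zmod _
    rw [this]
  rw [hcard] at hc1
  have hdvd : Nat.card H' ∣ p ^ 4 := ⟨p ^ n * p ^ n, by rw [hc1]; ring⟩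
  obtain ⟨j, -, hj⟩ := (Nat.dvd_prime_pow hp).mp hdvd
  rw [hj, ← pow_add, ← pow_add] at hc1
  have h4 : 4 = n + n + j := Nat.pow_right_injective hp.two_le hc1
  have hcases : (n = 1 ∧ j = 2) ∨ (n = 2 ∧ j = 0) := by omega
  rcases hcases with ⟨rfl, rfl⟩ | ⟨rfl, rfl⟩
  · -- `T ≃ (C_p × C_p) × H'` with `H'` of order `p ^ 2`
    have hM : ∀ a : Multiplicative (ZMod (p ^ 1)), a ^ p = 1 :=
      fun a => zmod_pow_eq_one_of_dvd (by rw [pow_one]) a
    by_cases hcyc : IsCyclic H'
    · right; left
      have e1 : Multiplicative (ZMod (Nat.card H')) ≃* H' := zmodCyclicMulEquiv hcyc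
      have e2 : Multiplicative (ZMod (Nat.card H')) ≃* Multiplicative (ZMod (p ^ 2)) :=
        (ZMod.ringEquivCongr hj).toAddEquiv.toMultiplicative
      have e3 : Multiplicative (ZMod (p ^ 1)) ≃* Multiplicative (ZMod p) :=
        (ZMod.ringEquivCongr (pow_one p)).toAddEquiv.toMultiplicative
      have e4 : (Multiplicative (ZMod (p ^ 1)) × Multiplicative (ZMod (p ^ 1))) × H' ≃*
          Multiplicative (ZMod (p ^ 2)) × (Multiplicative (ZMod p) × Multiplicative (ZMod p)) :=
        MulEquiv.prodComm.trans (MulEquiv.prodCongr (e1.symm.trans e2) (MulEquiv.prodCongr e3 e3))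
      have e5 : Multiplicative (ZMod (p ^ 2)) × (Multiplicative (ZMod p) × Multiplicative (ZMod p)) ≃*
          Multiplicative (ZMod (p ^ 2) × ZMod p × ZMod p) :=
        (MulEquiv.prodCongr (MulEquiv.refl _) (MulEquiv.prodMultiplicative _ _).symm).trans
          (MulEquiv.prodMultiplicative _ _).symm
      exact ⟨(e.trans e4).trans e5⟩
    · left
      intro x
      apply e.injective
      rw [map_pow, map_one]
      refine Prod.ext (Prod.ext (hM _) (hM _)) ?_
      exact pow_eq_one_of_card_sq_of_not_isCyclic hj hcyc _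
  · -- `T ≃ C_{p²} × C_{p²}`
    right; right
    rw [pow_zero] at hj
    obtain ⟨hsub, hne⟩ := Nat.card_eq_one_iff_unique.mp hj
    letI : Unique H' := uniqueOfSubsingleton 1
    have e' : T ≃* Multiplicative (ZMod (p ^ 2)) × Multiplicative (ZMod (p ^ 2)) := e.trans MulEquiv.prodUnique
    refine ⟨?_, ⟨e'.trans (MulEquiv.prodMultiplicative _ _).symm⟩⟩
    by_contra h23
    push Not at h23
    have h5 : 5 ≤ p := by
      have h2 := hp.two_le
      rcases Nat.lt_or_ge p 5 with h | h
      · exfalso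
        have h4 : p = 4 := by omega
        rw [h4] at hp
        exact absurd hp (by norm_num)
      · exact h
    exact false_of_homocyclic p hT 2 le_rfl e' h5 A N hN Y hY

end Cfsg.Agent.Helper87
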