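import Cfsg.Agent.Helper87.CubeTwo
set_option autoImplicit false

namespace Cfsg.Agent.Helper87

open scoped commutatorElement

/-- A noncommutative group of order `8` with two elements `x`, `y` of order `4`, `y ∉ ⟨x⟩`, is a quaternion group. -/
theorem quaternion_of_pair {T : Type*} [Group T] [Finite T] (hcard : Nat.card T = 8)
    (hnc : ¬ ∀ a b : T, a * b = b * a) (x y : T) (hx2 : x ^ 2 ≠ 1) (hyC : y ∉ Subgroup.zpowers x)
    (hy2 : y ^ 2 ≠ 1) : Nonempty (T ≃* QuaternionGroup 2) := by
  classical
  have hx8 : x ^ 8 = 1 := by rw [← hcard]; exact pow_card_eq_one'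
  have hord : orderOf x = 4 := by
    have hdvd : orderOf x ∣ 2 ^ 3 := orderOf_dvd_of_pow_eq_one (by norm_num; exact hx8)
    obtain ⟨k, hk, hk'⟩ := (Nat.dvd_prime_pow Nat.prime_two).mp hdvd
    interval_cases k
    · exfalso
      apply hx2
      rw [pow_zero, orderOf_eq_one_iff] at hk'
      rw [hk', one_pow]
    · exfalso
      apply hx2
      rw [pow_one] at hk'
      rw [← hk']
      exact pow_orderOf_eq_one x
    · exact hk'
    · exfalso
      have hc := isCyclic_of_orderOf_eq_card x (by rw [hk', hcard]; norm_num)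
      apply hnc
      intro a b
      obtain ⟨g, hg⟩ := IsCyclic.exists_generator (α := T)
      obtain ⟨m, rfl⟩ := Subgroup.mem_zpowers_iff.mp (hg a)
      obtain ⟨n, rfl⟩ := Subgroup.mem_zpowers_iff.mp (hg b)
      rw [← zpow_add, ← zpow_add, add_comm]
  have hx4 : x ^ 4 = 1 := by rw [← hord]; exact pow_orderOf_eq_one x
  have hCcard : Nat.card (Subgroup.zpowers x) = 4 := by rw [Nat.card_zpowers, hord]
  have htopcard : Nat.card (⊤ : Subgroup T) = 2 * Nat.card (Subgroup.zpowers x) := by
    rw [Subgroup.card_top, hcard, hCcard]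
  have hidx : (Subgroup.zpowers x).index = 2 := by
    have h := Subgroup.card_mul_index (Subgroup.zpowers x)
    rw [hCcard, hcard] at h
    omega
  have hCn : (Subgroup.zpowers x).Normal := Subgroup.normal_of_index_eq_two hidx
  have hgen : Subgroup.closure ({x, y} : Set T) = ⊤ := by
    apply eq_of_lt_of_le_of_card Nat.prime_two (Subgroup.zpowers x) _ ⊤ _ le_top htopcard
    refine lt_of_le_of_ne ?_ ?_
    · rw [Subgroup.zpowers_le]
      exact Subgroup.subset_closure (Set.mem_insert _ _)
    · intro h
      apply hyC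
      rw [h]
      exact Subgroup.subset_closure (Set.mem_insert_of_mem _ rfl)
  have hncomm : x * y ≠ y * x := fun h => hnc (comm_of_closure_pair x y hgen h)
  have hconj : y * x * y⁻¹ ∈ Subgroup.zpowers x := hCn.conj_mem x (Subgroup.mem_zpowers x) y
  have hts : y * x * y⁻¹ = x⁻¹ := by
    rcases mem_zpowers_of_orderOf_four hord hconj with h | h | h | h
    · exfalso
      apply hx2
      have : x = y⁻¹ * (y * x * y⁻¹) * y := by group
      rw [h] at this
      rw [this]
      simp
    · exfalso
      apply hncomm
      symm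
      calc y * x = (y * x * y⁻¹) * y := by group
        _ = x * y := by rw [h]
    · exfalso
      apply hx2
      have h1 : (y * x * y⁻¹) ^ 2 = y * x ^ 2 * y⁻¹ := conj_pow
      have h2 : (y * x * y⁻¹) ^ 2 = 1 := by rw [h, ← pow_mul]; exact hx4
      rw [h1] at h2
      have : y * x ^ 2 = y := by
        have := mul_inv_eq_one.mp h2
        exact this
      exact mul_left_cancel (a := y) (by rw [this, mul_one])
    · rw [h]
      exact eq_inv_of_mul_eq_one_left (by rw [← pow_succ]; exact hx4)
  have hy2C : y ^ 2 ∈ Subgroup.zpowers x := by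
    have h1 : (QuotientGroup.mk' (Subgroup.zpowers x) y) ^ 2 = 1 := by
      have h := pow_card_eq_one' (G := T ⧸ Subgroup.zpowers x) (x := QuotientGroup.mk' (Subgroup.zpowers x) y)
      have hc : Nat.card (T ⧸ Subgroup.zpowers x) = 2 := hidx
      rwa [hc] at h
    rw [← map_pow] at h1
    exact (QuotientGroup.eq_one_iff _).mp h1
  have ht2 : y ^ 2 = x ^ 2 := by
    rcases mem_zpowers_of_orderOf_four hord hy2C with h | h | h | h
    · exact absurd h hy2
    · exfalso
      apply hncomm
      rw [← h]
      group
    · exact h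
    · exfalso
      apply hncomm
      have hx9 : x = (x ^ 3) ^ 3 := by
        rw [← pow_mul]
        have : x ^ (3 * 3) = x ^ 4 * x ^ 4 * x := by group
        rw [this, hx4, one_mul, one_mul]
      rw [hx9, ← h]
      group
  exact Cfsg.Agent.Helper70.nonempty_mulEquiv_quaternion hcard x y hgen hx4 hts ht2

end Cfsg.Agent.Helper87
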