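import Cfsg.Agent.Helper87.P4CaseBd
import Cfsg.Agent.Helper87.QuaternionPair
set_option autoImplicit false

namespace Cfsg.Agent.Helper87

open scoped commutatorElement

/-- The square of a product. -/
theorem sq_mul_eq {T : Type*} [Group T] (hc : ∀ a b : T, ⁅a, b⁆ ∈ Subgroup.center T) (x y : T) :
    (x * y) ^ 2 = x ^ 2 * y ^ 2 * ⁅y⁻¹, x⁻¹⁆ := by
  have hz : ∀ g : T, Commute g ⁅y⁻¹, x⁻¹⁆ := fun g => (Subgroup.mem_center_iff.mp (hc y⁻¹ x⁻¹) g)
  have hba : y * x = x * y * ⁅y⁻¹, x⁻¹⁆ := by
    rw [commutatorElement_def]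
    group
  have h := Cfsg.Agent.Helper88.mul_pow_of_central hba hz 2
  rw [h]
  congr 1
  simp [Finset.sum_range_succ]

theorem comm_inv_inv_eq_one_iff {T : Type*} [Group T] (x y : T) : ⁅y⁻¹, x⁻¹⁆ = 1 ↔ x * y = y * x := by
  rw [commutatorElement_eq_one_iff_mul_comm]
  constructor
  · intro h
    have h2 := congrArg (·⁻¹) h
    simp only [mul_inv_rev, inv_inv] at h2
    exact h2
  · intro h
    have h2 := congrArg (·⁻¹) h
    simp only [mul_inv_rev] at h2
    exact h2


/-- A noncommutative group of order `16` with noncyclic centre of order `4`: a chain of characteristic subgroups with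
cyclic steps, or all squares lie in the derived subgroup. -/
theorem caseB_two_step1 {T : Type*} [Group T] [Finite T] (hcard : Nat.card T = 2 ^ 4)
    (hnab : ¬ ∀ a b : T, a * b = b * a) (hZ : Nat.card (Subgroup.center T) = 2 ^ 2)
    (hncyc : ¬ IsCyclic (Subgroup.center T)) : HasCharChain T ∨ ∀ x : T, x ^ 2 ∈ commutator T := by
  haveI : Fact (Nat.Prime 2) := ⟨Nat.prime_two⟩
  obtain ⟨hc, hpow, hcp⟩ := class_two_of_card_center_sq hcard hnab hZ
  obtain ⟨a, b, -, -, -, -, -, hcomeq, hRcard, -⟩ := caseB_structure hcard hnab hZ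
  have hRZ : commutator T ≤ Subgroup.center T := by
    rw [commutator_def, Subgroup.commutator_le]
    exact fun x _ y _ => hc x y
  have hZp : ∀ z ∈ Subgroup.center T, z ^ 2 = 1 := by
    intro z hz
    have := pow_eq_one_of_card_sq_of_not_isCyclic hZ hncyc (⟨z, hz⟩ : Subgroup.center T)
    exact congrArg Subtype.val this
  set ψ : T →* Abelianization T := (powMonoidHom 2).comp Abelianization.of with hψ
  have hmemker : ∀ x : T, x ∈ ψ.ker ↔ x ^ 2 ∈ commutator T := by
    intro x
    rw [MonoidHom.mem_ker, hψ, MonoidHom.comp_apply, powMonoidHom_apply, ← map_pow]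
    exact QuotientGroup.eq_one_iff _
  have hrange : ψ.range ≤ (Subgroup.center T).map Abelianization.of := by
    rintro _ ⟨x, rfl⟩
    refine ⟨x ^ 2, hpow x, ?_⟩
    rw [hψ, MonoidHom.comp_apply, powMonoidHom_apply, map_pow]
  have hcardmap : Nat.card ((Subgroup.center T).map (Abelianization.of (G := T))) = 2 := by
    have h := Subgroup.relIndex_ker (Abelianization.of (G := T)) (K := Subgroup.center T)
    have hker : (Abelianization.of (G := T)).ker = commutator T := QuotientGroup.ker_mk' _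
    rw [hker] at h
    rw [← h]
    have h2 := Subgroup.relIndex_mul_relIndex ⊥ (commutator T) (Subgroup.center T) bot_le hRZ
    rw [Subgroup.relIndex_bot_left, Subgroup.relIndex_bot_left, hRcard, hZ] at h2
    omega
  have hidx : ψ.ker.index ∣ 2 := by
    rw [Subgroup.index_ker, ← hcardmap]
    exact Subgroup.card_dvd_of_le hrange
  rcases (Nat.dvd_prime Nat.prime_two).mp hidx with h | h
  · right
    intro x
    rw [Subgroup.index_eq_one] at h
    rw [← hmemker, h]
    exact Subgroup.mem_top x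
  · left
    have hC3 : Nat.card ψ.ker = 2 ^ 3 := by
      have h2 := Subgroup.card_mul_index ψ.ker
      rw [h, hcard] at h2
      omega
    have hZC3 : Subgroup.center T ≤ ψ.ker := by
      intro z hz
      rw [hmemker, hZp z hz]
      exact Subgroup.one_mem _
    have hchar : IsChar ψ.ker := by
      intro α x hx
      rw [hmemker] at hx ⊢
      rw [← map_pow]
      exact isChar_commutator T α _ hx
    exact hasCharChain_of_three hcard (commutator T) (Subgroup.center T) ψ.ker hRZ hZC3 hRcard hZ hC3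
      (isChar_commutator T) (isChar_center T) hchar


/-- A noncommutative group of order `16` with noncyclic centre of order `4` in which all squares lie in the derived
subgroup and some non-central element is an involution has a chain of characteristic subgroups with cyclic steps. -/
theorem caseB_two_chain {T : Type*} [Group T] [Finite T] (hcard : Nat.card T = 2 ^ 4)
    (hnab : ¬ ∀ a b : T, a * b = b * a) (hZ : Nat.card (Subgroup.center T) = 2 ^ 2)
    (hncyc : ¬ IsCyclic (Subgroup.center T)) (hsq : ∀ x : T, x ^ 2 ∈ commutator T)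
    (hw : ∃ w : T, w ∉ Subgroup.center T ∧ w ^ 2 = 1) : HasCharChain T := by
  haveI : Fact (Nat.Prime 2) := ⟨Nat.prime_two⟩
  obtain ⟨hc, hpow, hcp⟩ := class_two_of_card_center_sq hcard hnab hZ
  obtain ⟨a, b, -, -, -, -, -, hcomeq, hRcard, -⟩ := caseB_structure hcard hnab hZ
  have hRZ : commutator T ≤ Subgroup.center T := by
    rw [commutator_def, Subgroup.commutator_le]
    exact fun x _ y _ => hc x y
  have hZp : ∀ z ∈ Subgroup.center T, z ^ 2 = 1 := by
    intro z hz
    have := pow_eq_one_of_card_sq_of_not_isCyclic hZ hncyc (⟨z, hz⟩ : Subgroup.center T)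
    exact congrArg Subtype.val this
  -- elements of the derived subgroup
  have hR2 : ∀ r ∈ commutator T, ∀ r' ∈ commutator T, r ≠ 1 → r' ≠ 1 → r = r' := by
    intro r hr r' hr' h1 h1'
    rw [hcomeq] at hr hr'
    obtain ⟨k, rfl⟩ := Subgroup.mem_zpowers_iff.mp hr
    obtain ⟨k', rfl⟩ := Subgroup.mem_zpowers_iff.mp hr'
    have hc2 : ⁅a, b⁆ ^ (2 : ℤ) = 1 := by
      rw [zpow_ofNat]
      exact hcp a b
    have hodd : ∀ j : ℤ, ⁅a, b⁆ ^ j ≠ 1 → ⁅a, b⁆ ^ j = ⁅a, b⁆ := by
      intro j hj
      rcases Int.even_or_odd' j with ⟨i, hi | hi⟩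
      · exfalso
        apply hj
        rw [hi, zpow_mul, hc2, one_zpow]
      · rw [hi, zpow_add, zpow_mul, hc2, one_zpow, one_mul, zpow_one]
    rw [hodd k h1, hodd k' h1']
  have hRsq : ∀ r ∈ commutator T, r ^ 2 = 1 := fun r hr => hZp r (hRZ hr)
  obtain ⟨w, hwZ, hw2⟩ := hw
  -- an element of order four
  have hex : ∃ x : T, x ^ 2 ≠ 1 := by
    by_contra h
    push Not at h
    apply hnab
    intro a b
    have hinv : ∀ x : T, x⁻¹ = x := fun x => inv_eq_of_mul_eq_one_right (by rw [← sq]; exact h x)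
    calc a * b = (a * b)⁻¹ := (hinv _).symm
      _ = b⁻¹ * a⁻¹ := mul_inv_rev a b
      _ = b * a := by rw [hinv, hinv]
  obtain ⟨x₀, hx₀⟩ := hex
  have hx₀Z : x₀ ∉ Subgroup.center T := fun h => hx₀ (hZp x₀ h)
  have hx₀4 : (x₀ ^ 2) ^ 2 = 1 := hRsq _ (hsq x₀)
  set K := Subgroup.center T ⊔ Subgroup.zpowers x₀ with hKdef
  have hK : Nat.card K = 2 ^ 3 := by
    rw [hKdef, card_sup_zpowers Nat.prime_two _ x₀ hx₀Z (hpow x₀), hZ]
    norm_num
  have hZK : Subgroup.center T ≤ K := le_sup_left
  have hKidx : K.index = 2 := by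
    have h := Subgroup.card_mul_index K
    rw [hK, hcard] at h
    omega
  -- non-central elements of `K` have nontrivial square
  have hk1 : ∀ k ∈ K, k ∉ Subgroup.center T → k ^ 2 ≠ 1 := by
    intro k hk hkZ
    have hk' : k ∈ ((Subgroup.center T ⊔ Subgroup.zpowers x₀ : Subgroup T) : Set T) := hk
    rw [Subgroup.normal_mul] at hk'
    obtain ⟨z, hz, m, hm, rfl⟩ := Set.mem_mul.mp hk'
    obtain ⟨j, rfl⟩ := Subgroup.mem_zpowers_iff.mp hm
    have hzc : ∀ g : T, g * z = z * g := Subgroup.mem_center_iff.mp hz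
    have e1 : (z * x₀ ^ j) ^ 2 = z ^ 2 * (x₀ ^ j) ^ 2 := by
      rw [sq, sq, sq]
      calc z * x₀ ^ j * (z * x₀ ^ j) = z * (x₀ ^ j * z) * x₀ ^ j := by group
        _ = z * (z * x₀ ^ j) * x₀ ^ j := by rw [hzc]
        _ = z * z * (x₀ ^ j * x₀ ^ j) := by group
    rw [e1, hZp z hz, one_mul]
    rcases Int.even_or_odd' j with ⟨i, hi | hi⟩
    · exfalso
      apply hkZ
      apply Subgroup.mul_mem _ hz
      rw [hi, zpow_mul, zpow_ofNat]
      exact Subgroup.zpow_mem _ (hpow x₀) i
    · have : (x₀ ^ j) ^ 2 = x₀ ^ 2 := by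
        rw [hi, ← zpow_ofNat, ← zpow_mul]
        have : (2 * i + 1) * (2 : ℤ) = 2 * 2 * i + 2 := by ring
        rw [this, zpow_add, zpow_mul, zpow_mul, zpow_ofNat, zpow_ofNat, hx₀4, one_zpow, one_mul]
      rw [this]
      exact hx₀
  have hwK : w ∉ K := fun h => hk1 w h hwZ hw2
  -- elements with nontrivial square lie in `K`
  have hk2 : ∀ y : T, y ^ 2 ≠ 1 → y ∈ K := by
    intro y hy
    by_contra hyK
    have hkK : y⁻¹ * w ∈ K := by
      rw [Subgroup.mul_mem_iff_of_index_two hKidx, Subgroup.inv_mem_iff]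
      exact ⟨fun h => absurd h hyK, fun h => absurd h hwK⟩
    set k := y⁻¹ * w with hkdef
    have hwyk : w = y * k := by rw [hkdef]; group
    have hsqw := sq_mul_eq hc y k
    rw [← hwyk, hw2] at hsqw
    by_cases hkZ : k ∈ Subgroup.center T
    · have h1 : ⁅k⁻¹, y⁻¹⁆ = 1 := by
        rw [comm_inv_inv_eq_one_iff]
        exact Subgroup.mem_center_iff.mp hkZ y
      rw [h1, mul_one, hZp k hkZ, mul_one] at hsqw
      exact hy hsqw.symm
    · have hk2 := hk1 k hkK hkZ
      have heq : y ^ 2 = k ^ 2 := hR2 _ (hsq y) _ (hsq k) hy hk2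
      have h3 : y ^ 2 * k ^ 2 = 1 := by
        rw [heq, ← sq]
        exact hRsq _ (hsq k)
      rw [h3, one_mul] at hsqw
      have hcomm : y * k = k * y := (comm_inv_inv_eq_one_iff y k).mp hsqw.symm
      -- then `y` is central
      have hKeq : Subgroup.center T ⊔ Subgroup.zpowers k = K := by
        apply eq_of_lt_of_le_of_card Nat.prime_two (Subgroup.center T)
        · refine lt_of_le_of_ne le_sup_left ?_
          intro h
          apply hkZ
          rw [h]
          exact le_sup_right (α := Subgroup T) (Subgroup.mem_zpowers k)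
        · exact sup_le hZK (by rwa [Subgroup.zpowers_le])
        · rw [hK, hZ]; norm_num
      have htop : K ⊔ Subgroup.zpowers y = ⊤ := by
        apply eq_of_lt_of_le_of_card Nat.prime_two K _ ⊤ _ le_top
        · rw [Subgroup.card_top, hcard, hK]; norm_num
        · refine lt_of_le_of_ne le_sup_left ?_
          intro h
          apply hyK
          rw [h]
          exact le_sup_right (α := Subgroup T) (Subgroup.mem_zpowers y)
      have hcent : (⊤ : Subgroup T) ≤ Subgroup.centralizer {y} := by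
        rw [← htop, ← hKeq]
        apply sup_le (sup_le (Subgroup.center_le_centralizer _) _)
        · rw [Subgroup.zpowers_le, Subgroup.mem_centralizer_iff]
          intro g hg
          rw [Set.mem_singleton_iff.mp hg]
        · rw [Subgroup.zpowers_le, Subgroup.mem_centralizer_iff]
          intro g hg
          rw [Set.mem_singleton_iff.mp hg]
          exact hcomm
      apply hy
      apply hZp
      rw [Subgroup.mem_center_iff]
      intro g
      exact (Subgroup.mem_centralizer_iff.mp (hcent (Subgroup.mem_top g)) y rfl).symm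
  have hKchar : IsChar K := by
    intro α x hx
    have hle : K ≤ K.comap α.toMonoidHom := by
      rw [hKdef]
      apply sup_le
      · intro z hz
        exact hZK (isChar_center T α z hz)
      · rw [Subgroup.zpowers_le, Subgroup.mem_comap]
        apply hk2
        show (α x₀) ^ 2 ≠ 1
        rw [← map_pow]
        intro h
        exact hx₀ (α.injective (by rw [h, map_one]))
    exact hle hx
  exact hasCharChain_of_three hcard (commutator T) (Subgroup.center T) K hRZ hZK hRcard hZ hK
    (isChar_commutator T) (isChar_center T) hKchar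


/-- A noncommutative group of order `16` with noncyclic centre of order `4` in which all squares lie in the derived
subgroup and no non-central element is an involution is `Q₈ × C₂`. -/
theorem caseB_two_quat {T : Type*} [Group T] [Finite T] (hcard : Nat.card T = 2 ^ 4)
    (hnab : ¬ ∀ a b : T, a * b = b * a) (hZ : Nat.card (Subgroup.center T) = 2 ^ 2)
    (hncyc : ¬ IsCyclic (Subgroup.center T)) (hsq : ∀ x : T, x ^ 2 ∈ commutator T)
    (hall : ∀ w : T, w ∉ Subgroup.center T → w ^ 2 ≠ 1) :
    Nonempty (T ≃* QuaternionGroup 2 × Multiplicative (ZMod 2)) := by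
  haveI : Fact (Nat.Prime 2) := ⟨Nat.prime_two⟩
  obtain ⟨hc, hpow, hcp⟩ := class_two_of_card_center_sq hcard hnab hZ
  obtain ⟨a, b, hab, haZ, -, hbB, -, hcomeq, hRcard, hc1⟩ := caseB_structure hcard hnab hZ
  have hbZ : b ∉ Subgroup.center T := fun h => hbB (le_sup_left (α := Subgroup T) h)
  have hRZ : commutator T ≤ Subgroup.center T := by
    rw [commutator_def, Subgroup.commutator_le]
    exact fun x _ y _ => hc x y
  have hZp : ∀ z ∈ Subgroup.center T, z ^ 2 = 1 := by
    intro z hz
    have := pow_eq_one_of_card_sq_of_not_isCyclic hZ hncyc (⟨z, hz⟩ : Subgroup.center T)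
    exact congrArg Subtype.val this
  have hR2 : ∀ r ∈ commutator T, ∀ r' ∈ commutator T, r ≠ 1 → r' ≠ 1 → r = r' := by
    intro r hr r' hr' h1 h1'
    rw [hcomeq] at hr hr'
    obtain ⟨k, rfl⟩ := Subgroup.mem_zpowers_iff.mp hr
    obtain ⟨k', rfl⟩ := Subgroup.mem_zpowers_iff.mp hr'
    have hc2 : ⁅a, b⁆ ^ (2 : ℤ) = 1 := by
      rw [zpow_ofNat]
      exact hcp a b
    have hodd : ∀ j : ℤ, ⁅a, b⁆ ^ j ≠ 1 → ⁅a, b⁆ ^ j = ⁅a, b⁆ := by
      intro j hj
      rcases Int.even_or_odd' j with ⟨i, hi | hi⟩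
      · exfalso
        apply hj
        rw [hi, zpow_mul, hc2, one_zpow]
      · rw [hi, zpow_add, zpow_mul, hc2, one_zpow, one_mul, zpow_one]
    rw [hodd k h1, hodd k' h1']
  have ha2 : a ^ 2 ≠ 1 := hall a haZ
  have hb2 : b ^ 2 ≠ 1 := hall b hbZ
  have hab2 : b ^ 2 = a ^ 2 := hR2 _ (hsq b) _ (hsq a) hb2 ha2
  have ha4 : a ^ 2 ^ (1 + 1) = 1 := by
    have : (a ^ 2) ^ 2 = 1 := hZp _ (hRZ (hsq a))
    rw [← this, ← pow_mul]
    norm_num
  have horda : orderOf a = 2 ^ (1 + 1) := orderOf_eq_prime_pow (by rw [pow_one]; exact ha2) ha4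
  have hcarda : Nat.card (Subgroup.zpowers a) = 4 := by
    rw [Nat.card_zpowers, horda]
    norm_num
  -- `zpowers a` contains the commutators
  have hRa : ∀ x y : T, ⁅x, y⁆ ∈ Subgroup.zpowers a := by
    intro x y
    have hxy : ⁅x, y⁆ ∈ commutator T := Subgroup.commutator_mem_commutator (Subgroup.mem_top x) (Subgroup.mem_top y)
    by_cases h1 : ⁅x, y⁆ = 1
    · rw [h1]; exact Subgroup.one_mem _
    · rw [hR2 _ hxy _ (hsq a) h1 ha2]
      exact Subgroup.pow_mem _ (Subgroup.mem_zpowers a) 2
  have hna : (Subgroup.zpowers a).Normal := normal_of_commutators_mem _ hRa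
  have hba : b ∉ Subgroup.zpowers a := by
    intro h
    obtain ⟨k, rfl⟩ := Subgroup.mem_zpowers_iff.mp h
    apply hab
    rw [← zpow_one_add, ← zpow_add_one, add_comm]
  set Q : Subgroup T := Subgroup.zpowers a ⊔ Subgroup.zpowers b with hQdef
  have hQ : Nat.card Q = 2 ^ 3 := by
    rw [hQdef, card_sup_zpowers Nat.prime_two _ b hba (by rw [hab2]; exact Subgroup.pow_mem _ (Subgroup.mem_zpowers a) 2),
      hcarda]
    norm_num
  have haQ : a ∈ Q := le_sup_left (α := Subgroup T) (Subgroup.mem_zpowers a)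
  have hbQ : b ∈ Q := le_sup_right (α := Subgroup T) (Subgroup.mem_zpowers b)
  obtain ⟨e1⟩ := nonempty_mulEquiv_prod_of_subgroup hcard hZ hZp Q hQ a b haQ hbQ hab
  have hQnc : ¬ ∀ x y : Q, x * y = y * x := by
    intro h
    exact hab (congrArg Subtype.val (h ⟨a, haQ⟩ ⟨b, hbQ⟩))
  have hbQa : (⟨b, hbQ⟩ : Q) ∉ Subgroup.zpowers (⟨a, haQ⟩ : Q) := by
    intro h
    obtain ⟨k, hk⟩ := Subgroup.mem_zpowers_iff.mp h
    apply hba
    have := congrArg Subtype.val hk
    rw [Subgroup.coe_zpow] at this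
    exact Subgroup.mem_zpowers_iff.mpr ⟨k, this⟩
  obtain ⟨e2⟩ := quaternion_of_pair (T := Q) (by rw [hQ]; norm_num) hQnc ⟨a, haQ⟩ ⟨b, hbQ⟩
    (by
      intro h
      apply ha2
      have := congrArg Subtype.val h
      rwa [Subgroup.coe_pow] at this)
    hbQa
    (by
      intro h
      apply hb2
      have := congrArg Subtype.val h
      rwa [Subgroup.coe_pow] at this)
  exact ⟨e1.trans (MulEquiv.prodCongr e2 (MulEquiv.refl _))⟩

end Cfsg.Agent.Helper87
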