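import Cfsg.Agent.Helper87.P4Center
import Cfsg.Agent.Helper87.CubeOdd
set_option autoImplicit false

namespace Cfsg.Agent.Helper87

open scoped commutatorElement

/-- If `D = B ⊔ ⟨d⟩` and every element of `B` commutes with every element of `D`, then `D` is commutative. -/
theorem comm_of_sup_zpowers {T : Type*} [Group T] (B D : Subgroup T) (d : T) (hD : D = B ⊔ Subgroup.zpowers d)
    (hB : B ≤ Subgroup.centralizer (D : Set T)) : ∀ x ∈ D, ∀ y ∈ D, x * y = y * x := by
  have hd : d ∈ Subgroup.centralizer (D : Set T) := by
    have h1 : D ≤ Subgroup.centralizer {d} := by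
      rw [hD]
      apply sup_le
      · intro b hb
        rw [Subgroup.mem_centralizer_iff]
        intro g hg
        rw [Set.mem_singleton_iff.mp hg]
        have hdD : d ∈ D := by
          rw [hD]
          exact le_sup_right (α := Subgroup T) (Subgroup.mem_zpowers d)
        exact Subgroup.mem_centralizer_iff.mp (hB hb) d hdD
      · rw [Subgroup.zpowers_le, Subgroup.mem_centralizer_iff]
        intro g hg
        rw [Set.mem_singleton_iff.mp hg]
    rw [Subgroup.mem_centralizer_iff]
    intro g hg
    have := Subgroup.mem_centralizer_iff.mp (h1 hg) d rfl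
    exact this.symm
  have hDD : D ≤ Subgroup.centralizer (D : Set T) := by
    conv_lhs => rw [hD]
    apply sup_le hB
    rw [Subgroup.zpowers_le]
    exact hd
  intro x hx y hy
  exact (Subgroup.mem_centralizer_iff.mp (hDD hy) x hx)

/-- A noncommutative group of order `p ^ 4` with centre of order `p` does not have class two. -/
theorem not_central_comm_of_card_center {T : Type*} [Group T] [Finite T] {p : ℕ} [Fact p.Prime]
    (hcard : Nat.card T = p ^ 4) (hnab : ¬ ∀ a b : T, a * b = b * a) (hZ : Nat.card (Subgroup.center T) = p) :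
    ¬ ∀ a b : T, ⁅a, b⁆ ∈ Subgroup.center T := by
  have hp : p.Prime := Fact.out
  intro hc
  have hidx : ∀ y : T, (Subgroup.centralizer {y}).index ∣ p := fun y => hZ ▸ index_centralizer_dvd y (fun x => hc x y)
  push Not at hnab
  obtain ⟨a, b, hab⟩ := hnab
  -- an element outside the centre commuting with `a` and `b`
  have hI : ∃ c : T, c ∈ Subgroup.centralizer {a} ∧ c ∈ Subgroup.centralizer {b} ∧ c ∉ Subgroup.center T := by
    by_contra hcon
    push Not at hcon
    have hle : Subgroup.centralizer {a} ⊓ Subgroup.centralizer {b} ≤ Subgroup.center T :=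
      fun c hc' => hcon c hc'.1 hc'.2
    have h1 : (Subgroup.centralizer {a} ⊓ Subgroup.centralizer {b}).index ≤ p * p :=
      Subgroup.index_inf_le.trans (Nat.mul_le_mul (Nat.le_of_dvd hp.pos (hidx a)) (Nat.le_of_dvd hp.pos (hidx b)))
    have h2 := Subgroup.card_mul_index (Subgroup.centralizer {a} ⊓ Subgroup.centralizer {b})
    have h3 : Nat.card (Subgroup.centralizer {a} ⊓ Subgroup.centralizer {b} : Subgroup T) ≤ p := by
      rw [← hZ]
      exact Subgroup.card_le_of_le hle
    rw [hcard] at h2
    have h4 : p ^ 4 ≤ p * (p * p) := by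
      rw [← h2]
      exact Nat.mul_le_mul h3 h1
    have h5 : p * (p * p) < p ^ 4 := by
      have := hp.one_lt
      have h6 : p ^ 4 = p * (p * (p * p)) := by ring
      rw [h6]
      have h7 : 0 < p * (p * p) := by positivity
      nlinarith
    omega
  obtain ⟨c, hca, hcb, hcZ⟩ := hI
  -- the centralizer of `c`
  have hD1 : (Subgroup.centralizer {c}).index = p := by
    rcases (Nat.dvd_prime hp).mp (hidx c) with h | h
    · exfalso
      apply hcZ
      rw [Subgroup.index_eq_one] at h
      rw [Subgroup.mem_center_iff]
      intro g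
      have hg : g ∈ Subgroup.centralizer {c} := h ▸ Subgroup.mem_top g
      exact (Subgroup.mem_centralizer_iff.mp hg c rfl).symm
    · exact h
  have hDcard : Nat.card (Subgroup.centralizer {c}) = p ^ 3 := by
    have h := Subgroup.card_mul_index (Subgroup.centralizer {c})
    rw [hD1, hcard] at h
    have : Nat.card (Subgroup.centralizer {c}) * p = p ^ 3 * p := by rw [h]; ring
    exact Nat.eq_of_mul_eq_mul_right hp.pos this
  have haD : a ∈ Subgroup.centralizer {c} := by
    rw [Subgroup.mem_centralizer_iff]
    intro g hg
    rw [Set.mem_singleton_iff.mp hg]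
    exact (Subgroup.mem_centralizer_iff.mp hca a rfl).symm
  have hbD : b ∈ Subgroup.centralizer {c} := by
    rw [Subgroup.mem_centralizer_iff]
    intro g hg
    rw [Set.mem_singleton_iff.mp hg]
    exact (Subgroup.mem_centralizer_iff.mp hcb b rfl).symm
  -- the subgroup generated by the centre and `c`
  have hcD : c ∈ Subgroup.centralizer {c} := by
    rw [Subgroup.mem_centralizer_iff]
    intro g hg
    rw [Set.mem_singleton_iff.mp hg]
  have hBD : Subgroup.center T ⊔ Subgroup.zpowers c ≤ Subgroup.centralizer {c} := by
    apply sup_le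
    · exact Subgroup.center_le_centralizer _
    · rw [Subgroup.zpowers_le]
      exact hcD
  have hBcent : Subgroup.center T ⊔ Subgroup.zpowers c ≤
      Subgroup.centralizer ((Subgroup.centralizer {c} : Subgroup T) : Set T) := by
    apply sup_le
    · exact Subgroup.center_le_centralizer _
    · rw [Subgroup.zpowers_le, Subgroup.mem_centralizer_iff]
      intro g hg
      exact (Subgroup.mem_centralizer_iff.mp hg c rfl).symm
  have hZlt : Subgroup.center T < Subgroup.center T ⊔ Subgroup.zpowers c := by
    refine lt_of_le_of_ne le_sup_left ?_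
    intro h
    apply hcZ
    rw [h]
    exact le_sup_right (α := Subgroup T) (Subgroup.mem_zpowers c)
  -- `D` is generated by `B` and one element
  have hgen : ∃ d : T, Subgroup.centralizer {c} = (Subgroup.center T ⊔ Subgroup.zpowers c) ⊔ Subgroup.zpowers d := by
    obtain ⟨k, -, hk⟩ := (Nat.dvd_prime_pow hp).mp
      (hDcard ▸ Subgroup.card_dvd_of_le hBD : Nat.card (Subgroup.center T ⊔ Subgroup.zpowers c : Subgroup T) ∣ p ^ 3)
    have hk3 : k ≤ 3 := by
      have h := Subgroup.card_le_of_le hBD
      rw [hk, hDcard] at h
      exact (Nat.pow_le_pow_iff_right hp.one_lt).mp h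
    have hk1 : k ≠ 0 ∧ k ≠ 1 := by
      constructor
      · rintro rfl
        rw [pow_zero] at hk
        have h1 := Subgroup.card_le_of_le hZlt.le
        rw [hk, hZ] at h1
        have := hp.one_lt
        omega
      · rintro rfl
        rw [pow_one] at hk
        exact hZlt.ne (Subgroup.eq_of_le_of_card_ge hZlt.le (by rw [hk, hZ])).symm.symm
    have hk23 : k = 2 ∨ k = 3 := by omega
    rcases hk23 with rfl | rfl
    · exact exists_sup_zpowers_of_card hp _ _ hBD (by rw [hDcard, hk]; ring)
    · refine ⟨1, ?_⟩
      rw [Subgroup.zpowers_one_eq_bot, sup_bot_eq]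
      exact (Subgroup.eq_of_le_of_card_ge hBD (by rw [hDcard, hk])).symm
  obtain ⟨d, hd⟩ := hgen
  exact hab (comm_of_sup_zpowers _ _ d hd hBcent a haD b hbD)


/-- The second centre: the elements whose commutators are central. -/
def secondCenter (T : Type*) [Group T] : Subgroup T :=
  (Subgroup.center (T ⧸ Subgroup.center T)).comap (QuotientGroup.mk' (Subgroup.center T))

theorem comm_mem_center_iff {T : Type*} [Group T] (x y : T) :
    ⁅x, y⁆ ∈ Subgroup.center T ↔
      QuotientGroup.mk' (Subgroup.center T) x * QuotientGroup.mk' (Subgroup.center T) y =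
        QuotientGroup.mk' (Subgroup.center T) y * QuotientGroup.mk' (Subgroup.center T) x := by
  rw [← (QuotientGroup.eq_one_iff _), ← QuotientGroup.mk'_apply, map_commutatorElement,
    commutatorElement_eq_one_iff_mul_comm]

theorem mem_secondCenter_iff {T : Type*} [Group T] (x : T) :
    x ∈ secondCenter T ↔ ∀ y : T, ⁅x, y⁆ ∈ Subgroup.center T := by
  unfold secondCenter
  rw [Subgroup.mem_comap, Subgroup.mem_center_iff]
  constructor
  · intro h y
    rw [comm_mem_center_iff]
    exact (h _).symm
  · intro h q
    obtain ⟨y, rfl⟩ := QuotientGroup.mk'_surjective (Subgroup.center T) q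
    exact ((comm_mem_center_iff x y).mp (h y)).symm

theorem isChar_secondCenter (T : Type*) [Group T] : IsChar (secondCenter T) := by
  intro α x hx
  rw [mem_secondCenter_iff] at hx ⊢
  intro y
  have h := isChar_center T α _ (hx (α.symm y))
  rw [map_commutatorElement, MulEquiv.apply_symm_apply] at h
  exact h

/-- A noncommutative group of order `p ^ 4` with centre of order `p` has a chain of characteristic subgroups with cyclic
steps. -/
theorem caseC {T : Type*} [Group T] [Finite T] {p : ℕ} [Fact p.Prime] (hcard : Nat.card T = p ^ 4)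
    (hnab : ¬ ∀ a b : T, a * b = b * a) (hZ : Nat.card (Subgroup.center T) = p) : HasCharChain T := by
  have hp : p.Prime := Fact.out
  have hnc := not_central_comm_of_card_center hcard hnab hZ
  -- the quotient by the centre
  have hidxZ : (Subgroup.center T).index = p ^ 3 := by
    have h := Subgroup.card_mul_index (Subgroup.center T)
    rw [hZ, hcard] at h
    have : p * (Subgroup.center T).index = p * p ^ 3 := by rw [h]; ring
    exact Nat.eq_of_mul_eq_mul_left hp.pos this
  have hcardQ : Nat.card (T ⧸ Subgroup.center T) = p ^ 3 := hidxZ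
  have hQnab : ¬ ∀ a b : T ⧸ Subgroup.center T, a * b = b * a := by
    intro h
    apply hnc
    intro a b
    rw [← (QuotientGroup.eq_one_iff _), ← QuotientGroup.mk'_apply, map_commutatorElement,
      commutatorElement_eq_one_iff_mul_comm]
    exact h _ _
  obtain ⟨hZQ, -⟩ := center_of_card_cube hcardQ hQnab
  -- the second centre has order `p ^ 2`
  have hZ2card : Nat.card (secondCenter T) = p ^ 2 := by
    have h1 : (secondCenter T).index = (Subgroup.center (T ⧸ Subgroup.center T)).index :=
      Subgroup.index_comap_of_surjective _ (QuotientGroup.mk'_surjective _)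
    have h2 := Subgroup.card_mul_index (Subgroup.center (T ⧸ Subgroup.center T))
    rw [hZQ, hcardQ] at h2
    have h3 : (Subgroup.center (T ⧸ Subgroup.center T)).index = p ^ 2 := by
      have : p * (Subgroup.center (T ⧸ Subgroup.center T)).index = p * p ^ 2 := by rw [h2]; ring
      exact Nat.eq_of_mul_eq_mul_left hp.pos this
    have h4 := Subgroup.card_mul_index (secondCenter T)
    rw [h1, h3, hcard] at h4
    have : Nat.card (secondCenter T) * p ^ 2 = p ^ 2 * p ^ 2 := by rw [h4]; ring
    exact Nat.eq_of_mul_eq_mul_right (pow_pos hp.pos 2) this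
  have hZZ2 : Subgroup.center T ≤ secondCenter T := by
    intro z hz
    rw [mem_secondCenter_iff]
    intro y
    have : ⁅z, y⁆ = 1 := by
      rw [commutatorElement_eq_one_iff_mul_comm]
      exact (Subgroup.mem_center_iff.mp hz y).symm
    rw [this]
    exact Subgroup.one_mem _
  -- an element of the second centre outside the centre
  have hne : Subgroup.center T ≠ secondCenter T := by
    intro h
    rw [← h, hZ] at hZ2card
    have := hp.one_lt
    nlinarith
  obtain ⟨z₀, hz₀, hz₀Z⟩ := SetLike.exists_of_lt (lt_of_le_of_ne hZZ2 hne)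
  have hZ2eq : Subgroup.center T ⊔ Subgroup.zpowers z₀ = secondCenter T := by
    apply eq_of_lt_of_le_of_card hp (Subgroup.center T)
    · refine lt_of_le_of_ne le_sup_left ?_
      intro h
      apply hz₀Z
      rw [h]
      exact le_sup_right (α := Subgroup T) (Subgroup.mem_zpowers z₀)
    · exact sup_le hZZ2 (by rwa [Subgroup.zpowers_le])
    · rw [hZ2card, hZ]; ring
  have hcomm : ∀ x : T, ⁅x, z₀⁆ ∈ Subgroup.center T := by
    intro x
    have h := (mem_secondCenter_iff z₀).mp hz₀ x
    have : ⁅x, z₀⁆ = ⁅z₀, x⁆⁻¹ := (commutatorElement_inv z₀ x).symm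
    rw [this]
    exact Subgroup.inv_mem _ h
  -- the centralizer of the second centre
  have hCeq : Subgroup.centralizer ((secondCenter T : Subgroup T) : Set T) = Subgroup.centralizer {z₀} := by
    apply le_antisymm
    · exact Subgroup.centralizer_le (by
        intro g hg
        rw [Set.mem_singleton_iff.mp hg]
        exact hz₀)
    · intro x hx
      rw [Subgroup.mem_centralizer_iff]
      intro g hg
      have h1 : secondCenter T ≤ Subgroup.centralizer {x} := by
        rw [← hZ2eq]
        apply sup_le
        · exact Subgroup.center_le_centralizer _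
        · rw [Subgroup.zpowers_le, Subgroup.mem_centralizer_iff]
          intro y hy
          rw [Set.mem_singleton_iff.mp hy]
          exact (Subgroup.mem_centralizer_iff.mp hx z₀ rfl).symm
      exact (Subgroup.mem_centralizer_iff.mp (h1 hg) x rfl).symm
  have hCidx : (Subgroup.centralizer {z₀}).index = p := by
    rcases (Nat.dvd_prime hp).mp (hZ ▸ index_centralizer_dvd z₀ hcomm) with h | h
    · exfalso
      apply hz₀Z
      rw [Subgroup.index_eq_one] at h
      rw [Subgroup.mem_center_iff]
      intro g
      have hg : g ∈ Subgroup.centralizer {z₀} := h ▸ Subgroup.mem_top g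
      exact (Subgroup.mem_centralizer_iff.mp hg z₀ rfl).symm
    · exact h
  have hCcard : Nat.card (Subgroup.centralizer ((secondCenter T : Subgroup T) : Set T)) = p ^ 3 := by
    rw [hCeq]
    have h := Subgroup.card_mul_index (Subgroup.centralizer {z₀})
    rw [hCidx, hcard] at h
    have : Nat.card (Subgroup.centralizer {z₀}) * p = p ^ 3 * p := by rw [h]; ring
    exact Nat.eq_of_mul_eq_mul_right hp.pos this
  -- the second centre is commutative
  have hZ2C : secondCenter T ≤ Subgroup.centralizer ((secondCenter T : Subgroup T) : Set T) := by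
    have hcm : IsMulCommutative (secondCenter T) := IsPGroup.isMulCommutative_of_card_eq_prime_sq hZ2card
    intro x hx
    rw [Subgroup.mem_centralizer_iff]
    intro g hg
    have := hcm.is_comm.comm (⟨g, hg⟩ : secondCenter T) ⟨x, hx⟩
    exact congrArg Subtype.val this
  exact hasCharChain_of_three hcard (Subgroup.center T) (secondCenter T)
    (Subgroup.centralizer ((secondCenter T : Subgroup T) : Set T)) hZZ2 hZ2C hZ hZ2card hCcard
    (isChar_center T) (isChar_secondCenter T) (isChar_centralizer (isChar_secondCenter T))

end Cfsg.Agent.Helper87
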