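import Cfsg.Agent.Helper87.Class2
import Cfsg.Agent.Helper87.CharChain
set_option autoImplicit false

namespace Cfsg.Agent.Helper87

open scoped commutatorElement

/-- The centre of a noncommutative group of order `p ^ 4` has order `p` or `p ^ 2`. -/
theorem card_center_of_card_p4 {T : Type*} [Group T] {p : ℕ} [Fact p.Prime] (hcard : Nat.card T = p ^ 4)
    (hnab : ¬ ∀ a b : T, a * b = b * a) :
    Nat.card (Subgroup.center T) = p ∨ Nat.card (Subgroup.center T) = p ^ 2 := by
  have hp : p.Prime := Fact.out
  have : Finite T := Nat.finite_of_card_ne_zero (by rw [hcard]; exact pow_ne_zero _ hp.ne_zero)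
  obtain ⟨k, hk0, hk⟩ := IsPGroup.card_center_eq_prime_pow hcard (by norm_num)
  have hZdvd : Nat.card (Subgroup.center T) ∣ p ^ 4 := hcard ▸ Subgroup.card_subgroup_dvd_card _
  have hk4 : k ≤ 4 := by
    rw [hk] at hZdvd
    exact (Nat.pow_dvd_pow_iff_le_right hp.one_lt).1 hZdvd
  have h4 : k ≠ 4 := by
    rintro rfl
    have htop : Subgroup.center T = ⊤ := by
      rw [← Subgroup.card_eq_iff_eq_top, hk, hcard]
    apply hnab
    intro a b
    have : b ∈ Subgroup.center T := htop ▸ Subgroup.mem_top b
    exact (Subgroup.mem_center_iff.1 this) a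
  have h3 : k ≠ 3 := by
    rintro rfl
    have hidx : (Subgroup.center T).index = p := by
      have h := Subgroup.card_mul_index (Subgroup.center T)
      rw [hk, hcard] at h
      have : p ^ 3 * (Subgroup.center T).index = p ^ 3 * p := by rw [h]; ring
      exact Nat.eq_of_mul_eq_mul_left (pow_pos hp.pos 3) this
    have hcardQ : Nat.card (T ⧸ Subgroup.center T) = p := hidx
    have : IsCyclic (T ⧸ Subgroup.center T) := isCyclic_of_prime_card hcardQ
    apply hnab
    have hc := MonoidHom.isMulCommutative_of_isCyclic_of_ker_le_center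
      (QuotientGroup.mk' (Subgroup.center T)) (by rw [QuotientGroup.ker_mk'])
    exact hc.is_comm.comm
  have : k = 1 ∨ k = 2 := by omega
  rcases this with rfl | rfl
  · left; rw [hk, pow_one]
  · right; exact hk

/-- A noncommutative group of order `p ^ 4` with centre of order `p ^ 2`: commutators are central of order dividing `p`,
and `p`-th powers are central. -/
theorem class_two_of_card_center_sq {T : Type*} [Group T] {p : ℕ} [Fact p.Prime] (hcard : Nat.card T = p ^ 4)
    (hnab : ¬ ∀ a b : T, a * b = b * a) (hZ : Nat.card (Subgroup.center T) = p ^ 2) :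
    (∀ a b : T, ⁅a, b⁆ ∈ Subgroup.center T) ∧ (∀ a : T, a ^ p ∈ Subgroup.center T) ∧
      ∀ a b : T, ⁅a, b⁆ ^ p = 1 := by
  have hp : p.Prime := Fact.out
  have : Finite T := Nat.finite_of_card_ne_zero (by rw [hcard]; exact pow_ne_zero _ hp.ne_zero)
  have hidx : (Subgroup.center T).index = p ^ 2 := by
    have h := Subgroup.card_mul_index (Subgroup.center T)
    rw [hZ, hcard] at h
    have : p ^ 2 * (Subgroup.center T).index = p ^ 2 * p ^ 2 := by rw [h]; ring
    exact Nat.eq_of_mul_eq_mul_left (pow_pos hp.pos 2) this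
  have hcardQ : Nat.card (T ⧸ Subgroup.center T) = p ^ 2 := hidx
  have hQc : IsMulCommutative (T ⧸ Subgroup.center T) :=
    IsPGroup.isMulCommutative_of_card_eq_prime_sq hcardQ
  have hcomle : commutator T ≤ Subgroup.center T :=
    Subgroup.Normal.quotient_commutative_iff_commutator_le.1 hQc
  have hc : ∀ a b : T, ⁅a, b⁆ ∈ Subgroup.center T :=
    fun a b => hcomle (Subgroup.commutator_mem_commutator (Subgroup.mem_top a) (Subgroup.mem_top b))
  have hncyc : ¬ IsCyclic (T ⧸ Subgroup.center T) := by
    intro hcyc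
    apply hnab
    have hc := MonoidHom.isMulCommutative_of_isCyclic_of_ker_le_center
      (QuotientGroup.mk' (Subgroup.center T)) (by rw [QuotientGroup.ker_mk'])
    exact hc.is_comm.comm
  have hpow : ∀ a : T, a ^ p ∈ Subgroup.center T := by
    intro a
    have hdvd : orderOf (QuotientGroup.mk' (Subgroup.center T) a) ∣ p ^ 2 := hcardQ ▸ orderOf_dvd_natCard _
    obtain ⟨k, hk, hk'⟩ := (Nat.dvd_prime_pow hp).mp hdvd
    have hk2 : k ≠ 2 := by
      rintro rfl
      exact hncyc (isCyclic_of_orderOf_eq_card _ (by rw [hk', hcardQ]))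
    have h1 : (QuotientGroup.mk' (Subgroup.center T) a) ^ p = 1 := by
      apply orderOf_dvd_iff_pow_eq_one.mp
      rw [hk']
      have : k ≤ 1 := by omega
      calc p ^ k ∣ p ^ 1 := pow_dvd_pow p this
        _ = p := pow_one p
    rw [← map_pow] at h1
    exact (QuotientGroup.eq_one_iff _).mp h1
  refine ⟨hc, hpow, ?_⟩
  intro a b
  rw [← comm_pow_left hc, commutatorElement_eq_one_iff_mul_comm]
  exact (Subgroup.mem_center_iff.mp (hpow a) b).symm

end Cfsg.Agent.Helper87
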