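import Cfsg.Agent.Helper87.P4CaseA
import Cfsg.Agent.Helper87.P4CaseB2
import Cfsg.Agent.Helper87.P4CaseC
set_option autoImplicit false

namespace Cfsg.Agent.Helper87

open scoped commutatorElement

/-- The noncommutative groups of order `p ^ 4` without a chain of characteristic subgroups with cyclic steps. -/
theorem p4_nonabelian {T : Type*} [Group T] [Finite T] {p : ℕ} [Fact p.Prime] (hcard : Nat.card T = p ^ 4)
    (hnab : ¬ ∀ a b : T, a * b = b * a) :
    HasCharChain T ∨
      (Odd p ∧ ∃ (E : Type) (_ : Group E) (_ : Finite E), Cfsg.IsExtraspecial p E ∧ Nat.card E = p ^ 3 ∧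
        (∀ x : E, x ^ p = 1) ∧ Nonempty (T ≃* E × Multiplicative (ZMod p))) ∨
      (p = 2 ∧ Nonempty (T ≃* QuaternionGroup 2 × Multiplicative (ZMod 2))) ∨
      ((∀ x : T, x ^ (p ^ 2) = 1) ∧ IsCyclic (Subgroup.center T) ∧ Nat.card (Subgroup.center T) = p ^ 2) := by
  have hp : p.Prime := Fact.out
  rcases card_center_of_card_p4 hcard hnab with hZ | hZ
  · exact Or.inl (caseC hcard hnab hZ)
  by_cases hcyc : IsCyclic (Subgroup.center T)
  · rcases caseA hcard hnab hZ hcyc with h | h
    · exact Or.inr (Or.inr (Or.inr ⟨h, hcyc, hZ⟩))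
    · exact Or.inl h
  rcases hp.eq_two_or_odd' with h2 | hodd
  · subst h2
    rcases caseB_two_step1 hcard hnab hZ hcyc with h | hsq
    · exact Or.inl h
    by_cases hw : ∃ w : T, w ∉ Subgroup.center T ∧ w ^ 2 = 1
    · exact Or.inl (caseB_two_chain hcard hnab hZ hcyc hsq hw)
    · push Not at hw
      exact Or.inr (Or.inr (Or.inl ⟨rfl, caseB_two_quat hcard hnab hZ hcyc hsq hw⟩))
  · rcases caseB_odd hodd hcard hnab hZ hcyc with hexp | h
    · exact Or.inr (Or.inl ⟨hodd, caseB_exp hcard hnab hZ hexp⟩)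
    · exact Or.inl h

end Cfsg.Agent.Helper87
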