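import Mathlib
import Cfsg.Prelude.Def_Classical
import Cfsg.Agent.Helper99.PGDefs
import Cfsg.Agent.Helper44.Spinor
import Cfsg.Agent.Helper44.SpinorMain
import Cfsg.Agent.Helper44.StdForms

/-!
# (O2) of S2474 (helper99): `Ω_{2j+1}(F)` contains an involution

The product of the reflections in `u = e₀` and `v = e₁ + f₁` (orthogonal, both of norm `1`).
-/

set_option autoImplicit false

universe u

namespace Cfsg.Agent.Helper87.PG

open Module Matrix Cfsg.Agent.Helper99.PG Cfsg.Agent.Helper44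

section generic

variable {F : Type*} [Field F] {ι : Type} [Fintype ι] [DecidableEq ι]
variable (Q : QuadraticForm F (ι → F))

/-- the product of two reflections in orthogonal vectors -/
theorem refl_mul_refl_mulVec (u v : ι → F) (hu : Q u ≠ 0) (hv : Q v ≠ 0)
    (huv : QuadraticMap.polar ⇑Q u v = 0) (x : ι → F) :
    ((refl Q u hu * refl Q v hv).1 : Matrix ι ι F) *ᵥ x =
      x - ((Q v)⁻¹ * QuadraticMap.polar ⇑Q v x) • v - ((Q u)⁻¹ * QuadraticMap.polar ⇑Q u x) • u := by
  rw [isometryGroup_mul_mulVec, refl_mulVec Q v hv x, refl_mulVec Q u hu]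
  rw [QuadraticMap.polar_sub_right, QuadraticMap.polar_smul_right, huv, smul_zero, sub_zero]

theorem refl_mul_refl_comm (u v : ι → F) (hu : Q u ≠ 0) (hv : Q v ≠ 0)
    (huv : QuadraticMap.polar ⇑Q u v = 0) :
    refl Q u hu * refl Q v hv = refl Q v hv * refl Q u hu := by
  have hvu : QuadraticMap.polar ⇑Q v u = 0 := by rw [QuadraticMap.polar_comm]; exact huv
  apply isometryGroup_ext
  intro x
  rw [refl_mul_refl_mulVec Q u v hu hv huv, refl_mul_refl_mulVec Q v u hv hu hvu]
  abel

theorem refl_mul_refl_sq (u v : ι → F) (hu : Q u ≠ 0) (hv : Q v ≠ 0)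
    (huv : QuadraticMap.polar ⇑Q u v = 0) :
    (refl Q u hu * refl Q v hv) * (refl Q u hu * refl Q v hv) = 1 := by
  calc (refl Q u hu * refl Q v hv) * (refl Q u hu * refl Q v hv)
      = (refl Q u hu * refl Q v hv) * (refl Q v hv * refl Q u hu) := by
        rw [refl_mul_refl_comm Q u v hu hv huv]
    _ = refl Q u hu * (refl Q v hv * refl Q v hv) * refl Q u hu := by group
    _ = 1 := by rw [refl_mul_self, mul_one, refl_mul_self]

theorem refl_mul_refl_ne_one (h2 : (2 : F) ≠ 0) (u v : ι → F) (hu : Q u ≠ 0) (hv : Q v ≠ 0)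
    (huv : QuadraticMap.polar ⇑Q u v = 0) : refl Q u hu * refl Q v hv ≠ 1 := by
  intro h
  have hvu : QuadraticMap.polar ⇑Q v u = 0 := by rw [QuadraticMap.polar_comm]; exact huv
  have h1 := refl_mul_refl_mulVec Q u v hu hv huv u
  rw [h, isometryGroup_one_mulVec, hvu, mul_zero, zero_smul, sub_zero,
    QuadraticMap.polar_self] at h1
  -- `u = u - (Q u)⁻¹ * (2 * Q u) • u`
  have h3 : ((Q u)⁻¹ * (2 • Q u)) • u = 0 := by
    have := sub_eq_self.mp h1.symm
    exact this
  have h4 : (Q u)⁻¹ * (2 • Q u) = 2 := by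
    rw [nsmul_eq_mul, Nat.cast_ofNat]; field_simp
  rw [h4] at h3
  rcases smul_eq_zero.mp h3 with h5 | h5
  · exact h2 h5
  · apply hu; rw [h5, map_zero]

end generic

variable {F : Type u} [Field F] [Fintype F]

/-- (O2) the product of two reflections in orthogonal vectors of equal norm -/
theorem exists_involution_Omega_odd (h2 : (2 : F) ≠ 0) (j : ℕ) (hj : 1 ≤ j) :
    ∃ t : OOdd j F, t ∈ Cfsg.Omega F (Cfsg.quadFormOdd j F) ∧ orderOf t = 2 := by
  classical
  let i0 : Fin j := ⟨0, hj⟩
  let Q := oddForm j F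
  let uu : Unit ⊕ (Fin j ⊕ Fin j) → F := Pi.single (Sum.inl ()) 1
  let vv : Unit ⊕ (Fin j ⊕ Fin j) → F :=
    Pi.single (Sum.inr (Sum.inl i0)) 1 + Pi.single (Sum.inr (Sum.inr i0)) 1
  have hQu : Q uu = 1 := by
    change Cfsg.quadFormOdd j F uu = 1
    unfold Cfsg.quadFormOdd
    simp [uu]
  have hQv : Q vv = 1 := by
    change Cfsg.quadFormOdd j F vv = 1
    unfold Cfsg.quadFormOdd
    rw [Finset.sum_eq_single i0]
    · simp [vv]
    · intro b _ hb
      have : (Sum.inr (Sum.inl i0) : Unit ⊕ (Fin j ⊕ Fin j)) ≠ Sum.inr (Sum.inl b) := by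
        intro h; apply hb; injection h with h; injection h with h; exact h.symm
      simp [vv, Pi.single_apply, this, Ne.symm this]
    · intro h; exact absurd (Finset.mem_univ _) h
  have hu : Q uu ≠ 0 := by rw [hQu]; exact one_ne_zero
  have hv : Q vv ≠ 0 := by rw [hQv]; exact one_ne_zero
  have huv : QuadraticMap.polar ⇑Q uu vv = 0 := by
    change QuadraticMap.polar (Cfsg.quadFormOdd j F) uu vv = 0
    rw [polar_quadFormOdd]
    have h0 : uu ∘ (Sum.inr : Fin j ⊕ Fin j → Unit ⊕ (Fin j ⊕ Fin j)) = 0 := by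
      funext a; simp [uu]
    have h1 : vv (Sum.inl ()) = 0 := by simp [vv]
    rw [h0, h1, mul_zero, zero_add]
    unfold QuadraticMap.polar
    rw [zero_add]
    simp [Cfsg.quadFormPlus]
  let t : OOdd j F := refl Q uu hu * refl Q vv hv
  have ht2 : t * t = 1 := refl_mul_refl_sq Q uu vv hu hv huv
  have ht1 : t ≠ 1 := refl_mul_refl_ne_one Q h2 uu vv hu hv huv
  refine ⟨t, ?_, orderOf_eq_prime (by rw [pow_two]; exact ht2) ht1⟩
  have hmem := prod_reflT_mem_Omega Q h2 [uu, vv]
    (by
      intro w hw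
      simp only [List.mem_cons, List.not_mem_nil, or_false] at hw
      rcases hw with rfl | rfl
      · exact hu
      · exact hv)
    ⟨1, rfl⟩
    (by
      simp only [List.map_cons, List.map_nil, List.prod_cons, List.prod_nil, mul_one]
      rw [hQu, hQv, mul_one]
      exact IsSquare.one)
  simp only [List.map_cons, List.map_nil, List.prod_cons, List.prod_nil, mul_one] at hmem
  rw [reflT_of_ne Q uu hu, reflT_of_ne Q vv hv] at hmem
  exact hmem

end Cfsg.Agent.Helper87.PG
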