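import Mathlib
import Cfsg.Prelude.Def_Classical
import Cfsg.Agent.Helper99.PGDefs

/-!
# (S1) of S2474 (helper99): `Sp_{2m}(F)` has an element of order `p = char F`

Direct: the transvection `[[1, E], [0, 1]]` with `E = diag(1, 0, ..., 0)`.
-/

set_option autoImplicit false

universe u

namespace Cfsg.Agent.Helper87.PG

open Module Matrix Cfsg.Agent.Helper99.PG

variable {F : Type u} [Field F]

/-- the transvection matrix `[[1, c E], [0, 1]]` -/
def tvM {m : ℕ} (i0 : Fin m) (c : F) : Matrix (Fin m ⊕ Fin m) (Fin m ⊕ Fin m) F :=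
  Matrix.fromBlocks 1 (Matrix.diagonal (Pi.single i0 c)) 0 1

theorem tvM_mul {m : ℕ} (i0 : Fin m) (c d : F) : tvM i0 c * tvM i0 d = tvM i0 (c + d) := by
  unfold tvM
  rw [Matrix.fromBlocks_multiply]
  congr 1
  · simp
  · rw [Matrix.one_mul, Matrix.mul_one, Matrix.diagonal_add]
    congr 1
    funext i
    rw [Pi.single_add, Pi.add_apply, add_comm]
  · simp
  · simp

theorem tvM_zero {m : ℕ} (i0 : Fin m) : tvM i0 (0 : F) = 1 := by
  unfold tvM
  have h : Matrix.diagonal (Pi.single i0 (0 : F)) = (0 : Matrix (Fin m) (Fin m) F) := by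
    rw [Pi.single_zero]; exact Matrix.diagonal_zero
  rw [h, Matrix.fromBlocks_one]

theorem tvM_mem {m : ℕ} (i0 : Fin m) (c : F) : tvM i0 c ∈ Matrix.symplecticGroup (Fin m) F := by
  rw [SymplecticGroup.mem_iff]
  unfold tvM Matrix.J
  rw [Matrix.fromBlocks_transpose, Matrix.fromBlocks_multiply, Matrix.fromBlocks_multiply]
  simp [Matrix.diagonal_transpose]

theorem tvM_ne_one {m : ℕ} (i0 : Fin m) : tvM i0 (1 : F) ≠ 1 := by
  intro h
  have h1 := congrFun (congrFun h (Sum.inl i0)) (Sum.inr i0)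
  simp [tvM] at h1

theorem tvM_pow {m : ℕ} (i0 : Fin m) (k : ℕ) : tvM i0 (1 : F) ^ k = tvM i0 (k : F) := by
  induction k with
  | zero => rw [pow_zero, Nat.cast_zero, tvM_zero]
  | succ k ih => rw [pow_succ, ih, tvM_mul, Nat.cast_succ]

/-- (S1) Cauchy-free: an explicit transvection -/
theorem exists_orderOf_sp_char [Fintype F] (p : ℕ) [Fact p.Prime] [CharP F p] (m : ℕ)
    (hm : 1 ≤ m) : ∃ y : SpG m F, orderOf y = p := by
  let i0 : Fin m := ⟨0, hm⟩
  refine ⟨⟨tvM i0 1, tvM_mem i0 1⟩, ?_⟩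
  apply orderOf_eq_prime
  · apply Subtype.ext
    change tvM i0 (1 : F) ^ p = 1
    rw [tvM_pow, CharP.cast_eq_zero, tvM_zero]
  · intro h
    exact tvM_ne_one (F := F) i0 (congrArg Subtype.val h)

end Cfsg.Agent.Helper87.PG
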