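import Mathlib
import Cfsg.Prelude.Def_HallClasses
import Cfsg.Prelude.Def_Classical
import Cfsg.Agent.Helper99.Pron.Defs

/-!
helper87 -> helper99 (S2225/S2226 block II, farm #15357), leaf (SC) `inv_Sc`.
-/

set_option autoImplicit false

namespace Cfsg.Agent.Helper87.Pron

open Matrix Cfsg.Agent.Helper99.Pron

variable {F : Type*} [Field F]

/-- a `1 × 1` matrix is a scalar -/
theorem SC_eq_smul {ι : Type*} [Fintype ι] [DecidableEq ι] [Unique ι] (X : Matrix ι ι F) :
    X = X default default • (1 : Matrix ι ι F) := by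
  ext i j
  rw [Subsingleton.elim i default, Subsingleton.elim j default]
  simp

/-- (SC) -/
theorem inv_Sc {ι : Type*} [Fintype ι] [DecidableEq ι] [Unique ι] (L : Subgroup Fˣ)
    (hL : ∀ l ∈ L, ∃ k : ℕ, l ^ (2 ^ k) = 1) (hi : ∃ i ∈ L, (i : F) * (i : F) = -1) :
    Cfsg.Agent.Helper99.Pron.Inv (Sc ι L) where
  two := by
    intro a ha
    obtain ⟨l, hl, rfl⟩ := mem_Sc.mp ha
    obtain ⟨k, hk⟩ := hL l hl
    refine ⟨k, ?_⟩
    rw [← scHom_apply (ι := ι) l, ← map_pow, hk, map_one]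
  comm := by
    intro X _
    exact ⟨X default default, SC_eq_smul X⟩
  norm := by
    intro x _
    refine ⟨Matrix.GeneralLinearGroup.det x, 1, (Sc ι L).one_mem, ?_⟩
    rw [mul_one]
    apply Units.ext
    rw [sc_val]
    have h1 : ((Matrix.GeneralLinearGroup.det x : Fˣ) : F) = (x : Matrix ι ι F) default default := by
      rw [Matrix.GeneralLinearGroup.val_det_apply, Matrix.det_unique]
    rw [h1]
    exact SC_eq_smul (x : Matrix ι ι F)
  neg := by
    obtain ⟨i, hiL, hii⟩ := hi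
    refine ⟨sc i, mem_Sc.mpr ⟨i, hiL, rfl⟩, ?_⟩
    rw [sc_val, smul_mul_smul_comm, mul_one, hii, neg_smul, one_smul]

end Cfsg.Agent.Helper87.Pron
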