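import Mathlib
import Cfsg.Prelude.Def_HallClasses
import Cfsg.Prelude.Def_Classical
import Cfsg.Agent.Helper99.Pron.Defs

/-!
helper87 -> helper99 (S2225/S2226 block II, farm #15357), leaf (UQ): `uq_Wr` (verbatim) and `uq_sc`
(with the extra hypothesis `q ≠ 0`, without which it is false).
-/

set_option autoImplicit false

namespace Cfsg.Agent.Helper87.Pron

open Matrix Cfsg.Agent.Helper99.Pron

variable {F : Type*} [Field F]

theorem UQ_map_zero {ι : Type*} (q : ℕ) (hq : q ≠ 0) :
    (0 : Matrix ι ι F).map (· ^ q) = 0 := by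
  ext i j
  simp [hq]

/-- (UQW) the unitary condition passes to `Wr`. -/
theorem uq_Wr {ι : Type*} [Fintype ι] [DecidableEq ι] (q : ℕ) (hq : q ≠ 0)
    (P : Subgroup (GL ι F)) (h : ∀ a ∈ P, Uq q (a : Matrix ι ι F)) :
    ∀ g ∈ Wr P, Uq q (g : Matrix (ι ⊕ ι) (ι ⊕ ι) F) := by
  have h0 := UQ_map_zero (F := F) (ι := ι) q hq
  rintro g ⟨a, ha, b, hb, rfl | rfl⟩
  · have ha' := h a ha
    have hb' := h b hb
    unfold Uq at ha' hb' ⊢
    rw [bd_val, fromBlocks_transpose, fromBlocks_map, fromBlocks_multiply, h0, ha', hb']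
    simp [fromBlocks_one]
  · have ha' := h a ha
    have hb' := h b hb
    unfold Uq at ha' hb' ⊢
    rw [ad_val, fromBlocks_transpose, fromBlocks_map, fromBlocks_multiply, h0, ha', hb']
    simp [fromBlocks_one]

/-- (UQS) scalars of norm one are unitary (for `q ≠ 0`). -/
theorem uq_sc {ι : Type*} [Fintype ι] [DecidableEq ι] (q : ℕ) (hq : q ≠ 0) (l : Fˣ)
    (h : l ^ (q + 1) = 1) :
    Uq q ((sc l : GL ι F) : Matrix ι ι F) := by
  unfold Uq
  have hmap : ((l : F) • (1 : Matrix ι ι F)).map (· ^ q) = ((l : F) ^ q) • (1 : Matrix ι ι F) := by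
    ext i j
    by_cases hij : i = j
    · subst hij
      simp
    · simp [hij, hq]
  have hl : (l : F) * (l : F) ^ q = 1 := by
    have := congrArg (fun u : Fˣ => (u : F)) h
    simp only [Units.val_pow_eq_pow_val, Units.val_one] at this
    rw [← this, pow_succ']
  rw [sc_val, transpose_smul, transpose_one, hmap, smul_mul_smul_comm, mul_one, hl, one_smul]

end Cfsg.Agent.Helper87.Pron
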