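import Cfsg.Agent.Helper87.EssentialChain
import Cfsg.Agent.Helper87.AbelianInv6
import Cfsg.Agent.Helper87.OmegaCount
import Cfsg.Agent.Helper87.AgemoStab
import Cfsg.Agent.Helper87.Binomial2
set_option autoImplicit false

namespace Cfsg.Agent.Helper87

open Cfsg
open scoped commutatorElement

/-- The solutions of `x ^ p = 1` in `Z/pⁿ`, `n > 0`: at least `p`. -/
theorem le_card_pow_eq_one_zmod (p n : ℕ) [Fact p.Prime] (hn : 0 < n) :
    p ≤ Nat.card {a : Multiplicative (ZMod (p ^ n)) // a ^ p = 1} := by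
  have hp : p.Prime := Fact.out
  haveI : NeZero (p ^ n) := ⟨(pow_pos hp.pos n).ne'⟩
  apply le_card_pow_eq_one
  have : Nat.card (Multiplicative (ZMod (p ^ n))) = p ^ n := Nat.card_zmod _
  rw [this]
  exact dvd_pow_self p hn.ne'

/-- A finite commutative `p`-group with Frattini quotient of order at most `p ^ 2` and a repeated invariant is
homocyclic of rank two. -/
theorem nonempty_mulEquiv_of_frattini_index {T : Type*} [CommGroup T] [Finite T] {p : ℕ} [Fact p.Prime]
    (hT : IsPGroup p T) (hrk : (frattini T).index ≤ p ^ 2) (n : ℕ) (hn : 0 < n) (H' : Type) [CommGroup H']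
    (e : T ≃* (Multiplicative (ZMod (p ^ n)) × Multiplicative (ZMod (p ^ n))) × H') :
    Nonempty (T ≃* Multiplicative (ZMod (p ^ n)) × Multiplicative (ZMod (p ^ n))) := by
  have hp : p.Prime := Fact.out
  have hfinH : Finite H' := Finite.of_surjective (fun x : T => (e x).2) (by
    intro h
    exact ⟨e.symm ((1, 1), h), by simp⟩)
  have hfi : 0 < (frattini T).index := Nat.pos_of_ne_zero Subgroup.index_ne_zero_of_finite
  have hΩ : Nat.card {t : T // t ^ p = 1} ≤ p ^ 2 :=
    (Nat.le_of_dvd hfi (card_pow_eq_one_dvd_frattini_index p)).trans hrk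
  rw [card_pow_eq_one_congr e p, card_pow_eq_one_prod, card_pow_eq_one_prod] at hΩ
  have hM := le_card_pow_eq_one_zmod p n hn
  obtain ⟨N, hN⟩ := IsPGroup.iff_card.mp hT
  have hcard : Nat.card T = (p ^ n * p ^ n) * Nat.card H' := by
    rw [Nat.card_congr e.toEquiv, Nat.card_prod, Nat.card_prod]
    have : Nat.card (Multiplicative (ZMod (p ^ n))) = p ^ n := Nat.card_zmod _
    rw [this]
  have hdvd : Nat.card H' ∣ p ^ N := by
    rw [← hN, hcard]
    exact Dvd.intro_left _ rfl
  obtain ⟨j, -, hj⟩ := (Nat.dvd_prime_pow hp).mp hdvd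
  have hj0 : j = 0 := by
    by_contra hj0
    have hpd : p ∣ Nat.card H' := by rw [hj]; exact dvd_pow_self p hj0
    have hH := le_card_pow_eq_one (G := H') hpd
    have h3 : p * p * p ≤ p ^ 2 :=
      (Nat.mul_le_mul (Nat.mul_le_mul hM hM) hH).trans hΩ
    have : p ^ 2 < p * p * p := by
      have h2 := hp.two_le
      nlinarith [Nat.pos_of_ne_zero hp.ne_zero]
    omega
  rw [hj0, pow_zero] at hj
  obtain ⟨hsub, hne⟩ := Nat.card_eq_one_iff_unique.mp hj
  letI : Unique H' := uniqueOfSubsingleton 1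
  exact ⟨e.trans MulEquiv.prodUnique⟩


/-- In `Z/pⁿ × Z/pⁿ`, `n ≥ 2`, the elements of order dividing `p` are `p`-th powers. -/
theorem exists_pow_eq_of_pow_eq_one_homocyclic (p n : ℕ) [Fact p.Prime] (hn : 2 ≤ n)
    (x : Multiplicative (ZMod (p ^ n)) × Multiplicative (ZMod (p ^ n))) (hx : x ^ p = 1) :
    ∃ y, x = y ^ p := by
  have h1 : x.1 ^ p = 1 := congrArg Prod.fst hx
  have h2 : x.2 ^ p = 1 := congrArg Prod.snd hx
  obtain ⟨t1, ht1⟩ := zmod_exists_of_pow_eq_one p n (by omega) x.1 h1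
  obtain ⟨t2, ht2⟩ := zmod_exists_of_pow_eq_one p n (by omega) x.2 h2
  have hpn : p ^ (n - 1) = p ^ (n - 2) * p := by
    rw [← pow_succ]
    congr 1
    omega
  refine ⟨(t1 ^ (p ^ (n - 2)), t2 ^ (p ^ (n - 2))), ?_⟩
  apply Prod.ext
  · show x.1 = (t1 ^ (p ^ (n - 2))) ^ p
    rw [← pow_mul, ← hpn]
    exact ht1
  · show x.2 = (t2 ^ (p ^ (n - 2))) ^ p
    rw [← pow_mul, ← hpn]
    exact ht2

/-- A finite commutative `p`-group `T` with Frattini quotient of order at most `p ^ 2` and a group `A` of automorphisms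
with a strongly `p`-embedded subgroup is elementary abelian of order `p ^ 2`, or `p ≤ 3` and `T` is homocyclic of rank
two. -/
theorem rankTwo_core {T : Type*} [CommGroup T] [Finite T] (p : ℕ) [Fact p.Prime] (hT : IsPGroup p T)
    (hrk : (frattini T).index ≤ p ^ 2) (A : Subgroup (MulAut T)) (N : Subgroup A) [N.Normal] (hN : N = ⊥)
    (Y : Subgroup (A ⧸ N)) (hY : IsStronglyPEmbedded p Y) :
    ((∀ a : T, a ^ p = 1) ∧ Nat.card T = p ^ 2) ∨
      (p ≤ 3 ∧ ∃ k : ℕ, Nonempty (T ≃* Multiplicative (ZMod (p ^ k) × ZMod (p ^ k)))) := by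
  have hp : p.Prime := Fact.out
  have hfinA : Finite (MulAut T) := MulEquiv.finite_left
  by_cases hno : ∃ (n : ℕ) (H : Type) (_ : CommGroup H), 0 < n ∧
      Nonempty (T ≃* (Multiplicative (ZMod (p ^ n)) × Multiplicative (ZMod (p ^ n))) × H)
  swap
  · exfalso
    obtain ⟨K, hKp, hKc⟩ := exists_pGroup_commutators_of_no_repeat (fun a b : T => mul_comm a b) hT hno
    exact false_of_mulAut_commutators A N Y hY K hKp (fun α _ β _ => hKc α β)
  obtain ⟨n, H', instH', hn, ⟨e0⟩⟩ := hno
  obtain ⟨e⟩ := nonempty_mulEquiv_of_frattini_index hT hrk n hn H' e0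
  by_cases h3 : p ≤ 3
  · right
    exact ⟨h3, n, ⟨e.trans (MulEquiv.prodMultiplicative _ _).symm⟩⟩
  have h5 : 5 ≤ p := by
    rcases Nat.lt_or_ge p 5 with h | h
    · exfalso
      have h4 : p = 4 := by omega
      rw [h4] at hp
      exact absurd hp (by norm_num)
    · exact h
  have hcard : Nat.card T = p ^ n * p ^ n := by
    rw [Nat.card_congr e.toEquiv, Nat.card_prod]
    have : Nat.card (Multiplicative (ZMod (p ^ n))) = p ^ n := Nat.card_zmod _
    rw [this]
  by_cases hn1 : n = 1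
  · left
    subst hn1
    constructor
    · intro a
      apply e.injective
      rw [map_pow, map_one]
      apply Prod.ext
      · exact zmod_pow_eq_one_of_dvd (by rw [pow_one]) _
      · exact zmod_pow_eq_one_of_dvd (by rw [pow_one]) _
    · rw [hcard]
      ring
  exfalso
  have hn2 : 2 ≤ n := by omega
  -- the number of solutions of `x ^ p = 1`
  have hΩ : Nat.card {t : T // t ^ p = 1} ∣ p ^ 2 := by
    have hfi : 0 < (frattini T).index := Nat.pos_of_ne_zero Subgroup.index_ne_zero_of_finite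
    have hle : Nat.card {t : T // t ^ p = 1} ≤ p ^ 2 :=
      (Nat.le_of_dvd hfi (card_pow_eq_one_dvd_frattini_index p)).trans hrk
    have hd : Nat.card {t : T // t ^ p = 1} ∣ p ^ (n + n) := by
      rw [← index_range_powMonoidHom, pow_add, ← hcard]
      exact Subgroup.index_dvd_card _
    obtain ⟨j, -, hj⟩ := (Nat.dvd_prime_pow hp).mp hd
    rw [hj] at hle ⊢
    exact pow_dvd_pow p ((Nat.pow_le_pow_iff_right hp.one_lt).mp hle)
  have h2 : ∀ x : T, x ^ p = 1 → ∃ y, x = y ^ p := by
    intro x hx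
    have hx' : (e x) ^ p = 1 := by rw [← map_pow, hx, map_one]
    obtain ⟨y, hy⟩ := exists_pow_eq_of_pow_eq_one_homocyclic p n hn2 (e x) hx'
    refine ⟨e.symm y, ?_⟩
    rw [← map_pow, ← hy, MulEquiv.symm_apply_apply]
  -- the stability group meets `A` trivially
  have hK : (agemoStab T p).subgroupOf A ≤ N :=
    normal_pSubgroup_le_of_stronglyPEmbedded N Y hY ((agemoStab T p).subgroupOf A)
      ((isPGroup_agemoStab hT).comap_subtype)
  -- an element of order `p`
  have hpA : p ∣ Nat.card A := by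
    have h1 := hY.1
    have h4 : Nat.card (A ⧸ N) = Nat.card A := by
      have : Nat.card (A ⧸ N) = N.index := rfl
      rw [this, hN, Subgroup.index_bot]
    rwa [h4] at h1
  obtain ⟨α, hα⟩ := exists_prime_orderOf_dvd_card' p hpA
  have hαp : (α : MulAut T) ^ p = 1 := by
    have h1 : α ^ p = 1 := by rw [← hα]; exact pow_orderOf_eq_one α
    have h4 := congrArg Subtype.val h1
    rwa [Subgroup.coe_pow] at h4
  have hmem : (α : MulAut T) ∈ agemoStab T p :=
    mem_agemoStab_of (T := T) p (α : MulAut T) (aut_trivial_mod_pow hp h5 hΩ h2 (α : MulAut T) hαp)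
  have hαN : α ∈ N := hK (Subgroup.mem_subgroupOf.mpr hmem)
  rw [hN, Subgroup.mem_bot] at hαN
  rw [hαN, orderOf_one] at hα
  exact hp.one_lt.ne hα

end Cfsg.Agent.Helper87
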