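import Cfsg.Agent.Helper87.RankTwo
import Cfsg.Agent.Helper87.P4CaseA
set_option autoImplicit false

namespace Cfsg.Agent.Helper87

open Cfsg
open scoped commutatorElement

/-- The solutions of `x ^ p = 1` in `Z/pⁿ`: at most `p`. -/
theorem card_pow_eq_one_zmod_le (p n : ℕ) [Fact p.Prime] :
    Nat.card {a : Multiplicative (ZMod (p ^ n)) // a ^ p = 1} ≤ p := by
  have hp : p.Prime := Fact.out
  haveI : NeZero (p ^ n) := ⟨(pow_pos hp.pos n).ne'⟩
  haveI : Finite (Multiplicative (ZMod (p ^ n))) := inferInstanceAs (Finite (ZMod (p ^ n)))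
  haveI : IsCyclic (Multiplicative (ZMod (p ^ n))) := inferInstance
  exact natCard_pow_eq_one_le_of_isCyclic hp.pos

/-- A homocyclic group `Z/pⁿ × Z/pⁿ` with `n ≥ 2` and `p ≥ 5` has no group of automorphisms with a strongly `p`-embedded
subgroup. -/
theorem false_of_homocyclic {T : Type*} [CommGroup T] [Finite T] (p : ℕ) [Fact p.Prime] (hT : IsPGroup p T)
    (n : ℕ) (hn2 : 2 ≤ n) (e : T ≃* Multiplicative (ZMod (p ^ n)) × Multiplicative (ZMod (p ^ n))) (h5 : 5 ≤ p)
    (A : Subgroup (MulAut T)) (N : Subgroup A) [N.Normal] (hN : N = ⊥)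
    (Y : Subgroup (A ⧸ N)) (hY : IsStronglyPEmbedded p Y) : False := by
  have hp : p.Prime := Fact.out
  have hfinA : Finite (MulAut T) := MulEquiv.finite_left
  have hcard : Nat.card T = p ^ n * p ^ n := by
    rw [Nat.card_congr e.toEquiv, Nat.card_prod]
    have : Nat.card (Multiplicative (ZMod (p ^ n))) = p ^ n := Nat.card_zmod _
    rw [this]
  have hΩ : Nat.card {t : T // t ^ p = 1} ∣ p ^ 2 := by
    have hle : Nat.card {t : T // t ^ p = 1} ≤ p ^ 2 := by
      rw [card_pow_eq_one_congr e p, card_pow_eq_one_prod, sq]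
      exact Nat.mul_le_mul (card_pow_eq_one_zmod_le p n) (card_pow_eq_one_zmod_le p n)
    have hd : Nat.card {t : T // t ^ p = 1} ∣ p ^ (n + n) := by
      rw [← index_range_powMonoidHom, pow_add, ← hcard]
      exact Subgroup.index_dvd_card _
    obtain ⟨j, -, hj⟩ := (Nat.dvd_prime_pow hp).mp hd
    rw [hj] at hle ⊢
    exact pow_dvd_pow p ((Nat.pow_le_pow_iff_right hp.one_lt).mp hle)
  have h2 : ∀ x : T, x ^ p = 1 → ∃ y, x = y ^ p := by
    intro x hx
    have hx' : (e x) ^ p = 1 := by rw [← map_pow, hx, map_one]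
    obtain ⟨y, hy⟩ := exists_pow_eq_of_pow_eq_one_homocyclic p n hn2 (e x) hx'
    refine ⟨e.symm y, ?_⟩
    rw [← map_pow, ← hy, MulEquiv.symm_apply_apply]
  have hK : (agemoStab T p).subgroupOf A ≤ N :=
    normal_pSubgroup_le_of_stronglyPEmbedded N Y hY ((agemoStab T p).subgroupOf A)
      ((isPGroup_agemoStab hT).comap_subtype)
  have hpA : p ∣ Nat.card A := by
    have h1 := hY.1
    have h4 : Nat.card (A ⧸ N) = Nat.card A := by
      have : Nat.card (A ⧸ N) = N.index := rfl
      rw [this, hN, Subgroup.index_bot]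
    rwa [h4] at h1
  obtain ⟨α, hα⟩ := exists_prime_orderOf_dvd_card' p hpA
  have hαp : (α : MulAut T) ^ p = 1 := by
    have h1 : α ^ p = 1 := by rw [← hα]; exact pow_orderOf_eq_one α
    have h4 := congrArg Subtype.val h1
    rwa [Subgroup.coe_pow] at h4
  have hmem : (α : MulAut T) ∈ agemoStab T p :=
    mem_agemoStab_of (T := T) p (α : MulAut T) (aut_trivial_mod_pow hp h5 hΩ h2 (α : MulAut T) hαp)
  have hαN : α ∈ N := hK (Subgroup.mem_subgroupOf.mpr hmem)
  rw [hN, Subgroup.mem_bot] at hαN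
  rw [hαN, orderOf_one] at hα
  exact hp.one_lt.ne hα

end Cfsg.Agent.Helper87
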