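import Cfsg.Agent.Helper8.S3AWalk
import Cfsg.Agent.Helper46.CosetGraph
import Cfsg.Agent.Helper93.Sims3_ID4
import Cfsg.Agent.Helper48.Sims3_ID5
import Cfsg.Agent.Helper68.S3AB_Defs
/-!
# S2858 (helper8's farm), PART B (sub-architect helper68), leaf (BG2): helper48's `iso_S4xZ2` for a subgroup
(helper87)
-/
set_option autoImplicit false
set_option linter.unusedVariables false
namespace Cfsg.Agent.Helper87.S3A
open Cfsg Cfsg.Agent.Helper8.S3A
variable {G : Type*} [Group G] {M₁ M₂ : Subgroup G}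

/-- (BG2) -/
theorem iso_S4xZ2_subgroup (H : Subgroup G) (hc : Nat.card ↥H = 48) (y0 y1 y2 y3 y4 : G)
    (h0 : y0 * y0 = 1) (h1 : y1 * y1 = 1) (h2 : y2 * y2 = 1) (h3 : y3 * y3 = 1) (h4 : y4 * y4 = 1)
    (c01 : y0 * y1 = y1 * y0) (c12 : y1 * y2 = y2 * y1) (c23 : y2 * y3 = y3 * y2)
    (c34 : y3 * y4 = y4 * y3) (c02 : y0 * y2 = y2 * y0) (c13 : y1 * y3 = y3 * y1)
    (c24 : y2 * y4 = y4 * y2)
    (hK : Nat.card ↥(Subgroup.closure {y1, y2, y3}) = 8)
    (r03 : y0 * y3 * y0 * y3 = y1 * y2) (r14 : y1 * y4 * y1 * y4 = y2 * y3)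
    (hgen : Subgroup.closure {y0, y1, y2, y3, y4} = H) :
    Nonempty (↥H ≃* Multiplicative (ZMod 2) × Equiv.Perm (Fin 4)) := by
  have m0 : y0 ∈ H := by rw [← hgen]; exact Subgroup.subset_closure (by simp)
  have m1 : y1 ∈ H := by rw [← hgen]; exact Subgroup.subset_closure (by simp)
  have m2 : y2 ∈ H := by rw [← hgen]; exact Subgroup.subset_closure (by simp)
  have m3 : y3 ∈ H := by rw [← hgen]; exact Subgroup.subset_closure (by simp)
  have m4 : y4 ∈ H := by rw [← hgen]; exact Subgroup.subset_closure (by simp)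
  -- the closure of `y1, y2, y3` inside `↥H`
  have hK' : Nat.card ↥(Subgroup.closure
      ({⟨y1, m1⟩, ⟨y2, m2⟩, ⟨y3, m3⟩} : Set ↥H)) = 8 := by
    rw [← Subgroup.card_map_of_injective H.subtype_injective, MonoidHom.map_closure,
      Set.image_insert_eq, Set.image_insert_eq, Set.image_singleton]
    exact hK
  have hgen' : Subgroup.closure
      ({⟨y0, m0⟩, ⟨y1, m1⟩, ⟨y2, m2⟩, ⟨y3, m3⟩, ⟨y4, m4⟩} : Set ↥H) = ⊤ := by
    apply Subgroup.map_injective H.subtype_injective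
    rw [MonoidHom.map_closure, ← MonoidHom.range_eq_map, Subgroup.range_subtype]
    rw [Set.image_insert_eq, Set.image_insert_eq, Set.image_insert_eq, Set.image_insert_eq,
      Set.image_singleton]
    exact hgen
  obtain ⟨e⟩ := Cfsg.Agent.Helper48.Sims3.iso_S4xZ2 (H := ↥H) hc ⟨y0, m0⟩ ⟨y1, m1⟩ ⟨y2, m2⟩
    ⟨y3, m3⟩ ⟨y4, m4⟩
    (Subtype.ext h0) (Subtype.ext h1) (Subtype.ext h2) (Subtype.ext h3) (Subtype.ext h4)
    (Subtype.ext c01) (Subtype.ext c12) (Subtype.ext c23) (Subtype.ext c34) (Subtype.ext c02)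
    (Subtype.ext c13) (Subtype.ext c24) hK'
    (Or.inr (Or.inr ⟨Subtype.ext r03, Subtype.ext r14⟩)) hgen'
  exact ⟨e.trans MulEquiv.prodComm⟩

end Cfsg.Agent.Helper87.S3A
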