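import Mathlib
import Cfsg.Agent.Helper84.SU3P.Defs
import Cfsg.Agent.Helper59.SU3P_PW

/-!
# S2289 piece (IU) for helper84: `π` is injective on `Ũ`
-/

set_option autoImplicit false
set_option linter.unusedVariables false

namespace Cfsg.Agent.Helper87.SU3P

open Matrix Polynomial Cfsg.Agent.Helper84.RU3 Cfsg.Agent.Helper96.SLPres
  Cfsg.Agent.Helper96.StemSLTwo Cfsg.Agent.Helper96.StPres Cfsg.Agent.Helper84.SU3P

section C

variable {K : Type*} [Field K] (bar : K →+* K) (hb : ∀ x, bar (bar x) = x)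
  {K₀ : Type*} [Field K₀] (ι : K₀ →+* K) {D : Type*} [Group D]
include hb

/-- (IU) `π` is injective on `Ũ` -/
theorem inj_Ut {p : ℕ} [Fact p.Prime] [Algebra (ZMod p) K] (π : D →* SUJ bar) (φ : SL2 K₀ →* D)
    (h u : D) {a₀ b₀ ζ c₀ : K} (ha₀ : a₀ ≠ 0) (hζ : ζ ≠ 0) (hc₀ : c₀ ≠ 0)
    (hπu : mt bar (π u) = uM bar a₀ b₀) (hπh : mt bar (π h) = hM bar ζ)
    (hπφ : ∀ g : SL2 K₀, mt bar (π (φ g)) = eLM ι c₀ g.1)
    (hcent : ∀ (j : ℤ) (s : K₀), Commute (uz h u j) (φ (uMat K₀ s)))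
    (hBM : ∀ x ∈ Subgroup.closure (Set.range (uz h u)), ∃ a : K, ∀ f : (ZMod p)[X],
      aeval (bar ζ ^ 2 / ζ) f = a → (PW p h u f)⁻¹ * x ∈ Zt φ)
    (hsurj : ∀ a : K, ∃ f : (ZMod p)[X], aeval (bar ζ ^ 2 / ζ) f = a) :
    ∀ x ∈ Ut φ h u, π x = 1 → x = 1 := by
  intro x hx hπx
  -- the two factors commute
  have hYZ : ∀ (y : ↥(Subgroup.closure (Set.range (uz h u)))) (z : ↥(Zt φ)),
      Commute ((Subgroup.closure (Set.range (uz h u))).subtype y) ((Zt φ).subtype z) := by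
    rintro ⟨y, hy⟩ ⟨z, hz⟩
    obtain ⟨s, rfl⟩ := mem_Zt.1 hz
    have hle : Subgroup.closure (Set.range (uz h u)) ≤
        Subgroup.centralizer {φ (uMat K₀ s)} := by
      rw [Subgroup.closure_le]
      rintro _ ⟨j, rfl⟩
      rw [SetLike.mem_coe, Subgroup.mem_centralizer_singleton_iff]
      exact (hcent j s).eq
    have h1 := hle hy
    rw [Subgroup.mem_centralizer_singleton_iff] at h1
    exact h1
  -- decomposition
  obtain ⟨y, hy, z, hz, rfl⟩ : ∃ y ∈ Subgroup.closure (Set.range (uz h u)), ∃ z ∈ Zt φ, y * z = x := by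
    have h1 := MonoidHom.noncommCoprod_range (Subgroup.closure (Set.range (uz h u))).subtype
      (Zt φ).subtype hYZ
    rw [Subgroup.range_subtype, Subgroup.range_subtype] at h1
    have h2 : x ∈ (MonoidHom.noncommCoprod (Subgroup.closure (Set.range (uz h u))).subtype
      (Zt φ).subtype hYZ).range := by rw [h1]; exact hx
    obtain ⟨⟨⟨y, hy⟩, ⟨z, hz⟩⟩, hyz⟩ := h2
    exact ⟨y, hy, z, hz, hyz⟩
  obtain ⟨a, ha⟩ := hBM y hy
  obtain ⟨f, hf⟩ := hsurj a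
  have hw := ha f hf
  obtain ⟨s1, hs1⟩ := mem_Zt.1 hw
  obtain ⟨s2, hs2⟩ := mem_Zt.1 hz
  have hyz : y * z = PW p h u f * φ (uMat K₀ (s1 + s2)) := by
    rw [uMat_add, map_mul, hs1, hs2]
    group
  obtain ⟨b', hb'⟩ := Cfsg.Agent.Helper59.SU3P.mt_PW bar hb (π u) (π h) a₀ b₀ ζ hζ hπu hπh f
  have h1 : mt bar (π (y * z)) =
      uM bar (aeval (bar ζ ^ 2 / ζ) f * a₀) b' * eLM ι c₀ (uMat K₀ (s1 + s2)).1 := by
    rw [hyz, map_mul, mt_mul, map_PW, hb', hπφ]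
  rw [hπx, mt_one] at h1
  have h12 := congrFun (congrFun h1 1) 2
  simp [uM, eLM, uMat_coe, Matrix.mul_apply, Fin.sum_univ_three] at h12
  have ha0 : a = 0 := by
    rw [hf] at h12
    rcases h12 with h12 | h12
    · exact h12
    · exact absurd h12 ha₀
  have hy0 := ha 0 (by rw [map_zero, ha0])
  have hPW0 : PW p h u 0 = 1 := by simp [PW]
  rw [hPW0, inv_one, one_mul] at hy0
  have hxZ : y * z ∈ Zt φ := mul_mem hy0 hz
  obtain ⟨s, hs⟩ := mem_Zt.1 hxZ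
  have h2 : mt bar (π (y * z)) = eLM ι c₀ (uMat K₀ s).1 := by rw [← hs, hπφ]
  rw [hπx, mt_one] at h2
  have h02 := congrFun (congrFun h2 0) 2
  simp [eLM, uMat_coe] at h02
  have hs0 : s = 0 := by
    rcases h02 with h02 | h02
    · exact h02
    · exact absurd h02 hc₀
  rw [← hs, hs0, uMat_zero, map_one]

end C

end Cfsg.Agent.Helper87.SU3P
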