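import Cfsg.Agent.Helper87.LineStab
import Cfsg.Agent.Helper87.Class2

set_option autoImplicit false

/-!
# Auxiliary lemmas for automorphisms acting on a group of order `p²` like `SL₂(p)`

* `fixSub h`: the fixed points of an automorphism.
* `inv_apply_mem_of_forall_apply_mem`: an automorphism of a finite group mapping a subgroup into itself maps it onto itself.
* `fix_decomp`: `B = U × C_B(h)` when `[B, h] ≤ U` and `h` has no non-trivial fixed point on `U`.
* `sl2_words`: the action of `x y` and `(x y)³` for two transvections `x`, `y`.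
-/

namespace Cfsg.Agent.Helper87

open Cfsg

section aux

variable {R : Type*} [Group R]

/-- The subgroup of fixed points of an automorphism. -/
def fixSub (h : MulAut R) : Subgroup R := (h : R ≃* R).toMonoidHom.eqLocus (MonoidHom.id R)

theorem mem_fixSub_iff (h : MulAut R) (x : R) : x ∈ fixSub h ↔ h x = x := Iff.rfl

/-- An automorphism of a finite group mapping a subgroup into itself maps it onto itself. -/
theorem inv_apply_mem_of_forall_apply_mem [Finite R] (τ : MulAut R) (B : Subgroup R) (h : ∀ x ∈ B, τ x ∈ B) :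
    ∀ x ∈ B, τ⁻¹ x ∈ B := by
  have hinj : Function.Injective (fun y : B => (⟨τ y, h y y.2⟩ : B)) := by
    intro a b hab
    exact Subtype.ext (τ.injective (congrArg Subtype.val hab))
  have hbij := Finite.injective_iff_surjective.mp hinj
  intro x hx
  obtain ⟨y, hy⟩ := hbij ⟨x, hx⟩
  have hyx : τ y = x := congrArg Subtype.val hy
  have : τ⁻¹ x = y := by rw [← hyx]; simp
  rw [this]
  exact y.2

/-- `B = U × C_B(h)` when `B` is abelian, `[B, h] ≤ U ≤ B` and `h` has no non-trivial fixed point on `U`. -/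
theorem fix_decomp [Finite R] (B U : Subgroup R) (hUB : U ≤ B) (hB : ∀ a ∈ B, ∀ b ∈ B, a * b = b * a)
    (h : MulAut R) (hBU : ∀ x ∈ B, x⁻¹ * h x ∈ U) (hfix : ∀ u ∈ U, h u = u → u = 1) :
    (∀ x ∈ B, ∃ u ∈ U, x * u⁻¹ ∈ fixSub h) ∧
      Nat.card B = Nat.card U * Nat.card (B ⊓ fixSub h : Subgroup R) := by
  have hhB : ∀ x ∈ B, h x ∈ B := by
    intro x hx
    have : h x = x * (x⁻¹ * h x) := by group
    rw [this]
    exact B.mul_mem hx (hUB (hBU x hx))
  -- the homomorphism `x ↦ x⁻¹ h(x)` of `B`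
  let δ : B →* B :=
    { toFun := fun x => ⟨(x : R)⁻¹ * h x, B.mul_mem (B.inv_mem x.2) (hhB x x.2)⟩
      map_one' := by
        apply Subtype.ext
        simp
      map_mul' := by
        intro x y
        apply Subtype.ext
        show ((x : R) * y)⁻¹ * h ((x : R) * y) = ((x : R)⁻¹ * h x) * ((y : R)⁻¹ * h y)
        rw [map_mul, mul_inv_rev]
        have h1 : (y : R)⁻¹ * (x : R)⁻¹ = (x : R)⁻¹ * (y : R)⁻¹ :=
          hB _ (B.inv_mem y.2) _ (B.inv_mem x.2)
        have h2 : (y : R)⁻¹ * h x = h x * (y : R)⁻¹ := hB _ (B.inv_mem y.2) _ (hhB x x.2)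
        calc (y : R)⁻¹ * (x : R)⁻¹ * (h x * h y) = (x : R)⁻¹ * ((y : R)⁻¹ * h x) * h y := by
              rw [h1]; group
          _ = (x : R)⁻¹ * (h x * (y : R)⁻¹) * h y := by rw [h2]
          _ = (x : R)⁻¹ * h x * ((y : R)⁻¹ * h y) := by group }
  have hδ : ∀ x : B, ((δ x : B) : R) = (x : R)⁻¹ * h x := fun x => rfl
  have hker : ∀ x : B, x ∈ δ.ker ↔ h x = x := by
    intro x
    rw [MonoidHom.mem_ker]
    constructor
    · intro hx
      have := congrArg Subtype.val hx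
      rw [hδ] at this
      have h3 : h x = x * ((x : R)⁻¹ * h x) := by group
      rw [h3, this]
      simp
    · intro hx
      apply Subtype.ext
      rw [hδ, hx]
      simp
  -- `δ` is injective on `U`
  have hinjU : Function.Injective (fun u : U => (⟨(u : R)⁻¹ * h u, hBU u (hUB u.2)⟩ : U)) := by
    intro u v huv
    have h1 : (u : R)⁻¹ * h u = (v : R)⁻¹ * h v := congrArg Subtype.val huv
    have h2 : δ (⟨u, hUB u.2⟩ * ⟨v, hUB v.2⟩⁻¹) = 1 := by
      rw [map_mul, map_inv]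
      apply Subtype.ext
      show (u : R)⁻¹ * h u * ((v : R)⁻¹ * h v)⁻¹ = 1
      rw [h1]
      group
    have h3 := (hker _).mp h2
    have h4 : (u : R) * (v : R)⁻¹ = 1 := hfix _ (U.mul_mem u.2 (U.inv_mem v.2)) h3
    apply Subtype.ext
    exact mul_inv_eq_one.mp h4
  have hsurjU := Finite.injective_iff_surjective.mp hinjU
  have hpart1 : ∀ x ∈ B, ∃ u ∈ U, x * u⁻¹ ∈ fixSub h := by
    intro x hx
    obtain ⟨u, hu⟩ := hsurjU ⟨x⁻¹ * h x, hBU x hx⟩
    have h1 : (u : R)⁻¹ * h u = x⁻¹ * h x := congrArg Subtype.val hu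
    refine ⟨u, u.2, ?_⟩
    rw [mem_fixSub_iff]
    have h2 : δ (⟨x, hx⟩ * ⟨u, hUB u.2⟩⁻¹) = 1 := by
      rw [map_mul, map_inv]
      apply Subtype.ext
      show x⁻¹ * h x * ((u : R)⁻¹ * h u)⁻¹ = 1
      rw [h1]
      group
    exact (hker _).mp h2
  refine ⟨hpart1, ?_⟩
  -- cardinalities
  have hrange : δ.range.map B.subtype = U := by
    ext y
    constructor
    · rintro ⟨_, ⟨x, rfl⟩, rfl⟩
      exact hBU x x.2
    · intro hy
      obtain ⟨u, hu⟩ := hsurjU ⟨y, hy⟩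
      have h1 : (u : R)⁻¹ * h u = y := congrArg Subtype.val hu
      exact ⟨δ ⟨u, hUB u.2⟩, ⟨_, rfl⟩, h1⟩
  have hkermap : δ.ker.map B.subtype = B ⊓ fixSub h := by
    ext y
    constructor
    · rintro ⟨x, hx, rfl⟩
      exact ⟨x.2, (hker x).mp hx⟩
    · rintro ⟨hyB, hyf⟩
      exact ⟨⟨y, hyB⟩, (hker _).mpr hyf, rfl⟩
  have h1 : Nat.card δ.range = Nat.card U := by
    rw [← hrange]
    exact (Subgroup.card_map_of_injective B.subtype_injective).symm
  have h2 : Nat.card δ.ker = Nat.card (B ⊓ fixSub h : Subgroup R) := by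
    rw [← hkermap]
    exact (Subgroup.card_map_of_injective B.subtype_injective).symm
  rw [← h1, ← h2, ← Subgroup.index_ker, mul_comm]
  exact (Subgroup.card_mul_index δ.ker).symm

/-- The words `x y` and `(x y)³` in two "transvections" `x`, `y` of the group generated by the commuting elements
`w₀`, `w`. -/
theorem sl2_words (x y : MulAut R) (w₀ w : R) (hcomm : w₀ * w = w * w₀) (hx0 : x w₀ = w₀) (hxw : x w = w * w₀⁻¹)
    (hy0 : y w₀ = w₀ * w) (hyw : y w = w) :
    (x * y) w₀ = w ∧ (x * y) w = w * w₀⁻¹ ∧ ((x * y) ^ 3) w₀ = w₀⁻¹ ∧ ((x * y) ^ 3) w = w⁻¹ := by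
  have hc' : w₀⁻¹ * w = w * w₀⁻¹ := by
    have : Commute w₀ w := hcomm
    exact this.inv_left.eq
  have h1 : (x * y) w₀ = w := by
    rw [MulAut.mul_apply, hy0, map_mul, hx0, hxw, ← mul_assoc, hcomm]
    group
  have h2 : (x * y) w = w * w₀⁻¹ := by
    rw [MulAut.mul_apply, hyw, hxw]
  have h3 : (x * y) (w * w₀⁻¹) = w₀⁻¹ := by
    rw [map_mul, map_inv, h1, h2, ← hc']
    group
  have h4 : ((x * y) ^ 3) w₀ = w₀⁻¹ := by
    rw [pow_succ, pow_two, MulAut.mul_apply, MulAut.mul_apply, h1, h2, h3]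
  have h5 : ((x * y) ^ 3) w = w⁻¹ := by
    rw [pow_succ, pow_two, MulAut.mul_apply, MulAut.mul_apply, h2, h3, map_inv, h1]
  exact ⟨h1, h2, h4, h5⟩

/-- If `B' ≤ B` with `B` abelian and `τ`-invariant and `[B', τ] ≤ V`, then `|B'| ≤ |V| |C_{B'}(τ)|`. -/
theorem card_le_card_mul_card_fix [Finite R] (B B' V : Subgroup R) (hB'B : B' ≤ B)
    (hB : ∀ a ∈ B, ∀ b ∈ B, a * b = b * a) (τ : MulAut R) (hτB : ∀ x ∈ B, τ x ∈ B)
    (hV : ∀ x ∈ B', x⁻¹ * τ x ∈ V) :
    Nat.card B' ≤ Nat.card V * Nat.card (B' ⊓ fixSub τ : Subgroup R) := by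
  let θ : B' →* R :=
    { toFun := fun x => (x : R)⁻¹ * τ x
      map_one' := by simp
      map_mul' := by
        intro x y
        show ((x : R) * y)⁻¹ * τ ((x : R) * y) = ((x : R)⁻¹ * τ x) * ((y : R)⁻¹ * τ y)
        rw [map_mul, mul_inv_rev]
        have hx : (x : R) ∈ B := hB'B x.2
        have hy : (y : R) ∈ B := hB'B y.2
        have h1 : (y : R)⁻¹ * (x : R)⁻¹ = (x : R)⁻¹ * (y : R)⁻¹ := hB _ (B.inv_mem hy) _ (B.inv_mem hx)
        have h2 : (y : R)⁻¹ * τ x = τ x * (y : R)⁻¹ := hB _ (B.inv_mem hy) _ (hτB x hx)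
        calc (y : R)⁻¹ * (x : R)⁻¹ * (τ x * τ y) = (x : R)⁻¹ * ((y : R)⁻¹ * τ x) * τ y := by
              rw [h1]; group
          _ = (x : R)⁻¹ * (τ x * (y : R)⁻¹) * τ y := by rw [h2]
          _ = (x : R)⁻¹ * τ x * ((y : R)⁻¹ * τ y) := by group }
  have hθ : ∀ x : B', θ x = (x : R)⁻¹ * τ x := fun x => rfl
  have hrange : θ.range ≤ V := by
    rintro _ ⟨x, rfl⟩
    exact hV x x.2
  have hkermap : θ.ker.map B'.subtype = B' ⊓ fixSub τ := by
    ext y
    constructor
    · rintro ⟨x, hx, rfl⟩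
      have hx' : x ∈ θ.ker := hx
      refine ⟨x.2, ?_⟩
      rw [MonoidHom.mem_ker, hθ] at hx'
      show (x : R) ∈ fixSub τ
      rw [mem_fixSub_iff]
      have h3 : τ x = x * ((x : R)⁻¹ * τ x) := by group
      rw [h3, hx']
      simp
    · rintro ⟨hyB, hyf⟩
      have hyf' : y ∈ fixSub τ := hyf
      refine ⟨⟨y, hyB⟩, ?_, rfl⟩
      show (⟨y, hyB⟩ : B') ∈ θ.ker
      rw [MonoidHom.mem_ker, hθ]
      rw [mem_fixSub_iff] at hyf'
      show y⁻¹ * τ y = 1
      rw [hyf']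
      simp
  have h2 : Nat.card θ.ker = Nat.card (B' ⊓ fixSub τ : Subgroup R) := by
    rw [← hkermap]
    exact (Subgroup.card_map_of_injective B'.subtype_injective).symm
  have h1 : Nat.card θ.range ≤ Nat.card V := Subgroup.card_le_of_le hrange
  calc Nat.card B' = Nat.card θ.ker * θ.ker.index := (Subgroup.card_mul_index θ.ker).symm
    _ = Nat.card θ.ker * Nat.card θ.range := by rw [Subgroup.index_ker]
    _ = Nat.card θ.range * Nat.card (B' ⊓ fixSub τ : Subgroup R) := by rw [h2, mul_comm]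
    _ ≤ Nat.card V * Nat.card (B' ⊓ fixSub τ : Subgroup R) := Nat.mul_le_mul_right _ h1

end aux

end Cfsg.Agent.Helper87
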