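import Mathlib
import Cfsg.Agent.Helper46.SlnDefs

/-!
# S2279 piece (TRI-1): the triangular pattern forces a basis, with a dual family and expansion
-/

set_option autoImplicit false

open Matrix Matrix.SpecialLinearGroup
open scoped commutatorElement
open Cfsg.Agent.Helper46.Sln

namespace Cfsg.Agent.Helper87.Sln

/-- (TRI-1) the pattern forces `w 0, …, w (n-1)` to be a basis: a dual family with expansion -/
theorem exists_dual {n : ℕ} {K : Type*} [Field K] (hn : 3 ≤ n) (w φ : ℕ → Fin n → K)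
    (hzero : ∀ i j, i < n → j < n → i ≤ j → ¬ (i = 0 ∧ j = n - 1) → φ i ⬝ᵥ w j = 0)
    (hsub : ∀ i, 1 ≤ i → i < n → φ i ⬝ᵥ w (i - 1) ≠ 0)
    (hcorner : φ 0 ⬝ᵥ w (n - 1) ≠ 0) :
    ∃ v : ℕ → Fin n → K,
      (∀ j k, j < n → k < n → v k ⬝ᵥ w j = if j = k then 1 else 0) ∧
      (∀ μ : Fin n → K, μ = ∑ k ∈ Finset.range n, (μ ⬝ᵥ w k) • v k) := by
  set W : Matrix (Fin n) (Fin n) K := Matrix.of (fun i j => w (j : ℕ) i) with hW
  have hkey : ∀ (i : ℕ) (c : Fin n → K),
      φ i ⬝ᵥ (W *ᵥ c) = ∑ j : Fin n, (φ i ⬝ᵥ w (j : ℕ)) * c j := by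
    intro i c
    rw [dotProduct_mulVec]
    rfl
  have hinj : Function.Injective W.mulVec := by
    intro c c' hcc
    have h0 : W *ᵥ (c - c') = 0 := by
      rw [Matrix.mulVec_sub]
      exact sub_eq_zero.mpr hcc
    suffices hd0 : c - c' = 0 from sub_eq_zero.mp hd0
    set d := c - c' with hd
    have hlast : d ⟨n - 1, by omega⟩ = 0 := by
      have h1 := hkey 0 d
      rw [h0, dotProduct_zero] at h1
      rw [Finset.sum_eq_single (⟨n - 1, by omega⟩ : Fin n)] at h1
      · exact (mul_eq_zero.mp h1.symm).resolve_left hcorner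
      · intro j _ hj
        rw [hzero 0 j (by omega) j.2 (Nat.zero_le _) (fun e => hj (Fin.ext e.2)), zero_mul]
      · intro h
        exact absurd (Finset.mem_univ _) h
    have hstep : ∀ m, m + 1 < n → ∀ hm : m < n, d ⟨m, hm⟩ = 0 := by
      intro m
      induction m using Nat.strong_induction_on with
      | _ m ih =>
        intro hm1 hm
        have h1 := hkey (m + 1) d
        rw [h0, dotProduct_zero] at h1
        rw [Finset.sum_eq_single (⟨m, hm⟩ : Fin n)] at h1
        · have h2 := hsub (m + 1) (by omega) hm1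
          rw [Nat.add_sub_cancel] at h2
          exact (mul_eq_zero.mp h1.symm).resolve_left h2
        · intro j _ hj
          by_cases hjm : (j : ℕ) < m
          · have h3 := ih j hjm (by omega) j.2
            rw [show (⟨(j : ℕ), j.2⟩ : Fin n) = j from rfl] at h3
            rw [h3, mul_zero]
          · have hjm' : m + 1 ≤ j := by
              have : (j : ℕ) ≠ m := fun e => hj (Fin.ext e)
              omega
            rw [hzero (m + 1) j hm1 j.2 hjm' (fun e => by omega), zero_mul]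
        · intro h
          exact absurd (Finset.mem_univ _) h
    funext j
    by_cases hj : (j : ℕ) + 1 < n
    · exact hstep j hj j.2
    · have e : j = ⟨n - 1, by omega⟩ := Fin.ext (by have := j.2; show (j : ℕ) = n - 1; omega)
      rw [e]
      exact hlast
  have hunit : IsUnit W := Matrix.mulVec_injective_iff_isUnit.mp hinj
  have hdetu : IsUnit W.det := (Matrix.isUnit_iff_isUnit_det W).mp hunit
  have hWi : W⁻¹ * W = 1 := Matrix.nonsing_inv_mul W hdetu
  have hWi' : W * W⁻¹ = 1 := Matrix.mul_nonsing_inv W hdetu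
  refine ⟨fun k => if hk : k < n then (fun i => W⁻¹ ⟨k, hk⟩ i) else 0, ?_, ?_⟩
  · intro j k hj hk
    simp only [dif_pos hk]
    have e : (W⁻¹ * W) ⟨k, hk⟩ ⟨j, hj⟩ = (fun i => W⁻¹ ⟨k, hk⟩ i) ⬝ᵥ w j := rfl
    rw [← e, hWi, Matrix.one_apply]
    by_cases hjk : j = k
    · subst hjk
      simp
    · rw [if_neg hjk, if_neg]
      intro e'
      exact hjk (Fin.mk.inj_iff.mp e').symm
  · intro μ
    have e1 : μ = (μ ᵥ* W) ᵥ* W⁻¹ := by rw [Matrix.vecMul_vecMul, hWi', Matrix.vecMul_one]
    rw [← Fin.sum_univ_eq_sum_range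
      (fun k => (μ ⬝ᵥ w k) • (if hk : k < n then (fun i => W⁻¹ ⟨k, hk⟩ i) else (0 : Fin n → K))) n]
    conv_lhs => rw [e1]
    funext i
    rw [Finset.sum_apply]
    show ∑ k : Fin n, (μ ᵥ* W) k * W⁻¹ k i = _
    apply Finset.sum_congr rfl
    intro k _
    simp only [dif_pos k.2, Pi.smul_apply, smul_eq_mul]
    rfl

end Cfsg.Agent.Helper87.Sln
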