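import Mathlib
import Cfsg.Agent.Helper46.SlnDefs
import Cfsg.Agent.Helper5.SLn

/-!
# S2279 piece (TRI-3): full root groups for a basis and its dual basis generate `SL_n`
-/

set_option autoImplicit false

open Matrix Matrix.SpecialLinearGroup
open scoped commutatorElement
open Cfsg.Agent.Helper46.Sln

namespace Cfsg.Agent.Helper87.Sln

theorem single_eq_vecMulVec {n : ℕ} {K : Type*} [Field K] (i j : Fin n) (a : K) :
    (Matrix.single i j a : Matrix (Fin n) (Fin n) K) = vecMulVec (Pi.single i a) (Pi.single j 1) := by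
  ext x y
  simp only [Matrix.single_apply, vecMulVec_apply, Pi.single_apply]
  by_cases hx : x = i <;> by_cases hy : y = j
  · subst hx; subst hy; simp
  · subst hx
    have : ¬ j = y := fun e => hy e.symm
    simp [hy, this]
  · subst hy
    have : ¬ i = x := fun e => hx e.symm
    simp [hx, this]
  · have : ¬ i = x := fun e => hx e.symm
    simp [hx, this]

/-- (TRI-3) full root groups for a basis and its dual basis generate `SL_n` -/
theorem eq_top_of_full_dual {n : ℕ} {K : Type*} [Field K] (hn : 2 ≤ n)
    (H : Subgroup (SpecialLinearGroup (Fin n) K)) (w v : ℕ → Fin n → K)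
    (hdual : ∀ j k, j < n → k < n → v k ⬝ᵥ w j = if j = k then 1 else 0)
    (h : ∀ j k, j < n → k < n → j ≠ k → Full H (w j) (v k)) : H = ⊤ := by
  set W : Matrix (Fin n) (Fin n) K := Matrix.of (fun i j => w (j : ℕ) i) with hW
  set V : Matrix (Fin n) (Fin n) K := Matrix.of (fun k i => v (k : ℕ) i) with hV
  have hVW : V * W = 1 := by
    ext k j
    rw [Matrix.mul_apply, Matrix.one_apply]
    have e : ∑ i, V k i * W i j = v (k : ℕ) ⬝ᵥ w (j : ℕ) := rfl
    rw [e, hdual j k j.2 k.2]
    by_cases hkj : k = j
    · subst hkj; simp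
    · rw [if_neg hkj, if_neg]
      intro e'
      exact hkj (Fin.ext e'.symm)
  have hWV : W * V = 1 := mul_eq_one_comm.mp hVW
  have hdet : ∀ M : Matrix (Fin n) (Fin n) K, (W * M * V).det = M.det := by
    intro M
    have h1 : W.det * V.det = 1 := by rw [← det_mul, hWV, det_one]
    rw [det_mul, det_mul]
    calc W.det * M.det * V.det = M.det * (W.det * V.det) := by ring
      _ = M.det := by rw [h1, mul_one]
  have hdet' : ∀ M : Matrix (Fin n) (Fin n) K, (V * M * W).det = M.det := by
    intro M
    have h1 : V.det * W.det = 1 := by rw [← det_mul, hVW, det_one]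
    rw [det_mul, det_mul]
    calc V.det * M.det * W.det = M.det * (V.det * W.det) := by ring
      _ = M.det := by rw [h1, mul_one]
  -- the conjugation map
  let c : SpecialLinearGroup (Fin n) K → SpecialLinearGroup (Fin n) K := fun g =>
    ⟨W * (g : Matrix (Fin n) (Fin n) K) * V, by rw [hdet, g.det_coe]⟩
  have hc_coe : ∀ g, ((c g : SpecialLinearGroup (Fin n) K) : Matrix (Fin n) (Fin n) K) =
      W * (g : Matrix (Fin n) (Fin n) K) * V := fun g => rfl
  have hc_mul : ∀ A B, c (A * B) = c A * c B := by
    intro A B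
    apply sl_ext
    rw [coe_mul, hc_coe, hc_coe, hc_coe, coe_mul]
    have e : W * (A : Matrix (Fin n) (Fin n) K) * V * (W * (B : Matrix (Fin n) (Fin n) K) * V) =
        W * (A : Matrix (Fin n) (Fin n) K) * (V * W) * (B : Matrix (Fin n) (Fin n) K) * V := by
      simp only [Matrix.mul_assoc]
    rw [e, hVW, Matrix.mul_one]
    simp only [Matrix.mul_assoc]
  have hc_tv : ∀ (i j : Fin n) (hij : i ≠ j) (a : K),
      c (transvection hij a) = tv (a • w (i : ℕ)) (v (j : ℕ)) := by
    intro i j hij a
    have hfull := h i j i.2 j.2 (fun e => hij (Fin.ext e))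
    have h0 : v (j : ℕ) ⬝ᵥ (a • w (i : ℕ)) = 0 := by rw [dotProduct_smul, hfull.1, smul_zero]
    apply sl_ext
    rw [hc_coe, transvection_coe, coe_tv h0, Matrix.mul_add, Matrix.add_mul, Matrix.mul_one, hWV,
      single_eq_vecMulVec, Matrix.mul_vecMulVec, Matrix.vecMulVec_mul]
    congr 2
    · ext x
      simp [W, Matrix.mulVec, dotProduct, Pi.single_apply, mul_comm]
    · ext y
      simp [V, Matrix.vecMul, dotProduct, Pi.single_apply]
  have hall : ∀ g, c g ∈ H := by
    intro g
    have : Nontrivial (Fin n) := Fin.nontrivial_iff_two_le.mpr hn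
    refine Cfsg.Agent.Helper5.transvection_induction (fun M => c M ∈ H) ?_ ?_ g
    · intro i j hij a
      show c (transvection hij a) ∈ H
      rw [hc_tv]
      exact (h i j i.2 j.2 (fun e => hij (Fin.ext e))).2 a
    · intro A B hA hB
      show c (A * B) ∈ H
      rw [hc_mul]
      exact H.mul_mem hA hB
  rw [eq_top_iff]
  intro g _
  set g' : SpecialLinearGroup (Fin n) K :=
    ⟨V * (g : Matrix (Fin n) (Fin n) K) * W, by rw [hdet', g.det_coe]⟩ with hg'
  have hg : g = c g' := by
    apply sl_ext
    rw [hc_coe g']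
    show (g : Matrix (Fin n) (Fin n) K) = W * (V * (g : Matrix (Fin n) (Fin n) K) * W) * V
    have e : W * (V * (g : Matrix (Fin n) (Fin n) K) * W) * V =
        (W * V) * (g : Matrix (Fin n) (Fin n) K) * (W * V) := by
      simp only [Matrix.mul_assoc]
    rw [e, hWV, Matrix.one_mul, Matrix.mul_one]
  rw [hg]
  exact hall _

end Cfsg.Agent.Helper87.Sln
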