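import Mathlib
import Cfsg.Agent.S0093
import Cfsg.Agent.S0096
import Cfsg.Agent.S0120
import Cfsg.Agent.S0121
import Cfsg.Agent.S1898
import Cfsg.Agent.Helper24.AutAct
import Cfsg.Agent.Helper52.PGroupLemmas
import Cfsg.Agent.Helper63.Frattini

set_option autoImplicit false

/-! # Small-exponent abelian subgroups detecting `p'`-automorphisms (helper87)

For a finite `p`-group `Q` and a normal subgroup `Q₀`, there is an abelian subgroup `U ≤ Q₀`, normal in `Q`, of
exponent `p` (`p` odd) or dividing `4` (`p = 2`) such that every automorphism `α` of `Q` of order prime to `p` with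
`[Q, α] ≤ Q₀` and fixing `U` elementwise is trivial.  (Critical subgroup + `Ω` + Thompson's `P × Q` lemma.) -/

namespace Cfsg.Agent.Helper87.SmallAb

open scoped commutatorElement

/-- Restriction of automorphisms to a characteristic subgroup. -/
def restrAut {X : Type*} [Group X] (H : Subgroup X) [hH : H.Characteristic] : MulAut X →* MulAut H where
  toFun α :=
    { toFun := fun y => ⟨α y, by
        have h := hH.fixed α
        have : (y : X) ∈ H.comap (α : X ≃* X).toMonoidHom := by rw [h]; exact y.2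
        exact this⟩
      invFun := fun y => ⟨α⁻¹ y, by
        have h := hH.fixed α⁻¹
        have : (y : X) ∈ H.comap (α⁻¹ : X ≃* X).toMonoidHom := by rw [h]; exact y.2
        exact this⟩
      left_inv := fun y => Subtype.ext (by simp)
      right_inv := fun y => Subtype.ext (by simp)
      map_mul' := fun a b => Subtype.ext (by simp) }
  map_one' := by
    ext y
    rfl
  map_mul' a b := by
    ext y
    rfl

theorem restrAut_apply {X : Type*} [Group X] (H : Subgroup X) [H.Characteristic] (α : MulAut X) (y : H) :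
    ((restrAut H α y : H) : X) = α y := rfl

/-- In a subgroup `H` with `[H, X] ≤ C(H)`, the derived subgroup of `H` is central in `H`. -/
theorem commutator_le_center_of {X : Type*} [Group X] (H : Subgroup X)
    (h2 : ⁅H, (⊤ : Subgroup X)⁆ ≤ H ⊓ Subgroup.centralizer (H : Set X)) :
    commutator H ≤ Subgroup.center H := by
  rw [commutator_def, Subgroup.commutator_le]
  intro a _ b _
  rw [Subgroup.mem_center_iff]
  intro c
  apply Subtype.ext
  have h : ⁅(a : X), (b : X)⁆ ∈ Subgroup.centralizer (H : Set X) :=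
    (h2 (Subgroup.commutator_mem_commutator a.2 (Subgroup.mem_top _))).2
  have h3 := Subgroup.mem_centralizer_iff.mp h (c : X) c.2
  show (c : X) * ⁅(a : X), (b : X)⁆ = ⁅(a : X), (b : X)⁆ * (c : X)
  exact h3

theorem class_two_of {X : Type*} [Group X] (H : Subgroup X)
    (h2 : ⁅H, (⊤ : Subgroup X)⁆ ≤ H ⊓ Subgroup.centralizer (H : Set X)) :
    ⁅commutator H, (⊤ : Subgroup H)⁆ = ⊥ := by
  rw [Subgroup.commutator_eq_bot_iff_le_centralizer, Subgroup.coe_top, Subgroup.centralizer_univ]
  exact commutator_le_center_of H h2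

/-- For `p = 2`: the derived subgroup of a critical subgroup is elementary abelian. -/
theorem elementary_commutator_of {X : Type*} [Group X] [Finite X] (hX : IsPGroup 2 X) (H : Subgroup X)
    (h1 : (frattini H).map H.subtype ≤ Subgroup.centralizer (H : Set X))
    (h2 : ⁅H, (⊤ : Subgroup X)⁆ ≤ H ⊓ Subgroup.centralizer (H : Set X)) :
    Cfsg.IsElementaryAbelian 2 (commutator H) := by
  have hcen := commutator_le_center_of H h2
  have hcomm : ∀ a ∈ commutator H, ∀ b ∈ commutator H, a * b = b * a := by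
    intro a ha b _
    exact (Subgroup.mem_center_iff.mp (hcen ha) b).symm
  refine ⟨Cfsg.Agent.Helper52.isMulCommutative_of_comm hcomm, ?_⟩
  have hH2 : IsPGroup 2 H := hX.to_subgroup H
  have : Fact (Nat.Prime 2) := ⟨Nat.prime_two⟩
  have hsq : ∀ a : H, a ^ 2 ∈ Subgroup.center H := by
    intro a
    have h3 : a ^ 2 ∈ frattini H := Cfsg.Agent.Helper63.pow_prime_mem_frattini hH2 a
    have h4 : ((a ^ 2 : H) : X) ∈ Subgroup.centralizer (H : Set X) := h1 ⟨a ^ 2, h3, rfl⟩
    rw [Subgroup.mem_center_iff]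
    intro c
    apply Subtype.ext
    exact Subgroup.mem_centralizer_iff.mp h4 (c : X) c.2
  have hgen : ∀ a b : H, ⁅a, b⁆ ^ 2 = 1 := by
    intro a b
    have hz : ⁅a, b⁆ ∈ Subgroup.center H :=
      hcen (by rw [commutator_def]; exact Subgroup.commutator_mem_commutator (Subgroup.mem_top _) (Subgroup.mem_top _))
    have hzc : ∀ c : H, c * ⁅a, b⁆ = ⁅a, b⁆ * c := Subgroup.mem_center_iff.mp hz
    have e1 : a * b * a⁻¹ = ⁅a, b⁆ * b := by rw [commutatorElement_def]; group
    have e2 : a ^ 2 * b * (a ^ 2)⁻¹ = ⁅a, b⁆ ^ 2 * b := by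
      calc a ^ 2 * b * (a ^ 2)⁻¹ = a * (a * b * a⁻¹) * a⁻¹ := by rw [pow_two, mul_inv_rev]; simp only [mul_assoc]
        _ = a * (⁅a, b⁆ * b) * a⁻¹ := by rw [e1]
        _ = (a * ⁅a, b⁆) * b * a⁻¹ := by simp only [mul_assoc]
        _ = (⁅a, b⁆ * a) * b * a⁻¹ := by rw [hzc a]
        _ = ⁅a, b⁆ * (a * b * a⁻¹) := by simp only [mul_assoc]
        _ = ⁅a, b⁆ * (⁅a, b⁆ * b) := by rw [e1]
        _ = ⁅a, b⁆ ^ 2 * b := by rw [pow_two, mul_assoc]
    have e3 : a ^ 2 * b * (a ^ 2)⁻¹ = b := by
      have := Subgroup.mem_center_iff.mp (hsq a) b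
      rw [← this]; group
    rw [e3] at e2
    have : ⁅a, b⁆ ^ 2 * b = 1 * b := by rw [one_mul]; exact e2.symm
    exact mul_right_cancel this
  intro a ha
  rw [commutator_eq_closure] at ha
  have hcl : ∀ x ∈ Subgroup.closure (commutatorSet H), x ∈ commutator H := by
    intro x hx
    rw [commutator_eq_closure]; exact hx
  induction ha using Subgroup.closure_induction with
  | mem x hx =>
    obtain ⟨a, b, rfl⟩ := hx
    exact hgen a b
  | one => exact one_pow 2
  | mul x y hx hy hx2 hy2 =>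
    have hxy : x * y = y * x := hcomm x (hcl x hx) y (hcl y hy)
    rw [(show Commute x y from hxy).mul_pow, hx2, hy2, one_mul]
  | inv x hx hx2 => rw [inv_pow, hx2, inv_one]

/-- The "small exponent": `4` for `p = 2`, and `p` otherwise. -/
def sexp (p : ℕ) : ℕ := if p = 2 then 4 else p

theorem sexp_two : sexp 2 = 4 := by simp [sexp]

theorem sexp_odd {p : ℕ} (hp : p ≠ 2) : sexp p = p := by simp [sexp, hp]

/-- **Key group-theoretic lemma, absolute form.** A finite `p`-group `X` has a characteristic subgroup `D` of exponent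
dividing `sexp p` on which the automorphisms of `X` of order prime to `p` act faithfully. -/
theorem exists_char_small_faithful {X : Type*} [Group X] [Finite X] {p : ℕ} [Fact p.Prime] (hX : IsPGroup p X) :
    ∃ D : Subgroup X, D.Characteristic ∧ (∀ g ∈ D, g ^ sexp p = 1) ∧
      ∀ α : MulAut X, (orderOf α).Coprime p → (∀ g ∈ D, α g = g) → α = 1 := by
  obtain ⟨H, hHc, h1, h2, h3⟩ := Cfsg.Agent.S0093.result hX
  have hHp : IsPGroup p H := hX.to_subgroup H
  set e := sexp p with he
  set D : Subgroup X := Subgroup.closure {x : X | x ∈ H ∧ x ^ e = 1} with hD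
  have hDmap : D = (Subgroup.closure {y : H | y ^ e = 1}).map H.subtype := by
    rw [MonoidHom.map_closure, hD]
    congr 1
    ext x
    constructor
    · rintro ⟨hxH, hxe⟩
      exact ⟨⟨x, hxH⟩, Subtype.ext (by simpa using hxe), rfl⟩
    · rintro ⟨y, hy, rfl⟩
      refine ⟨y.2, ?_⟩
      have := congrArg (fun z : H => (z : X)) hy
      simpa using this
  have hexp : ∀ y ∈ Subgroup.closure {y : H | y ^ e = 1}, y ^ e = 1 := by
    intro y hy
    by_cases hp2 : p = 2
    · subst hp2
      rw [he, sexp_two] at hy ⊢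
      exact (Cfsg.Agent.S1898.result hHp (elementary_commutator_of hX H h1 h2) (commutator_le_center_of H h2)).1 y hy
    · rw [he, sexp_odd hp2] at hy ⊢
      exact Cfsg.Agent.S0096.result hp2 hHp (class_two_of H h2) y hy
  refine ⟨D, ?_, ?_, ?_⟩
  · rw [Subgroup.characteristic_iff_map_le]
    intro φ
    rw [hD, MonoidHom.map_closure, Subgroup.closure_le]
    rintro _ ⟨x, ⟨hxH, hxe⟩, rfl⟩
    apply Subgroup.subset_closure
    refine ⟨?_, ?_⟩
    · have h := hHc.fixed φ
      have : x ∈ H.comap (φ : X ≃* X).toMonoidHom := by rw [h]; exact hxH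
      exact this
    · show (φ x) ^ e = 1
      rw [← map_pow, hxe, map_one]
  · intro g hg
    rw [hDmap] at hg
    obtain ⟨y, hy, rfl⟩ := hg
    have := hexp y hy
    have h4 := congrArg (fun z : H => (z : X)) this
    simpa using h4
  · intro α hα hfix
    -- the restriction of `α` to `H`
    have hβfix : ∀ y : H, y ^ e = 1 → restrAut H α y = y := by
      intro y hy
      apply Subtype.ext
      rw [restrAut_apply]
      apply hfix
      apply Subgroup.subset_closure
      refine ⟨y.2, ?_⟩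
      have h4 := congrArg (fun z : H => (z : X)) hy
      simpa using h4
    have hβcop : (orderOf (restrAut H α)).Coprime p :=
      Nat.Coprime.coprime_dvd_left (orderOf_map_dvd (restrAut H) α) hα
    have hβ : restrAut H α = 1 := by
      by_cases hp2 : p = 2
      · subst hp2
        rw [he, sexp_two] at hβfix
        obtain ⟨k, hk⟩ :=
          (Cfsg.Agent.S1898.result hHp (elementary_commutator_of hX H h1 h2) (commutator_le_center_of H h2)).2
            (restrAut H α) hβfix
        have h5 : orderOf (restrAut H α) ∣ 2 ^ k := orderOf_dvd_of_pow_eq_one hk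
        have h6 : orderOf (restrAut H α) = 1 :=
          Nat.eq_one_of_dvd_coprimes (Nat.Coprime.pow_right k hβcop) dvd_rfl h5
        exact orderOf_eq_one_iff.mp h6
      · rw [he, sexp_odd hp2] at hβfix
        exact Cfsg.Agent.S0120.result hp2 hHp (restrAut H α) hβcop hβfix
    apply Cfsg.Agent.S0121.result hX H hHc h1 h2 h3 α hα
    intro x hx
    have h7 := congrArg (fun f : MulAut H => ((f ⟨x, hx⟩ : H) : X)) hβ
    simpa [restrAut_apply] using h7

/-- Restriction of an automorphism to an invariant subgroup of a finite group. -/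
noncomputable def restrTo {Q : Type*} [Group Q] [Finite Q] (Q₀ : Subgroup Q) (α : MulAut Q)
    (h : ∀ x ∈ Q₀, α x ∈ Q₀) : MulAut Q₀ :=
  MulEquiv.ofBijective ((α.toMonoidHom.comp Q₀.subtype).codRestrict Q₀ (fun x => h x x.2)) (by
    apply Finite.injective_iff_bijective.mp
    intro a b hab
    have h1 := congrArg (fun z : Q₀ => (z : Q)) hab
    exact Subtype.ext (α.injective h1))

theorem restrTo_apply {Q : Type*} [Group Q] [Finite Q] (Q₀ : Subgroup Q) (α : MulAut Q)
    (h : ∀ x ∈ Q₀, α x ∈ Q₀) (y : Q₀) : ((restrTo Q₀ α h y : Q₀) : Q) = α y := rfl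

theorem restrTo_pow_apply {Q : Type*} [Group Q] [Finite Q] (Q₀ : Subgroup Q) (α : MulAut Q)
    (h : ∀ x ∈ Q₀, α x ∈ Q₀) (k : ℕ) (y : Q₀) : (((restrTo Q₀ α h) ^ k) y : Q) = (α ^ k) y := by
  induction k generalizing y with
  | zero => simp
  | succ k ih =>
    rw [pow_succ, pow_succ, MulAut.mul_apply, MulAut.mul_apply, ih, restrTo_apply]

theorem orderOf_restrTo_dvd {Q : Type*} [Group Q] [Finite Q] (Q₀ : Subgroup Q) (α : MulAut Q)
    (h : ∀ x ∈ Q₀, α x ∈ Q₀) : orderOf (restrTo Q₀ α h) ∣ orderOf α := by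
  apply orderOf_dvd_of_pow_eq_one
  ext y
  rw [restrTo_pow_apply, pow_orderOf_eq_one]
  rfl

/-- A maximal element among the abelian subgroups of `D` normal in the `p`-group `Q` (`D` normal in `Q`) contains its
centralizer in `D`. -/
theorem mem_of_centralizes_of_maximal {Q : Type*} [Group Q] [Finite Q] {p : ℕ} [Fact p.Prime] (hQ : IsPGroup p Q)
    (D U : Subgroup Q) [hDn : D.Normal] [hUn : U.Normal] (hUD : U ≤ D) (hU : IsMulCommutative U)
    (hmax : ∀ V : Subgroup Q, V ≤ D → V.Normal → IsMulCommutative V → U ≤ V → V = U)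
    (x : Q) (hxD : x ∈ D) (hx : ∀ u ∈ U, u * x = x * u) : x ∈ U := by
  classical
  by_contra hcon
  set C : Subgroup Q := D ⊓ Subgroup.centralizer (U : Set Q) with hC
  have hCn : C.Normal := by
    have : (Subgroup.centralizer (U : Set Q)).Normal := Subgroup.normal_centralizer
    infer_instance
  have hxC : x ∈ C := ⟨hxD, Subgroup.mem_centralizer_iff.mpr (fun u hu => hx u hu)⟩
  let π := QuotientGroup.mk' U
  have hπ : Function.Surjective π := QuotientGroup.mk'_surjective U
  have hCbar_n : (C.map π).Normal := hCn.map π hπ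
  have hCbar_ne : C.map π ≠ ⊥ := by
    intro h
    rw [Subgroup.map_eq_bot_iff, QuotientGroup.ker_mk'] at h
    exact hcon (h hxC)
  have hGbar : IsPGroup p (Q ⧸ U) := hQ.to_quotient U
  obtain ⟨z, hzC, hzc, hzo⟩ := Cfsg.Agent.Helper52.exists_central_orderOf_eq_prime hGbar (C.map π) hCbar_ne
  obtain ⟨c, hcC, hcz⟩ := Subgroup.mem_map.mp hzC
  have hZn : (Subgroup.zpowers z).Normal :=
    Cfsg.Agent.Helper52.normal_of_le_center (by rw [Subgroup.zpowers_le]; exact hzc)
  set B' : Subgroup Q := (Subgroup.zpowers z).comap π with hB'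
  have hB'n : B'.Normal := hZn.comap π
  have hAB' : U ≤ B' := by
    intro b hb
    rw [hB', Subgroup.mem_comap]
    have : π b = 1 := (QuotientGroup.eq_one_iff b).mpr hb
    rw [this]; exact one_mem _
  have hdecomp : ∀ y ∈ B', ∃ a ∈ U, ∃ k : ℤ, y = a * c ^ k := by
    intro y hy
    rw [hB', Subgroup.mem_comap] at hy
    obtain ⟨k, hk⟩ := Subgroup.mem_zpowers_iff.mp hy
    refine ⟨y * (c ^ k)⁻¹, ?_, k, by group⟩
    rw [← QuotientGroup.eq_one_iff (N := U)]
    change π (y * (c ^ k)⁻¹) = 1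
    rw [map_mul, map_inv, map_zpow, hcz, hk]; group
  have hccomm : ∀ a ∈ U, a * c = c * a := fun a ha => (Subgroup.mem_centralizer_iff.mp hcC.2) a ha
  have hB'comm : IsMulCommutative B' := by
    apply Cfsg.Agent.Helper52.isMulCommutative_of_comm
    intro y hy w hw
    obtain ⟨a, ha, k, rfl⟩ := hdecomp y hy
    obtain ⟨b, hb, l, rfl⟩ := hdecomp w hw
    have hab : a * b = b * a := Cfsg.Agent.Helper52.comm_of_mem hU ha hb
    have hak : ∀ (a : Q), a ∈ U → ∀ k : ℤ, a * c ^ k = c ^ k * a := by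
      intro a ha k
      exact ((Commute.zpow_right (hccomm a ha) k)).eq
    calc a * c ^ k * (b * c ^ l) = a * (c ^ k * b) * c ^ l := by group
      _ = a * (b * c ^ k) * c ^ l := by rw [hak b hb k]
      _ = (a * b) * (c ^ k * c ^ l) := by group
      _ = (b * a) * (c ^ l * c ^ k) := by rw [hab, ← zpow_add, ← zpow_add, add_comm]
      _ = b * (a * c ^ l) * c ^ k := by group
      _ = b * (c ^ l * a) * c ^ k := by rw [hak a ha l]
      _ = b * c ^ l * (a * c ^ k) := by group
  have hB'D : B' ≤ D := by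
    intro y hy
    obtain ⟨a, ha, k, rfl⟩ := hdecomp y hy
    exact D.mul_mem (hUD ha) (D.zpow_mem hcC.1 k)
  have hcB' : c ∈ B' := by
    rw [hB', Subgroup.mem_comap]
    show π c ∈ Subgroup.zpowers z
    rw [hcz]; exact Subgroup.mem_zpowers z
  have hBeq := hmax B' hB'D hB'n hB'comm hAB'
  rw [hBeq] at hcB'
  have h1 : π c = 1 := (QuotientGroup.eq_one_iff c).mpr hcB'
  rw [hcz] at h1
  rw [h1, orderOf_one] at hzo
  exact (Fact.out : p.Prime).one_lt.ne hzo

/-- **Key group-theoretic lemma, relative form.** Let `Q₀` be a normal subgroup of the finite `p`-group `Q`. There is an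
abelian subgroup `U ≤ Q₀`, normal in `Q`, of exponent dividing `sexp p`, such that every automorphism `α` of `Q` of order
prime to `p` with `[Q, α] ≤ Q₀` that fixes `U` elementwise is trivial. -/
theorem exists_small_abelian_detecting {Q : Type*} [Group Q] [Finite Q] {p : ℕ} [Fact p.Prime] (hQ : IsPGroup p Q)
    (Q₀ : Subgroup Q) [hQ₀ : Q₀.Normal] :
    ∃ U : Subgroup Q, U ≤ Q₀ ∧ U.Normal ∧ IsMulCommutative U ∧ (∀ u ∈ U, u ^ sexp p = 1) ∧
      ∀ α : MulAut Q, (orderOf α).Coprime p → (∀ x : Q, x⁻¹ * α x ∈ Q₀) → (∀ u ∈ U, α u = u) → α = 1 := by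
  classical
  obtain ⟨D₀, hD₀c, hD₀e, hD₀f⟩ := exists_char_small_faithful (hQ.to_subgroup Q₀)
  set D : Subgroup Q := D₀.map Q₀.subtype with hD
  have hDn : D.Normal := ConjAct.normal_of_characteristic_of_normal
  have hDQ₀ : D ≤ Q₀ := by
    rintro _ ⟨y, -, rfl⟩
    exact y.2
  have hDe : ∀ g ∈ D, g ^ sexp p = 1 := by
    rintro _ ⟨y, hy, rfl⟩
    have := hD₀e y hy
    have h4 := congrArg (fun z : Q₀ => (z : Q)) this
    simpa using h4
  -- a maximal abelian subgroup of `D` normal in `Q`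
  let 𝒮 : Set (Subgroup Q) := {V | V ≤ D ∧ V.Normal ∧ IsMulCommutative V}
  have h𝒮ne : 𝒮.Nonempty :=
    ⟨⊥, bot_le, Subgroup.normal_bot,
      Cfsg.Agent.Helper52.isMulCommutative_of_comm (fun a ha b hb => by
        rw [Subgroup.mem_bot] at ha hb; rw [ha, hb])⟩
  obtain ⟨U, ⟨hUD, hUn, hUc⟩, hUmax⟩ := wellFounded_gt.has_min 𝒮 h𝒮ne
  have hmax : ∀ V : Subgroup Q, V ≤ D → V.Normal → IsMulCommutative V → U ≤ V → V = U := by
    intro V hVD hVn hVc hUV
    by_contra hne
    exact hUmax V ⟨hVD, hVn, hVc⟩ (lt_of_le_of_ne hUV (Ne.symm hne))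
  have hself : ∀ x ∈ D, (∀ u ∈ U, u * x = x * u) → x ∈ U :=
    fun x hxD hx => mem_of_centralizes_of_maximal hQ D U hUD hUc hmax x hxD hx
  refine ⟨U, hUD.trans hDQ₀, hUn, hUc, fun u hu => hDe u (hUD hu), ?_⟩
  intro α hα hcomm hfix
  have hα₀ : ∀ x ∈ Q₀, α x ∈ Q₀ := by
    intro x hx
    have : α x = x * (x⁻¹ * α x) := by group
    rw [this]
    exact Q₀.mul_mem hx (hcomm x)
  set α₀ : MulAut Q₀ := restrTo Q₀ α hα₀ with hα₀def
  have hα₀cop : (orderOf α₀).Coprime p := Nat.Coprime.coprime_dvd_left (orderOf_restrTo_dvd Q₀ α hα₀) hα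
  -- `D` is `α`-invariant
  have hDα : ∀ x ∈ D, α x ∈ D := by
    rintro _ ⟨y, hy, rfl⟩
    refine ⟨α₀ y, ?_, rfl⟩
    have h := hD₀c.fixed α₀
    have : y ∈ D₀.comap (α₀ : Q₀ ≃* Q₀).toMonoidHom := by rw [h]; exact hy
    exact this
  have hUD' : U ≤ Subgroup.normalizer (D : Set Q) := by
    intro u _
    rw [Subgroup.normalizer_eq_top D]
    exact Subgroup.mem_top u
  have hfixD : ∀ u ∈ D, α u = u := by
    apply Cfsg.Agent.Helper24.aut_fix_of_fix_centralizer hQ α hα D U hDα hUD' hfix
    intro u hu hub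
    exact hfix u (hself u hu hub)
  have hα₀1 : α₀ = 1 := by
    apply hD₀f α₀ hα₀cop
    intro y hy
    apply Subtype.ext
    rw [hα₀def, restrTo_apply]
    exact hfixD _ ⟨y, hy, rfl⟩
  have hfixQ₀ : ∀ x ∈ Q₀, α x = x := by
    intro x hx
    have h7 := congrArg (fun f : MulAut Q₀ => ((f ⟨x, hx⟩ : Q₀) : Q)) hα₀1
    simpa [hα₀def, restrTo_apply] using h7
  exact Cfsg.Agent.Helper24.aut_eq_one_of_fix_comm hQ α hα (fun x => hfixQ₀ _ (hcomm x))

end Cfsg.Agent.Helper87.SmallAb
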