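import Cfsg.Agent.Helper87.SmallAb

set_option autoImplicit false

/-! # A small-exponent subgroup of `Q₀ ≤ Q` detecting `p'`-automorphisms (helper87) -/

namespace Cfsg.Agent.Helper87.SmallAb

/-- **Relative faithful small-exponent subgroup.** For a subgroup `Q₀` of the finite `p`-group `Q` there is a subgroup
`D ≤ Q₀` of exponent dividing `sexp p`, invariant under all automorphisms of `Q` preserving `Q₀`, such that every
automorphism `α` of `Q` of order prime to `p` with `[Q, α] ≤ Q₀` fixing `D` elementwise is trivial. -/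
theorem exists_small_faithful_rel {Q : Type*} [Group Q] [Finite Q] {p : ℕ} [Fact p.Prime] (hQ : IsPGroup p Q)
    (Q₀ : Subgroup Q) :
    ∃ D : Subgroup Q, D ≤ Q₀ ∧ (∀ g ∈ D, g ^ sexp p = 1) ∧
      (∀ α : MulAut Q, (∀ x ∈ Q₀, α x ∈ Q₀) → ∀ x ∈ D, α x ∈ D) ∧
      ∀ α : MulAut Q, (orderOf α).Coprime p → (∀ x : Q, x⁻¹ * α x ∈ Q₀) → (∀ u ∈ D, α u = u) → α = 1 := by
  classical
  obtain ⟨D₀, hD₀c, hD₀e, hD₀f⟩ := exists_char_small_faithful (hQ.to_subgroup Q₀)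
  set D : Subgroup Q := D₀.map Q₀.subtype with hD
  have hDQ₀ : D ≤ Q₀ := by
    rintro _ ⟨y, -, rfl⟩
    exact y.2
  have hDe : ∀ g ∈ D, g ^ sexp p = 1 := by
    rintro _ ⟨y, hy, rfl⟩
    have := hD₀e y hy
    have h4 := congrArg (fun z : Q₀ => (z : Q)) this
    simpa using h4
  have hinv : ∀ α : MulAut Q, ∀ hα₀ : (∀ x ∈ Q₀, α x ∈ Q₀), ∀ x ∈ D, α x ∈ D := by
    rintro α hα₀ _ ⟨y, hy, rfl⟩
    refine ⟨restrTo Q₀ α hα₀ y, ?_, rfl⟩
    have h := hD₀c.fixed (restrTo Q₀ α hα₀)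
    have : y ∈ D₀.comap (restrTo Q₀ α hα₀ : Q₀ ≃* Q₀).toMonoidHom := by rw [h]; exact hy
    exact this
  refine ⟨D, hDQ₀, hDe, hinv, ?_⟩
  intro α hα hcomm hfix
  have hα₀ : ∀ x ∈ Q₀, α x ∈ Q₀ := by
    intro x hx
    have : α x = x * (x⁻¹ * α x) := by group
    rw [this]
    exact Q₀.mul_mem hx (hcomm x)
  set α₀ : MulAut Q₀ := restrTo Q₀ α hα₀ with hα₀def
  have hα₀cop : (orderOf α₀).Coprime p := Nat.Coprime.coprime_dvd_left (orderOf_restrTo_dvd Q₀ α hα₀) hα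
  have hα₀1 : α₀ = 1 := by
    apply hD₀f α₀ hα₀cop
    intro y hy
    apply Subtype.ext
    rw [hα₀def, restrTo_apply]
    exact hfix _ ⟨y, hy, rfl⟩
  have hfixQ₀ : ∀ x ∈ Q₀, α x = x := by
    intro x hx
    have h7 := congrArg (fun f : MulAut Q₀ => ((f ⟨x, hx⟩ : Q₀) : Q)) hα₀1
    simpa [hα₀def, restrTo_apply] using h7
  exact Cfsg.Agent.Helper24.aut_eq_one_of_fix_comm hQ α hα (fun x => hfixQ₀ _ (hcomm x))

end Cfsg.Agent.Helper87.SmallAb
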