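import Cfsg.Agent.Helper87.KNormSystem
import Cfsg.Agent.Helper87.SmallAb
import Cfsg.Agent.Helper87.FusionAlperin
import Cfsg.Agent.Helper87.FusionFrobenius
import Cfsg.Agent.Helper87.FusionHyp

set_option autoImplicit false

/-! # Small-exponent abelian subgroups control fusion (Benson–Grodal–Henke, Henke–Liao) (helper87) -/

namespace Cfsg.Agent.Helper87.SmallFus

open Cfsg Cfsg.FusionSystem Cfsg.Agent.Helper87 Cfsg.Agent.Helper84 Cfsg.Agent.Helper87.KNorm

variable {Ω : Type*} [Group Ω] {S : Subgroup Ω}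

/-- `U` detects the `p'`-automorphisms of `Q` in the system: an automorphism of `Q` in `Aut_F(Q)` of order prime to `p`
fixing the elements of `U` is trivial. -/
def Detects (F : FusionSystem S) (p : ℕ) (Q U : Subgroup Ω) : Prop :=
  ∀ α : MulAut Q, α ∈ F.autGroup Q → (orderOf α).Coprime p → (∀ u : Q, (u : Ω) ∈ U → α u = u) → α = 1

theorem detects_of_iso (F : FusionSystem S) {p : ℕ} {Q R U U' : Subgroup Ω} (e : Q ≃* R) (he : IsIso F e)
    (hU : ∀ u : Q, (u : Ω) ∈ U → ((e u : R) : Ω) ∈ U') (h : Detects F p Q U) : Detects F p R U' := by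
  intro β hβ hcop hfix
  have h1 : MulAut.congr e.symm β ∈ F.autGroup Q := by
    rw [← tr_autGroup F e.symm he.symm]
    exact congr_mem_tr e.symm _ hβ
  have h2 : orderOf (MulAut.congr e.symm β) = orderOf β := MulEquiv.orderOf_eq (MulAut.congr e.symm) β
  have h3 : MulAut.congr e.symm β = 1 := by
    apply h _ h1 (by rw [h2]; exact hcop)
    intro u hu
    rw [congr_apply']
    have : β (e.symm.symm u) = e u := hfix (e u) (hU u hu)
    rw [this]
    simp
  have h4 : MulAut.congr e.symm β = MulAut.congr e.symm 1 := by rw [h3, map_one]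
  exact (MulAut.congr e.symm).injective h4

/-- A finite group in which every element of order prime to `p` is trivial is a `p`-group. -/
theorem isPGroup_of_coprime_trivial {G : Type*} [Group G] [Finite G] {p : ℕ} [hp : Fact p.Prime]
    (h : ∀ g : G, (orderOf g).Coprime p → g = 1) : IsPGroup p G := by
  intro g
  have hpos : orderOf g ≠ 0 := (orderOf_pos g).ne'
  obtain ⟨k, m, hm, hkm⟩ := Nat.exists_eq_pow_mul_and_not_dvd hpos p hp.out.ne_one
  refine ⟨k, ?_⟩
  apply h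
  have h1 : orderOf (g ^ p ^ k) = m := by
    rw [orderOf_pow' g (pow_ne_zero k hp.out.ne_zero), hkm, Nat.gcd_eq_right (Dvd.intro _ rfl)]
    exact Nat.mul_div_cancel_left m (pow_pos hp.out.pos k)
  rw [h1]
  exact ((Nat.Prime.coprime_iff_not_dvd hp.out).mpr hm).symm

/-- The auxiliary system: the maps of `N` that lie in `E` whenever their source contains an `N`-image of `Q`. -/
def auxSystem {Y : Subgroup Ω} (N : FusionSystem Y) (E : FusionSystem S) (hYS : Y ≤ S) (Q : Subgroup Ω) :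
    FusionSystem Y where
  Hom A := {ρ | ρ ∈ N.Hom A ∧ ((∃ ι ∈ N.Hom Q, ∀ x, ι x ∈ A) → ρ ∈ E.Hom A)}
  le_of_mem h := N.le_of_mem h.1
  injective_of_mem h := N.injective_of_mem h.1
  conj_mem hP hg := ⟨N.conj_mem hP hg, fun _ => E.conj_mem (hP.trans hYS) (hYS hg)⟩
  comp_mem := by
    intro P P' φ ψ hφ hψ h
    refine ⟨N.comp_mem hφ.1 hψ.1 h, ?_⟩
    rintro ⟨ι, hι, hιP⟩
    have hφE := hφ.2 ⟨ι, hι, hιP⟩
    have hψE := hψ.2 ⟨φ.comp (ι.codRestrict P hιP), N.comp_mem hι hφ.1 hιP, fun x => h _⟩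
    exact E.comp_mem hφE hψE h
  inv_mem := by
    intro P φ hφ
    obtain ⟨ψ, hψ, hψinv⟩ := N.inv_mem hφ.1
    refine ⟨ψ, ⟨hψ, ?_⟩, hψinv⟩
    rintro ⟨ι, hι, hιP⟩
    have hψP : ∀ y : φ.range, ψ y ∈ P := by
      rintro ⟨_, x, rfl⟩
      rw [hψinv]
      exact x.2
    have hφE := hφ.2 ⟨ψ.comp (ι.codRestrict φ.range hιP), N.comp_mem hι hψ hιP, fun x => hψP _⟩
    obtain ⟨ψ', hψ', hψ'inv⟩ := E.inv_mem hφE
    refine mem_of_eq E hψ' ?_
    rintro ⟨_, x, rfl⟩
    rw [hψinv, hψ'inv]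

/-- **Core lemma.** Let `U ≤ Q ≤ S` with `U` normalized by `Q`, receptive in the saturated system `F` and detecting the
`p'`-automorphisms of `Q`; suppose `E` contains the maps of `F` on all subgroups of order larger than `|Q|`. Then a map of
`F` on `Q` that fixes `U` elementwise is a map of `E`. -/
theorem mem_of_fix [Finite S] {p : ℕ} [Fact p.Prime] (hS : IsPGroup p S) (E F : FusionSystem S)
    (hF : F.IsSaturated p) {Q U : Subgroup Ω} (hQS : Q ≤ S) (hUQ : U ≤ Q)
    (hUn : Q ≤ Subgroup.normalizer (U : Set Ω)) (hUrec : F.IsReceptive U) (hdet : Detects F p Q U)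
    (hIH : ∀ P : Subgroup Ω, Nat.card Q < Nat.card P → F.Hom P ⊆ E.Hom P)
    {φ : Q →* Ω} (hφ : φ ∈ F.Hom Q) (hφU : ∀ x : Q, (x : Ω) ∈ U → φ x = x) : φ ∈ E.Hom Q := by
  classical
  have hUS : U ≤ S := hUQ.trans hQS
  have hQp : IsPGroup p Q := hS.to_le hQS
  set K : Subgroup (MulAut U) := autInducedBy Q U with hK
  have hKp : IsPGroup p K := isPGroup_autInducedBy hQp U
  have hKS : K ≤ autInducedBy S U := by
    intro γ hγ
    obtain ⟨g, hg, hgx⟩ := (mem_autInducedBy_iff Q U γ).mp hγ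
    exact (mem_autInducedBy_iff S U γ).mpr ⟨g, hQS hg, hgx⟩
  set Y : Subgroup Ω := NK S U K with hY
  have hYS : Y ≤ S := NK_le S U K
  set N : FusionSystem Y := kNormSystem F U hUrec.1 K with hN
  have hNsat : N.IsSaturated p := kNormSystem_saturated hS F hF K hUrec hKS
  have hYfin : Finite Y := finite_of_le hYS
  have hYp : IsPGroup p Y := hS.to_le hYS
  have hQY : Q ≤ Y := fun x hx =>
    (mem_NK_iff S U K x).mpr ⟨hQS hx, hUn hx, (mem_autInducedBy_iff Q U _).mpr ⟨x, hx, fun u => rfl⟩⟩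
  -- conjugation by `φ x` on `U` is conjugation by `x`
  have hconjφ : ∀ (x : Q) (y : Ω), y ∈ U → φ x * y * (φ x)⁻¹ = x * y * (x : Ω)⁻¹ := by
    intro x y hy
    have hyQ : y ∈ Q := hUQ hy
    have hxy : (x : Ω) * y * (x : Ω)⁻¹ ∈ U := (Subgroup.mem_normalizer_iff.mp (hUn x.2) y).mp hy
    have h1 : φ (x * ⟨y, hyQ⟩ * x⁻¹) = x * y * (x : Ω)⁻¹ := hφU (x * ⟨y, hyQ⟩ * x⁻¹) hxy
    rw [← h1, map_mul, map_mul, map_inv, hφU ⟨y, hyQ⟩ hy]
  have hφN : φ ∈ N.Hom Q := by
    have hle : Q ⊔ U ≤ Q := sup_le le_rfl hUQ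
    refine ⟨hφ, hQY, fun x => ?_, φ.comp (Subgroup.inclusion hle), restrict_mem F hφ hle, fun x => rfl, 1, K.one_mem,
      fun u => ?_⟩
    · have hφxN : φ x ∈ Subgroup.normalizer (U : Set Ω) := by
        apply mem_normalizer_of_conj_mem_of_inv_conj_mem
        · intro y hy
          rw [hconjφ x y hy]
          exact (Subgroup.mem_normalizer_iff.mp (hUn x.2) y).mp hy
        · intro y hy
          have h1 := hconjφ x⁻¹ y hy
          rw [map_inv, inv_inv] at h1
          rw [h1]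
          exact (Subgroup.mem_normalizer_iff.mp (hUn (x⁻¹).2) y).mp hy
      rw [mem_NK_iff]
      refine ⟨(F.le_of_mem hφ).2 x, hφxN, ?_⟩
      have : conjAut U (φ x) hφxN = conjAut U x (hUn x.2) := by
        ext u
        exact hconjφ x u u.2
      rw [this]
      exact (mem_autInducedBy_iff Q U _).mpr ⟨x, x.2, fun u => rfl⟩
    · exact hφU _ u.2
  set E' : FusionSystem Y := auxSystem N E hYS Q with hE'
  have key : ∀ P : Subgroup Ω, N.Hom P ⊆ E'.Hom P := by
    apply alperin hYp N E' hNsat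
    intro R hR β hβ
    have hRfn : N.IsFullyNormalized R := by
      rcases hR with rfl | hess
      · refine ⟨le_rfl, fun Q' _ => ?_⟩
        have : Finite (normalizerIn Y Y) := finite_of_le ((inf_le_left : normalizerIn Y Y ≤ Y).trans hYS)
        apply Subgroup.card_le_of_le
        intro x hx
        exact ⟨hx.1, Subgroup.le_normalizer hx.1⟩
      · exact hess.2.1
    have hRY : R ≤ Y := hRfn.1
    have hRS : R ≤ S := hRY.trans hYS
    have hRfin : Finite R := finite_of_le hRS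
    have hRfa : N.IsFullyAutomized p R := (fullyAutomized_fullyCentralized_of_fullyNormalized hYp N hNsat hRfn).2
    rw [mem_autGroup_iff E' hRY]
    have hβN : IsIso N (β : R ≃* R) := (mem_autGroup_iff N hRY β).mp hβ
    refine ⟨hβN, ?_⟩
    rintro ⟨ι, hι, hιR⟩
    by_cases hlt : Nat.card Q < Nat.card R
    · exact hIH R hlt hβN.1
    · have hιF : ι ∈ F.Hom Q := hι.1
      have hinj := F.injective_of_mem hιF
      have hQfin : Finite Q := finite_of_le hQS
      have hrange : ι.range = R := by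
        have hle : ι.range ≤ R := by
          rintro _ ⟨x, rfl⟩
          exact hιR x
        have hcard : Nat.card ι.range = Nat.card Q :=
          (Nat.card_congr (MonoidHom.ofInjective hinj).toEquiv).symm
        apply Subgroup.eq_of_le_of_card_ge hle
        rw [hcard]
        exact not_lt.mp hlt
      obtain ⟨-, -, -, ψι, hψι, hψιext, κι, hκι, hψιU⟩ := hι
      have hιU : ∀ u : U, ι ⟨u, hUQ u.2⟩ = ((κι u : U) : Ω) := by
        intro u
        rw [← hψιU u, ← hψιext]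
        rfl
      have hUR : U ≤ R := by
        intro u hu
        rw [← hrange]
        refine ⟨⟨(κι⁻¹ ⟨u, hu⟩ : U), hUQ (κι⁻¹ ⟨u, hu⟩ : U).2⟩, ?_⟩
        rw [hιU, MulAut.apply_inv_self]
      set e : Q ≃* R := isoOfRange F hιF hrange with he
      have hdetR : Detects F p R U := by
        refine detects_of_iso F e (isIso_isoOfRange F hιF hrange) (fun u hu => ?_) hdet
        rw [he, isoOfRange_apply]
        have := hιU ⟨u, hu⟩
        rw [this]
        exact (κι ⟨u, hu⟩).2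
      have hMfin : Finite (MulAut R) := finite_mulAut_of_le hRS
      have hpg : IsPGroup p (N.autGroup R) := by
        apply isPGroup_of_coprime_trivial
        intro γ hγ
        have hγN : IsIso N ((γ : MulAut R) : R ≃* R) := (mem_autGroup_iff N hRY γ).mp γ.2
        have hγcop : (orderOf (γ : MulAut R)).Coprime p := by
          rw [Subgroup.orderOf_coe]; exact hγ
        obtain ⟨hγF, -, -, ψγ, hψγ, hψγext, κγ, hκγ, hψγU⟩ := hγN
        have hγU : ∀ u : U, (((γ : MulAut R) ⟨u, hUR u.2⟩ : R) : Ω) = ((κγ u : U) : Ω) := by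
          intro u
          rw [← hψγU u]
          exact (hψγext ⟨u, hUR u.2⟩).symm
        have hpow : ∀ (k : ℕ) (u : U), ((((γ : MulAut R) ^ k) ⟨u, hUR u.2⟩ : R) : Ω) = (((κγ ^ k) u : U) : Ω) := by
          intro k
          induction k with
          | zero => intro u; rfl
          | succ k ih =>
            intro u
            rw [pow_succ, pow_succ, MulAut.mul_apply, MulAut.mul_apply]
            have h1 : (γ : MulAut R) ⟨u, hUR u.2⟩ = ⟨(κγ u : U), hUR (κγ u).2⟩ := Subtype.ext (hγU u)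
            rw [h1]
            exact ih (κγ u)
        have hκpow : κγ ^ orderOf (γ : MulAut R) = 1 := by
          ext u
          rw [← hpow, pow_orderOf_eq_one]
          rfl
        have hκ1 : κγ = 1 := by
          obtain ⟨j, hj⟩ := hKp ⟨κγ, hκγ⟩
          have hj' : κγ ^ p ^ j = 1 := by
            have := congrArg (fun z : K => (z : MulAut U)) hj
            simpa using this
          have h1 : orderOf κγ ∣ orderOf (γ : MulAut R) := orderOf_dvd_of_pow_eq_one hκpow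
          have h2 : orderOf κγ ∣ p ^ j := orderOf_dvd_of_pow_eq_one hj'
          have h3 : orderOf κγ = 1 :=
            Nat.eq_one_of_dvd_coprimes (Nat.Coprime.pow_right j hγcop) h1 h2
          exact orderOf_eq_one_iff.mp h3
        have hγ1 : (γ : MulAut R) = 1 := by
          apply hdetR (γ : MulAut R) ((mem_autGroup_iff F hRS _).mpr hγF) hγcop
          intro v hv
          apply Subtype.ext
          have := hγU ⟨v, hv⟩
          rw [hκ1] at this
          exact this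
        exact Subtype.ext hγ1
      obtain ⟨g, hgY, hg⟩ := exists_conj_of_fullyAutomized_of_isPGroup N hRfa hpg β hβ
      exact mem_of_eq E (E.conj_mem hRS (hYS hgY)) (fun x => hg x)
  exact (key Q hφN).2 ⟨Q.subtype, subtype_mem N hQY, fun x => x.2⟩

/-- Abelian of small exponent: commutative with `a ^ sexp p = 1` (`sexp p = 4` for `p = 2` and `p` otherwise). -/
def SmallAbelian (p : ℕ) (A : Subgroup Ω) : Prop :=
  IsMulCommutative A ∧ ∀ a ∈ A, a ^ SmallAb.sexp p = 1

theorem smallAbelian_range {p : ℕ} {A : Subgroup Ω} (hA : SmallAbelian p A) (ψ : A →* Ω) :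
    SmallAbelian p ψ.range := by
  refine ⟨Cfsg.Agent.Helper52.isMulCommutative_of_comm ?_, ?_⟩
  · rintro _ ⟨a, rfl⟩ _ ⟨b, rfl⟩
    have : a * b = b * a := by
      have := hA.1
      exact mul_comm' a b
    rw [← map_mul, ← map_mul, this]
  · rintro _ ⟨a, rfl⟩
    have h1 : (a : Ω) ^ SmallAb.sexp p = 1 := hA.2 a a.2
    have h2 : a ^ SmallAb.sexp p = 1 := Subtype.ext (by simpa using h1)
    rw [← map_pow, h2, map_one]

theorem isConj_of_le {E F : FusionSystem S} (hEF : ∀ P, E.Hom P ⊆ F.Hom P) {P Q : Subgroup Ω}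
    (h : E.IsConj P Q) : F.IsConj P Q := by
  obtain ⟨φ, hφ, hr⟩ := h
  exact ⟨φ, hEF P hφ, hr⟩

/-- **Second step.** As in `mem_of_fix`, for `U` fully normalized in `F`, small abelian and inside the strongly closed
subgroup `T` on whose small abelian subgroups `E` and `F` agree: all maps of `F` on `Q` are maps of `E`. -/
theorem hom_subset_of_fullyNormalized [Finite S] {p : ℕ} [Fact p.Prime] (hS : IsPGroup p S) (E F : FusionSystem S)
    (hE : E.IsSaturated p) (hF : F.IsSaturated p) (hEF : ∀ P, E.Hom P ⊆ F.Hom P)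
    (T : Subgroup Ω) (hT : F.StronglyClosed T)
    (hsm : ∀ A B : Subgroup Ω, A ≤ T → B ≤ T → SmallAbelian p A → SmallAbelian p B → F.homSet A B ⊆ E.homSet A B)
    {Q U : Subgroup Ω} (hQS : Q ≤ S) (hUQ : U ≤ Q) (hUT : U ≤ T)
    (hUn : Q ≤ Subgroup.normalizer (U : Set Ω)) (hUs : SmallAbelian p U) (hUfn : F.IsFullyNormalized U)
    (hdet : Detects F p Q U)
    (hIH : ∀ P : Subgroup Ω, Nat.card Q < Nat.card P → F.Hom P ⊆ E.Hom P) : F.Hom Q ⊆ E.Hom Q := by
  have hUfnE : E.IsFullyNormalized U := ⟨hUfn.1, fun U' hc => hUfn.2 U' (isConj_of_le hEF hc)⟩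
  have hUrecE : E.IsReceptive U :=
    receptive_of_fullyCentralized hS E hE (fullyAutomized_fullyCentralized_of_fullyNormalized hS E hE hUfnE).1
  have hUrecF : F.IsReceptive U :=
    receptive_of_fullyCentralized hS F hF (fullyAutomized_fullyCentralized_of_fullyNormalized hS F hF hUfn).1
  intro φ₀ hφ₀
  set ψ : U →* Ω := φ₀.comp (Subgroup.inclusion hUQ) with hψdef
  have hψF : ψ ∈ F.Hom U := restrict_mem F hφ₀ hUQ
  have hU₂T : ψ.range ≤ T := by
    rintro _ ⟨u, rfl⟩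
    exact hT.2 U hUT ψ hψF u
  have hψE : ψ ∈ E.Hom U :=
    (hsm U ψ.range hUT hU₂T hUs (smallAbelian_range hUs ψ) ⟨hψF, fun x => ⟨x, rfl⟩⟩).1
  obtain ⟨ψinv, hψinv, hinv⟩ := E.inv_mem hψE
  have hrange : ψinv.range = U := by
    ext y
    constructor
    · rintro ⟨⟨_, u, rfl⟩, rfl⟩
      rw [hinv]
      exact u.2
    · intro hy
      exact ⟨⟨ψ ⟨y, hy⟩, ⟨_, rfl⟩⟩, hinv ⟨y, hy⟩⟩
  obtain ⟨θ', hθ', hθ'x⟩ := hUrecE.2 ψ.range ψinv hψinv hrange
  -- conjugation formula
  have hconj : ∀ (x : Q) (u : U), ∃ hxu : (x : Ω) * u * (x : Ω)⁻¹ ∈ U,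
      φ₀ x * ψ u * (φ₀ x)⁻¹ = ψ ⟨(x : Ω) * u * (x : Ω)⁻¹, hxu⟩ := by
    intro x u
    have hxu : (x : Ω) * u * (x : Ω)⁻¹ ∈ U := (Subgroup.mem_normalizer_iff.mp (hUn x.2) u).mp u.2
    refine ⟨hxu, ?_⟩
    show φ₀ x * φ₀ (Subgroup.inclusion hUQ u) * (φ₀ x)⁻¹ = φ₀ (Subgroup.inclusion hUQ ⟨_, hxu⟩)
    rw [← map_inv, ← map_mul, ← map_mul]
    congr 1
  have hle : φ₀.range ≤ extender S ψ.range ψinv := by
    rintro _ ⟨x, rfl⟩
    rw [mem_extender_iff]
    refine ⟨(F.le_of_mem hφ₀).2 x, ?_, (x : Ω), hQS x.2, ?_⟩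
    · apply mem_normalizer_of_conj_mem_of_inv_conj_mem
      · rintro _ ⟨u, rfl⟩
        obtain ⟨hxu, h1⟩ := hconj x u
        rw [h1]
        exact ⟨_, rfl⟩
      · rintro _ ⟨u, rfl⟩
        obtain ⟨hxu, h1⟩ := hconj x⁻¹ u
        rw [map_inv, inv_inv] at h1
        rw [h1]
        exact ⟨_, rfl⟩
    · rintro ⟨_, u, rfl⟩ hz
      obtain ⟨hxu, h1⟩ := hconj x u
      have h2 : (⟨φ₀ x * ψ u * (φ₀ x)⁻¹, hz⟩ : ψ.range) = ⟨ψ ⟨(x : Ω) * u * (x : Ω)⁻¹, hxu⟩, ⟨_, rfl⟩⟩ :=
        Subtype.ext h1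
      rw [h2, hinv, hinv]
  set θ : φ₀.range →* Ω := θ'.comp (Subgroup.inclusion hle) with hθdef
  have hθ : θ ∈ E.Hom φ₀.range := restrict_mem E hθ' hle
  set φ : Q →* Ω := θ.comp (φ₀.codRestrict φ₀.range (fun x => ⟨x, rfl⟩)) with hφdef
  have hφ : φ ∈ F.Hom Q := F.comp_mem hφ₀ (hEF _ hθ) (fun x => ⟨x, rfl⟩)
  have hφU : ∀ x : Q, (x : Ω) ∈ U → φ x = x := by
    intro x hx
    have hP : φ₀ x ∈ ψ.range := ⟨⟨x, hx⟩, rfl⟩
    have h1 : φ x = ψinv ⟨φ₀ x, hP⟩ := hθ'x (φ₀ x) hP (hle ⟨x, rfl⟩)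
    rw [h1]
    exact hinv ⟨x, hx⟩
  have hφE : φ ∈ E.Hom Q := mem_of_fix hS E F hF hQS hUQ hUn hUrecF hdet hIH hφ hφU
  obtain ⟨θinv, hθinv, hθinvx⟩ := E.inv_mem hθ
  have hval : ∀ x : Q, φ x ∈ θ.range := fun x => ⟨_, rfl⟩
  refine mem_of_eq E (E.comp_mem hφE hθinv hval) (fun x => ?_)
  show φ₀ x = θinv ⟨θ ⟨φ₀ x, ⟨x, rfl⟩⟩, _⟩
  rw [hθinvx]

/-- **Third step.** The inductive step for an arbitrary `Q ≤ S`. -/
theorem hom_subset_step [Finite S] {p : ℕ} [Fact p.Prime] (hS : IsPGroup p S) (E F : FusionSystem S)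
    (hE : E.IsSaturated p) (hF : F.IsSaturated p) (hEF : ∀ P, E.Hom P ⊆ F.Hom P)
    (T : Subgroup Ω) (hT : F.StronglyClosed T) (hhyp : F.hyperfocalSubgroup p ≤ T)
    (hsm : ∀ A B : Subgroup Ω, A ≤ T → B ≤ T → SmallAbelian p A → SmallAbelian p B → F.homSet A B ⊆ E.homSet A B)
    {Q : Subgroup Ω} (hQS : Q ≤ S)
    (hIH : ∀ P : Subgroup Ω, Nat.card Q < Nat.card P → F.Hom P ⊆ E.Hom P) : F.Hom Q ⊆ E.Hom Q := by
  have hQfin : Finite Q := finite_of_le hQS
  have hQp : IsPGroup p Q := hS.to_le hQS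
  have hQ₀n : (T.subgroupOf Q).Normal := by
    refine ⟨fun n hn g => ?_⟩
    rw [Subgroup.mem_subgroupOf] at hn ⊢
    exact hT.2 T le_rfl (conjHom T g) (F.conj_mem hT.1 (hQS g.2)) ⟨n, hn⟩
  obtain ⟨U₀, hU₀Q₀, hU₀n, hU₀c, hU₀e, hU₀d⟩ := SmallAb.exists_small_abelian_detecting hQp (T.subgroupOf Q)
  set U : Subgroup Ω := U₀.map Q.subtype with hU
  have hUQ : U ≤ Q := Subgroup.map_subtype_le U₀
  have hUS : U ≤ S := hUQ.trans hQS
  have hUT : U ≤ T := by
    rintro _ ⟨u, hu, rfl⟩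
    exact Subgroup.mem_subgroupOf.mp (hU₀Q₀ hu)
  have hUn : Q ≤ Subgroup.normalizer (U : Set Ω) := by
    intro x hx
    have key : ∀ z : Q, ∀ y ∈ U, (z : Ω) * y * (z : Ω)⁻¹ ∈ U := by
      rintro z _ ⟨u, hu, rfl⟩
      exact ⟨z * u * z⁻¹, hU₀n.conj_mem u hu z, rfl⟩
    apply mem_normalizer_of_conj_mem_of_inv_conj_mem (key ⟨x, hx⟩)
    intro y hy
    have := key ⟨x, hx⟩⁻¹ y hy
    simpa using this
  have hUs : SmallAbelian p U := by
    refine ⟨Cfsg.Agent.Helper52.isMulCommutative_of_comm ?_, ?_⟩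
    · rintro _ ⟨a, ha, rfl⟩ _ ⟨b, hb, rfl⟩
      have h1 : a * b = b * a := Cfsg.Agent.Helper52.comm_of_mem hU₀c ha hb
      have h2 := congrArg (fun z : Q => (z : Ω)) h1
      simpa using h2
    · rintro _ ⟨a, ha, rfl⟩
      have h1 := hU₀e a ha
      have h2 := congrArg (fun z : Q => (z : Ω)) h1
      simpa using h2
  have hdet : Detects F p Q U := by
    intro α hα hcop hfix
    apply hU₀d α hcop (fun x => ?_) (fun u hu => hfix u ⟨u, hu, rfl⟩)
    rw [Subgroup.mem_subgroupOf]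
    apply hhyp
    apply Subgroup.subset_closure
    refine ⟨Q, ⟨α, hα⟩, x, hQS, ?_, rfl⟩
    apply Subgroup.subset_closure
    show Nat.Coprime (orderOf (⟨α, hα⟩ : F.autGroup Q)) p
    rw [← Subgroup.orderOf_coe]
    exact hcop
  -- a fully normalized conjugate of `U`
  obtain ⟨U', hconj, hU'fn⟩ := exists_isConj_fullyNormalized F hUS
  obtain ⟨e, he⟩ := (isConj_iff F U U').mp hconj
  have hrange_e : (U'.subtype.comp e.toMonoidHom).range = U' := range_subtype_comp_equiv e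
  have hU'T : U' ≤ T := by
    intro y hy
    have h1 := hT.2 U hUT _ he (e.symm ⟨y, hy⟩)
    simpa using h1
  have hU's : SmallAbelian p U' := by
    have := smallAbelian_range hUs (U'.subtype.comp e.toMonoidHom)
    rwa [hrange_e] at this
  have heE : IsIso E e := (hsm U U' hUT hU'T hUs hU's ⟨he, fun x => (e x).2⟩).1
  have hU'fnE : E.IsFullyNormalized U' := ⟨hU'fn.1, fun U'' hc => hU'fn.2 U'' (isConj_of_le hEF hc)⟩
  have hfcE := fullyAutomized_fullyCentralized_of_fullyNormalized hS E hE hU'fnE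
  have hrecE : E.IsReceptive U' := receptive_of_fullyCentralized hS E hE hfcE.1
  obtain ⟨χ, hχ, e', he', hχx, hχN, -, -⟩ := exists_extension_normalizerIn' hS E hfcE.2 hrecE e heE
  have hQN : Q ≤ normalizerIn S U := fun x hx => ⟨hQS hx, hUn hx⟩
  have hUN : U ≤ normalizerIn S U := le_normalizerIn hUS
  set χQ : Q →* Ω := χ.comp (Subgroup.inclusion hQN) with hχQdef
  have hχQ : χQ ∈ E.Hom Q := restrict_mem E hχ hQN
  set Q₁ : Subgroup Ω := χQ.range with hQ₁
  set e₁ : Q ≃* Q₁ := isoOfRange E hχQ rfl with he₁def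
  have he₁ : IsIso E e₁ := isIso_isoOfRange E hχQ rfl
  have he₁F : IsIso F e₁ := hEF Q he₁
  have hQ₁S : Q₁ ≤ S := he₁.le_right
  have hχU : ∀ u : U, χQ ⟨u, hUQ u.2⟩ = e' u := fun u => hχx u
  have hU'Q₁ : U' ≤ Q₁ := by
    intro y hy
    refine ⟨⟨e'.symm ⟨y, hy⟩, hUQ (e'.symm ⟨y, hy⟩).2⟩, ?_⟩
    rw [hχU]
    simp
  have hU'n : Q₁ ≤ Subgroup.normalizer (U' : Set Ω) := by
    rintro _ ⟨x, rfl⟩
    apply map_mem_normalizer χ hUN (fun q => ?_) (fun y hy => ?_) (Subgroup.inclusion hQN x) (hUn x.2)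
    · have := hχx q
      rw [show Subgroup.inclusion hUN q = ⟨q, le_normalizerIn he.le_left q.2⟩ from rfl, this]
      exact (e' q).2
    · refine ⟨e'.symm ⟨y, hy⟩, ?_⟩
      have := hχx (e'.symm ⟨y, hy⟩)
      rw [show Subgroup.inclusion hUN (e'.symm ⟨y, hy⟩) = ⟨(e'.symm ⟨y, hy⟩ : U), le_normalizerIn he.le_left (e'.symm ⟨y, hy⟩).2⟩
        from rfl, this]
      simp
  have hdet₁ : Detects F p Q₁ U' := by
    refine detects_of_iso F e₁ he₁F (fun u hu => ?_) hdet
    rw [he₁def, isoOfRange_apply]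
    have := hχU ⟨u, hu⟩
    rw [show (⟨((⟨u, hu⟩ : U) : Ω), hUQ (⟨u, hu⟩ : U).2⟩ : Q) = u from Subtype.ext rfl] at this
    rw [this]
    exact (e' ⟨u, hu⟩).2
  have hcard : Nat.card Q₁ = Nat.card Q := Nat.card_congr e₁.symm.toEquiv
  have hIH₁ : ∀ P : Subgroup Ω, Nat.card Q₁ < Nat.card P → F.Hom P ⊆ E.Hom P := by
    rw [hcard]; exact hIH
  have hsub := hom_subset_of_fullyNormalized hS E F hE hF hEF T hT hsm hQ₁S hU'Q₁ hU'T hU'n hU's hU'fn hdet₁ hIH₁
  intro φ₀ hφ₀
  have h1 : φ₀.comp e₁.symm.toMonoidHom ∈ F.Hom Q₁ := comp_iso_mem F he₁F.symm hφ₀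
  have h2 := hsub h1
  have h3 := comp_iso_mem E he₁ h2
  exact mem_of_eq E h3 (fun x => by simp)

/-- **Small-exponent abelian subgroups of a strongly closed subgroup containing the hyperfocal subgroup control fusion.**
Let `E ≤ F` be saturated fusion systems over the finite `p`-group `S`, and `T` a strongly `F`-closed subgroup containing
the hyperfocal subgroup of `F`. If `E` contains all maps of `F` between small abelian subgroups of `T`, then `E`
contains all maps of `F`. -/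
theorem hom_subset_of_small [Finite S] {p : ℕ} [Fact p.Prime] (hS : IsPGroup p S) (E F : FusionSystem S)
    (hE : E.IsSaturated p) (hF : F.IsSaturated p) (hEF : ∀ P, E.Hom P ⊆ F.Hom P)
    (T : Subgroup Ω) (hT : F.StronglyClosed T) (hhyp : F.hyperfocalSubgroup p ≤ T)
    (hsm : ∀ A B : Subgroup Ω, A ≤ T → B ≤ T → SmallAbelian p A → SmallAbelian p B → F.homSet A B ⊆ E.homSet A B) :
    ∀ Q : Subgroup Ω, F.Hom Q ⊆ E.Hom Q := by
  intro Q
  induction' hn : Nat.card S - Nat.card Q using Nat.strong_induction_on with n ih generalizing Q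
  by_cases hQS : Q ≤ S
  · apply hom_subset_step hS E F hE hF hEF T hT hhyp hsm hQS
    intro P hlt
    by_cases hPS : P ≤ S
    · have hP : Finite P := finite_of_le hPS
      have hPle : Nat.card P ≤ Nat.card S := Subgroup.card_le_of_le hPS
      exact ih (Nat.card S - Nat.card P) (by omega) P rfl
    · intro φ hφ
      exact absurd (F.le_of_mem hφ).1 hPS
  · intro φ hφ
    exact absurd (F.le_of_mem hφ).1 hQS

/-- The statement form: hypotheses split into the odd case (elementary abelian) and `p = 2` (abelian of exponent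
dividing `4`). -/
theorem hom_eq_of_small [Finite S] {p : ℕ} [Fact p.Prime] (hS : IsPGroup p S) (E F : FusionSystem S)
    (hE : E.IsSaturated p) (hF : F.IsSaturated p) (hEF : E.IsSubsystemOf F)
    (T : Subgroup Ω) (hT : F.StronglyClosed T) (hhyp : F.hyperfocalSubgroup p ≤ T)
    (hodd : p ≠ 2 → ∀ A B : Subgroup Ω, A ≤ T → B ≤ T → Cfsg.IsElementaryAbelian p A →
      Cfsg.IsElementaryAbelian p B → E.homSet A B = F.homSet A B)
    (htwo : p = 2 → ∀ A B : Subgroup Ω, A ≤ T → B ≤ T → IsMulCommutative A → IsMulCommutative B →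
      (∀ a ∈ A, a ^ 4 = 1) → (∀ b ∈ B, b ^ 4 = 1) → E.homSet A B = F.homSet A B) :
    ∀ P : Subgroup Ω, E.Hom P = F.Hom P := by
  intro P
  refine Set.Subset.antisymm (hEF P) ?_
  apply hom_subset_of_small hS E F hE hF hEF T hT hhyp
  intro A B hA hB hAs hBs
  by_cases hp2 : p = 2
  · have h4 : SmallAb.sexp p = 4 := by rw [hp2]; exact SmallAb.sexp_two
    rw [htwo hp2 A B hA hB hAs.1 hBs.1 (fun a ha => by rw [← h4]; exact hAs.2 a ha)
      (fun b hb => by rw [← h4]; exact hBs.2 b hb)]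
  · have hpp : SmallAb.sexp p = p := SmallAb.sexp_odd hp2
    rw [hodd hp2 A B hA hB ⟨hAs.1, fun a ha => by rw [← hpp]; exact hAs.2 a ha⟩
      ⟨hBs.1, fun b hb => by rw [← hpp]; exact hBs.2 b hb⟩]

end Cfsg.Agent.Helper87.SmallFus
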