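import Cfsg.Agent.Helper87.SmallAb2
import Cfsg.Agent.Helper87.SmallFus
import Cfsg.Agent.Helper85.Basic

set_option autoImplicit false

/-! # Small cyclic subgroups of the hyperfocal subgroup and normality of `S` (helper87)

If the maps of a saturated fusion system `F` between cyclic subgroups of order `p` or `4` of `hyp(F)` all extend to
automorphisms of `S`, then `Aut_F(P)` has a normal Sylow `p`-subgroup for every fully normalized `P`. -/

namespace Cfsg.Agent.Helper87.SmallCyc

open Cfsg Cfsg.FusionSystem Cfsg.Agent.Helper87 Cfsg.Agent.Helper87.SmallAb Cfsg.Agent.Helper87.SmallFus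

variable {Ω : Type*} [Group Ω] {S : Subgroup Ω}

/-- A map on `A ⊔ S` carrying `S` onto `S` induces an automorphism of `S`. -/
theorem exists_mulAut_of_map_eq [Finite S] {A : Subgroup Ω} (ψ : ↥(A ⊔ S) →* Ω) (hinj : Function.Injective ψ)
    (hmap : (S.subgroupOf (A ⊔ S)).map ψ = S) :
    ∃ δ : MulAut S, ∀ s : S, ((δ s : S) : Ω) = ψ ⟨s, (le_sup_right : S ≤ A ⊔ S) s.2⟩ := by
  obtain ⟨h1, -⟩ := (Cfsg.Agent.Helper85.map_subgroupOf_eq_iff ψ).mp hmap
  let f : S →* S := (ψ.comp (Subgroup.inclusion (le_sup_right : S ≤ A ⊔ S))).codRestrict S (fun s => h1 _ s.2)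
  have hf : Function.Injective f := by
    intro a b hab
    have h2 := congrArg (fun z : S => (z : Ω)) hab
    have h3 := hinj h2
    exact Subtype.ext (congrArg (fun z : ↥(A ⊔ S) => (z : Ω)) h3)
  exact ⟨MulEquiv.ofBijective f (Finite.injective_iff_bijective.mp hf), fun s => rfl⟩

/-- An element `x ≠ 1` with `x ^ sexp p = 1` has order `p` or `4`. -/
theorem orderOf_eq_of_pow_sexp {p : ℕ} [hp : Fact p.Prime] {x : Ω} (hx1 : x ≠ 1) (hxs : x ^ sexp p = 1) :
    orderOf x = p ∨ orderOf x = 4 := by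
  have hdvd : orderOf x ∣ sexp p := orderOf_dvd_of_pow_eq_one hxs
  have hne1 : orderOf x ≠ 1 := fun h0 => hx1 (orderOf_eq_one_iff.mp h0)
  unfold sexp at hdvd
  split_ifs at hdvd with h2
  · have hle : orderOf x ≤ 4 := Nat.le_of_dvd (by norm_num) hdvd
    have hpos : 0 < orderOf x := Nat.pos_of_dvd_of_pos hdvd (by norm_num)
    have h3 : orderOf x ≠ 3 := by
      intro h0
      rw [h0] at hdvd
      omega
    rw [h2]
    omega
  · rcases (Nat.dvd_prime hp.out).mp hdvd with h0 | h0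
    · exact absurd h0 hne1
    · exact Or.inl h0

/-- **Main lemma.** Under the hypothesis on small cyclic subgroups of the hyperfocal subgroup, `Aut_F(P)` has a normal Sylow
`p`-subgroup for every fully normalized `P`. -/
theorem exists_normal_sylow [Finite S] {p : ℕ} [Fact p.Prime] (hS : IsPGroup p S) (F : FusionSystem S)
    (hF : F.IsSaturated p)
    (h : ∀ A B : Subgroup Ω, A ≤ F.hyperfocalSubgroup p → B ≤ F.hyperfocalSubgroup p → IsCyclic A →
      (Nat.card A = p ∨ Nat.card A = 4) → IsCyclic B → (Nat.card B = p ∨ Nat.card B = 4) →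
      F.homSet A B ⊆ F.normalizerHom S A)
    {P : Subgroup Ω} (hPfn : F.IsFullyNormalized P) :
    ∃ R : Sylow p (F.autGroup P), (R : Subgroup (F.autGroup P)).Normal := by
  classical
  have hPS : P ≤ S := hPfn.1
  have hPfin : Finite P := finite_of_le hPS
  have hPp : IsPGroup p P := hS.to_le hPS
  have hMfin : Finite (MulAut P) := finite_mulAut_of_le hPS
  set H : Subgroup Ω := F.hyperfocalSubgroup p with hH
  have hHsc : F.StronglyClosed H := stronglyClosed_hyperfocalSubgroup hS F hF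
  obtain ⟨-, R, hR⟩ := (fullyAutomized_fullyCentralized_of_fullyNormalized hS F hF hPfn).2
  obtain ⟨D, hDQ₀, hDe, hDinv, hDf⟩ := exists_small_faithful_rel hPp (H.subgroupOf P)
  -- `Aut_F(P)` preserves `H ∩ P`
  have hΓQ₀ : ∀ γ : MulAut P, γ ∈ F.autGroup P → ∀ x ∈ H.subgroupOf P, γ x ∈ H.subgroupOf P := by
    intro γ hγ x hx
    rw [Subgroup.mem_subgroupOf] at hx ⊢
    have hiso : IsIso F (γ : P ≃* P) := (mem_autGroup_iff F hPS γ).mp hγ
    have hφ := restrict_mem F hiso (inf_le_right : H ⊓ P ≤ P)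
    exact hHsc.2 (H ⊓ P) inf_le_left _ hφ ⟨x, ⟨hx, x.2⟩⟩
  have hΓD : ∀ γ : MulAut P, γ ∈ F.autGroup P → ∀ x ∈ D, γ x ∈ D :=
    fun γ hγ => hDinv γ (hΓQ₀ γ hγ)
  -- the chain
  set Dn : ℕ → Subgroup P := fun n => D ⊓ ((Subgroup.upperCentralSeries S n).map S.subtype).subgroupOf P with hDn
  have hmemDn : ∀ (n : ℕ) (x : P), x ∈ Dn n ↔ x ∈ D ∧ (x : Ω) ∈ (Subgroup.upperCentralSeries S n).map S.subtype := by
    intro n x
    rw [hDn]
    simp only [Subgroup.mem_inf, Subgroup.mem_subgroupOf]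
  have hDn0 : ∀ x ∈ Dn 0, x = 1 := by
    intro x hx
    have h1 := ((hmemDn 0 x).mp hx).2
    rw [Subgroup.upperCentralSeries_zero, Subgroup.map_bot, Subgroup.mem_bot] at h1
    exact Subtype.ext h1
  obtain ⟨c, hc⟩ := (hS.isNilpotent : Group.IsNilpotent S).nilpotent
  have hDnc : ∀ x ∈ D, x ∈ Dn c := by
    intro x hx
    rw [hmemDn, hc]
    exact ⟨hx, ⟨⟨x, hPS x.2⟩, Subgroup.mem_top _, rfl⟩⟩
  -- invariance of the chain under `Aut_F(P)`
  have hΓDn : ∀ γ : MulAut P, γ ∈ F.autGroup P → ∀ n, ∀ x ∈ Dn n, γ x ∈ Dn n := by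
    intro γ hγ n x hx
    obtain ⟨hxD, z, hz, hzx⟩ := (hmemDn n x).mp hx
    rw [hmemDn]
    refine ⟨hΓD γ hγ x hxD, ?_⟩
    by_cases hx1 : x = 1
    · rw [hx1, map_one]
      exact Subgroup.one_mem _
    have hx1' : (x : Ω) ≠ 1 := fun h0 => hx1 (Subtype.ext h0)
    have hxs' : (x : Ω) ^ sexp p = 1 := by
      have := congrArg (fun y : P => (y : Ω)) (hDe x hxD)
      simpa using this
    have hord := orderOf_eq_of_pow_sexp hx1' hxs'
    have hxH : (x : Ω) ∈ H := Subgroup.mem_subgroupOf.mp (hDQ₀ hxD)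
    have hγxH : ((γ x : P) : Ω) ∈ H := Subgroup.mem_subgroupOf.mp (hDQ₀ (hΓD γ hγ x hxD))
    have hordimg : orderOf (((γ x : P)) : Ω) = orderOf (x : Ω) := by
      rw [Subgroup.orderOf_coe, Subgroup.orderOf_coe]
      exact MulEquiv.orderOf_eq γ x
    have hzle : Subgroup.zpowers (x : Ω) ≤ P := by
      rw [Subgroup.zpowers_le]
      exact x.2
    have hiso : IsIso F (γ : P ≃* P) := (mem_autGroup_iff F hPS γ).mp hγ
    have hφ := restrict_mem F hiso hzle
    have hmem : (P.subtype.comp (γ : P ≃* P).toMonoidHom).comp (Subgroup.inclusion hzle) ∈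
        F.homSet (Subgroup.zpowers (x : Ω)) (Subgroup.zpowers (((γ x : P)) : Ω)) := by
      refine ⟨hφ, fun y => ?_⟩
      obtain ⟨j, hj⟩ := Subgroup.mem_zpowers_iff.mp y.2
      have hy : Subgroup.inclusion hzle y = x ^ j := by
        apply Subtype.ext
        rw [Subgroup.coe_zpow]
        exact hj.symm
      show ((γ (Subgroup.inclusion hzle y) : P) : Ω) ∈ _
      rw [hy, map_zpow, Subgroup.coe_zpow]
      exact Subgroup.zpow_mem _ (Subgroup.mem_zpowers _) j
    have hres := h (Subgroup.zpowers (x : Ω)) (Subgroup.zpowers (((γ x : P)) : Ω))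
      (by rw [Subgroup.zpowers_le]; exact hxH) (by rw [Subgroup.zpowers_le]; exact hγxH)
      inferInstance (by rw [Nat.card_zpowers]; exact hord)
      inferInstance (by rw [Nat.card_zpowers, hordimg]; exact hord) hmem
    obtain ⟨-, -, -, ψ, hψ, hψext, hψS⟩ := hres
    obtain ⟨δ, hδ⟩ := exists_mulAut_of_map_eq ψ (F.injective_of_mem hψ) hψS
    have hchar : (Subgroup.upperCentralSeries S n).Characteristic := inferInstance
    have hδz : δ z ∈ Subgroup.upperCentralSeries S n := by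
      have h1 := hchar.fixed δ
      have : z ∈ (Subgroup.upperCentralSeries S n).comap (δ : S ≃* S).toMonoidHom := by rw [h1]; exact hz
      exact this
    refine ⟨δ z, hδz, ?_⟩
    show ((δ z : S) : Ω) = ((γ x : P) : Ω)
    rw [hδ]
    have h2 := hψext ⟨(x : Ω), Subgroup.mem_zpowers _⟩
    have h3 : (⟨(z : Ω), (le_sup_right : S ≤ Subgroup.zpowers (x : Ω) ⊔ S) z.2⟩ : ↥(Subgroup.zpowers (x : Ω) ⊔ S)) =
        Subgroup.inclusion le_sup_left (⟨(x : Ω), Subgroup.mem_zpowers _⟩ : Subgroup.zpowers (x : Ω)) :=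
      Subtype.ext hzx
    rw [h3, h2]
    rfl
  -- the stabilizer of the chain
  let C : Subgroup (F.autGroup P) :=
    { carrier := {γ | ∀ n, ∀ x ∈ Dn (n + 1), x⁻¹ * (γ : MulAut P) x ∈ Dn n}
      one_mem' := by
        intro n x _
        simp
      mul_mem' := by
        intro β γ hβ hγ n x hx
        have h1 : x⁻¹ * (γ : MulAut P) x ∈ Dn n := hγ n x hx
        have h2 : (γ : MulAut P) x ∈ Dn (n + 1) := hΓDn γ γ.2 (n + 1) x hx
        have h3 := hβ n _ h2
        have : x⁻¹ * ((β * γ : F.autGroup P) : MulAut P) x =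
            (x⁻¹ * (γ : MulAut P) x) * (((γ : MulAut P) x)⁻¹ * (β : MulAut P) ((γ : MulAut P) x)) := by
          rw [Subgroup.coe_mul, MulAut.mul_apply]; group
        rw [this]
        exact (Dn n).mul_mem h1 h3
      inv_mem' := by
        intro β hβ n x hx
        have h2 : ((β⁻¹ : F.autGroup P) : MulAut P) x ∈ Dn (n + 1) := hΓDn _ (β⁻¹).2 (n + 1) x hx
        have h3 := hβ n _ h2
        have : x⁻¹ * ((β⁻¹ : F.autGroup P) : MulAut P) x =
            ((((β⁻¹ : F.autGroup P) : MulAut P) x)⁻¹ *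
              (β : MulAut P) (((β⁻¹ : F.autGroup P) : MulAut P) x))⁻¹ := by
          rw [Subgroup.coe_inv, MulAut.apply_inv_self]; group
        rw [this]
        exact (Dn n).inv_mem h3 }
  have hCmem : ∀ γ : F.autGroup P, γ ∈ C ↔ ∀ n, ∀ x ∈ Dn (n + 1), x⁻¹ * (γ : MulAut P) x ∈ Dn n := fun _ => Iff.rfl
  have hCn : C.Normal := by
    refine ⟨fun γ hγ β => ?_⟩
    rw [hCmem] at hγ ⊢
    intro n x hx
    have h2 : ((β⁻¹ : F.autGroup P) : MulAut P) x ∈ Dn (n + 1) := hΓDn _ (β⁻¹).2 (n + 1) x hx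
    have h3 := hγ n _ h2
    have h4 := hΓDn β β.2 n _ h3
    have : x⁻¹ * ((β * γ * β⁻¹ : F.autGroup P) : MulAut P) x =
        (β : MulAut P) ((((β⁻¹ : F.autGroup P) : MulAut P) x)⁻¹ *
          (γ : MulAut P) (((β⁻¹ : F.autGroup P) : MulAut P) x)) := by
      simp only [Subgroup.coe_mul, Subgroup.coe_inv, MulAut.mul_apply, map_mul, map_inv, MulAut.apply_inv_self]
    rw [this]
    exact h4
  -- `C` is a `p`-group
  have hCp : IsPGroup p C := by
    apply isPGroup_of_coprime_trivial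
    intro γ hγ
    have hγcop : (orderOf ((γ : F.autGroup P) : MulAut P)).Coprime p := by
      rw [Subgroup.orderOf_coe, Subgroup.orderOf_coe]; exact hγ
    set g : MulAut P := ((γ : F.autGroup P) : MulAut P) with hg
    have hgΓ : g ∈ F.autGroup P := (γ : F.autGroup P).2
    have hgC : ∀ n, ∀ x ∈ Dn (n + 1), x⁻¹ * g x ∈ Dn n := (hCmem _).mp γ.2
    -- `g` fixes every term of the chain
    have hfixn : ∀ n, ∀ x ∈ Dn n, g x = x := by
      intro n
      induction n with
      | zero =>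
        intro x hx
        rw [hDn0 x hx, map_one]
      | succ n ih =>
        intro x hx
        have hcD := hgC n x hx
        have hgc : g (x⁻¹ * g x) = x⁻¹ * g x := ih _ hcD
        have hpow : ∀ i : ℕ, (g ^ i) x = x * (x⁻¹ * g x) ^ i := by
          intro i
          induction i with
          | zero => simp
          | succ i ihi =>
            rw [pow_succ', MulAut.mul_apply, ihi, map_mul, map_pow, hgc, pow_succ', ← mul_assoc, ← mul_assoc,
              mul_inv_cancel, one_mul]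
        have hck : (x⁻¹ * g x) ^ orderOf g = 1 := by
          have h1 := hpow (orderOf g)
          rw [pow_orderOf_eq_one] at h1
          have h2 : x = x * (x⁻¹ * g x) ^ orderOf g := h1
          exact (mul_eq_left.mp h2.symm)
        have hc1 : x⁻¹ * g x = 1 := by
          obtain ⟨m, hm⟩ := hPp (x⁻¹ * g x)
          have h1 : orderOf (x⁻¹ * g x) ∣ p ^ m := orderOf_dvd_of_pow_eq_one hm
          have h2 : orderOf (x⁻¹ * g x) ∣ orderOf g := orderOf_dvd_of_pow_eq_one hck
          have h3 : orderOf (x⁻¹ * g x) = 1 :=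
            Nat.eq_one_of_dvd_coprimes (Nat.Coprime.pow_right m hγcop) h2 h1
          exact orderOf_eq_one_iff.mp h3
        have h5 : g x = x * (x⁻¹ * g x) := by group
        rw [h5, hc1, mul_one]
    have hg1 : g = 1 := by
      apply hDf g hγcop
      · intro x
        rw [Subgroup.mem_subgroupOf]
        apply Subgroup.subset_closure
        refine ⟨P, ⟨g, hgΓ⟩, x, hPS, ?_, rfl⟩
        apply Subgroup.subset_closure
        show Nat.Coprime (orderOf (⟨g, hgΓ⟩ : F.autGroup P)) p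
        rw [← Subgroup.orderOf_coe]
        exact hγcop
      · intro u hu
        exact hfixn c u (hDnc u hu)
    apply Subtype.ext
    apply Subtype.ext
    exact hg1
  -- `Aut_S(P)` stabilizes the chain
  have hRC : (R : Subgroup (F.autGroup P)) ≤ C := by
    rw [hR]
    intro γ hγ
    rw [Subgroup.mem_subgroupOf] at hγ
    obtain ⟨g, hgS, hg⟩ := (mem_autInducedBy_iff S P _).mp hγ
    rw [hCmem]
    intro n x hx
    obtain ⟨hxD, z, hz, hzx⟩ := (hmemDn (n + 1) x).mp hx
    rw [hmemDn]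
    refine ⟨D.mul_mem (D.inv_mem hxD) (hΓD _ γ.2 x hxD), ?_⟩
    have h1 : z⁻¹ ∈ Subgroup.upperCentralSeries S (n + 1) := Subgroup.inv_mem _ hz
    rw [Subgroup.mem_upperCentralSeries_succ_iff] at h1
    have h2 := h1 ⟨g, hgS⟩
    refine ⟨_, h2, ?_⟩
    have hzx' : ((z : S) : Ω) = (x : Ω) := hzx
    rw [commutatorElement_def]
    simp only [Subgroup.coe_subtype, Subgroup.coe_mul, Subgroup.coe_inv, inv_inv, hzx', hg]
    group
  have hCR : C = (R : Subgroup (F.autGroup P)) := R.is_maximal' hCp hRC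
  exact ⟨R, hCR ▸ hCn⟩

end Cfsg.Agent.Helper87.SmallCyc
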