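import Cfsg.Agent.Helper87.CyclicSection
import Cfsg.Agent.Helper87.StableAut
import Cfsg.Agent.Helper87.FusionFrobenius
set_option autoImplicit false

namespace Cfsg.Agent.Helper87

open scoped commutatorElement

variable {Ω : Type*} [Group Ω] {S : Subgroup Ω}

/-- The map from `B' ∩ P` to the section `B' / A'`. -/
def sectionHom (A' B' P : Subgroup Ω) [hn : (A'.subgroupOf B').Normal] :
    ↥(B'.subgroupOf P) →* B' ⧸ A'.subgroupOf B' :=
  (QuotientGroup.mk' (A'.subgroupOf B')).comp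
    { toFun := fun y => ⟨((y : P) : Ω), Subgroup.mem_subgroupOf.mp y.2⟩
      map_one' := rfl
      map_mul' := fun _ _ => rfl }

theorem sectionHom_eq_one_iff (A' B' P : Subgroup Ω) [hn : (A'.subgroupOf B').Normal] (y : ↥(B'.subgroupOf P)) :
    sectionHom A' B' P y = 1 ↔ (y : P) ∈ A'.subgroupOf P := by
  show QuotientGroup.mk' (A'.subgroupOf B') ⟨((y : P) : Ω), Subgroup.mem_subgroupOf.mp y.2⟩ = 1 ↔ _
  rw [QuotientGroup.mk'_apply, QuotientGroup.eq_one_iff]
  exact Iff.rfl

/-- A group `A` of automorphisms of `P ≤ S` leaving invariant the terms of a chain of subgroups normalized by `S`, from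
`1` to `S` with cyclic steps: a `p`-group `K` of automorphisms of `P` contains the commutators of `A` and the
`(p - 1)`-th powers of the elements of `A` of order prime to `p`. -/
theorem cyclic_chain_stab [Finite S] {p : ℕ} [Fact p.Prime] (hS : IsPGroup p S) {P : Subgroup Ω} (hP : P ≤ S)
    (m : ℕ) (c : Fin (m + 1) → Subgroup Ω) (h0 : c 0 = ⊥) (hl : c (Fin.last m) = S)
    (hnorm : ∀ i, S ≤ Subgroup.normalizer (c i : Set Ω))
    (hstep : ∀ i : Fin m, c i.castSucc ≤ c i.succ ∧ ∃ x ∈ S, c i.succ = c i.castSucc ⊔ Subgroup.zpowers x)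
    (A : Subgroup (MulAut P)) (hA : ∀ α ∈ A, ∀ i, ∀ x : P, (x : Ω) ∈ c i → ((α x : P) : Ω) ∈ c i) :
    ∃ K : Subgroup (MulAut P), IsPGroup p K ∧ (∀ α ∈ A, ∀ β ∈ A, ⁅α, β⁆ ∈ K) ∧
      ∀ α ∈ A, ∀ r : ℕ, r.Coprime p → α ^ r = 1 → α ^ (p - 1) ∈ K := by
  have hfinP : Finite P := finite_of_le hP
  have hPp : IsPGroup p P := hS.to_le hP
  have hmono : Monotone c := Fin.monotone_iff_le_succ.mpr (fun i => (hstep i).1)
  have hcS : ∀ i, c i ≤ S := fun i => hl ▸ hmono (Fin.le_last i)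
  have hAiff : ∀ α ∈ A, ∀ i, ∀ x : P, ((α x : P) : Ω) ∈ c i ↔ (x : Ω) ∈ c i := by
    intro α hα i x
    constructor
    · intro h
      have := hA α⁻¹ (A.inv_mem hα) i _ h
      simpa using this
    · exact hA α hα i x
  let cn : ℕ → Subgroup Ω := fun j => c ⟨min j m, Nat.lt_succ_of_le (min_le_right j m)⟩
  have hcn : ∀ (j : ℕ) (hj : j < m + 1), cn j = c ⟨j, hj⟩ := by
    intro j hj
    show c ⟨min j m, _⟩ = c ⟨j, hj⟩
    congr 1
    exact Fin.ext (min_eq_left (Nat.lt_succ_iff.mp hj))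
  have hcn_mono : Monotone cn := by
    intro i j hij
    exact hmono (Fin.mk_le_mk.mpr (min_le_min_right m hij))
  let D : ℕ → Subgroup P := fun k => (cn (m - k)).subgroupOf P
  have hDdef : ∀ k, D k = (cn (m - k)).subgroupOf P := fun k => rfl
  have hD : Antitone D := by
    intro k k' hkk' x hx
    rw [hDdef, Subgroup.mem_subgroupOf] at hx ⊢
    exact hcn_mono (Nat.sub_le_sub_left hkk' m) hx
  have hD0 : D 0 = ⊤ := by
    rw [hDdef, Nat.sub_zero, hcn m (Nat.lt_succ_self m)]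
    have : (⟨m, Nat.lt_succ_self m⟩ : Fin (m + 1)) = Fin.last m := rfl
    rw [this, hl, Subgroup.subgroupOf_eq_top]
    exact hP
  have hDm : D m = ⊥ := by
    rw [hDdef, Nat.sub_self, hcn 0 (Nat.succ_pos m)]
    have : (⟨0, Nat.succ_pos m⟩ : Fin (m + 1)) = 0 := rfl
    rw [this, h0, Subgroup.bot_subgroupOf]
  have hDbot : ∀ k, m ≤ k → D k = ⊥ := by
    intro k hk
    have : m - k = m - m := by omega
    rw [hDdef, this, ← hDdef, hDm]
  have hsec : ∀ k, k < m → ∃ i : Fin m, D k = (c i.succ).subgroupOf P ∧ D (k + 1) = (c i.castSucc).subgroupOf P := by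
    intro k hk
    refine ⟨⟨m - k - 1, by omega⟩, ?_, ?_⟩
    · rw [hDdef, hcn (m - k) (by omega)]
      congr 2
      apply Fin.ext
      show m - k = m - k - 1 + 1
      omega
    · rw [hDdef, hcn (m - (k + 1)) (by omega)]
      congr 2
  have hAD : ∀ α ∈ A, ∀ i, ∀ x : P, α x ∈ (c i).subgroupOf P ↔ x ∈ (c i).subgroupOf P := by
    intro α hα i x
    rw [Subgroup.mem_subgroupOf, Subgroup.mem_subgroupOf]
    exact hAiff α hα i x
  refine ⟨chainStab D hD, isPGroup_chainStab hPp D hD hD0 m hDm, ?_, ?_⟩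
  · intro α hα β hβ k x hx
    by_cases hk : k < m
    · obtain ⟨i, hi1, hi2⟩ := hsec k hk
      obtain ⟨hle, z, hzS, hz⟩ := hstep i
      have hn : ((c i.castSucc).subgroupOf (c i.succ)).Normal :=
        Subgroup.normal_subgroupOf_of_le_normalizer ((hcS i.succ).trans (hnorm i.castSucc))
      have hcyc : IsCyclic (c i.succ ⧸ (c i.castSucc).subgroupOf (c i.succ)) :=
        isCyclic_quotient_of_sup_zpowers _ _ z hz
      rw [hi1] at hx
      rw [hi2]
      have hy : α⁻¹ (β⁻¹ x) ∈ (c i.succ).subgroupOf P :=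
        (hAD α⁻¹ (A.inv_mem hα) i.succ _).mpr ((hAD β⁻¹ (A.inv_mem hβ) i.succ _).mpr hx)
      have key := comm_mod_of_cyclic_section ((c i.castSucc).subgroupOf P) ((c i.succ).subgroupOf P)
        (sectionHom (c i.castSucc) (c i.succ) P) (sectionHom_eq_one_iff _ _ _) α β
        (fun y hy => (hAD α hα i.castSucc y).mpr hy) (hAD α hα i.succ)
        (fun y hy => (hAD β hβ i.castSucc y).mpr hy) (hAD β hβ i.succ) (α⁻¹ (β⁻¹ x)) hy
      have e : x⁻¹ * ⁅α, β⁆ x = (β (α (α⁻¹ (β⁻¹ x))))⁻¹ * α (β (α⁻¹ (β⁻¹ x))) := by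
        rw [commutatorElement_def]
        simp [MulAut.mul_apply]
      rw [e]
      exact key
    · rw [hDbot k (not_lt.mp hk), Subgroup.mem_bot] at hx
      rw [hx, map_one, inv_one, one_mul]
      exact Subgroup.one_mem _
  · intro α hα r hr hαr k x hx
    by_cases hk : k < m
    · obtain ⟨i, hi1, hi2⟩ := hsec k hk
      obtain ⟨hle, z, hzS, hz⟩ := hstep i
      have hn : ((c i.castSucc).subgroupOf (c i.succ)).Normal :=
        Subgroup.normal_subgroupOf_of_le_normalizer ((hcS i.succ).trans (hnorm i.castSucc))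
      have hcyc : IsCyclic (c i.succ ⧸ (c i.castSucc).subgroupOf (c i.succ)) :=
        isCyclic_quotient_of_sup_zpowers _ _ z hz
      rw [hi1] at hx
      rw [hi2]
      exact pow_pred_mod_of_cyclic_section hPp ((c i.castSucc).subgroupOf P) ((c i.succ).subgroupOf P)
        (sectionHom (c i.castSucc) (c i.succ) P) (sectionHom_eq_one_iff _ _ _) α
        (hAD α hα i.castSucc) (hAD α hα i.succ) r hr hαr x hx
    · rw [hDbot k (not_lt.mp hk), Subgroup.mem_bot] at hx
      rw [hx, map_one, inv_one, one_mul]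
      exact Subgroup.one_mem _

end Cfsg.Agent.Helper87
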