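import Cfsg.Agent.Helper87.SupersolChain
import Cfsg.Agent.Helper87.Sparse
import Cfsg.Agent.S5111
import Mathlib.GroupTheory.SchurZassenhaus
set_option autoImplicit false

namespace Cfsg.Agent.Helper87

open Cfsg Cfsg.FusionSystem

/-- A chain of normal invariant subgroups with cyclic steps in a finite `p`-group acted on by a commutative group of
automorphisms of exponent dividing `p - 1`. -/
theorem exists_invariant_cyclic_chain {T : Type*} [Group T] [Finite T] {p : ℕ} [Fact p.Prime] (hT : IsPGroup p T)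
    (H : Subgroup (MulAut T)) (hcomm : ∀ a ∈ H, ∀ b ∈ H, a * b = b * a) (hexp : ∀ h ∈ H, h ^ (p - 1) = 1) :
    ∃ (n : ℕ) (c : Fin (n + 1) → Subgroup T), c 0 = ⊥ ∧ c (Fin.last n) = ⊤ ∧
      (∀ i, (c i).Normal ∧ ∀ h ∈ H, ∀ x ∈ c i, h x ∈ c i) ∧
      ∀ i : Fin n, c i.castSucc ≤ c i.succ ∧ ∃ z : T, c i.succ = c i.castSucc ⊔ Subgroup.zpowers z := by
  apply exists_fin_chain_of_step (fun Q : Subgroup T => Q.Normal ∧ ∀ h ∈ H, ∀ x ∈ Q, h x ∈ Q)
    (fun Q Q' => ∃ z : T, Q' = Q ⊔ Subgroup.zpowers z)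
  · refine ⟨Subgroup.normal_bot, fun h _ x hx => ?_⟩
    rw [Subgroup.mem_bot] at hx ⊢
    rw [hx, map_one]
  · rintro Q ⟨hQn, hQH⟩ hQtop
    obtain ⟨Q', h1, h2, h3, h4⟩ := exists_cyclic_step hT H hcomm hexp Q hQn hQH hQtop
    exact ⟨Q', ⟨h1, h2⟩, h3, h4⟩

variable {Ω : Type*} [Group Ω] {S : Subgroup Ω}

/-- If `S` is normal in the system, every map of the system is the restriction of an automorphism of `S` in the system. -/
theorem exists_aut_of_isNormal_self (F : FusionSystem S) (hN : F.IsNormal S) {R : Subgroup Ω} {φ : R →* Ω}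
    (hφ : φ ∈ F.Hom R) :
    ∃ α ∈ F.autGroup S, ∀ (x : R) (hx : (x : Ω) ∈ S), φ x = ((α ⟨x, hx⟩ : S) : Ω) := by
  obtain ⟨ψ, hψ, hext, hmap⟩ := hN.2 R φ hφ
  have hφ' := restrict_mem F hψ (le_sup_right : S ≤ R ⊔ S)
  have hrange : (ψ.comp (Subgroup.inclusion (le_sup_right : S ≤ R ⊔ S))).range = S := by
    refine Eq.trans ?_ hmap
    ext y
    constructor
    · rintro ⟨s, rfl⟩
      exact ⟨Subgroup.inclusion le_sup_right s, by rw [SetLike.mem_coe, Subgroup.mem_subgroupOf]; exact s.2, rfl⟩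
    · rintro ⟨w, hw, rfl⟩
      rw [SetLike.mem_coe, Subgroup.mem_subgroupOf] at hw
      exact ⟨⟨w, hw⟩, rfl⟩
  refine ⟨isoOfRange F hφ' hrange, (mem_autGroup_iff F le_rfl _).mpr (isIso_isoOfRange F hφ' hrange), ?_⟩
  intro x hx
  rw [← hext x]
  show ψ _ = ψ _
  congr 1

/-- If `S` is normal in the system, a subgroup of `S` invariant under the automorphisms of `S` in the system is strongly
closed. -/
theorem stronglyClosed_map_of_isNormal_self (F : FusionSystem S) (hN : F.IsNormal S) (Q : Subgroup S)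
    (hQ : ∀ α ∈ F.autGroup S, ∀ x ∈ Q, α x ∈ Q) : F.StronglyClosed (Q.map S.subtype) := by
  refine ⟨Subgroup.map_subtype_le Q, fun R hR φ hφ x => ?_⟩
  obtain ⟨α, hα, hαφ⟩ := exists_aut_of_isNormal_self F hN hφ
  obtain ⟨q, hq, hqx⟩ := hR x.2
  have hxS : (x : Ω) ∈ S := by rw [← hqx]; exact q.2
  rw [hαφ x hxS]
  refine ⟨α ⟨x, hxS⟩, hQ α hα _ ?_, rfl⟩
  have : (⟨x, hxS⟩ : S) = q := Subtype.ext hqx.symm
  rw [this]
  exact hq

/-- The supersoluble chain: if `S` is normal in the saturated system and the subgroups of `Aut(S)` of order prime to `p`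
are commutative of exponent dividing `p - 1`, there is a chain of strongly closed subgroups from `1` to `S` with cyclic
steps. -/
theorem exists_supersoluble_chain [Finite S] {p : ℕ} [Fact p.Prime] (hS : IsPGroup p S) (F : FusionSystem S)
    (hF : F.IsSaturated p) (hN : F.IsNormal S)
    (hH : ∀ H : Subgroup (MulAut S), (Nat.card H).Coprime p → IsMulCommutative H ∧ ∀ h ∈ H, h ^ (p - 1) = 1) :
    ∃ (m : ℕ) (c : Fin (m + 1) → Subgroup Ω), c 0 = ⊥ ∧ c (Fin.last m) = S ∧ (∀ i, F.StronglyClosed (c i)) ∧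
      ∀ i : Fin m, c i.castSucc ≤ c i.succ ∧ ∃ x ∈ S, c i.succ = c i.castSucc ⊔ Subgroup.zpowers x := by
  have hp : p.Prime := Fact.out
  have : Finite (MulAut S) := MulEquiv.finite_left
  have hSa : F.IsFullyAutomized p S := ((Cfsg.Agent.S5111.result p hS F).mp hF).1
  obtain ⟨R, hR⟩ := hSa.2
  rw [autInducedBy_self_eq_inn] at hR
  have hNn : ((Inn S).subgroupOf (F.autGroup S)).Normal := Subgroup.Normal.subgroupOf (inn_normal S) _
  have hnd : ¬ p ∣ ((Inn S).subgroupOf (F.autGroup S)).index := by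
    rw [← hR]
    exact R.not_dvd_index
  have hcop : Nat.Coprime (Nat.card ((Inn S).subgroupOf (F.autGroup S))) ((Inn S).subgroupOf (F.autGroup S)).index := by
    rw [← hR]
    exact R.card_coprime_index
  obtain ⟨H', hH'⟩ := Subgroup.exists_right_complement'_of_coprime hcop
  have hcardH' : Nat.card H' = ((Inn S).subgroupOf (F.autGroup S)).index := hH'.symm.index_eq_card.symm
  have hcardH : Nat.card (H'.map (F.autGroup S).subtype) = Nat.card H' :=
    Nat.card_congr (H'.equivMapOfInjective _ (F.autGroup S).subtype_injective).symm.toEquiv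
  have hcopH : (Nat.card (H'.map (F.autGroup S).subtype)).Coprime p := by
    rw [hcardH, hcardH', Nat.coprime_comm]
    exact (Nat.Prime.coprime_iff_not_dvd hp).mpr hnd
  obtain ⟨hcommH, hexpH⟩ := hH _ hcopH
  have hcomm : ∀ a ∈ H'.map (F.autGroup S).subtype, ∀ b ∈ H'.map (F.autGroup S).subtype, a * b = b * a := by
    intro a ha b hb
    have := hcommH.is_comm.comm ⟨a, ha⟩ ⟨b, hb⟩
    exact congrArg Subtype.val this
  obtain ⟨n, c, hc0, hcl, hcP, hcs⟩ := exists_invariant_cyclic_chain hS _ hcomm hexpH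
  -- invariance under the whole automorphism group
  have hinv : ∀ i, ∀ α ∈ F.autGroup S, ∀ x ∈ c i, α x ∈ c i := by
    intro i α hα x hx
    obtain ⟨⟨ν, η⟩, hνη⟩ := hH'.2 ⟨α, hα⟩
    have hν : ((ν : F.autGroup S) : MulAut S) ∈ Inn S := ν.2
    have hη : ((η : F.autGroup S) : MulAut S) ∈ H'.map (F.autGroup S).subtype := ⟨η, η.2, rfl⟩
    have hα' : α = ((ν : F.autGroup S) : MulAut S) * ((η : F.autGroup S) : MulAut S) := by
      have := congrArg Subtype.val hνη
      exact this.symm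
    obtain ⟨s, hs⟩ := hν
    rw [hα', MulAut.mul_apply, ← hs, MulAut.conj_apply]
    exact (hcP i).1.conj_mem _ ((hcP i).2 _ hη x hx) s
  refine ⟨n, fun i => (c i).map S.subtype, ?_, ?_, ?_, ?_⟩
  · show (c 0).map S.subtype = ⊥
    rw [hc0, Subgroup.map_bot]
  · show (c (Fin.last n)).map S.subtype = S
    rw [hcl, ← MonoidHom.range_eq_map, Subgroup.range_subtype]
  · intro i
    exact stronglyClosed_map_of_isNormal_self F hN (c i) (hinv i)
  · intro i
    obtain ⟨hle, z, hz⟩ := hcs i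
    refine ⟨Subgroup.map_mono hle, (z : Ω), z.2, ?_⟩
    show (c i.succ).map S.subtype = (c i.castSucc).map S.subtype ⊔ Subgroup.zpowers (z : Ω)
    rw [hz, Subgroup.map_sup, MonoidHom.map_zpowers]
    rfl

end Cfsg.Agent.Helper87
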