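import Cfsg.Agent.Helper87.Supersol1
import Cfsg.Agent.Helper87.Sparse
import Cfsg.Agent.Helper87.FusionSeries
import Cfsg.Agent.S5301
set_option autoImplicit false

namespace Cfsg.Agent.Helper87

open Cfsg Cfsg.FusionSystem
open scoped commutatorElement

variable {Ω : Type*} [Group Ω] {S : Subgroup Ω}

theorem pow_card_subgroup_eq_one {G : Type*} [Group G] (H : Subgroup G) [Finite H] {g : G} (hg : g ∈ H) :
    g ^ Nat.card H = 1 := by
  have h1 : (⟨g, hg⟩ : H) ^ Nat.card H = 1 := pow_card_eq_one'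
  have h2 := congrArg Subtype.val h1
  rw [Subgroup.coe_pow] at h2
  exact h2

/-- In `Inn(T) H` with `H` of order prime to `p`, the elements of `p`-power order are inner. -/
theorem mem_inn_of_mem_sup_of_coprime {T : Type*} [Group T] [Finite T] {p : ℕ} [Fact p.Prime] (H : Subgroup (MulAut T))
    (hH : (Nat.card H).Coprime p) :
    ∀ κ ∈ Inn T ⊔ H, (∃ k : ℕ, κ ^ p ^ k = 1) → κ ∈ Inn T := by
  haveI : (Inn T).Normal := inn_normal T
  have : Finite (MulAut T) := MulEquiv.finite_left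
  intro κ hκ ⟨k, hk⟩
  have h1 : (QuotientGroup.mk' (Inn T)) κ ∈ H.map (QuotientGroup.mk' (Inn T)) := by
    have h2 : (QuotientGroup.mk' (Inn T)) κ ∈ (Inn T ⊔ H).map (QuotientGroup.mk' (Inn T)) :=
      ⟨κ, hκ, rfl⟩
    rw [Subgroup.map_sup] at h2
    have h3 : (Inn T).map (QuotientGroup.mk' (Inn T)) = ⊥ := by
      rw [eq_bot_iff]
      rintro _ ⟨x, hx, rfl⟩
      rw [Subgroup.mem_bot]
      exact (QuotientGroup.eq_one_iff x).mpr hx
    rwa [h3, bot_sup_eq] at h2
  obtain ⟨h, hh, hhκ⟩ := h1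
  have h4 : ((QuotientGroup.mk' (Inn T)) κ) ^ Nat.card H = 1 := by
    rw [← hhκ, ← map_pow]
    rw [pow_card_subgroup_eq_one H hh, map_one]
  have h5 : ((QuotientGroup.mk' (Inn T)) κ) ^ p ^ k = 1 := by rw [← map_pow, hk, map_one]
  have h6 := pow_gcd_eq_one.mpr ⟨h4, h5⟩
  have hcop : Nat.gcd (Nat.card H) (p ^ k) = 1 := Nat.Coprime.pow_right k hH
  rw [hcop, pow_one] at h6
  exact (QuotientGroup.eq_one_iff κ).mp h6

/-- A finite group whose commutators lie in a `p`-subgroup has a normal Sylow `p`-subgroup. -/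
theorem exists_normal_sylow_of_commutator_le {G : Type*} [Group G] [Finite G] {p : ℕ} [Fact p.Prime]
    (K : Subgroup G) (hK : IsPGroup p K) (hc : ∀ a b : G, ⁅a, b⁆ ∈ K) :
    ∃ R : Sylow p G, (R : Subgroup G).Normal := by
  have hle : commutator G ≤ K := by
    rw [commutator_def, Subgroup.commutator_le]
    exact fun a _ b _ => hc a b
  obtain ⟨Q, hQ⟩ := (hK.to_le hle).exists_le_sylow
  refine ⟨Q, ⟨fun t ht g => ?_⟩⟩
  have e : g * t * g⁻¹ = ⁅g, t⁆ * t := by
    rw [commutatorElement_def]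
    group
  rw [e]
  refine Subgroup.mul_mem _ (hQ ?_) ht
  rw [commutator_def]
  exact Subgroup.commutator_mem_commutator (Subgroup.mem_top g) (Subgroup.mem_top t)

/-- Automorphisms in the system leave strongly closed subgroups invariant. -/
theorem autGroup_apply_mem_of_stronglyClosed (F : FusionSystem S) {P Q : Subgroup Ω} (hP : P ≤ S)
    (hQ : F.StronglyClosed Q) {α : MulAut P} (hα : α ∈ F.autGroup P) (x : P) (hx : (x : Ω) ∈ Q) :
    ((α x : P) : Ω) ∈ Q := by
  have h1 := (mem_autGroup_iff F hP α).mp hα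
  have h2 := restrict_mem F h1 (inf_le_right : Q ⊓ P ≤ P)
  exact hQ.2 (Q ⊓ P) inf_le_left _ h2 ⟨x, ⟨hx, x.2⟩⟩

/-- A saturated system with a chain of strongly closed subgroups from `1` to `S` with cyclic steps has `S` normal. -/
theorem isNormal_of_supersoluble [Finite S] {p : ℕ} [Fact p.Prime] (hS : IsPGroup p S) (F : FusionSystem S)
    (hF : F.IsSaturated p) (m : ℕ) (c : Fin (m + 1) → Subgroup Ω) (h0 : c 0 = ⊥) (hl : c (Fin.last m) = S)
    (hsc : ∀ i, F.StronglyClosed (c i))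
    (hstep : ∀ i : Fin m, c i.castSucc ≤ c i.succ ∧ ∃ x ∈ S, c i.succ = c i.castSucc ⊔ Subgroup.zpowers x) :
    F.IsNormal S := by
  apply Cfsg.Agent.S5301.result p hS F hF
  intro P hPn _ _
  have hP : P ≤ S := hPn.1
  have hfinP : Finite P := finite_of_le hP
  have : Finite (MulAut P) := MulEquiv.finite_left
  obtain ⟨K, hKp, hKcomm, -⟩ := cyclic_chain_stab hS hP m c h0 hl
    (fun i => le_normalizer_of_stronglyClosed F (hsc i)) hstep (F.autGroup P)
    (fun α hα i x hx => autGroup_apply_mem_of_stronglyClosed F hP (hsc i) hα x hx)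
  apply exists_normal_sylow_of_commutator_le (K.subgroupOf (F.autGroup P)) hKp.comap_subtype
  intro a b
  rw [Subgroup.mem_subgroupOf]
  have : (((⁅a, b⁆ : F.autGroup P)) : MulAut P) = ⁅(a : MulAut P), (b : MulAut P)⁆ :=
    map_commutatorElement (F.autGroup P).subtype a b
  rw [this]
  exact hKcomm a a.2 b b.2

/-- If every saturated system over `S` has a chain of strongly closed subgroups from `1` to `S` with cyclic steps, the
subgroups of `Aut(S)` of order prime to `p` are commutative of exponent dividing `p - 1`. -/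
theorem abelian_of_supersoluble [Finite S] {p : ℕ} [Fact p.Prime] (hS : IsPGroup p S)
    (hsup : ∀ F : FusionSystem S, F.IsSaturated p → ∃ (m : ℕ) (c : Fin (m + 1) → Subgroup Ω), c 0 = ⊥ ∧
      c (Fin.last m) = S ∧ (∀ i : Fin (m + 1), F.StronglyClosed (c i)) ∧
      ∀ i : Fin m, c i.castSucc ≤ c i.succ ∧ ∃ x ∈ S, c i.succ = c i.castSucc ⊔ Subgroup.zpowers x)
    (H : Subgroup (MulAut S)) (hH : (Nat.card H).Coprime p) :
    IsMulCommutative H ∧ ∀ h ∈ H, h ^ (p - 1) = 1 := by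
  have : Finite (MulAut S) := MulEquiv.finite_left
  have hK : Inn S ≤ Inn S ⊔ H := le_sup_left
  have hsat := isSaturated_autSystem hS (Inn S ⊔ H) hK (mem_inn_of_mem_sup_of_coprime H hH)
  obtain ⟨m, c, h0, hl, hsc, hstep⟩ := hsup _ hsat
  obtain ⟨K, hKp, hKcomm, hKpow⟩ := cyclic_chain_stab hS (le_refl S) m c h0 hl
    (fun i => le_normalizer_of_stronglyClosed _ (hsc i)) hstep (Inn S ⊔ H)
    (fun α hα i x hx => by
      have h1 := (hsc i).2 (c i) le_rfl (autRestrict (hsc i).1 α) ⟨(hsc i).1, α, hα, rfl⟩ ⟨x, hx⟩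
      rw [autRestrict_apply] at h1
      exact h1)
  -- an element of `H` in the `p`-group `K` is trivial
  have htriv : ∀ g ∈ H, g ∈ K → g = 1 := by
    intro g hgH hgK
    obtain ⟨k, hk⟩ := hKp ⟨g, hgK⟩
    have h1 : g ^ p ^ k = 1 := by
      have := congrArg Subtype.val hk
      simpa using this
    have h2 : g ^ Nat.card H = 1 := pow_card_subgroup_eq_one H hgH
    have h6 := pow_gcd_eq_one.mpr ⟨h2, h1⟩
    have hcop : Nat.gcd (Nat.card H) (p ^ k) = 1 := Nat.Coprime.pow_right k hH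
    rwa [hcop, pow_one] at h6
  have hHK : H ≤ Inn S ⊔ H := le_sup_right
  refine ⟨⟨⟨fun a b => ?_⟩⟩, fun h hh => ?_⟩
  · have h1 := htriv ⁅(a : MulAut S), (b : MulAut S)⁆
      (H.mul_mem (H.mul_mem (H.mul_mem a.2 b.2) (H.inv_mem a.2)) (H.inv_mem b.2))
      (hKcomm _ (hHK a.2) _ (hHK b.2))
    have h2 : (a : MulAut S) * b = b * a := (commutatorElement_eq_one_iff_mul_comm.mp h1)
    exact Subtype.ext h2
  · apply htriv _ (H.pow_mem hh _)
    exact hKpow h (hHK hh) (Nat.card H) hH (pow_card_subgroup_eq_one H hh)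

end Cfsg.Agent.Helper87
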