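import Cfsg.Agent.Helper87.Eigen2
import Cfsg.Agent.Helper87.InducedAut
import Cfsg.Agent.Helper87.FusionFrobenius
set_option autoImplicit false

namespace Cfsg.Agent.Helper87

variable {T : Type*} [Group T]

/-- A chain of subgroups with property `P` from `Q` to `⊤` with steps related by `R`, from a step function. -/
theorem exists_fin_chain_of_step_from [Finite T] (P : Subgroup T → Prop) (R : Subgroup T → Subgroup T → Prop)
    (step : ∀ Q, P Q → Q ≠ ⊤ → ∃ Q', P Q' ∧ Q < Q' ∧ R Q Q') (k : ℕ) :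
    ∀ Q : Subgroup T, P Q → Nat.card T - Nat.card Q ≤ k →
      ∃ (n : ℕ) (c : Fin (n + 1) → Subgroup T), c 0 = Q ∧ c (Fin.last n) = ⊤ ∧ (∀ i, P (c i)) ∧
        ∀ i : Fin n, c i.castSucc ≤ c i.succ ∧ R (c i.castSucc) (c i.succ) := by
  induction k with
  | zero =>
    intro Q hQ hk
    have hle : Nat.card Q ≤ Nat.card T := Subgroup.card_le_card_group Q
    have hQtop : Q = ⊤ := Subgroup.eq_top_of_card_eq Q (by omega)
    exact ⟨0, fun _ => Q, rfl, hQtop, fun _ => hQ, fun i => i.elim0⟩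
  | succ k ih =>
    intro Q hQ hk
    by_cases hQtop : Q = ⊤
    · exact ⟨0, fun _ => Q, rfl, hQtop, fun _ => hQ, fun i => i.elim0⟩
    · obtain ⟨Q', hQ', hlt, hR⟩ := step Q hQ hQtop
      have hcard : Nat.card Q < Nat.card Q' := card_lt_card_of_lt hlt
      have hle : Nat.card Q' ≤ Nat.card T := Subgroup.card_le_card_group Q'
      obtain ⟨n, c, hc0, hcl, hcP, hcs⟩ := ih Q' hQ' (by omega)
      refine ⟨n + 1, Fin.cons Q c, rfl, ?_, ?_, ?_⟩
      · rw [← Fin.succ_last, Fin.cons_succ]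
        exact hcl
      · intro i
        refine Fin.cases ?_ (fun j => ?_) i
        · exact hQ
        · rw [Fin.cons_succ]; exact hcP j
      · intro i
        refine Fin.cases ?_ (fun j => ?_) i
        · rw [Fin.castSucc_zero, Fin.cons_zero, Fin.cons_succ, hc0]
          exact ⟨hlt.le, hR⟩
        · rw [← Fin.succ_castSucc, Fin.cons_succ, Fin.cons_succ]
          exact hcs j

/-- A chain of subgroups with property `P` from `⊥` to `⊤` with steps related by `R`, from a step function. -/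
theorem exists_fin_chain_of_step [Finite T] (P : Subgroup T → Prop) (R : Subgroup T → Subgroup T → Prop)
    (hbot : P ⊥) (step : ∀ Q, P Q → Q ≠ ⊤ → ∃ Q', P Q' ∧ Q < Q' ∧ R Q Q') :
    ∃ (n : ℕ) (c : Fin (n + 1) → Subgroup T), c 0 = ⊥ ∧ c (Fin.last n) = ⊤ ∧ (∀ i, P (c i)) ∧
      ∀ i : Fin n, c i.castSucc ≤ c i.succ ∧ R (c i.castSucc) (c i.succ) :=
  exists_fin_chain_of_step_from P R step _ ⊥ hbot le_rfl

/-- One cyclic step: above a proper invariant normal subgroup of a finite `p`-group acted on by a commutative group `H` of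
automorphisms of exponent dividing `p - 1`, there is an invariant normal subgroup obtained by adjoining one element. -/
theorem exists_cyclic_step [Finite T] {p : ℕ} [Fact p.Prime] (hT : IsPGroup p T)
    (H : Subgroup (MulAut T)) (hcomm : ∀ a ∈ H, ∀ b ∈ H, a * b = b * a) (hexp : ∀ h ∈ H, h ^ (p - 1) = 1)
    (Q : Subgroup T) (hQn : Q.Normal) (hQH : ∀ h ∈ H, ∀ x ∈ Q, h x ∈ Q) (hQtop : Q ≠ ⊤) :
    ∃ Q' : Subgroup T, Q'.Normal ∧ (∀ h ∈ H, ∀ x ∈ Q', h x ∈ Q') ∧ Q < Q' ∧
      ∃ z : T, Q' = Q ⊔ Subgroup.zpowers z := by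
  have hf : Function.Surjective (QuotientGroup.mk' Q) := QuotientGroup.mk'_surjective Q
  have hker : ∀ x : T, QuotientGroup.mk' Q x = 1 ↔ x ∈ Q := fun x => QuotientGroup.eq_one_iff x
  have hA : ∀ α ∈ H, ∀ x, QuotientGroup.mk' Q x = 1 → QuotientGroup.mk' Q (α x) = 1 := by
    intro α hα x hx
    rw [hker] at hx ⊢
    exact hQH α hα x hx
  set Φ := inducedAutHom (QuotientGroup.mk' Q) hf H hA with hΦ
  have hΦapp : ∀ (α : H) (x : T), Φ α (QuotientGroup.mk' Q x) = QuotientGroup.mk' Q ((α : MulAut T) x) :=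
    fun α x => inducedAutHom_apply _ hf H hA α x
  have hcomm' : ∀ a ∈ Φ.range, ∀ b ∈ Φ.range, a * b = b * a := by
    rintro _ ⟨a, rfl⟩ _ ⟨b, rfl⟩
    rw [← map_mul, ← map_mul]
    congr 1
    exact Subtype.ext (hcomm a a.2 b b.2)
  have hexp' : ∀ h ∈ Φ.range, h ^ (p - 1) = 1 := by
    rintro _ ⟨a, rfl⟩
    rw [← map_pow]
    have : a ^ (p - 1) = 1 := Subtype.ext (by rw [Subgroup.coe_pow]; exact hexp a a.2)
    rw [this, map_one]
  have hnt : Nontrivial (T ⧸ Q) := by
    rw [← Finite.one_lt_card_iff_nontrivial, ← Subgroup.index_eq_card]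
    have h1 : Q.index ≠ 1 := fun h => hQtop (Subgroup.index_eq_one.mp h)
    have h0 : Q.index ≠ 0 := Subgroup.index_ne_zero_of_finite
    omega
  obtain ⟨zbar, hz1, hzc, hzH⟩ := exists_central_eigen (hT.to_quotient Q) Φ.range hcomm' hexp'
  obtain ⟨z, rfl⟩ := hf zbar
  have hzn : (Subgroup.zpowers (QuotientGroup.mk' Q z)).Normal := by
    refine ⟨fun n hn g => ?_⟩
    have hnc : n ∈ Subgroup.center (T ⧸ Q) := (Subgroup.zpowers_le.mpr hzc) hn
    have h1 := Subgroup.mem_center_iff.mp hnc g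
    rw [h1, mul_inv_cancel_right]
    exact hn
  refine ⟨(Subgroup.zpowers (QuotientGroup.mk' Q z)).comap (QuotientGroup.mk' Q), hzn.comap _, ?_, ?_, z, ?_⟩
  · intro h hh x hx
    rw [Subgroup.mem_comap] at hx ⊢
    obtain ⟨k, hk⟩ := Subgroup.mem_zpowers_iff.mp hx
    have h1 := hΦapp ⟨h, hh⟩ x
    rw [← hk, map_zpow] at h1
    show QuotientGroup.mk' Q (h x) ∈ _
    rw [← h1]
    exact Subgroup.zpow_mem _ (hzH _ ⟨⟨h, hh⟩, rfl⟩) k
  · refine lt_of_le_of_ne ?_ ?_
    · intro x hx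
      rw [Subgroup.mem_comap, (hker x).mpr hx]
      exact Subgroup.one_mem _
    · intro heq
      have hzQ' : z ∈ (Subgroup.zpowers (QuotientGroup.mk' Q z)).comap (QuotientGroup.mk' Q) :=
        Subgroup.mem_zpowers _
      rw [← heq] at hzQ'
      exact hz1 ((hker z).mpr hzQ')
  · rw [← MonoidHom.map_zpowers, Subgroup.comap_map_eq, QuotientGroup.ker_mk', sup_comm]

end Cfsg.Agent.Helper87
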