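import Mathlib
import Cfsg.Agent.Helper95.TIC.Defs

/-!
# (FCD) for helper95's S4064: internal direct product of a cyclic group of odd order and `Q₈`
-/

set_option autoImplicit false

namespace Cfsg.Agent.Helper87.TICent

open Subgroup Cfsg.Agent.Helper95.TICent

/-- (FCD) Internal direct product of a cyclic group of odd order and `Q₈`. -/
theorem nonempty_mulEquiv_prod {H : Type*} [Group H] [Finite H] (C Q : Subgroup H)
    (hsup : C ⊔ Q = ⊤) (hcomm : ∀ a ∈ C, ∀ b ∈ Q, a * b = b * a) (hC : IsCyclic C)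
    (hodd : Odd (Nat.card C)) (e : Q ≃* QuaternionGroup 2) :
    Nonempty (H ≃* Multiplicative (ZMod (Nat.card C)) × QuaternionGroup 2) := by
  classical
  -- `|Q| = 8`
  have hQcard : Nat.card Q = 8 := by
    rw [Nat.card_congr e.toEquiv, Nat.card_eq_fintype_card, QuaternionGroup.card]
  have hcop : Nat.Coprime (Nat.card C) (Nat.card Q) := by
    rw [hQcard]
    have : Nat.Coprime (Nat.card C) 2 := Nat.coprime_two_right.mpr hodd
    exact Nat.Coprime.pow_right 3 this
  have hdisj : C ⊓ Q = ⊥ := (Subgroup.disjoint_of_coprime_natCard hcop).eq_bot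
  -- the multiplication map
  let φ : C × Q →* H := MonoidHom.noncommCoprod C.subtype Q.subtype
    (fun a b => hcomm a.1 a.2 b.1 b.2)
  have hφ : ∀ p : C × Q, φ p = (p.1 : H) * (p.2 : H) := fun p => rfl
  have hinj : Function.Injective φ := by
    rw [injective_iff_map_eq_one]
    rintro ⟨⟨a, ha⟩, ⟨b, hb⟩⟩ h1
    rw [hφ] at h1
    simp only at h1
    have hab : a = b⁻¹ := eq_inv_of_mul_eq_one_left h1
    have haQ : a ∈ C ⊓ Q := ⟨ha, by rw [hab]; exact Q.inv_mem hb⟩
    rw [hdisj, Subgroup.mem_bot] at haQ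
    subst haQ
    have hb1 : b = 1 := by simpa using h1
    subst hb1
    rfl
  have hsurj : Function.Surjective φ := by
    rw [← MonoidHom.range_eq_top, eq_top_iff, ← hsup, sup_le_iff]
    constructor
    · intro a ha
      exact ⟨(⟨a, ha⟩, 1), by rw [hφ]; simp⟩
    · intro b hb
      exact ⟨(1, ⟨b, hb⟩), by rw [hφ]; simp⟩
  have eH : C × Q ≃* H := MulEquiv.ofBijective φ ⟨hinj, hsurj⟩
  have eC : Multiplicative (ZMod (Nat.card C)) ≃* C := zmodCyclicMulEquiv hC
  exact ⟨eH.symm.trans (MulEquiv.prodCongr eC.symm e)⟩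

end Cfsg.Agent.Helper87.TICent
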