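import Cfsg.Agent.Helper61.TwoPDefs
import Cfsg.Agent.Helper87.TwoPR3

set_option autoImplicit false

/-!
(R1) of helper61's plan for S4707: arithmetic of the order when `p > 5`.
-/

namespace Cfsg.Agent.Helper87.TwoP

open Cfsg MulAction Cfsg.Agent.Helper61.TwoP

/-- the arithmetic core -/
theorem r1_arith {p q m N : ℕ} (hp7 : 7 ≤ p) (hq : 0 < q) (hqp : q ∣ p - 1) (hN : N = q * m)
    (h : q ^ 2 * p * (p - 2) = N * (p - 1)) : p - 1 = q ∧ N = p * (p - 1) * (p - 2) := by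
  obtain ⟨k, rfl⟩ : ∃ k, p = k + 2 := ⟨p - 2, by omega⟩
  obtain ⟨r, hr⟩ := hqp
  have h1 : k + 2 - 1 = k + 1 := by omega
  have h2 : k + 2 - 2 = k := by omega
  rw [h1] at hr
  rw [h1, h2, hN, hr] at h
  -- q^2 (k+2) k = q m q r
  have h3 : (k + 2) * k = m * r := by
    have h4 : q ^ 2 * ((k + 2) * k) = q ^ 2 * (m * r) := by
      rw [← mul_assoc, h]; ring
    exact Nat.eq_of_mul_eq_mul_left (pow_pos hq 2) h4
  have hc1 : Nat.Coprime (k + 1) (k + 2) := by
    rw [show k + 2 = k + 1 + 1 by ring]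
    simp
  have hc2 : Nat.Coprime (k + 1) k := by
    rw [Nat.coprime_comm]
    simp
  have hc : Nat.Coprime (k + 1) ((k + 2) * k) := Nat.Coprime.mul_right hc1 hc2
  have hr1 : r = 1 := by
    have hd1 : r ∣ k + 1 := ⟨q, by rw [hr]; ring⟩
    have hd2 : r ∣ (k + 2) * k := ⟨m, by rw [h3]; ring⟩
    exact Nat.eq_one_of_dvd_coprimes hc hd1 hd2
  subst hr1
  rw [mul_one] at hr h3
  refine ⟨by rw [h1, hr], ?_⟩
  rw [h1, h2, hN, ← h3, ← hr]
  ring

section
variable {G : Type*} [Group G] [Fintype G] {α : Type*} [Fintype α] [DecidableEq α] [MulAction G α]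
  {p : ℕ} [Fact p.Prime] {P : Sylow p G}

/-- (R1) arithmetic of the order when `p > 5`. -/
theorem card_of_seven_le (hp7 : 7 ≤ p) (S : Setup G α p P)
    (hno4 : ∀ g : G, orderOf g ≠ 4)
    (hsyl : ∀ Q : Sylow 2 G, Nat.card Q ∣ p - 1)
    (heven : ∀ g : G, 2 ∣ orderOf g → orderOf g = 2)
    (hcls : ∀ t : G, orderOf t = 2 →
      Nat.card (Subgroup.centralizer ({t} : Set G)) ^ 2 * p * (p - 2) = Nat.card G * (p - 1)) :
    ∃ n : ℕ, 3 ≤ n ∧ p = 2 ^ n + 1 ∧ Nat.card G = p * (p - 1) * (p - 2) := by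
  -- an involution
  have h2G : 2 ∣ Nat.card G := by
    have h1 : Nat.card (Subgroup.normalizer ((P : Subgroup G) : Set G)) ∣ Nat.card G :=
      Subgroup.card_subgroup_dvd_card _
    rw [S.cardN] at h1
    exact (Dvd.intro _ rfl).trans h1
  haveI : Fact (Nat.Prime 2) := ⟨Nat.prime_two⟩
  obtain ⟨t, ht⟩ := exists_prime_orderOf_dvd_card' (G := G) 2 h2G
  -- its Sylow subgroup
  have hz : IsPGroup 2 (Subgroup.zpowers t) := by
    refine IsPGroup.of_card (n := 1) ?_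
    rw [Nat.card_zpowers, ht, pow_one]
  obtain ⟨Q, hQ⟩ := hz.exists_le_sylow
  have htQ : t ∈ Q := hQ (Subgroup.mem_zpowers t)
  have hQC : (Q : Subgroup G) = Subgroup.centralizer {t} := sylow_eq_centralizer heven Q t ht htQ
  have hcard : Nat.card (Q : Subgroup G) = 2 ^ (Nat.card G).factorization 2 := Sylow.card_eq_multiplicity Q
  have h3 := hcls t ht
  rw [← hQC] at h3
  have hN : Nat.card G = Nat.card (Q : Subgroup G) * (Q : Subgroup G).index :=
    ((Q : Subgroup G).card_mul_index).symm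
  obtain ⟨e1, e2⟩ := r1_arith hp7 Nat.card_pos (hsyl Q) hN h3
  refine ⟨(Nat.card G).factorization 2, ?_, ?_, e2⟩
  · by_contra hlt
    rw [not_le] at hlt
    have : 2 ^ (Nat.card G).factorization 2 ≤ 2 ^ 2 := Nat.pow_le_pow_right (by norm_num) (by omega)
    rw [← hcard, ← e1] at this
    omega
  · rw [← hcard, ← e1]
    omega

end

end Cfsg.Agent.Helper87.TwoP
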